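import Groth.Prelude.Def_MoreMor
import Mathlib.Data.Fin.Tuple.Sort

/-!
# Affine stratifications
-/

set_option autoImplicit false
set_option backward.isDefEq.respectTransparency false
set_option linter.style.haveILetI false

universe u

open AlgebraicGeometry CategoryTheory TopologicalSpace Topology

namespace Groth.Agent.H7Flat

variable {X : Scheme.{u}}

/-- `C` is the image of an affine immersion from an affine scheme. -/
def IsAffineStratum (C : Set X) : Prop :=
  ∃ (Z : Scheme.{u}) (ι : Z ⟶ X), IsImmersion ι ∧ IsAffine Z ∧ IsAffineHom ι ∧ Set.range ι = C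

theorem isAffineStratum_empty : IsAffineStratum (∅ : Set X) := by
  let W : X.Opens := ⊥
  have hW : IsAffineOpen W := isAffineOpen_bot X
  haveI : IsAffine W.toScheme := hW
  refine ⟨W, W.ι, inferInstance, inferInstance, ?_, by simp [W]⟩
  refine isAffineHom_of_forall_exists_isAffineOpen _ fun x => ?_
  obtain ⟨V, hV, hx, -⟩ := exists_isAffineOpen_mem_and_subset (U := (⊤ : X.Opens)) (x := x) trivial
  refine ⟨V, hx, hV, ?_⟩
  convert isAffineOpen_bot W.toScheme
  ext y
  exact (y.2 : y.1 ∈ (⊥ : X.Opens)).elim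

/-- A locally closed subset `T ∩ W` with `W` affine is an affine stratum when each point of `X` has an
affine neighbourhood which meets `W` in an affine open or misses the subset. -/
theorem isAffineStratum_of (W : X.Opens) (hW : IsAffineOpen W) (T : Set X) (hT : IsClosed T)
    (H : ∀ x : X, ∃ V : X.Opens, x ∈ V ∧ IsAffineOpen V ∧
      (IsAffineOpen (W ⊓ V) ∨ Disjoint (T ∩ W : Set X) (V : Set X))) :
    IsAffineStratum (T ∩ W : Set X) := by
  haveI : IsAffine W.toScheme := hW
  let T' : Closeds W.toScheme := ⟨W.ι ⁻¹' T, hT.preimage W.ι.continuous⟩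
  let I := Scheme.IdealSheafData.vanishingIdeal T'
  haveI : IsAffine I.subscheme := isAffine_of_isAffineHom I.subschemeι
  have hr : Set.range (I.subschemeι ≫ W.ι) = T ∩ W := by
    rw [Scheme.Hom.comp_base, TopCat.coe_comp, Set.range_comp, Scheme.IdealSheafData.range_subschemeι,
      Scheme.IdealSheafData.coe_support_vanishingIdeal]
    change W.ι '' (W.ι ⁻¹' T) = _
    rw [Set.image_preimage_eq_inter_range, Scheme.Opens.range_ι]
  refine ⟨I.subscheme, I.subschemeι ≫ W.ι, inferInstance, inferInstance, ?_, hr⟩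
  refine isAffineHom_of_forall_exists_isAffineOpen _ fun x => ?_
  obtain ⟨V, hx, hV, h⟩ := H x
  refine ⟨V, hx, hV, ?_⟩
  rcases h with h | h
  · rw [Scheme.Hom.comp_preimage]
    refine IsAffineOpen.preimage ?_ _
    rw [← W.ι.isAffineOpen_iff_of_isOpenImmersion]
    convert h using 1
    rw [Scheme.Hom.image_preimage_eq_opensRange_inf, Scheme.Opens.opensRange_ι]
  · convert isAffineOpen_bot I.subscheme
    ext z
    exact ⟨fun hz => Set.disjoint_left.mp h (hr.le ⟨z, rfl⟩) hz, fun hz => hz.elim⟩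

/-- Affine strata cut out by a finite sequence of opens covering `X` give an affine stratification. -/
theorem hasAffineStratification_of_fin {n : ℕ} (W : Fin (n + 1) → X.Opens)
    (hcov : ∀ x : X, ∃ a, x ∈ W a)
    (hstr : ∀ a, IsAffineStratum {x : X | x ∈ W a ∧ ∀ b < a, x ∉ W b}) :
    MoreMor.HasAffineStratification X n := by
  classical
  have hne : ∀ x : X, (Finset.univ.filter fun a => x ∈ W a).Nonempty := fun x =>
    (hcov x).imp fun a ha => by simpa using ha
  let m : X → Fin (n + 1) := fun x => (Finset.univ.filter fun a => x ∈ W a).min' (hne x)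
  have hm₁ : ∀ x, x ∈ W (m x) := fun x => (Finset.mem_filter.mp (Finset.min'_mem _ (hne x))).2
  have hm₂ : ∀ x b, b < m x → x ∉ W b := fun x b hb h =>
    (Finset.min'_le _ b (by simpa using h)).not_gt hb
  have hle : ∀ x (a : Fin (n + 1)), a ≤ m x ↔ ∀ b < a, x ∉ W b := fun x a =>
    ⟨fun h b hb => hm₂ x b (hb.trans_le h), fun h => le_of_not_gt fun hlt => h _ hlt (hm₁ x)⟩
  refine ⟨fun x => Fin.rev (m x), fun i => ?_, fun i => ?_⟩
  · have : {x : X | Fin.rev (m x) ≤ i} = ⋂ b ∈ {b | b < Fin.rev i}, (W b : Set X)ᶜ := by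
      ext x
      simp [Fin.rev_le_iff, hle]
    rw [this]
    exact isClosed_biInter fun b _ => (W b).2.isClosed_compl
  · obtain ⟨Z, ι, h₁, h₂, h₃, h₄⟩ := hstr (Fin.rev i)
    refine ⟨Z, ι, h₁, h₂, h₃, h₄.trans ?_⟩
    ext x
    constructor
    · rintro ⟨h, h'⟩
      have : m x = Fin.rev i := le_antisymm
        (le_of_not_gt fun hlt => hm₂ x _ hlt h) ((hle x _).mpr h')
      simp [this]
    · intro hx
      have : m x = Fin.rev i := Fin.rev_eq_iff.mp hx
      exact ⟨this ▸ hm₁ x, (hle x _).mp this.ge⟩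

theorem hasAffineStratification_of_isSeparated [X.IsSeparated] (n : ℕ) (U : Fin (n + 1) → X.Opens)
    (hU : ∀ i, IsAffineOpen (U i)) (hcov : ⨆ i, U i = ⊤) :
    MoreMor.HasAffineStratification X n := by
  refine hasAffineStratification_of_fin U
    (fun x => Opens.mem_iSup.mp (hcov ▸ Opens.mem_top x)) fun a => ?_
  have : {x : X | x ∈ U a ∧ ∀ b < a, x ∉ U b} = (⋂ b ∈ {b | b < a}, (U b : Set X)ᶜ) ∩ U a := by
    ext x; simp [and_comm]
  rw [this]
  refine isAffineStratum_of _ (hU a) _ (isClosed_biInter fun b _ => (U b).2.isClosed_compl) fun x => ?_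
  obtain ⟨b, hb⟩ := Opens.mem_iSup.mp (hcov ▸ Opens.mem_top x : x ∈ ⨆ i, U i)
  exact ⟨U b, hb, hU b, .inl ((hU a).inf (hU b))⟩

theorem compactSpace_of_hasAffineStratification {n : ℕ} (h : MoreMor.HasAffineStratification X n) :
    CompactSpace X ∧ QuasiSeparatedSpace X := by
  obtain ⟨s, -, hs⟩ := h
  choose Z ι hi hZ hι hr using hs
  have hu : (Set.univ : Set X) = ⋃ i, Set.range (ι i) := by
    ext x; simp only [Set.mem_univ, true_iff, Set.mem_iUnion]
    exact ⟨s x, (hr _).ge rfl⟩
  refine ⟨⟨hu ▸ isCompact_iUnion fun i => ?_⟩, ⟨fun U V hU hU' hV hV' => ?_⟩⟩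
  · haveI := hZ i
    exact isCompact_range (ι i).continuous
  · have : U ∩ V = ⋃ i, ι i '' (ι i ⁻¹' U ∩ ι i ⁻¹' V) := by
      simp_rw [← Set.preimage_inter, Set.image_preimage_eq_inter_range, ← Set.inter_iUnion, ← hu,
        Set.inter_univ]
    rw [this]
    refine isCompact_iUnion fun i => IsCompact.image ?_ (ι i).continuous
    haveI := hZ i; haveI := hι i
    exact QuasiSeparatedSpace.inter_isCompact _ _ (hU.preimage (ι i).continuous)
      ((ι i).isCompact_preimage (U := ⟨U, hU⟩) hU') (hV.preimage (ι i).continuous)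
      ((ι i).isCompact_preimage (U := ⟨V, hV⟩) hV')

theorem exists_hasAffineStratification [CompactSpace X] [QuasiSeparatedSpace X] :
    ∃ n, MoreMor.HasAffineStratification X n := by
  classical
  obtain ⟨t, ht⟩ := isCompact_univ.elim_finite_subcover (fun U : X.affineOpens => (U.1 : Set X))
    (fun U => U.1.2) (fun x _ => by
      obtain ⟨V, hV, hx, -⟩ := exists_isAffineOpen_mem_and_subset (U := (⊤ : X.Opens)) (x := x) trivial
      exact Set.mem_iUnion.mpr ⟨⟨V, hV⟩, hx⟩)
  let O : Finset X.affineOpens → X.Opens := fun J => J.inf fun U => U.1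
  have hO : ∀ J, IsCompact (O J : Set X) := fun J => by
    refine Finset.inf_induction (p := fun W : X.Opens => IsCompact (W : Set X)) ?_
      (fun W₁ h₁ W₂ h₂ => ?_) (fun U _ => U.2.isCompact)
    · exact isCompact_univ
    · exact QuasiSeparatedSpace.inter_isCompact _ _ W₁.2 h₁ W₂.2 h₂
  have hcovJ : ∀ J : Finset X.affineOpens, ∃ D : Finset X.affineOpens,
      (∀ d ∈ D, (d.1 : X.Opens) ≤ O J) ∧ (O J : Set X) ⊆ ⋃ d ∈ D, (d.1 : Set X) := fun J => by
    obtain ⟨D, hD⟩ := (hO J).elim_finite_subcover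
      (fun d : {d : X.affineOpens // d.1 ≤ O J} => (d.1.1 : Set X)) (fun d => d.1.1.2) (fun x hx => by
        obtain ⟨V, hV, hxV, hle⟩ := exists_isAffineOpen_mem_and_subset (U := O J) (x := x) hx
        exact Set.mem_iUnion.mpr ⟨⟨⟨V, hV⟩, hle⟩, hxV⟩)
    refine ⟨D.map (Function.Embedding.subtype _), fun d hd => ?_, fun x hx => ?_⟩
    · obtain ⟨e, -, rfl⟩ := Finset.mem_map.mp hd
      exact e.2
    · obtain ⟨d, hd, hxd⟩ := Set.mem_iUnion₂.mp (hD hx)
      exact Set.mem_iUnion₂.mpr ⟨d.1, Finset.mem_map.mpr ⟨d, hd, rfl⟩, hxd⟩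
  choose D hDle hDcov using hcovJ
  let K := Σ J : {J // J ∈ t.powerset.filter Finset.Nonempty}, {d // d ∈ D J.1}
  obtain ⟨N, ⟨e⟩⟩ := Finite.exists_equiv_fin K
  let g : Fin N → ℕ := fun a => t.card - (e.symm a).1.1.card
  obtain ⟨k, hksurj, hkmono⟩ : ∃ k : Fin N → K, Function.Surjective k ∧
      Monotone fun a => t.card - (k a).1.1.card :=
    ⟨e.symm ∘ Tuple.sort g, e.symm.surjective.comp (Tuple.sort g).surjective, Tuple.monotone_sort g⟩
  let W : Fin (N + 1) → X.Opens := Fin.cons ⊥ fun a => (k a).2.1.1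
  have hWs : ∀ a : Fin N, W a.succ = (k a).2.1.1 := fun a => Fin.cons_succ _ _ a
  have hpos : ∀ (J : Finset X.affineOpens) x, J ⊆ t → J.Nonempty → x ∈ O J →
      ∃ a, x ∈ W (Fin.succ a) ∧ (k a).1.1 = J := fun J x h₁ h₂ hx => by
    obtain ⟨d, hd, hxd⟩ := Set.mem_iUnion₂.mp (hDcov J hx)
    obtain ⟨a, ha⟩ := hksurj
      ⟨⟨J, Finset.mem_filter.mpr ⟨Finset.mem_powerset.mpr h₁, h₂⟩⟩, ⟨d, hd⟩⟩
    refine ⟨a, ?_, by rw [ha]⟩
    rw [hWs, ha]
    exact hxd
  refine ⟨N, hasAffineStratification_of_fin W (fun x => ?_) fun a => ?_⟩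
  · obtain ⟨U, hU, hxU⟩ := Set.mem_iUnion₂.mp (ht (Set.mem_univ x))
    obtain ⟨a, ha, -⟩ := hpos {U} x (by simpa using hU) (Finset.singleton_nonempty U)
      (by simpa [O] using hxU)
    exact ⟨_, ha⟩
  refine Fin.cases ?_ (fun a => ?_) a
  · convert isAffineStratum_empty (X := X)
    ext x
    exact ⟨fun h => h.1.elim, fun h => h.elim⟩
  have : {x : X | x ∈ W a.succ ∧ ∀ b < a.succ, x ∉ W b} =
      (⋂ b ∈ {b | b < a.succ}, (W b : Set X)ᶜ) ∩ W a.succ := by
    ext x; simp [and_comm]
  rw [this, hWs]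
  refine isAffineStratum_of _ (k a).2.1.2 _
    (isClosed_biInter fun b _ => (W b).2.isClosed_compl) fun x => ?_
  obtain ⟨U, hU, hxU⟩ := Set.mem_iUnion₂.mp (ht (Set.mem_univ x))
  refine ⟨U.1, hxU, U.2, ?_⟩
  have hJ := Finset.mem_filter.mp (k a).1.2
  by_cases hUJ : U ∈ (k a).1.1
  · left
    rw [inf_eq_left.mpr ((hDle _ _ (k a).2.2).trans (Finset.inf_le hUJ))]
    exact (k a).2.1.2
  · right
    rw [Set.disjoint_left]
    rintro y ⟨hy, hyW⟩ hyU
    simp only [Set.mem_iInter, Set.mem_compl_iff] at hy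
    have hyO : y ∈ O ((k a).1.1) := hDle _ _ (k a).2.2 hyW
    have hsub := Finset.insert_subset hU (Finset.mem_powerset.mp hJ.1)
    have hyO' : y ∈ O (insert U (k a).1.1) := by
      simp only [O, Finset.inf_insert]
      exact ⟨hyU, hyO⟩
    obtain ⟨b, hb, hkb⟩ := hpos _ y hsub (Finset.insert_nonempty _ _) hyO'
    refine hy b.succ ?_ hb
    refine Fin.succ_lt_succ_iff.mpr (lt_of_not_ge fun hge => ?_)
    have h1 := hkmono hge
    simp only [hkb, Finset.card_insert_of_notMem hUJ] at h1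
    have h2 := Finset.card_le_card hsub
    rw [Finset.card_insert_of_notMem hUJ] at h2
    omega

/-- In a Noetherian scheme there is a dense affine open whose inclusion is affine. -/
theorem exists_dense_affine_isAffineHom (Y : Scheme.{u}) [IsNoetherian Y] :
    ∃ U : Y.Opens, IsAffineOpen U ∧ IsAffineHom U.ι ∧ Dense (U : Set Y) := by
  classical
  obtain ⟨t, ht⟩ := isCompact_univ.elim_finite_subcover (fun U : Y.affineOpens => (U.1 : Set Y))
    (fun U => U.1.2) (fun x _ => by
      obtain ⟨V, hV, hx, -⟩ := exists_isAffineOpen_mem_and_subset (U := (⊤ : Y.Opens)) (x := x) trivial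
      exact Set.mem_iUnion.mpr ⟨⟨V, hV⟩, hx⟩)
  have hfin : (irreducibleComponents Y).Finite := NoetherianSpace.finite_irreducibleComponents
  haveI := hfin.to_subtype
  have key : ∀ K : irreducibleComponents Y, ∃ D : Y.Opens, IsAffineOpen D ∧ (D : Set Y).Nonempty ∧
      (D : Set Y) ⊆ K.1 ∧ (∀ K' : irreducibleComponents Y, K' ≠ K → Disjoint (D : Set Y) K'.1) ∧
      ∀ U ∈ t, D ≤ (U : Y.affineOpens).1 ∨ Disjoint (D : Set Y) (U.1 : Set Y) := fun K => by
    let others := ⋃ K' ∈ {K' : irreducibleComponents Y | K' ≠ K}, (K'.1 : Set Y)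
    have ho : IsClosed others := (Set.toFinite _).isClosed_biUnion fun K' _ =>
      isClosed_of_mem_irreducibleComponents _ K'.2
    have hgen := (K.2.1).isGenericPoint_genericPoint (isClosed_of_mem_irreducibleComponents _ K.2)
    set η := (K.2.1).genericPoint
    have hη : η ∉ others := by
      simp only [others, Set.mem_iUnion₂, not_exists]
      intro K' hK' hη'
      have hsub : K.1 ⊆ K'.1 := hgen ▸
        closure_minimal (Set.singleton_subset_iff.mpr hη') (isClosed_of_mem_irreducibleComponents _ K'.2)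
      exact hK' (Subtype.ext ((K.2.eq_of_ge K'.2.1 hsub)))
    let E : Y.Opens := ⟨othersᶜ, ho.isOpen_compl⟩ ⊓ (t.filter fun U => η ∈ U.1).inf fun U => U.1
    have hηE : η ∈ E := ⟨hη, by
      rw [SetLike.mem_coe]
      exact Finset.inf_induction (p := fun W : Y.Opens => η ∈ W) trivial (fun _ h _ h' => ⟨h, h'⟩)
        (fun U hU => (Finset.mem_filter.mp hU).2)⟩
    obtain ⟨D, hD, hηD, hDE⟩ := exists_isAffineOpen_mem_and_subset hηE
    have hothers : ∀ K' : irreducibleComponents Y, K' ≠ K → Disjoint (D : Set Y) K'.1 := fun K' hK' =>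
      Set.disjoint_left.mpr fun y hy hy' => (hDE hy).1 (Set.mem_iUnion₂.mpr ⟨K', hK', hy'⟩)
    have hDK : (D : Set Y) ⊆ K.1 := fun y hy => by
      by_contra h
      obtain ⟨K', hK', hyK'⟩ : ∃ K' ∈ irreducibleComponents Y, y ∈ K' :=
        ⟨irreducibleComponent y, irreducibleComponent_mem_irreducibleComponents y, mem_irreducibleComponent⟩
      exact Set.disjoint_left.mp (hothers ⟨K', hK'⟩ fun e => h (e ▸ hyK')) hy hyK'
    refine ⟨D, hD, ⟨η, hηD⟩, hDK, hothers, fun U hU => ?_⟩
    by_cases hηU : η ∈ U.1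
    · exact .inl fun y hy => ((Finset.inf_le (Finset.mem_filter.mpr ⟨hU, hηU⟩) : _ ≤ U.1) (hDE hy).2)
    · exact .inr (Set.disjoint_left.mpr fun y hy hyU =>
        hηU ((hgen.specializes (hDK hy)).mem_open U.1.2 hyU))
  choose D hD hDne hDK hDd hDt using key
  have hdisj : Pairwise (Function.onFun Disjoint D) := fun K K' h => by
    rw [Function.onFun, ← Opens.coe_disjoint]
    exact (hDd K K' h.symm).mono_right (hDK K')
  have hUaff : IsAffineOpen (⨆ K, D K) := IsAffineOpen.iSup_of_disjoint hD hdisj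
  refine ⟨⨆ K, D K, hUaff, ?_, ?_⟩
  · refine isAffineHom_of_forall_exists_isAffineOpen _ fun x => ?_
    obtain ⟨U, hU, hxU⟩ := Set.mem_iUnion₂.mp (ht (Set.mem_univ x))
    refine ⟨U.1, hxU, U.2, ?_⟩
    rw [← (⨆ K, D K).ι.isAffineOpen_iff_of_isOpenImmersion, Scheme.Hom.image_preimage_eq_opensRange_inf,
      Scheme.Opens.opensRange_ι, iSup_inf_eq]
    refine IsAffineOpen.iSup_of_disjoint (fun K => ?_) (fun K K' h => ?_)
    · rcases hDt K U hU with h | h
      · rw [inf_eq_left.mpr h]; exact hD K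
      · rw [show D K ⊓ U.1 = ⊥ from disjoint_iff.mp (Opens.coe_disjoint.mp h)]
        exact isAffineOpen_bot Y
    · exact (hdisj h).mono inf_le_left inf_le_left
  · intro x
    obtain ⟨K, hK, hxK⟩ : ∃ K ∈ irreducibleComponents Y, x ∈ K :=
      ⟨irreducibleComponent x, irreducibleComponent_mem_irreducibleComponents x, mem_irreducibleComponent⟩
    obtain ⟨y, hy⟩ := hDne ⟨K, hK⟩
    have : K ⊆ closure (K ∩ D ⟨K, hK⟩) :=
      subset_closure_inter_of_isPreirreducible_of_isOpen hK.1.isPreirreducible (D _).2 ⟨y, hDK _ hy, hy⟩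
    exact closure_mono (fun z hz => Opens.mem_iSup.mpr ⟨_, hz.2⟩) (this hxK)

/-- All chains of irreducible closed subsets of `Z` have length `< d`. -/
def ChainsLT (Z : Set X) (d : ℕ) : Prop :=
  ∀ l : LTSeries (IrreducibleCloseds X), (∀ i, (l i : Set X) ⊆ Z) → l.length < d

theorem exists_strata [IsNoetherian X] : ∀ (d : ℕ) (Z : Closeds X), ChainsLT (Z : Set X) d →
    ∃ W : Fin d → X.Opens, (∀ x ∈ Z, ∃ a, x ∈ W a) ∧
      ∀ a, IsAffineStratum {x : X | x ∈ Z ∧ x ∈ W a ∧ ∀ b < a, x ∉ W b}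
  | 0, Z, hZ => ⟨Fin.elim0, fun x hx => absurd (hZ (RelSeries.singleton _
      ⟨closure {x}, isIrreducible_singleton.closure, isClosed_closure⟩)
      (fun i => closure_minimal (Set.singleton_subset_iff.mpr hx) Z.2)) (by simp), fun a => a.elim0⟩
  | d + 1, Z, hZ => by
    let I := Scheme.IdealSheafData.vanishingIdeal Z
    have hrange : Set.range I.subschemeι = (Z : Set X) := by
      rw [Scheme.IdealSheafData.range_subschemeι, Scheme.IdealSheafData.coe_support_vanishingIdeal]
    haveI : IsNoetherian I.subscheme :=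
      { LocallyOfFiniteType.isLocallyNoetherian I.subschemeι, QuasiCompact.compactSpace_of_compactSpace I.subschemeι with }
    obtain ⟨U, hU, hUι, hUd⟩ := exists_dense_affine_isAffineHom I.subscheme
    obtain ⟨O, hO, hOU⟩ := I.subschemeι.isClosedEmbedding.isInducing.isOpen_iff.mp U.2
    let W₀ : X.Opens := ⟨O, hO⟩
    have hW₀ : {x : X | x ∈ Z ∧ x ∈ W₀} = Set.range (U.ι ≫ I.subschemeι) := by
      rw [Scheme.Hom.comp_base, TopCat.coe_comp, Set.range_comp, Scheme.Opens.range_ι]
      change _ = I.subschemeι '' (U : Set I.subscheme)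
      rw [show (U : Set I.subscheme) = I.subschemeι ⁻¹' O from hOU.symm,
        Set.image_preimage_eq_inter_range, hrange]
      ext x; exact and_comm
    let Z' : Closeds X := ⟨(Z : Set X) \ O, Z.2.sdiff hO⟩
    have hZ' : ChainsLT (Z' : Set X) d := fun l hl => by
      have hlast : (l.last : Set X) ⊆ Z' := hl _
      obtain ⟨ξ, hξ⟩ := QuasiSober.sober l.last.isIrreducible l.last.isClosed
      obtain ⟨z, hz⟩ := hrange.ge (hlast hξ.mem).1
      obtain ⟨K, hK, hzK⟩ : ∃ K ∈ irreducibleComponents I.subscheme, z ∈ K :=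
        ⟨irreducibleComponent z, irreducibleComponent_mem_irreducibleComponents z, mem_irreducibleComponent⟩
      obtain ⟨η, hη⟩ := QuasiSober.sober hK.1 (isClosed_of_mem_irreducibleComponents _ hK)
      have hKU : ((closure {η} : Set I.subscheme) ∩ U).Nonempty := by
        rw [hη]
        by_contra h
        rw [Set.not_nonempty_iff_eq_empty] at h
        obtain ⟨V, hV, hVne, hVK⟩ := NoetherianSpace.exists_isOpen_nonempty_subset_irreducibleComponent K hK
        obtain ⟨v, hv₁, hv₂⟩ := hUd.inter_open_nonempty V hV hVne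
        exact Set.eq_empty_iff_forall_notMem.mp h v ⟨hVK hv₁, hv₂⟩
      have hηU : η ∈ U := (hη.mem_open_set_iff U.2).mpr (hη ▸ hKU)
      let T : IrreducibleCloseds X :=
        ⟨closure {I.subschemeι η}, isIrreducible_singleton.closure, isClosed_closure⟩
      have hlt : l.last < T := by
        refine lt_of_le_of_ne ?_ fun e => ?_
        · change (l.last : Set X) ⊆ closure {I.subschemeι η}
          rw [← hξ.def]
          refine closure_minimal (Set.singleton_subset_iff.mpr ?_) isClosed_closure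
          rw [← hz]
          exact specializes_iff_mem_closure.mp ((hη.specializes hzK).map I.subschemeι.continuous)
        · have h1 : I.subschemeι η ∈ (Z' : Set X) := hlast (by
            rw [e]; exact subset_closure rfl)
          exact h1.2 (show η ∈ I.subschemeι ⁻¹' O from hOU.ge hηU)
      have := hZ (l.snoc T hlt) fun i => by
        refine Fin.lastCases ?_ (fun j => ?_) i
        · refine Set.Subset.trans (le_of_eq (congrArg (fun A : IrreducibleCloseds X => (A : Set X)) (RelSeries.last_snoc l T hlt))) ?_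
          exact closure_minimal (Set.singleton_subset_iff.mpr (hrange.le ⟨η, rfl⟩)) Z.2
        · rw [RelSeries.snoc_castSucc]
          exact (hl j).trans Set.sdiff_subset
      simpa using this
    obtain ⟨W, hWcov, hW⟩ := exists_strata d Z' hZ'
    refine ⟨Fin.cons W₀ W, fun x hx => ?_, fun a => Fin.cases ?_ (fun a => ?_) a⟩
    · by_cases hxO : x ∈ O
      · exact ⟨0, hxO⟩
      · obtain ⟨a, ha⟩ := hWcov x ⟨hx, hxO⟩
        exact ⟨a.succ, by simpa using ha⟩
    · haveI : IsAffine U.toScheme := hU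
      refine ⟨U, U.ι ≫ I.subschemeι, inferInstance, inferInstance, inferInstance, hW₀.symm.trans ?_⟩
      ext x; simp
    · convert hW a using 1
      ext x
      simp only [Set.mem_ofPred_eq, Fin.cons_succ, Fin.forall_fin_succ, Fin.succ_lt_succ_iff]
      constructor
      · rintro ⟨h₁, h₂, h₃, h₄⟩
        exact ⟨⟨h₁, h₃ (Fin.succ_pos _)⟩, h₂, h₄⟩
      · rintro ⟨⟨h₁, h₃⟩, h₂, h₄⟩
        exact ⟨h₁, h₂, fun _ => h₃, h₄⟩

theorem hasAffineStratification_of_noetherian_dim [IsNoetherian X] (d : ℕ)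
    (hd : topologicalKrullDim X = d) : MoreMor.HasAffineStratification X d := by
  obtain ⟨W, hcov, hW⟩ := exists_strata (X := X) (d + 1) ⊤ fun l _ => by
    have h0 : (l.length : WithBot ℕ∞) ≤ topologicalKrullDim X := Order.LTSeries.length_le_krullDim l
    rw [hd] at h0
    have h1 : (l.length : WithBot ℕ∞) ≤ (d : ℕ∞) := h0
    exact Nat.lt_succ_of_le (by exact_mod_cast h1)
  exact hasAffineStratification_of_fin W (fun x => hcov x trivial) fun a => by
    convert hW a using 1
    ext x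
    exact ⟨fun h => ⟨trivial, h⟩, fun h => h.2⟩

end Groth.Agent.H7Flat
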