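import Mathlib.RingTheory.Flat.Tensor
import Mathlib.RingTheory.Flat.Localization
import Mathlib.RingTheory.Filtration
import Mathlib.LinearAlgebra.TensorProduct.RightExactness
import Mathlib.RingTheory.LocalRing.ResidueField.Basic
import Mathlib.Algebra.Module.Torsion.Basic
import Mathlib.LinearAlgebra.Basis.VectorSpace
import Mathlib.LinearAlgebra.TensorProduct.Quotient

/-!
# Maps into flat modules which are injective modulo the maximal ideal
-/

set_option autoImplicit false

universe u

open TensorProduct

namespace Groth.Agent.H7Flat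

variable {R : Type u} [CommRing R]

lemma rid_lTensor_mem_smul {N : Type u} [AddCommGroup N] [Module R N] (L : Ideal R) (z : N ⊗[R] L) :
    TensorProduct.rid R N (L.subtype.lTensor N z) ∈ L • (⊤ : Submodule R N) := by
  induction z with
  | zero => simp
  | tmul n l => simpa using Submodule.smul_mem_smul l.2 (Submodule.mem_top (x := n))
  | add a b ha hb => simpa only [map_add] using add_mem ha hb

lemma exists_rid_lTensor_eq {N : Type u} [AddCommGroup N] [Module R N] (L : Ideal R) {x : N}
    (hx : x ∈ L • (⊤ : Submodule R N)) :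
    ∃ z : N ⊗[R] L, TensorProduct.rid R N (L.subtype.lTensor N z) = x := by
  refine Submodule.smul_induction_on hx (fun r hr n _ ↦ ⟨n ⊗ₜ ⟨r, hr⟩, by simp⟩) ?_
  rintro a b ⟨y, hy⟩ ⟨z, hz⟩
  exact ⟨y + z, by simp [hy, hz]⟩

lemma rid_lTensor_rTensor {N M : Type u} [AddCommGroup N] [Module R N] [AddCommGroup M]
    [Module R M] (u : N →ₗ[R] M) (L : Ideal R) (z : N ⊗[R] L) :
    TensorProduct.rid R M (L.subtype.lTensor M (u.rTensor L z)) =
      u (TensorProduct.rid R N (L.subtype.lTensor N z)) := by
  induction z with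
  | zero => simp
  | tmul n l => simp
  | add a b ha hb => simp only [map_add, ha, hb]

/-- Tensoring with a vector space over a quotient preserves injectivity modulo the ideal. -/
lemma rTensor_injective_of_lTensor_injective {k : Type u} [Field k] [Algebra R k] {N M : Type u}
    [AddCommGroup N] [Module R N] [AddCommGroup M] [Module R M] (u : N →ₗ[R] M)
    (h : Function.Injective (u.lTensor k)) (Q : Type u) [AddCommGroup Q] [Module R Q] [Module k Q]
    [IsScalarTower R k Q] : Function.Injective (u.rTensor Q) := by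
  rw [← LinearMap.lTensor_inj_iff_rTensor_inj]
  let e (P : Type u) [AddCommGroup P] [Module R P] :=
    AlgebraTensorModule.cancelBaseChange R k k Q P
  have key : ∀ x, e M ((u.baseChange k).lTensor Q x) = u.lTensor Q (e N x) := by
    intro x
    induction x with
    | zero => simp
    | tmul p q =>
      induction q with
      | zero => simp
      | tmul a m => simp [e]
      | add q q' hq hq' => simp only [tmul_add, map_add, hq, hq']
    | add x y hx hy => simp only [map_add, hx, hy]
  intro x y hxy
  obtain ⟨x, rfl⟩ := (e N).surjective x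
  obtain ⟨y, rfl⟩ := (e N).surjective y
  rw [← key, ← key] at hxy
  exact congrArg _ (Module.Flat.lTensor_preserves_injective_linearMap (u.baseChange k) h
    ((e M).injective hxy))

variable [IsLocalRing R] {M N : Type u} [AddCommGroup M] [Module R M] [Module.Flat R M]
  [AddCommGroup N] [Module R N]

/-- One step: modulo `m ^ (n + 1)`. -/
lemma mem_smul_sup_succ (u : N →ₗ[R] M)
    (h : Function.Injective (u.lTensor (IsLocalRing.ResidueField R))) (J : Ideal R) (n : ℕ) {b : N}
    (hb : b ∈ IsLocalRing.maximalIdeal R ^ n • (⊤ : Submodule R N))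
    (hub : u b ∈ J • (⊤ : Submodule R M)) :
    b ∈ (J ⊔ IsLocalRing.maximalIdeal R ^ (n + 1)) • (⊤ : Submodule R N) := by
  set m := IsLocalRing.maximalIdeal R
  set L := m ^ n
  obtain ⟨z, rfl⟩ := exists_rid_lTensor_eq L hb
  -- `u z` comes from `M ⊗ (J ∩ L)`
  let π : L →ₗ[R] R ⧸ J := (Submodule.mkQ J).comp L.subtype
  have hex : Function.Exact (Submodule.inclusion (inf_le_right : J ⊓ L ≤ L)) π := by
    intro y
    refine ⟨fun hy ↦ ?_, ?_⟩
    · exact ⟨⟨y.1, (Submodule.Quotient.mk_eq_zero _).mp hy, y.2⟩, Subtype.ext rfl⟩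
    · rintro ⟨w, rfl⟩
      exact (Submodule.Quotient.mk_eq_zero _).mpr w.2.1
  obtain ⟨w, hw⟩ := exists_rid_lTensor_eq J hub
  have hw' : L.subtype.lTensor M (u.rTensor L z) = J.subtype.lTensor M w :=
    (TensorProduct.rid R M).injective (by rw [hw, rid_lTensor_rTensor])
  obtain ⟨y, hy⟩ := (Module.Flat.lTensor_exact M hex (u.rTensor L z)).mp (by
    rw [show π = (Submodule.mkQ J).comp L.subtype from rfl, LinearMap.lTensor_comp_apply, hw',
      ← LinearMap.lTensor_comp_apply]
    have : (Submodule.mkQ J).comp J.subtype = 0 :=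
      LinearMap.ext fun j ↦ (Submodule.Quotient.mk_eq_zero _).mpr j.2
    rw [this, LinearMap.lTensor_zero, LinearMap.zero_apply])
  -- the graded piece
  let K : Submodule R L := Submodule.comap L.subtype ((J ⊓ L) ⊔ m ^ (n + 1))
  have htor : Module.IsTorsionBySet R (L ⧸ K) (m : Set R) := by
    intro q r
    obtain ⟨l, rfl⟩ := Submodule.Quotient.mk_surjective _ q
    rw [← Submodule.Quotient.mk_smul, Submodule.Quotient.mk_eq_zero]
    refine Submodule.mem_sup_right ?_
    rw [pow_succ']
    exact Ideal.mul_mem_mul r.2 l.2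
  let _ : Module (IsLocalRing.ResidueField R) (L ⧸ K) := htor.module
  have : IsScalarTower R (IsLocalRing.ResidueField R) (L ⧸ K) :=
    htor.isScalarTower (S := R)
  have hz : K.mkQ.lTensor N z = 0 := by
    refine rTensor_injective_of_lTensor_injective u h (L ⧸ K) ?_
    rw [map_zero, ← LinearMap.comp_apply, LinearMap.rTensor_comp_lTensor,
      ← LinearMap.lTensor_comp_rTensor, LinearMap.comp_apply, ← hy, ← LinearMap.lTensor_comp_apply]
    have : K.mkQ.comp (Submodule.inclusion (inf_le_right : J ⊓ L ≤ L)) = 0 :=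
      LinearMap.ext fun j ↦ (Submodule.Quotient.mk_eq_zero _).mpr (Submodule.mem_sup_left j.2)
    rw [this, LinearMap.lTensor_zero, LinearMap.zero_apply]
  obtain ⟨z', rfl⟩ :=
    (lTensor_exact N (LinearMap.exact_subtype_mkQ K) K.mkQ_surjective z).mp hz
  clear hw hw' hy hz hub hb
  induction z' with
  | zero => simp
  | tmul a k =>
    have hk : (k.1 : R) ∈ J ⊔ m ^ (n + 1) :=
      (sup_le (le_sup_of_le_left inf_le_left) le_sup_right :
        (J ⊓ L) ⊔ m ^ (n + 1) ≤ J ⊔ m ^ (n + 1)) k.2
    simpa using Submodule.smul_mem_smul hk (Submodule.mem_top (x := a))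
  | add a b ha hb => simpa only [map_add] using add_mem ha hb

variable {S : Type u} [CommRing S] [IsLocalRing S] [IsNoetherianRing S] [Algebra R S]
  [IsLocalHom (algebraMap R S)] [Module S N] [IsScalarTower R S N] [Module.Finite S N]

/-- `u ⁻¹ (J M) = J N`. -/
theorem mem_smul_of_map_mem_smul (S : Type u) [CommRing S] [IsLocalRing S] [IsNoetherianRing S]
    [Algebra R S] [IsLocalHom (algebraMap R S)] [Module S N] [IsScalarTower R S N]
    [Module.Finite S N] (u : N →ₗ[R] M)
    (h : Function.Injective (u.lTensor (IsLocalRing.ResidueField R))) (J : Ideal R) {x : N}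
    (hx : u x ∈ J • (⊤ : Submodule R M)) : x ∈ J • (⊤ : Submodule R N) := by
  set m := IsLocalRing.maximalIdeal R
  have key : ∀ n, x ∈ (J ⊔ m ^ n) • (⊤ : Submodule R N) := by
    intro n
    induction n with
    | zero => simp
    | succ n ih =>
      rw [Submodule.sup_smul] at ih
      obtain ⟨a, ha, b, hb, rfl⟩ := Submodule.mem_sup.mp ih
      have hua : u a ∈ J • (⊤ : Submodule R M) := by
        have := Submodule.mem_map_of_mem (f := u) ha
        rw [Submodule.map_smul''] at this
        exact Submodule.smul_mono le_rfl le_top this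
      refine add_mem ?_ (mem_smul_sup_succ u h J n hb ?_)
      · exact Submodule.smul_mono le_sup_left le_rfl ha
      · simpa using sub_mem hx hua
  let P : Submodule S N := J.map (algebraMap R S) • ⊤
  have hsm (I : Ideal R) : I • (⊤ : Submodule R N) =
      (I.map (algebraMap R S) • (⊤ : Submodule S N)).restrictScalars R := by
    rw [Ideal.smul_restrictScalars, Submodule.restrictScalars_top]
  have hP : J • (⊤ : Submodule R N) = P.restrictScalars R := hsm J
  rw [hP, Submodule.restrictScalars_mem, ← Submodule.Quotient.mk_eq_zero]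
  have hle : m.map (algebraMap R S) ≠ ⊤ := ne_top_of_le_ne_top
    (IsLocalRing.maximalIdeal.isMaximal S).ne_top (Ideal.map_le_iff_le_comap.mpr fun r hr ↦
      Ideal.mem_comap.mpr <| (IsLocalRing.mem_maximalIdeal _).mpr fun hu ↦
        (IsLocalRing.mem_maximalIdeal _).mp hr (isUnit_of_map_unit (algebraMap R S) r hu))
  rw [← Submodule.mem_bot S, ← Ideal.iInf_pow_smul_eq_bot_of_isLocalRing _ hle, Submodule.mem_iInf]
  intro n
  have hn := key n
  rw [Submodule.sup_smul, hP, hsm, Ideal.map_pow] at hn
  obtain ⟨a, ha, b, hb, rfl⟩ := Submodule.mem_sup.mp hn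
  rw [Submodule.Quotient.mk_add, (Submodule.Quotient.mk_eq_zero P).mpr ha, zero_add]
  have := Submodule.mem_map_of_mem (f := P.mkQ)
    (show b ∈ m.map (algebraMap R S) ^ n • (⊤ : Submodule S N) from hb)
  rw [Submodule.map_smul''] at this
  exact Submodule.smul_mono le_rfl le_top this

include S in
/-- A map from an `S`-finite module to a flat module which is injective modulo the maximal ideal
is injective with flat cokernel. -/
theorem injective_and_flat_quotient (u : N →ₗ[R] M)
    (h : Function.Injective (u.lTensor (IsLocalRing.ResidueField R))) :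
    Function.Injective u ∧ Module.Flat R (M ⧸ LinearMap.range u) := by
  refine ⟨(injective_iff_map_eq_zero u).mpr fun x hx ↦ ?_, ?_⟩
  · have : x ∈ (⊥ : Ideal R) • (⊤ : Submodule R N) :=
      mem_smul_of_map_mem_smul S u h ⊥ (by simp [hx])
    simpa using this
  rw [Module.Flat.iff_lTensor_injective']
  intro J
  rw [injective_iff_map_eq_zero]
  intro z hz
  obtain ⟨w, rfl⟩ := LinearMap.rTensor_surjective J (LinearMap.range u).mkQ_surjective z
  have : (LinearMap.range u).mkQ (TensorProduct.rid R M (J.subtype.lTensor M w)) = 0 := by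
    rw [← rid_lTensor_rTensor, hz, map_zero]
  obtain ⟨x, hx⟩ := (Submodule.Quotient.mk_eq_zero _).mp this
  have hxJ := mem_smul_of_map_mem_smul S u h J (hx ▸ rid_lTensor_mem_smul J w)
  obtain ⟨z₀, hz₀⟩ := exists_rid_lTensor_eq J hxJ
  have hw : w = u.rTensor J z₀ :=
    Module.Flat.lTensor_preserves_injective_linearMap J.subtype Subtype.val_injective <|
      (TensorProduct.rid R M).injective (by rw [rid_lTensor_rTensor, hz₀, hx])
  rw [hw, ← LinearMap.rTensor_comp_apply,
    show (LinearMap.range u).mkQ.comp u = 0 from LinearMap.range_mkQ_comp u,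
    LinearMap.rTensor_zero, LinearMap.zero_apply]

omit [Module.Flat R M] in
/-- A criterion for injectivity modulo the maximal ideal. -/
lemma lTensor_residueField_injective (u : N →ₗ[R] M)
    (h : ∀ x, u x ∈ IsLocalRing.maximalIdeal R • (⊤ : Submodule R M) →
      x ∈ IsLocalRing.maximalIdeal R • (⊤ : Submodule R N)) :
    Function.Injective (u.lTensor (IsLocalRing.ResidueField R)) := by
  rw [injective_iff_map_eq_zero]
  intro z hz
  obtain ⟨x, rfl⟩ := TensorProduct.mk_surjective R N (IsLocalRing.ResidueField R)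
    Ideal.Quotient.mk_surjective z
  have hz' : ((1 : R ⧸ IsLocalRing.maximalIdeal R) ⊗ₜ[R] u x) = 0 := hz
  rw [← LinearEquiv.map_eq_zero_iff (TensorProduct.quotTensorEquivQuotSMul M _)] at hz'
  refine (LinearEquiv.map_eq_zero_iff (TensorProduct.quotTensorEquivQuotSMul N
    (IsLocalRing.maximalIdeal R))).mp ?_
  change TensorProduct.quotTensorEquivQuotSMul N _ ((Ideal.Quotient.mk _ 1) ⊗ₜ[R] x) = 0
  change TensorProduct.quotTensorEquivQuotSMul M _ ((Ideal.Quotient.mk _ 1) ⊗ₜ[R] u x) = 0 at hz'
  rw [TensorProduct.quotTensorEquivQuotSMul_mk_tmul, Submodule.Quotient.mk_eq_zero, one_smul] at hz' ⊢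
  exact h x hz'

end Groth.Agent.H7Flat
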