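import Mathlib.RingTheory.Flat.Tensor
import Mathlib.RingTheory.Flat.Localization
import Mathlib.RingTheory.Filtration
import Mathlib.RingTheory.TensorProduct.Finite
import Mathlib.LinearAlgebra.TensorProduct.RightExactness
import Mathlib.RingTheory.Ideal.Quotient.Operations
import Mathlib.RingTheory.LocalRing.RingHom.Basic

/-!
# The local criterion of flatness

For a module `M` over `S` finite over a Noetherian `S`, and an `R`-algebra structure on `S`:
kernels of `M ⊗ J → M` are killed by Artin–Rees and Krull's intersection theorem as soon as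
they vanish modulo all powers of an ideal.
-/

set_option autoImplicit false

universe u

open TensorProduct

namespace Groth.Agent.H7Flat

variable {R : Type u} [CommRing R]

/-- Tensoring with `M` is exact on modules killed by `L` if `M/LM` is flat over `R/L`. -/
lemma lTensor_injective_of_flat_quotient {M : Type u} [AddCommGroup M] [Module R M] (L : Ideal R)
    [Module.Flat (R ⧸ L) ((R ⧸ L) ⊗[R] M)] {N' N : Type u} [AddCommGroup N'] [Module R N']
    [Module (R ⧸ L) N'] [IsScalarTower R (R ⧸ L) N'] [AddCommGroup N] [Module R N]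
    [Module (R ⧸ L) N] [IsScalarTower R (R ⧸ L) N] (f : N' →ₗ[R ⧸ L] N)
    (hf : Function.Injective f) :
    Function.Injective ((f.restrictScalars R).lTensor M) := by
  rw [LinearMap.lTensor_inj_iff_rTensor_inj]
  let e (P : Type u) [AddCommGroup P] [Module R P] [Module (R ⧸ L) P] [IsScalarTower R (R ⧸ L) P] :=
    AlgebraTensorModule.cancelBaseChange R (R ⧸ L) (R ⧸ L) P M
  have key : ∀ x, e N (f.rTensor ((R ⧸ L) ⊗[R] M) x) =
      (f.restrictScalars R).rTensor M (e N' x) := by
    intro x
    induction x with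
    | zero => simp
    | tmul p q =>
      induction q with
      | zero => simp
      | tmul a m => simp [e]
      | add q q' hq hq' => simp only [tmul_add, map_add, hq, hq']
    | add x y hx hy => simp only [map_add, hx, hy]
  intro x y h
  obtain ⟨x, rfl⟩ := (e N').surjective x
  obtain ⟨y, rfl⟩ := (e N').surjective y
  rw [← key, ← key] at h
  exact congrArg _ (Module.Flat.rTensor_preserves_injective_linearMap f hf ((e N).injective h))

/-- If a finite-step dévissage has injectivity for residue quotients, tensoring with `M` is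
injective on submodules of modules killed by a power of the maximal ideal. -/
lemma lTensor_injective_of_isNilpotent_smul [IsLocalRing R] {M : Type u} [AddCommGroup M]
    [Module R M] (h : Function.Injective ((IsLocalRing.maximalIdeal R).subtype.lTensor M))
    {N : Type u} [AddCommGroup N] [Module R N] [IsNoetherian R N] (n : ℕ)
    (hn : IsLocalRing.maximalIdeal R ^ n • (⊤ : Submodule R N) = ⊥) (P : Submodule R N) :
    Function.Injective (P.subtype.lTensor M) := by
  induction P using WellFoundedGT.induction with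
  | _ P IH =>
    by_cases hP : P = ⊤
    · subst hP
      exact (LinearEquiv.lTensor M (LinearEquiv.ofTop (⊤ : Submodule R N) rfl)).injective
    -- an element outside `P` multiplied into `P` by the maximal ideal
    obtain ⟨x, hx, hx'⟩ : ∃ x, x ∉ P ∧ ∀ r ∈ IsLocalRing.maximalIdeal R, r • x ∈ P := by
      have hn' : IsLocalRing.maximalIdeal R ^ n • (⊤ : Submodule R N) ≤ P := hn ▸ bot_le
      obtain ⟨k, hk, hk'⟩ : ∃ k, ¬ IsLocalRing.maximalIdeal R ^ k • (⊤ : Submodule R N) ≤ P ∧
          IsLocalRing.maximalIdeal R ^ (k + 1) • (⊤ : Submodule R N) ≤ P := by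
        by_contra! H
        have : ∀ k, ¬ IsLocalRing.maximalIdeal R ^ k • (⊤ : Submodule R N) ≤ P := by
          intro k
          induction k with
          | zero => simpa [top_le_iff] using hP
          | succ k ih => exact H k ih
        exact this n hn'
      obtain ⟨x, hxk, hx⟩ := SetLike.not_le_iff_exists.mp hk
      refine ⟨x, hx, fun r hr ↦ hk' ?_⟩
      rw [pow_succ', Submodule.mul_smul]
      exact Submodule.smul_mem_smul hr hxk
    set Q := P ⊔ Submodule.span R {x}
    have hxQ : x ∈ Q := Submodule.mem_sup_right (Submodule.mem_span_singleton_self x)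
    have hPQ : P ≤ Q := le_sup_left
    have hQ := IH Q (lt_of_le_of_ne hPQ fun e ↦ hx (e ▸ hxQ))
    suffices Function.Injective ((Submodule.inclusion hPQ).lTensor M) by
      have e : P.subtype = Q.subtype ∘ₗ Submodule.inclusion hPQ := rfl
      rw [e, LinearMap.lTensor_comp]
      exact hQ.comp this
    -- `m → P × R → Q → 0`
    let α : IsLocalRing.maximalIdeal R →ₗ[R] P × R :=
      LinearMap.prod (LinearMap.codRestrict P (-((LinearMap.toSpanSingleton R N x).comp
        (IsLocalRing.maximalIdeal R).subtype)) fun r ↦ P.neg_mem (hx' r.1 r.2))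
        (IsLocalRing.maximalIdeal R).subtype
    let β : P × R →ₗ[R] Q :=
      (Submodule.inclusion hPQ).coprod (LinearMap.toSpanSingleton R Q ⟨x, hxQ⟩)
    have hαβ : Function.Exact α β := by
      rintro ⟨p, r⟩
      refine ⟨fun hpr ↦ ?_, ?_⟩
      · have hpr' : (p : N) + r • x = 0 := congrArg Subtype.val hpr
        have hr : r ∈ IsLocalRing.maximalIdeal R := by
          by_contra hr
          rw [IsLocalRing.mem_maximalIdeal, mem_nonunits_iff, not_not] at hr
          refine hx ?_
          have : r • x ∈ P := by rw [← neg_eq_of_add_eq_zero_right hpr']; exact P.neg_mem p.2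
          exact (Submodule.smul_mem_iff_of_isUnit P hr).mp this
        exact ⟨⟨r, hr⟩, Prod.ext (Subtype.ext (eq_neg_of_add_eq_zero_left hpr').symm) rfl⟩
      · rintro ⟨r, hr⟩
        rw [← hr]
        exact Subtype.ext (by simp [α, β])
    have hβ : Function.Surjective β := by
      rintro ⟨y, hy⟩
      obtain ⟨p, hp, z, hz, rfl⟩ := Submodule.mem_sup.mp hy
      obtain ⟨r, rfl⟩ := Submodule.mem_span_singleton.mp hz
      exact ⟨(⟨p, hp⟩, r), Subtype.ext (by simp [β])⟩
    rw [injective_iff_map_eq_zero]
    intro a ha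
    obtain ⟨b, hb⟩ := (lTensor_exact M hαβ hβ ((LinearMap.inl R P R).lTensor M a)).mp (by
      rw [← LinearMap.lTensor_comp_apply]
      simpa [β, LinearMap.coprod_inl] using ha)
    have hb0 : b = 0 := h <| by
      have := congrArg ((LinearMap.snd R P R).lTensor M) hb
      rw [← LinearMap.lTensor_comp_apply, ← LinearMap.lTensor_comp_apply] at this
      simpa [α] using this
    have := congrArg ((LinearMap.fst R P R).lTensor M) hb
    rw [hb0, map_zero, map_zero, ← LinearMap.lTensor_comp_apply] at this
    simpa using this.symm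

section AR

variable {S M : Type u} [CommRing S] [Algebra R S] [AddCommGroup M] [Module R M] [Module S M]
  [IsScalarTower R S M]

/-- `M ⊗ J` is finite over `S`. -/
lemma finite_tensor [Module.Finite S M] {N : Type u} [AddCommGroup N] [Module R N]
    [Module.Finite R N] : Module.Finite S (M ⊗[R] N) := by
  obtain ⟨n, f, hf⟩ := Module.Finite.exists_fin (R := R) (M := N)
  let g : (Fin n → M) →ₗ[S] M ⊗[R] N :=
    ∑ i, ((AlgebraTensorModule.mk R S M N).flip (f i)).comp (LinearMap.proj i)
  refine Module.Finite.of_surjective g fun z ↦ ?_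
  induction z with
  | zero => exact ⟨0, map_zero _⟩
  | add x y hx hy =>
    obtain ⟨a, rfl⟩ := hx; obtain ⟨b, rfl⟩ := hy; exact ⟨a + b, map_add _ _ _⟩
  | tmul m y =>
    have hy : y ∈ Submodule.span R (Set.range f) := hf ▸ trivial
    obtain ⟨c, rfl⟩ := (Submodule.mem_span_range_iff_exists_fun R).mp hy
    refine ⟨fun i ↦ c i • m, ?_⟩
    simp [g, tmul_sum]

variable [IsNoetherianRing R] [IsNoetherianRing S] [Module.Finite S M]

/-- An element of `M ⊗ J` coming from `M ⊗ (J ∩ I ^ n)` for all `n` is killed by an element of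
`1 + I S`. -/
theorem exists_one_add_smul_eq_zero (I J : Ideal R) (x : M ⊗[R] J)
    (hx : ∀ n, x ∈ LinearMap.range
      ((Submodule.inclusion (inf_le_left : J ⊓ I ^ n ≤ J)).lTensor M)) :
    ∃ a ∈ I.map (algebraMap R S), (1 + a) • x = 0 := by
  have : Module.Finite R J := Module.Finite.iff_fg.mpr (IsNoetherian.noetherian J)
  have := finite_tensor (S := S) (M := M) (N := J) (R := R)
  obtain ⟨k, hk⟩ := Ideal.exists_pow_inf_eq_pow_smul I (M := R) J
  suffices x ∈ (⨅ i : ℕ, I.map (algebraMap R S) ^ i • ⊤ : Submodule S (M ⊗[R] J)) by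
    obtain ⟨r, hr⟩ := (Ideal.mem_iInf_smul_pow_eq_bot_iff _ x).mp this
    exact ⟨-r, neg_mem r.2, by rw [add_smul, neg_smul, one_smul, hr, add_neg_cancel]⟩
  refine Submodule.mem_iInf _ |>.mpr fun i ↦ ?_
  have hle : J ⊓ I ^ (i + k) ≤ I ^ i • (J : Submodule R R) := by
    have := hk (i + k) (Nat.le_add_left k i)
    rw [Nat.add_sub_cancel] at this
    intro y hy
    have hy' : y ∈ I ^ (i + k) • (⊤ : Submodule R R) ⊓ J :=
      ⟨by simpa [smul_eq_mul, Ideal.mul_top] using hy.2, hy.1⟩
    rw [this] at hy'
    exact Submodule.smul_mono le_rfl inf_le_right hy'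
  obtain ⟨y, hy⟩ := hx (i + k)
  rw [← hy]
  clear hy
  induction y with
  | zero => simp
  | add a b ha hb => rw [map_add]; exact add_mem ha hb
  | tmul m j =>
    rw [LinearMap.lTensor_tmul]
    have : ∀ (y : R) (_ : y ∈ I ^ i • (J : Submodule R R)), ∃ hy : y ∈ J,
        m ⊗ₜ[R] (⟨y, hy⟩ : J) ∈ I.map (algebraMap R S) ^ i • (⊤ : Submodule S (M ⊗[R] J)) := by
      intro y hy
      induction hy using Submodule.smul_induction_on' with
      | smul r hr z hz =>
        refine ⟨J.smul_mem r hz, ?_⟩
        have e : m ⊗ₜ[R] (⟨r • z, J.smul_mem r hz⟩ : J) =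
            algebraMap R S r • (m ⊗ₜ[R] (⟨z, hz⟩ : J)) := by
          rw [algebraMap_smul, ← tmul_smul]; rfl
        rw [e]
        exact Submodule.smul_mem_smul (by rw [← Ideal.map_pow]; exact Ideal.mem_map_of_mem _ hr)
          trivial
      | add a ha b hb iha ihb =>
        obtain ⟨ha', iha⟩ := iha
        obtain ⟨hb', ihb⟩ := ihb
        exact ⟨add_mem ha' hb', by simpa [← tmul_add] using add_mem iha ihb⟩
    obtain ⟨_, h⟩ := this j.1 (hle j.2)
    exact h

/-- Kernels of `M ⊗ J → M` are killed by `1 + I S` if `M ⊗ P → M ⊗ R/Iⁿ` is injective for all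
ideals `P` of `R/Iⁿ`. -/
theorem exists_one_add_smul_eq_zero_of_ker (I J : Ideal R)
    (H : ∀ (n : ℕ) (P : Submodule R (R ⧸ I ^ n)), Function.Injective (P.subtype.lTensor M))
    {x : M ⊗[R] J} (hx : J.subtype.lTensor M x = 0) :
    ∃ a ∈ I.map (algebraMap R S), (1 + a) • x = 0 := by
  refine exists_one_add_smul_eq_zero I J x fun n ↦ ?_
  let q : J →ₗ[R] R ⧸ I ^ n := (Submodule.mkQ (I ^ n)).comp J.subtype
  have hex : Function.Exact (Submodule.inclusion (inf_le_left : J ⊓ I ^ n ≤ J)) q.rangeRestrict := by
    intro y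
    refine ⟨fun hy ↦ ?_, ?_⟩
    · have hy' : (y : R) ∈ I ^ n := (Submodule.Quotient.mk_eq_zero _).mp (congrArg Subtype.val hy)
      exact ⟨⟨y.1, y.2, hy'⟩, Subtype.ext rfl⟩
    · rintro ⟨z, rfl⟩
      exact Subtype.ext ((Submodule.Quotient.mk_eq_zero _).mpr z.2.2)
  refine (lTensor_exact M hex q.surjective_rangeRestrict x).mp (H n _ ?_)
  rw [map_zero, ← LinearMap.lTensor_comp_apply,
    show (LinearMap.range q).subtype ∘ₗ q.rangeRestrict = (Submodule.mkQ (I ^ n)) ∘ₗ J.subtype from rfl,
    LinearMap.lTensor_comp_apply, hx, map_zero]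

/-- The local criterion of flatness. -/
theorem flat_of_injective [IsLocalRing R] [IsLocalRing S] [IsLocalHom (algebraMap R S)]
    (h : Function.Injective ((IsLocalRing.maximalIdeal R).subtype.lTensor M)) :
    Module.Flat R M := by
  rw [Module.Flat.iff_lTensor_injective']
  intro J
  rw [injective_iff_map_eq_zero]
  intro x hx
  obtain ⟨a, ha, hax⟩ := exists_one_add_smul_eq_zero_of_ker (S := S)
    (IsLocalRing.maximalIdeal R) J (fun n P ↦ lTensor_injective_of_isNilpotent_smul h n (by
      rw [eq_bot_iff, Submodule.smul_le]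
      intro r hr y _
      obtain ⟨y, rfl⟩ := Ideal.Quotient.mk_surjective y
      rw [Submodule.mem_bot, Algebra.smul_def, Ideal.Quotient.algebraMap_eq, ← map_mul]
      exact Ideal.Quotient.eq_zero_iff_mem.mpr (Ideal.mul_mem_right _ _ hr)) P) hx
  have ha' : a ∈ IsLocalRing.maximalIdeal S :=
    (Ideal.map_le_iff_le_comap (f := algebraMap R S) (K := IsLocalRing.maximalIdeal S)).mpr
      (fun r hr ↦ Ideal.mem_comap.mpr <| (IsLocalRing.mem_maximalIdeal _).mpr fun hu ↦
      (IsLocalRing.mem_maximalIdeal _).mp hr (isUnit_of_map_unit (algebraMap R S) r hu)) ha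
  have : IsUnit (1 + a) := by
    by_contra hu
    exact (IsLocalRing.maximalIdeal.isMaximal S).ne_top ((Ideal.eq_top_iff_one _).mpr
      (by simpa using sub_mem ((IsLocalRing.mem_maximalIdeal _).mpr hu) ha'))
  exact this.smul_eq_zero.mp hax

/-- Variant of the local criterion of flatness. -/
theorem flat_of_injective_of_flat_quotient [IsLocalRing R] [IsLocalRing S]
    [IsLocalHom (algebraMap R S)] (I : Ideal R) (hI : I ≠ ⊤)
    (h₁ : Function.Injective (I.subtype.lTensor M))
    [Module.Flat (R ⧸ I) ((R ⧸ I) ⊗[R] M)] : Module.Flat R M := by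
  refine flat_of_injective (S := S) ?_
  set m := IsLocalRing.maximalIdeal R
  have hIm : I ≤ m := IsLocalRing.le_maximalIdeal hI
  let q : m →ₗ[R] R ⧸ I := (Submodule.mkQ I).comp m.subtype
  let P : Submodule (R ⧸ I) (R ⧸ I) := m.map (Ideal.Quotient.mk I)
  let q' : m →ₗ[R] P.restrictScalars R :=
    q.codRestrict _ fun r ↦ Ideal.mem_map_of_mem (Ideal.Quotient.mk I) r.2
  have hq' : Function.Surjective q' := by
    rintro ⟨y, hy⟩
    obtain ⟨r, hr, rfl⟩ := (Ideal.mem_map_iff_of_surjective _ Ideal.Quotient.mk_surjective).mp hy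
    exact ⟨⟨r, hr⟩, rfl⟩
  have hex : Function.Exact (Submodule.inclusion hIm) q' := by
    intro y
    refine ⟨fun hy ↦ ?_, ?_⟩
    · exact ⟨⟨y.1, (Submodule.Quotient.mk_eq_zero _).mp (congrArg Subtype.val hy)⟩, Subtype.ext rfl⟩
    · rintro ⟨z, rfl⟩
      exact Subtype.ext ((Submodule.Quotient.mk_eq_zero _).mpr z.2)
  have hP : Function.Injective ((P.subtype.restrictScalars R).lTensor M) :=
    lTensor_injective_of_flat_quotient I P.subtype Subtype.val_injective
  rw [injective_iff_map_eq_zero]
  intro x hx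
  obtain ⟨z, rfl⟩ := (lTensor_exact M hex hq' x).mp (hP (by
    have e : (m.subtype.lTensor M) x = 0 := hx
    have h₂ : ((Submodule.mkQ I).lTensor M) ((m.subtype.lTensor M) x) = 0 := by rw [e, map_zero]
    rw [← LinearMap.lTensor_comp_apply] at h₂
    exact ((LinearMap.lTensor_comp_apply M (P.subtype.restrictScalars R) q' x).symm.trans h₂).trans
      (map_zero ((P.subtype.restrictScalars R).lTensor M)).symm))
  rw [← LinearMap.lTensor_comp_apply] at hx
  rw [show z = 0 from h₁ (by rw [map_zero]; exact hx), map_zero]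

/-- Flatness at the points of `V(I S)` from flatness modulo all powers of `I`. -/
theorem flat_localizedModule_of_flat_quotients (I : Ideal R)
    (h : ∀ n : ℕ, Module.Flat (R ⧸ I ^ n) ((R ⧸ I ^ n) ⊗[R] M))
    (q : Ideal S) [q.IsPrime] (hq : I.map (algebraMap R S) ≤ q) :
    Module.Flat R (LocalizedModule q.primeCompl M) := by
  rw [Module.Flat.iff_lTensor_injective']
  intro J
  rw [injective_iff_map_eq_zero]
  intro y hy
  let f₀ := LocalizedModule.mkLinearMap q.primeCompl M
  let f : M →ₗ[R] LocalizedModule q.primeCompl M := f₀.restrictScalars R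
  have hs : ∀ y : LocalizedModule q.primeCompl M ⊗[R] J, ∃ (s : q.primeCompl) (x : M ⊗[R] J),
      (s : S) • y = f.rTensor J x := by
    intro y
    induction y with
    | zero => exact ⟨1, 0, by simp⟩
    | tmul m j =>
      obtain ⟨⟨m, s⟩, rfl⟩ := IsLocalizedModule.mk'_surjective q.primeCompl f₀ m
      exact ⟨s, m ⊗ₜ j, by
        rw [smul_tmul', LinearMap.rTensor_tmul]
        exact congrArg (· ⊗ₜ[R] j) (IsLocalizedModule.mk'_cancel' f₀ m s)⟩
    | add a b ha hb =>
      obtain ⟨s, x, hx⟩ := ha
      obtain ⟨t, z, hz⟩ := hb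
      refine ⟨s * t, (t : S) • x + (s : S) • z, ?_⟩
      have key : ∀ (r : S) (w : M ⊗[R] J), f.rTensor J (r • w) = r • f.rTensor J w := fun r w ↦ by
        induction w with
        | zero => simp
        | tmul m j => simp [f, smul_tmul']
        | add a b ha hb => simp only [smul_add, map_add, ha, hb]
      rw [map_add, key, key, ← hx, ← hz, Submonoid.coe_mul, smul_add, smul_smul, smul_smul,
        mul_comm (s : S)]
  obtain ⟨s, x, hx⟩ := hs y
  have h₁ : f.rTensor R (J.subtype.lTensor M x) = 0 := by
    rw [← LinearMap.comp_apply, LinearMap.rTensor_comp_lTensor, ← LinearMap.lTensor_comp_rTensor,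
      LinearMap.comp_apply, ← hx]
    have key : ∀ (r : S) (w : LocalizedModule q.primeCompl M ⊗[R] J),
        J.subtype.lTensor _ (r • w) = r • J.subtype.lTensor _ w := fun r w ↦ by
      induction w with
      | zero => simp
      | tmul m j => simp [smul_tmul']
      | add a b ha hb => simp only [smul_add, map_add, ha, hb]
    rw [key, hy, smul_zero]
  obtain ⟨t, ht⟩ : ∃ t : q.primeCompl, (t : S) • J.subtype.lTensor M x = 0 := by
    obtain ⟨m, hm⟩ := (TensorProduct.rid R M).symm.surjective (J.subtype.lTensor M x)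
    rw [← hm] at h₁ ⊢
    have h₂ : f₀ m = 0 := by simpa [f] using congrArg (TensorProduct.rid R _) h₁
    obtain ⟨t, ht⟩ := (IsLocalizedModule.eq_zero_iff q.primeCompl f₀).mp h₂
    exact ⟨t, by rw [TensorProduct.rid_symm_apply, smul_tmul']; simp [Submonoid.smul_def] at ht; rw [ht, zero_tmul]⟩
  have key : ∀ (r : S) (w : M ⊗[R] J), J.subtype.lTensor M (r • w) = r • J.subtype.lTensor M w :=
    fun r w ↦ by
      induction w with
      | zero => simp
      | tmul m j => simp [smul_tmul']
      | add a b ha hb => simp only [smul_add, map_add, ha, hb]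
  obtain ⟨a, ha, hax⟩ := exists_one_add_smul_eq_zero_of_ker (S := S) I J (fun n P ↦ by
    have := h n
    let P' : Submodule (R ⧸ I ^ n) (R ⧸ I ^ n) :=
      { P.toAddSubmonoid with
        smul_mem' := fun r z hz ↦ by
          obtain ⟨r, rfl⟩ := Ideal.Quotient.mk_surjective r
          exact P.smul_mem r hz }
    exact lTensor_injective_of_flat_quotient (I ^ n) P'.subtype Subtype.val_injective)
    (x := (t : S) • x) (by rw [key, ht])
  have hu : IsUnit (algebraMap S (Localization q.primeCompl) ((1 + a) * t * s)) := by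
    refine IsLocalization.map_units (M := q.primeCompl) (Localization q.primeCompl)
      ⟨_, mul_mem (mul_mem ?_ t.2) s.2⟩
    exact fun h1 ↦ ‹q.IsPrime›.ne_top ((Ideal.eq_top_iff_one q).mpr
      (by simpa using sub_mem h1 (hq ha)))
  refine hu.smul_eq_zero.mp ?_
  rw [algebraMap_smul, mul_smul, mul_smul, hx]
  have key₂ : ∀ (r : S) (w : M ⊗[R] J), r • f.rTensor J w = f.rTensor J (r • w) := fun r w ↦ by
    induction w with
    | zero => simp
    | tmul m j => simp [f, smul_tmul']
    | add a b ha hb => simp only [smul_add, map_add, ha, hb]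
  rw [key₂, key₂, hax, map_zero]

end AR

end Groth.Agent.H7Flat
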