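import Mathlib.RingTheory.MvPolynomial.Basic
import Mathlib.Algebra.MvPolynomial.CommRing
import Mathlib.RingTheory.Nilpotent.Basic
import Mathlib.RingTheory.Finiteness.Basic
import Mathlib.Order.WellQuasiOrder
import Mathlib.Data.Finsupp.WellFounded
import Mathlib.Data.Finsupp.Lex
import Mathlib.Data.Finsupp.MonomialOrder

/-!
# Generic Gröbner bases

Over a reduced ring `R`, a submodule of a finite free module over a polynomial ring has, after
multiplying any given nonzero element of `R` further, a monic Gröbner basis. This gives generic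
freeness and generic finite presentation at once.
-/

set_option autoImplicit false

universe u

open MvPolynomial

namespace Groth.Agent.H7Flat.Groebner

variable {R : Type u} [CommRing R] {n r : ℕ}

variable (n r) in
/-- Indices of the standard `R`-basis of `R[x₁, …, xₙ]ʳ`. -/
abbrev Idx : Type := Fin r × (Fin n →₀ ℕ)

/-- The coefficient of a basis element. -/
noncomputable def cf (v : Fin r → MvPolynomial (Fin n) R) (i : Idx n r) : R := (v i.1).coeff i.2

variable (R) in
/-- The standard basis elements. -/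
noncomputable def mono (i : Idx n r) : Fin r → MvPolynomial (Fin n) R :=
  Pi.single i.1 (monomial i.2 1)

/-- The term order. -/
def key (i : Idx n r) : Lex (Lex (Fin n →₀ ℕ) × Fin r) := toLex (toLex i.2, i.1)

lemma key_injective : Function.Injective (key : Idx n r → _) := by
  rintro ⟨k, e⟩ ⟨k', e'⟩ h
  have h' := congrArg ofLex h
  simp only [key, ofLex_toLex, Prod.mk.injEq] at h'
  exact Prod.ext h'.2 (toLex.injective h'.1)

/-- `v` has no terms above `i`. -/
def LeadLE (v : Fin r → MvPolynomial (Fin n) R) (i : Idx n r) : Prop :=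
  ∀ j, key i < key j → cf v j = 0

lemma cf_ext {v w : Fin r → MvPolynomial (Fin n) R} (h : ∀ i, cf v i = cf w i) : v = w :=
  funext fun k ↦ MvPolynomial.ext _ _ fun e ↦ h (k, e)

lemma cf_sub (v w : Fin r → MvPolynomial (Fin n) R) (i : Idx n r) :
    cf (v - w) i = cf v i - cf w i := by simp [cf]

lemma cf_smul (c : R) (v : Fin r → MvPolynomial (Fin n) R) (i : Idx n r) :
    cf (c • v) i = c * cf v i := by simp [cf]

lemma cf_mono (i j : Idx n r) : cf (mono R i) j = if i = j then 1 else 0 := by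
  obtain ⟨k, e⟩ := i
  obtain ⟨k', e'⟩ := j
  by_cases hk : k' = k
  · subst hk; simp [cf, mono, coeff_monomial, Prod.ext_iff]
  · simp [cf, mono, hk, Ne.symm hk]

/-- Shift by `d`. -/
noncomputable def shift (d : Fin n →₀ ℕ) (v : Fin r → MvPolynomial (Fin n) R) :
    Fin r → MvPolynomial (Fin n) R := monomial d (1 : R) • v

lemma cf_shift_add (d : Fin n →₀ ℕ) (v : Fin r → MvPolynomial (Fin n) R) (k : Fin r)
    (e : Fin n →₀ ℕ) : cf (shift d v) (k, d + e) = cf v (k, e) := by
  simp [cf, shift, coeff_monomial_mul]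

lemma LeadLE.shift {v : Fin r → MvPolynomial (Fin n) R} {i : Idx n r} (h : LeadLE v i)
    (d : Fin n →₀ ℕ) : LeadLE (shift d v) (i.1, d + i.2) := by
  rintro ⟨k, e⟩ hlt
  by_cases hd : d ≤ e
  · obtain ⟨e', rfl⟩ := exists_add_of_le hd
    rw [cf_shift_add]
    refine h _ ?_
    simp only [key, Prod.Lex.toLex_lt_toLex, toLex_add, add_lt_add_iff_left, add_right_inj] at hlt ⊢
    exact hlt
  · simp [cf, Groebner.shift, coeff_monomial_mul', hd]

/-- Exponents of terms that can be made monic leading terms of elements of `K` over `R[1/g]`. -/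
def lead (K : Submodule (MvPolynomial (Fin n) R) (Fin r → MvPolynomial (Fin n) R)) (g : R) :
    Set (Idx n r) :=
  {i | ∃ v ∈ K, ∃ m : ℕ, cf v i = g ^ m ∧ LeadLE v i}

variable {K : Submodule (MvPolynomial (Fin n) R) (Fin r → MvPolynomial (Fin n) R)}

lemma lead_mono {g g' : R} (h : g ∣ g') : lead K g ⊆ lead K g' := by
  obtain ⟨c, rfl⟩ := h
  rintro i ⟨v, hv, m, hm, hle⟩
  refine ⟨c ^ m • v, K.smul_of_tower_mem _ hv, m, ?_, fun j hj ↦ ?_⟩
  · rw [cf_smul, hm, mul_pow, mul_comm]
  · rw [cf_smul, hle j hj, mul_zero]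

lemma lead_shift {g : R} {k : Fin r} {e : Fin n →₀ ℕ} (d : Fin n →₀ ℕ)
    (h : (k, e) ∈ lead K g) : (k, d + e) ∈ lead K g := by
  obtain ⟨v, hv, m, hm, hle⟩ := h
  exact ⟨shift d v, K.smul_mem _ hv, m, by rw [cf_shift_add, hm], hle.shift d⟩

/-- Encoding of the divisibility order in a well quasi order. -/
def enc (i : Idx n r) : (Fin n → ℕ) × ℕ × ℕ := (⇑i.2, (i.1 : ℕ), r - i.1)

lemma exists_add_of_enc_le {i j : Idx n r} (h : enc i ≤ enc j) :
    ∃ d, j = (i.1, d + i.2) := by
  obtain ⟨h1, h2, h3⟩ := h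
  have hk : i.1 = j.1 := by
    apply Fin.ext
    change (i.1 : ℕ) ≤ j.1 at h2
    change r - (i.1 : ℕ) ≤ r - j.1 at h3
    omega
  obtain ⟨d, hd⟩ := exists_add_of_le (show i.2 ≤ j.2 from fun x ↦ h1 x)
  exact ⟨d, Prod.ext hk.symm (by rw [hd, add_comm])⟩

variable (K) in
/-- Any nonzero element divides one for which the leading terms are stable. -/
lemma exists_maximal (a : R) (ha : a ≠ 0) :
    ∃ g, g ≠ 0 ∧ a ∣ g ∧ ∀ g', g' ≠ 0 → g ∣ g' → lead K g' ⊆ lead K g := by
  by_contra! H
  choose next hne hdvd hns using H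
  let S : ℕ → {g : R // g ≠ 0 ∧ a ∣ g} := fun m ↦
    Nat.rec ⟨a, ha, dvd_refl a⟩ (fun _ g ↦
      ⟨next g.1 g.2.1 g.2.2, hne _ g.2.1 g.2.2, g.2.2.trans (hdvd _ g.2.1 g.2.2)⟩) m
  have hstep : ∀ m, ∃ i, i ∈ lead K (S (m + 1)).1 ∧ i ∉ lead K (S m).1 := fun m ↦
    Set.not_subset.mp (hns _ (S m).2.1 (S m).2.2)
  choose i hi hi' using hstep
  have hmono : Monotone fun m ↦ lead K (S m).1 :=
    monotone_nat_of_le_succ fun m ↦ lead_mono (hdvd _ (S m).2.1 (S m).2.2)
  obtain ⟨p, q, hpq, hle⟩ := wellQuasiOrdered_le fun m ↦ enc (i m)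
  obtain ⟨d, hd⟩ := exists_add_of_enc_le hle
  refine hi' q ?_
  rw [hd]
  exact hmono (Nat.succ_le_of_lt hpq) (lead_shift d (hi p))

section max

variable [IsReduced R] {g : R}
  (hmax : ∀ g', g' ≠ 0 → g ∣ g' → lead K g' ⊆ lead K g)

omit [IsReduced R] in
include hmax in
/-- Leading coefficients outside `lead K g` die after inverting `g`. -/
lemma mul_cf_eq_zero {v : Fin r → MvPolynomial (Fin n) R} (hv : v ∈ K) {i : Idx n r}
    (hle : LeadLE v i) (hi : i ∉ lead K g) : g * cf v i = 0 := by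
  by_contra hne
  refine hi (hmax _ hne ⟨_, rfl⟩ ⟨g • v, K.smul_of_tower_mem g hv, 1, ?_, fun j hj ↦ ?_⟩)
  · rw [cf_smul, pow_one]
  · rw [cf_smul, hle j hj, mul_zero]

omit [IsReduced R] in
lemma exists_leadLE (v : Fin r → MvPolynomial (Fin n) R) :
    v = 0 ∨ ∃ i, LeadLE v i := by
  classical
  let s : Finset (Idx n r) :=
    Finset.univ.biUnion fun k ↦ (v k).support.image fun e ↦ (k, e)
  have hs : ∀ j, cf v j ≠ 0 → j ∈ s := by
    rintro ⟨k, e⟩ h
    simp only [s, Finset.mem_biUnion, Finset.mem_univ, true_and, Finset.mem_image]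
    exact ⟨k, e, MvPolynomial.mem_support_iff.mpr h, rfl⟩
  obtain hs' | hs' := s.eq_empty_or_nonempty
  · exact .inl (cf_ext fun j ↦ by
      by_contra h
      exact Finset.notMem_empty j (hs' ▸ hs j (by simpa [cf] using h)))
  · obtain ⟨i, -, hi⟩ := s.exists_max_image key hs'
    refine .inr ⟨i, fun j hj ↦ ?_⟩
    by_contra h
    exact (hi j (hs j h)).not_gt hj

variable (K g) in
/-- The standard monomials. -/
def std : Set (Fin r → MvPolynomial (Fin n) R) := mono R '' (lead K g)ᶜ

omit [IsReduced R] in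
lemma cf_eq_zero_of_mem_span_std {v : Fin r → MvPolynomial (Fin n) R}
    (hv : v ∈ Submodule.span R (std K g)) {i : Idx n r} (hi : i ∈ lead K g) : cf v i = 0 := by
  induction hv using Submodule.span_induction with
  | mem y hy =>
    obtain ⟨j, hj, rfl⟩ := hy
    rw [cf_mono, if_neg]
    rintro rfl
    exact hj hi
  | zero => simp [cf]
  | add a b _ _ ha hb => simp only [cf] at ha hb ⊢; simp [ha, hb]
  | smul c a _ ha => rw [cf_smul, ha, mul_zero]

omit [IsReduced R] in
/-- Induction along the leading term. -/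
lemma induction_lead {P : (Fin r → MvPolynomial (Fin n) R) → Prop} (h0 : P 0)
    (h : ∀ v i, LeadLE v i → (∀ w, (w = 0 ∨ ∃ j, key j < key i ∧ LeadLE w j) → P w) → P v)
    (v : Fin r → MvPolynomial (Fin n) R) : P v := by
  have : WellFoundedLT (Lex (Fin n →₀ ℕ)) := Finsupp.Lex.wellFoundedLT_of_finite
  suffices ∀ t : Lex (Lex (Fin n →₀ ℕ) × Fin r), ∀ v i, key i = t → LeadLE v i → P v by
    obtain rfl | ⟨i, hi⟩ := exists_leadLE v
    · exact h0
    · exact this _ v i rfl hi
  intro t
  induction t using WellFoundedLT.induction with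
  | _ t ih =>
    intro v i hi hle
    refine h v i hle fun w hw ↦ ?_
    obtain rfl | ⟨j, hj, hjle⟩ := hw
    · exact h0
    · exact ih _ (hi ▸ hj) w j rfl hjle

omit [IsReduced R] in
/-- Removing the leading term. -/
lemma lower {w : Fin r → MvPolynomial (Fin n) R} {i : Idx n r} (hle : LeadLE w i)
    (h : cf w i = 0) : w = 0 ∨ ∃ j, key j < key i ∧ LeadLE w j := by
  classical
  obtain h' | ⟨j, hj⟩ := exists_leadLE w
  · exact .inl h'
  · let s : Finset (Idx n r) :=
      Finset.univ.biUnion fun k ↦ (w k).support.image fun e ↦ (k, e)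
    have hs : ∀ j, cf w j ≠ 0 ↔ j ∈ s := by
      rintro ⟨k, e⟩
      simp [s, cf]
    obtain hs' | hs' := s.eq_empty_or_nonempty
    · exact .inl (cf_ext fun j ↦ by
        by_contra h
        exact Finset.notMem_empty j (hs' ▸ (hs j).mp (by simpa [cf] using h)))
    · obtain ⟨m, hm, hm'⟩ := s.exists_max_image key hs'
      refine .inr ⟨m, ?_, fun j hj ↦ by_contra fun hne ↦ (hm' j ((hs j).mp hne)).not_gt hj⟩
      obtain hlt | heq | hgt := lt_trichotomy (key m) (key i)
      · exact hlt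
      · exact absurd (key_injective heq ▸ h) ((hs m).mpr hm)
      · exact absurd (hle m hgt) ((hs m).mpr hm)

include hmax in
/-- Standard monomials are independent modulo `K` after inverting `g`. -/
lemma smul_eq_zero_of_mem_span_std {v : Fin r → MvPolynomial (Fin n) R} (hv : v ∈ K)
    (hstd : v ∈ Submodule.span R (std K g)) : g • v = 0 := by
  suffices ∃ m : ℕ, g ^ m • v = 0 by
    obtain ⟨m, hm⟩ := this
    refine cf_ext fun i ↦ ?_
    have h1 := congrArg (cf · i) hm
    simp only [cf_smul] at h1 ⊢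
    have h1' : g ^ m * cf v i = 0 := h1.trans (by simp [cf])
    refine Eq.trans ?_ (by simp [cf] : (0 : R) = cf (0 : Fin r → MvPolynomial (Fin n) R) i)
    exact IsReduced.eq_zero _ ⟨m + 1, by
      rw [mul_pow, pow_succ (cf v i), pow_succ g m,
        show g ^ m * g * (cf v i ^ m * cf v i) = g * cf v i ^ m * (g ^ m * cf v i) by ring,
        h1', mul_zero]⟩
  induction v using induction_lead with
  | h0 => exact ⟨0, by simp⟩
  | h v i hle ih =>
    have hc : g * cf v i = 0 := by
      by_cases hi : i ∈ lead K g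
      · rw [cf_eq_zero_of_mem_span_std hstd hi, mul_zero]
      · exact mul_cf_eq_zero hmax hv hle hi
    have hle' : LeadLE (g • v) i := fun j hj ↦ by rw [cf_smul, hle j hj, mul_zero]
    obtain ⟨m, hm⟩ := ih (g • v) (lower hle' (by rw [cf_smul, hc]))
      (K.smul_of_tower_mem g hv) (Submodule.smul_mem _ g hstd)
    exact ⟨m + 1, by rw [pow_succ, mul_smul, hm]⟩

omit [IsReduced R] in
variable (K g) in
/-- Finitely many elements of `K` allow division with remainder after inverting `g`. -/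
lemma exists_fg_division :
    ∃ N : Submodule (MvPolynomial (Fin n) R) (Fin r → MvPolynomial (Fin n) R), N.FG ∧ N ≤ K ∧
      ∀ v, ∃ (m : ℕ), ∃ w ∈ N, g ^ m • v - w ∈ Submodule.span R (std K g) := by
  classical
  -- minimal leading exponents
  let M : Set (Idx n r) := {i ∈ lead K g | ∀ j ∈ lead K g, enc j ≤ enc i → j = i}
  have henc : Function.Injective (enc : Idx n r → _) := by
    rintro ⟨k, e⟩ ⟨k', e'⟩ h
    simp only [enc, Prod.mk.injEq] at h
    exact Prod.ext (Fin.ext h.2.1) (DFunLike.coe_injective h.1)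
  have hMfin : M.Finite := by
    refine Set.Finite.of_finite_image ?_ henc.injOn
    refine WellQuasiOrderedLE.finite_of_isAntichain ?_
    rintro _ ⟨x, hx, rfl⟩ _ ⟨y, hy, rfl⟩ hne hle
    exact hne (congrArg enc (hy.2 x hx.1 hle))
  have hMin : ∀ i ∈ lead K g, ∃ j ∈ M, enc j ≤ enc i := by
    intro i hi
    obtain ⟨b, ⟨⟨j, hj, rfl⟩, hji⟩, hbmin⟩ :=
      (wellFounded_lt (α := (Fin n → ℕ) × ℕ × ℕ)).has_min
        {b | (∃ j ∈ lead K g, enc j = b) ∧ b ≤ enc i} ⟨_, ⟨i, hi, rfl⟩, le_rfl⟩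
    refine ⟨j, ⟨hj, fun k hk hkj ↦ henc ?_⟩, hji⟩
    by_contra hne
    exact hbmin _ ⟨⟨k, hk, rfl⟩, hkj.trans hji⟩ (lt_of_le_of_ne hkj hne)
  choose w hw m hm hwle using fun i : lead K g ↦ i.2
  have : Finite M := hMfin
  let W : M → (Fin r → MvPolynomial (Fin n) R) := fun i ↦ w ⟨i.1, i.2.1⟩
  refine ⟨Submodule.span _ (Set.range W), Submodule.fg_span (Set.finite_range W),
    Submodule.span_le.mpr (Set.range_subset_iff.mpr fun i ↦ hw _), fun v ↦ ?_⟩
  induction v using induction_lead with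
  | h0 => exact ⟨0, 0, zero_mem _, by simp⟩
  | h v i hle ih =>
    by_cases hi : i ∈ lead K g
    · obtain ⟨j, hj, hji⟩ := hMin i hi
      obtain ⟨d, rfl⟩ := exists_add_of_enc_le hji
      let u := shift d (W ⟨j, hj⟩)
      have hu : u ∈ Submodule.span (MvPolynomial (Fin n) R) (Set.range W) :=
        Submodule.smul_mem _ _ (Submodule.subset_span ⟨_, rfl⟩)
      let k := m ⟨j, hj.1⟩
      let v' := g ^ k • v - cf v (j.1, d + j.2) • u
      have h1 : LeadLE v' (j.1, d + j.2) := fun l hl ↦ by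
        rw [cf_sub, cf_smul, cf_smul, hle l hl, (hwle ⟨j, hj.1⟩).shift d l hl, mul_zero, mul_zero,
          sub_zero]
      have h2 : cf v' (j.1, d + j.2) = 0 := by
        rw [cf_sub, cf_smul, cf_smul, cf_shift_add]
        change _ - _ * cf (w ⟨j, hj.1⟩) _ = 0
        rw [show cf (w ⟨j, hj.1⟩) (j.1, j.2) = g ^ k from hm ⟨j, hj.1⟩, mul_comm (g ^ k), sub_self]
      obtain ⟨l, z, hz, hzs⟩ := ih v' (lower h1 h2)
      refine ⟨l + k, z + (g ^ l * cf v (j.1, d + j.2)) • u,
        add_mem hz (Submodule.smul_of_tower_mem _ _ hu), ?_⟩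
      convert hzs using 1
      rw [pow_add, mul_smul, mul_smul, smul_sub]
      abel
    · let v' := v - cf v i • mono R i
      have h1 : LeadLE v' i := fun l hl ↦ by
        rw [cf_sub, cf_smul, hle l hl, cf_mono, if_neg (fun h ↦ hl.ne (by rw [h])), mul_zero,
          sub_zero]
      have h2 : cf v' i = 0 := by rw [cf_sub, cf_smul, cf_mono, if_pos rfl, mul_one, sub_self]
      obtain ⟨l, z, hz, hzs⟩ := ih v' (lower h1 h2)
      refine ⟨l, z, hz, ?_⟩
      have := add_mem hzs (Submodule.smul_mem _ (g ^ l * cf v i)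
        (Submodule.subset_span (R := R) ⟨i, hi, rfl⟩ : mono R i ∈ Submodule.span R (std K g)))
      convert this using 1
      rw [smul_sub, mul_smul]
      abel

end max

/-- Generic Gröbner bases: a standard set of monomials and finitely many relations. -/
theorem exists_groebner [IsReduced R]
    (K : Submodule (MvPolynomial (Fin n) R) (Fin r → MvPolynomial (Fin n) R)) (a : R) (ha : a ≠ 0) :
    ∃ (g : R) (B : Set (Fin r → MvPolynomial (Fin n) R))
      (N : Submodule (MvPolynomial (Fin n) R) (Fin r → MvPolynomial (Fin n) R)),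
      g ≠ 0 ∧ a ∣ g ∧ LinearIndepOn R id B ∧ N.FG ∧ N ≤ K ∧
      (∀ v ∈ K, v ∈ Submodule.span R B → g • v = 0) ∧
      (∀ v, ∃ m : ℕ, ∃ w ∈ N, g ^ m • v - w ∈ Submodule.span R B) ∧
      (∀ v ∈ K, ∃ m : ℕ, g ^ m • v ∈ N) := by
  obtain ⟨g, hg, hag, hmax⟩ := exists_maximal K a ha
  obtain ⟨N, hN, hNK, hdiv⟩ := exists_fg_division K g
  refine ⟨g, std K g, N, hg, hag, ?_, hN, hNK, fun v ↦ smul_eq_zero_of_mem_span_std hmax, hdiv,
    fun v hv ↦ ?_⟩
  · refine LinearIndepOn.id_image ?_
    rw [linearIndepOn_iff]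
    intro c _ h0
    ext i
    have h1 := congrArg (cf · i) h0
    simp only [Finsupp.linearCombination_apply, Finsupp.sum] at h1
    have hsum : ∀ (s : Finset (Idx n r)), cf (∑ x ∈ s, c x • mono R x) i =
        ∑ x ∈ s, c x * cf (mono R x) i := fun s ↦ by
      simp [cf, MvPolynomial.coeff_sum]
    rw [hsum] at h1
    simp only [cf_mono, mul_ite, mul_one, mul_zero, Finset.sum_ite_eq'] at h1
    by_cases hi : i ∈ c.support
    · rw [if_pos hi] at h1
      simpa [cf] using h1
    · simpa using hi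
  · obtain ⟨m, w, hw, hs⟩ := hdiv v
    refine ⟨m + 1, ?_⟩
    have := smul_eq_zero_of_mem_span_std hmax
      (sub_mem (K.smul_of_tower_mem _ hv) (hNK hw)) hs
    rw [smul_sub, sub_eq_zero, smul_smul, ← pow_succ'] at this
    rw [this]
    exact N.smul_of_tower_mem g hw

end Groth.Agent.H7Flat.Groebner
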