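import Groth.Agent.H7Flat.AwayFree
import Groth.Agent.H7Flat.Groebner
import Mathlib.Algebra.Module.FinitePresentation
import Mathlib.RingTheory.FinitePresentation
import Mathlib.RingTheory.FiniteStability
import Mathlib.RingTheory.Localization.BaseChange
import Mathlib.RingTheory.Flat.Localization
import Mathlib.RingTheory.Localization.Away.Basic
import Mathlib.RingTheory.TensorProduct.Free
import Mathlib.LinearAlgebra.TensorProduct.RightExactness

/-!
# Generic freeness and finite presentation for finite type algebras over domains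
-/

set_option autoImplicit false

universe u

open TensorProduct MvPolynomial

namespace Groth.Agent.H7Flat

variable {R : Type u} [CommRing R]

/-- A map with `f`-power torsion kernel and cokernel becomes bijective after inverting `f`. -/
lemma baseChange_bijective_of_torsion {A C : Type u} [AddCommGroup A] [Module R A] [AddCommGroup C]
    [Module R C] {f : R} (g : A →ₗ[R] C) (hker : ∀ x, g x = 0 → ∃ n : ℕ, f ^ n • x = 0)
    (hcoker : ∀ c, ∃ n : ℕ, f ^ n • c ∈ LinearMap.range g) :
    Function.Bijective (g.baseChange (Localization.Away f)) := by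
  set Rf := Localization.Away f
  have hdiv : ∀ (n : ℕ) (a : Rf), ∃ b : Rf, f ^ n • b = a := by
    intro n a
    have hu : IsUnit (algebraMap R Rf (f ^ n)) :=
      IsLocalization.map_units (M := Submonoid.powers f) Rf ⟨f ^ n, n, rfl⟩
    obtain ⟨v, hv⟩ := hu.exists_right_inv
    exact ⟨v * a, by rw [Algebra.smul_def, ← mul_assoc, hv, one_mul]⟩
  refine ⟨?_, ?_⟩
  · change Function.Injective (g.lTensor Rf)
    rw [injective_iff_map_eq_zero]
    intro x hx
    have hex : Function.Exact (LinearMap.ker g).subtype g.rangeRestrict := by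
      intro y
      refine ⟨fun hy ↦ ⟨⟨y, congrArg Subtype.val hy⟩, rfl⟩, ?_⟩
      rintro ⟨z, rfl⟩
      exact Subtype.ext z.2
    have hinj := Module.Flat.lTensor_preserves_injective_linearMap (M := Rf)
      (LinearMap.range g).subtype Subtype.val_injective
    obtain ⟨y, rfl⟩ := (lTensor_exact Rf hex g.surjective_rangeRestrict x).mp (hinj (by
      rw [map_zero, ← LinearMap.lTensor_comp_apply]; exact hx))
    suffices y = 0 by rw [this, map_zero]
    clear hx
    induction y with
    | zero => rfl
    | add a b ha hb => rw [ha, hb, add_zero]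
    | tmul a k =>
      obtain ⟨n, hn⟩ := hker k.1 k.2
      obtain ⟨b, rfl⟩ := hdiv n a
      rw [TensorProduct.smul_tmul, show f ^ n • k = 0 from Subtype.ext hn, tmul_zero]
  · intro z
    induction z with
    | zero => exact ⟨0, map_zero _⟩
    | add a b ha hb =>
      obtain ⟨x, rfl⟩ := ha; obtain ⟨y, rfl⟩ := hb; exact ⟨x + y, map_add _ _ _⟩
    | tmul a c =>
      obtain ⟨n, x, hx⟩ := hcoker c
      obtain ⟨b, rfl⟩ := hdiv n a
      exact ⟨b ⊗ₜ x, by rw [LinearMap.baseChange_tmul, hx, TensorProduct.smul_tmul]⟩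

/-- An away free module becomes free after inverting `f`. -/
theorem IsAwayFree.free_baseChange {f : R} {M : Type u} [AddCommGroup M] [Module R M]
    (h : IsAwayFree f M) : Module.Free (Localization.Away f) (Localization.Away f ⊗[R] M) := by
  obtain ⟨B, hB, hB'⟩ := h
  let φ : (B →₀ R) →ₗ[R] M := Finsupp.linearCombination R Subtype.val
  refine Module.Free.of_equiv (LinearEquiv.ofBijective (φ.baseChange (Localization.Away f))
    (baseChange_bijective_of_torsion φ (fun x hx ↦ ⟨0, ?_⟩) fun c ↦ ?_))
  · have hφ : Function.Injective φ :=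
      linearIndependent_iff_injective_finsuppLinearCombination.mp hB
    simpa using hφ (hx.trans (map_zero φ).symm)
  · obtain ⟨n, hn⟩ := hB' c
    exact ⟨n, by rwa [Finsupp.range_linearCombination, Subtype.range_coe]⟩

/-- Over a domain a module finite over a finite type algebra is generically free. -/
theorem exists_isAwayFree_of_finiteType [IsDomain R] (S : Type u) [CommRing S] [Algebra R S]
    [Algebra.FiniteType R S] (M : Type u) [AddCommGroup M] [Module R M] [Module S M]
    [IsScalarTower R S M] [Module.Finite S M] : ∃ f : R, f ≠ 0 ∧ IsAwayFree f M := by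
  obtain ⟨n, π, hπ⟩ := Algebra.FiniteType.iff_quotient_mvPolynomial''.mp ‹Algebra.FiniteType R S›
  let _ : Algebra (MvPolynomial (Fin n) R) S := π.toRingHom.toAlgebra
  let _ : Module (MvPolynomial (Fin n) R) M := Module.compHom M π.toRingHom
  have : IsScalarTower (MvPolynomial (Fin n) R) S M :=
    IsScalarTower.of_algebraMap_smul fun _ _ ↦ rfl
  have : IsScalarTower R (MvPolynomial (Fin n) R) M := IsScalarTower.of_algebraMap_smul fun c m ↦ by
    change π (algebraMap R _ c) • m = c • m
    rw [AlgHom.commutes, algebraMap_smul]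
  have : Module.Finite (MvPolynomial (Fin n) R) S :=
    Module.Finite.of_surjective (Algebra.linearMap _ S) hπ
  have : Module.Finite (MvPolynomial (Fin n) R) M := Module.Finite.trans S M
  exact exists_isAwayFree n M

/-- A kernel has a finitely generated submodule with `g`-power torsion cokernel. -/
lemma exists_fg_sub_torsion [IsReduced R] {n r : ℕ} {M : Type u} [AddCommGroup M] [Module R M]
    [Module (MvPolynomial (Fin n) R) M] [IsScalarTower R (MvPolynomial (Fin n) R) M]
    (p : (Fin r → MvPolynomial (Fin n) R) →ₗ[MvPolynomial (Fin n) R] M) (a : R) (ha : a ≠ 0) :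
    ∃ f : R, f ≠ 0 ∧ a ∣ f ∧
      ∃ N : Submodule (MvPolynomial (Fin n) R) (Fin r → MvPolynomial (Fin n) R),
      N.FG ∧ N ≤ LinearMap.ker p ∧ ∀ x, p x = 0 → ∃ k : ℕ, f ^ k • x ∈ N := by
  obtain ⟨g, B, N, hg, hag, -, hN, hNK, -, -, htor⟩ :=
    Groebner.exists_groebner (LinearMap.ker p) a ha
  exact ⟨g, hg, hag, N, hN, hNK, fun x hx ↦ htor x hx⟩

/-- Over a reduced ring a finite module over a finite type algebra is free over the base after
inverting a suitable multiple of any nonzero element. -/
theorem exists_free_baseChange [IsReduced R] (S : Type u) [CommRing S] [Algebra R S]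
    [Algebra.FiniteType R S] (M : Type u) [AddCommGroup M] [Module R M] [Module S M]
    [IsScalarTower R S M] [Module.Finite S M] (a : R) (ha : a ≠ 0) :
    ∃ f : R, f ≠ 0 ∧ a ∣ f ∧ ∀ g : R, f ∣ g →
      Module.Free (Localization.Away g) (Localization.Away g ⊗[R] M) := by
  obtain ⟨n, π, hπ⟩ := Algebra.FiniteType.iff_quotient_mvPolynomial''.mp ‹Algebra.FiniteType R S›
  let _ : Module (MvPolynomial (Fin n) R) M := Module.compHom M π.toRingHom
  have hsm : ∀ (x : MvPolynomial (Fin n) R) (m : M), x • m = π x • m := fun _ _ ↦ rfl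
  have : IsScalarTower R (MvPolynomial (Fin n) R) M := IsScalarTower.of_algebraMap_smul fun c m ↦ by
    rw [hsm, AlgHom.commutes, algebraMap_smul]
  obtain ⟨r, m, hm⟩ := Module.Finite.exists_fin (R := S) (M := M)
  let p := Fintype.linearCombination (MvPolynomial (Fin n) R) m
  have hp : Function.Surjective p := by
    intro x
    have hx : x ∈ Submodule.span S (Set.range m) := hm ▸ trivial
    obtain ⟨c, rfl⟩ := (Submodule.mem_span_range_iff_exists_fun S).mp hx
    choose d hd using fun k ↦ hπ (c k)
    exact ⟨d, by simp [p, Fintype.linearCombination_apply, hsm, hd]⟩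
  obtain ⟨f, B, N, hf, haf, hB, -, hNK, hker, hdiv, -⟩ :=
    Groebner.exists_groebner (LinearMap.ker p) a ha
  refine ⟨f, hf, haf, fun g hg ↦ ?_⟩
  obtain ⟨t, rfl⟩ := hg
  let φ : (B →₀ R) →ₗ[R] M := (p.restrictScalars R) ∘ₗ Finsupp.linearCombination R Subtype.val
  refine Module.Free.of_equiv (LinearEquiv.ofBijective (φ.baseChange (Localization.Away (f * t)))
    (baseChange_bijective_of_torsion φ (fun x hx ↦ ⟨1, ?_⟩) fun c ↦ ?_))
  · have h0 := LinearMap.mem_range_self (Finsupp.linearCombination R (Subtype.val : B → _)) x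
    rw [Finsupp.range_linearCombination, Subtype.range_coe] at h0
    have h1 := hker _ hx h0
    rw [← map_smul] at h1
    have hinj : Function.Injective (Finsupp.linearCombination R (Subtype.val : B → _)) :=
      linearIndependent_iff_injective_finsuppLinearCombination.mp hB
    have h2 : f • x = 0 := hinj (h1.trans (map_zero _).symm)
    rw [pow_one, mul_comm, mul_smul, h2, smul_zero]
  · obtain ⟨v, rfl⟩ := hp c
    obtain ⟨k, w, hw, hs⟩ := hdiv v
    rw [← Set.image_id B, Finsupp.mem_span_image_iff_linearCombination] at hs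
    obtain ⟨l, hl, hl'⟩ := hs
    refine ⟨k, t ^ k • l.subtypeDomain (· ∈ B), ?_⟩
    have h3 : Finsupp.linearCombination R (Subtype.val : B → _) (l.subtypeDomain (· ∈ B)) =
        f ^ k • v - w := by
      rw [← hl', Finsupp.linearCombination_apply, Finsupp.linearCombination_apply]
      exact Finsupp.sum_subtypeDomain_index (h := fun v c ↦ c • id v) fun y hy ↦ hl hy
    have hw0 : p w = 0 := hNK hw
    rw [map_smul, mul_pow, mul_comm (f ^ k), mul_smul]
    congr 1
    simp only [φ, LinearMap.comp_apply, h3, map_sub, LinearMap.restrictScalars_apply, hw0, sub_zero,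
      LinearMap.map_smul_of_tower]

/-- A finite type algebra over a domain is finitely presented after inverting an element. -/
theorem exists_finitePresentation_algebra' [IsReduced R] (S : Type u) [CommRing S] [Algebra R S]
    [Algebra.FiniteType R S] (a : R) (ha : a ≠ 0) : ∃ f : R, f ≠ 0 ∧ a ∣ f ∧ ∀ g : R, f ∣ g →
      Algebra.FinitePresentation (Localization.Away g) (Localization.Away g ⊗[R] S) := by
  obtain ⟨n, π, hπ⟩ := Algebra.FiniteType.iff_quotient_mvPolynomial''.mp ‹Algebra.FiniteType R S›
  let _ : Module (MvPolynomial (Fin n) R) S := Module.compHom S π.toRingHom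
  have : IsScalarTower R (MvPolynomial (Fin n) R) S := IsScalarTower.of_algebraMap_smul fun c m ↦ by
    change π (algebraMap R _ c) * m = c • m
    rw [AlgHom.commutes, Algebra.smul_def]
  let p₁ : MvPolynomial (Fin n) R →ₗ[MvPolynomial (Fin n) R] S := LinearMap.toSpanSingleton _ S 1
  have hp₁ : ∀ x, p₁ x = π x := fun x ↦ mul_one (π x)
  let q : (Fin 1 → MvPolynomial (Fin n) R) →ₗ[MvPolynomial (Fin n) R] MvPolynomial (Fin n) R :=
    LinearMap.proj 0
  obtain ⟨f, hf, haf, N, hN, hNker, htor⟩ := exists_fg_sub_torsion (p₁.comp q) a ha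
  refine ⟨f, hf, haf, fun g hg ↦ ?_⟩
  let I : Ideal (MvPolynomial (Fin n) R) := N.map q
  have hI : ∀ x ∈ I, π x = 0 := by
    rintro _ ⟨x, hx, rfl⟩
    rw [← hp₁]; exact hNker hx
  let u : (MvPolynomial (Fin n) R ⧸ I) →ₐ[R] S := Ideal.Quotient.liftₐ I π hI
  have : Algebra.FinitePresentation R (MvPolynomial (Fin n) R ⧸ I) :=
    Algebra.FinitePresentation.quotient (hN.map q)
  have hker : ∀ z, u z = 0 → ∃ k : ℕ, g ^ k • z = 0 := by
    intro z hz
    obtain ⟨x, rfl⟩ := Ideal.Quotient.mk_surjective z
    obtain ⟨k, hk⟩ := htor (fun _ ↦ x) (by rw [LinearMap.comp_apply, hp₁]; exact hz)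
    obtain ⟨c, rfl⟩ := hg
    refine ⟨k, ?_⟩
    change Ideal.Quotient.mk I ((f * c) ^ k • x) = 0
    rw [Ideal.Quotient.eq_zero_iff_mem, mul_comm, mul_pow, mul_smul]
    have : f ^ k • x ∈ I := ⟨_, hk, rfl⟩
    rw [← algebraMap_smul (MvPolynomial (Fin n) R) (c ^ k)]
    exact I.smul_mem _ this
  have hu : Function.Surjective u := fun s ↦ by
    obtain ⟨x, rfl⟩ := hπ s
    exact ⟨Ideal.Quotient.mk I x, rfl⟩
  let U : Localization.Away g ⊗[R] (MvPolynomial (Fin n) R ⧸ I) →ₐ[Localization.Away g]
      Localization.Away g ⊗[R] S := Algebra.TensorProduct.map (AlgHom.id _ _) u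
  have hU : (U : Localization.Away g ⊗[R] (MvPolynomial (Fin n) R ⧸ I) →
      Localization.Away g ⊗[R] S) = u.toLinearMap.baseChange (Localization.Away g) := by
    funext z
    induction z with
    | zero => simp
    | tmul a b => simp [U]
    | add a b ha hb => simp only [map_add, ha, hb]
  refine Algebra.FinitePresentation.equiv
    (A := Localization.Away g ⊗[R] (MvPolynomial (Fin n) R ⧸ I)) (AlgEquiv.ofBijective U ?_)
  rw [hU]
  exact baseChange_bijective_of_torsion _ hker fun c ↦ ⟨0, by
    obtain ⟨x, rfl⟩ := hu c; exact ⟨x, by simp⟩⟩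

/-- A finite module over a finite type algebra over a domain is finitely presented after inverting
an element. -/
theorem exists_finitePresentation_module' [IsReduced R] (S : Type u) [CommRing S] [Algebra R S]
    [Algebra.FiniteType R S] (M : Type u) [AddCommGroup M] [Module R M] [Module S M]
    [IsScalarTower R S M] [Module.Finite S M] (a : R) (ha : a ≠ 0) :
    ∃ f : R, f ≠ 0 ∧ a ∣ f ∧ ∀ g : R, f ∣ g →
      Module.FinitePresentation (Localization.Away (algebraMap R S g))
        (LocalizedModule (Submonoid.powers (algebraMap R S g)) M) := by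
  obtain ⟨n, π, hπ⟩ := Algebra.FiniteType.iff_quotient_mvPolynomial''.mp ‹Algebra.FiniteType R S›
  let _ : Module (MvPolynomial (Fin n) R) M := Module.compHom M π.toRingHom
  have hsm : ∀ (x : MvPolynomial (Fin n) R) (m : M), x • m = π x • m := fun _ _ ↦ rfl
  have : IsScalarTower R (MvPolynomial (Fin n) R) M := IsScalarTower.of_algebraMap_smul fun c m ↦ by
    rw [hsm, AlgHom.commutes, algebraMap_smul]
  obtain ⟨r, m, hm⟩ := Module.Finite.exists_fin (R := S) (M := M)
  obtain ⟨f, hf, haf, N, hN, hNker, htor⟩ :=
    exists_fg_sub_torsion (Fintype.linearCombination (MvPolynomial (Fin n) R) m) a ha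
  refine ⟨f, hf, haf, fun g hg ↦ ?_⟩
  obtain ⟨t, rfl⟩ := hN
  let γ : (Fin r → MvPolynomial (Fin n) R) → (Fin r → S) := fun x k ↦ π (x k)
  let q : (Fin r → S) →ₗ[S] M := Fintype.linearCombination S m
  have hqγ : ∀ x, q (γ x) = Fintype.linearCombination (MvPolynomial (Fin n) R) m x := fun x ↦ by
    simp [q, γ, Fintype.linearCombination_apply, hsm]
  let K : Submodule S (Fin r → S) := Submodule.span S (γ '' t)
  have hK : K ≤ LinearMap.ker q := Submodule.span_le.mpr <| by
    rintro _ ⟨x, hx, rfl⟩
    rw [SetLike.mem_coe, LinearMap.mem_ker, hqγ]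
    exact hNker (Submodule.subset_span hx)
  let qb : ((Fin r → S) ⧸ K) →ₗ[S] M := K.liftQ q hK
  have : Module.FinitePresentation S ((Fin r → S) ⧸ K) :=
    Module.finitePresentation_of_surjective K.mkQ K.mkQ_surjective
      (by rw [Submodule.ker_mkQ]; exact Submodule.fg_span (t.finite_toSet.image γ))
  let s := Submonoid.powers (algebraMap R S g)
  let G : ((Fin r → S) ⧸ K) →ₗ[S] LocalizedModule s M := LocalizedModule.mkLinearMap s M ∘ₗ qb
  have hmemγ : ∀ y ∈ Submodule.span (MvPolynomial (Fin n) R) (t : Set (Fin r → MvPolynomial (Fin n) R)),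
      γ y ∈ K := by
    intro y hy
    induction hy using Submodule.span_induction with
    | mem z hz => exact Submodule.subset_span ⟨z, hz, rfl⟩
    | zero => convert zero_mem K; funext k; simp [γ]
    | add a b _ _ ha hb => convert add_mem ha hb; funext k; simp [γ]
    | smul c a _ ha => convert K.smul_mem (π c) ha; funext k; simp [γ]
  have hqsurj : Function.Surjective q := by
    rw [← LinearMap.range_eq_top, Fintype.range_linearCombination, hm]
  have hkill : ∀ z, qb z = 0 → ∃ k : ℕ, (algebraMap R S g) ^ k • z = 0 := by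
    intro z hz
    obtain ⟨y, rfl⟩ := Submodule.Quotient.mk_surjective _ z
    choose x hx using fun k ↦ hπ (y k)
    have hy : y = γ x := funext fun k ↦ (hx k).symm
    subst hy
    obtain ⟨k, hk⟩ := htor x (by rw [← hqγ]; simpa [qb] using hz)
    obtain ⟨c, rfl⟩ := hg
    refine ⟨k, ?_⟩
    rw [← Submodule.Quotient.mk_smul, Submodule.Quotient.mk_eq_zero]
    have h1 : (algebraMap R S f) ^ k • γ x ∈ K := by
      convert hmemγ _ hk using 1
      funext i
      simp [γ, Algebra.smul_def]
    rw [map_mul, mul_comm, mul_pow, mul_smul]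
    exact K.smul_mem _ h1
  have : IsLocalizedModule s G :=
    { map_units := IsLocalizedModule.map_units (LocalizedModule.mkLinearMap s M)
      surj := fun y ↦ by
        obtain ⟨⟨a, b⟩, hab⟩ := IsLocalizedModule.surj s (LocalizedModule.mkLinearMap s M) y
        obtain ⟨z, rfl⟩ := hqsurj a
        exact ⟨⟨Submodule.Quotient.mk z, b⟩, hab⟩
      exists_of_eq := fun {x y} hxy ↦ by
        obtain ⟨c, hc⟩ := IsLocalizedModule.exists_of_eq (S := s)
          (f := LocalizedModule.mkLinearMap s M) hxy
        obtain ⟨k, hk⟩ := hkill ((c : S) • (x - y)) (by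
          rw [map_smul, map_sub, smul_sub, sub_eq_zero]; exact hc)
        refine ⟨⟨(algebraMap R S g) ^ k, k, rfl⟩ * c, ?_⟩
        rw [smul_sub, smul_sub, sub_eq_zero] at hk
        simpa [Submonoid.smul_def, mul_smul] using hk }
  exact FinitePresentation.of_isBaseChange G
    ((isLocalizedModule_iff_isBaseChange s (Localization.Away (algebraMap R S g)) G).mp this)

/-- The case of a domain. -/
theorem exists_finitePresentation_algebra [IsDomain R] (S : Type u) [CommRing S] [Algebra R S]
    [Algebra.FiniteType R S] : ∃ f : R, f ≠ 0 ∧ ∀ g : R, f ∣ g →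
      Algebra.FinitePresentation (Localization.Away g) (Localization.Away g ⊗[R] S) := by
  obtain ⟨f, hf, -, h⟩ := exists_finitePresentation_algebra' (R := R) S 1 one_ne_zero
  exact ⟨f, hf, h⟩

/-- The case of a domain. -/
theorem exists_finitePresentation_module [IsDomain R] (S : Type u) [CommRing S] [Algebra R S]
    [Algebra.FiniteType R S] (M : Type u) [AddCommGroup M] [Module R M] [Module S M]
    [IsScalarTower R S M] [Module.Finite S M] : ∃ f : R, f ≠ 0 ∧ ∀ g : R, f ∣ g →
      Module.FinitePresentation (Localization.Away (algebraMap R S g))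
        (LocalizedModule (Submonoid.powers (algebraMap R S g)) M) := by
  obtain ⟨f, hf, -, h⟩ := exists_finitePresentation_module' (R := R) S M 1 one_ne_zero
  exact ⟨f, hf, h⟩

end Groth.Agent.H7Flat
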