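import Groth.Agent.H7Flat.LineCocycle
import Groth.Prelude.Def_MoreMor
import Mathlib.Dynamics.Newton

/-!
# Powers of generators and roots of units along thickenings
-/

set_option autoImplicit false
set_option backward.isDefEq.respectTransparency false
set_option linter.style.haveILetI false

noncomputable section

universe u

open CategoryTheory CategoryTheory.Limits AlgebraicGeometry Opposite TopologicalSpace

namespace Groth.Agent.H7Flat.PowerRoot

open Groth.Agent.H11Tilde LineCocycle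

variable {X : Scheme.{u}}

theorem isGen_one (U : X.Opens) :
    IsGen (Coh.structureModule X) (V := U) (show Γ(Coh.structureModule X, U) from (1 : Γ(X, U))) := by
  refine isGen_of_bijective fun W hW => ?_
  have h : ∀ r : Γ(X, W), r • (Coh.structureModule X).presheaf.map (homOfLE hW).op
      (show Γ(Coh.structureModule X, U) from (1 : Γ(X, U))) = (show Γ(Coh.structureModule X, W) from r) := by
    intro r
    change r * rr hW (1 : Γ(X, U)) = r
    rw [map_one, mul_one]
  exact ⟨fun a b hab => (h a).symm.trans (hab.trans (h b)), fun t => ⟨t, h t⟩⟩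

/-- powers of a section -/
def pw (L : X.Modules) {U : X.Opens} (e : Γ(L, U)) : (m : ℕ) → Γ(CohB1.tensorPow L m, U)
  | 0 => show Γ(Coh.structureModule X, U) from (1 : Γ(X, U))
  | m + 1 => H11Ample.tm (pw L e m) e

theorem isGen_pw {L : X.Modules} {U : X.Opens} {e : Γ(L, U)} (he : IsGen L e) :
    ∀ m, IsGen (CohB1.tensorPow L m) (pw L e m)
  | 0 => isGen_one U
  | m + 1 => H11Ample.isGen_tm (isGen_pw he m) he

theorem pw_res (L : X.Modules) {U V : X.Opens} (h : V ≤ U) (e : Γ(L, U)) :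
    ∀ m, (CohB1.tensorPow L m).presheaf.map (homOfLE h).op (pw L e m) =
      pw L (L.presheaf.map (homOfLE h).op e) m
  | 0 => map_one (rr h)
  | m + 1 => (H11Ample.tm_res h (pw L e m) e).trans (by rw [pw_res L h e m]; rfl)

theorem pw_smul (L : X.Modules) {U : X.Opens} (c : Γ(X, U)) (e : Γ(L, U)) :
    ∀ m, pw L (c • e) m = c ^ m • pw L e m
  | 0 => by rw [pow_zero, one_smul]; rfl
  | m + 1 => by
    change H11Ample.tm (pw L (c • e) m) (c • e) = c ^ (m + 1) • H11Ample.tm (pw L e m) e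
    rw [pw_smul L c e m, H11Ample.tm_smul_left, H11Ample.tm_smul_right, smul_smul, ← pow_succ]

/-- a coefficient between two generators is a unit -/
theorem isUnit_coeff {M : X.Modules} {T : X.Opens} {e e' : Γ(M, T)} (he : IsGen M e) (he' : IsGen M e')
    {c : Γ(X, T)} (h : e' = c • e) : IsUnit c := by
  refine X.toRingedSpace.isUnit_of_isUnit_germ T c fun y hy => ?_
  refine isUnit_of_bijective_smul he hy ?_
  have h' := (he' y hy).2
  rw [h, H06Mod.germ_smul] at h'
  exact h'

/-- unique `n`-th roots along a surjection with nil kernel -/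
theorem existsUnique_root {R S : Type u} [CommRing R] [CommRing S] (π : R →+* S)
    (hπ : Function.Surjective π) (hnil : ∀ x, π x = 0 → IsNilpotent x) (n : ℕ) (hn : 0 < n)
    (hnS : IsUnit (n : S)) (w : R) (hw : IsUnit w) (g : S) (hg : g ^ n = π w) :
    ∃! r : R, r ^ n = w ∧ π r = g := by
  have hunit : ∀ x : R, IsUnit (π x) → IsUnit x := by
    intro x hx
    obtain ⟨y, hy⟩ := hπ ↑hx.unit⁻¹
    have : IsNilpotent (x * y - 1) := hnil _ (by rw [map_sub, map_mul, map_one, hy, IsUnit.mul_val_inv, sub_self])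
    have h2 : IsUnit (x * y) := by
      have := this.isUnit_add_one
      rwa [sub_add_cancel] at this
    exact isUnit_of_mul_isUnit_left h2
  obtain ⟨x₀, hx₀⟩ := hπ g
  have hgu : IsUnit g := (isUnit_pow_iff hn.ne').1 (hg ▸ hw.map π)
  let P : Polynomial R := Polynomial.X ^ n - Polynomial.C w
  have hP : ∀ r : R, Polynomial.aeval r P = r ^ n - w := fun r => by simp [P]
  have h1 : IsNilpotent (Polynomial.aeval x₀ P) := hnil _ (by rw [hP, map_sub, map_pow, hx₀, hg, sub_self])
  have h2 : IsUnit (Polynomial.aeval x₀ (Polynomial.derivative P)) := by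
    apply hunit
    simp only [P, Polynomial.derivative_sub, Polynomial.derivative_X_pow, Polynomial.derivative_C, sub_zero,
      map_mul, map_natCast, Polynomial.aeval_C, Algebra.algebraMap_self, RingHom.id_apply, map_pow,
      Polynomial.aeval_X, hx₀]
    exact hnS.mul (hgu.pow _)
  obtain ⟨r, ⟨hr₁, hr₂⟩, huniq⟩ := Polynomial.existsUnique_nilpotent_sub_and_aeval_eq_zero h1 h2
  rw [hP, sub_eq_zero] at hr₂
  -- `π r = g`
  refine ⟨r, ⟨hr₂, ?_⟩, fun y hy => huniq y ⟨hnil _ (by rw [map_sub, hx₀, hy.2, sub_self]), by rw [hP, hy.1, sub_self]⟩⟩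
  have hnilS : IsNilpotent (g - π r) := by
    have := hr₁.map π; rwa [map_sub, hx₀] at this
  have hu := Polynomial.existsUnique_nilpotent_sub_and_aeval_eq_zero (R := S) (S := S) (x := g)
    (P := Polynomial.X ^ n - Polynomial.C (π w)) (by simp [hg])
    (by
      simp only [Polynomial.derivative_sub, Polynomial.derivative_X_pow, Polynomial.derivative_C, sub_zero,
        map_mul, map_natCast, Polynomial.aeval_C, Algebra.algebraMap_self, RingHom.id_apply, map_pow,
        Polynomial.aeval_X]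
      exact hnS.mul (hgu.pow _))
  exact hu.unique ⟨hnilS, by simp [← map_pow, hr₂]⟩ ⟨by simp, by simp [hg]⟩

section thickening

variable {X' : Scheme.{u}} (i : X ⟶ X') (hi : MoreMor.IsThickening i)

theorem app_rr {U T : X'.Opens} (h : T ≤ U) (x : Γ(X', U)) :
    (i.app T).hom (rr h x) = rr (i.preimage_mono h) ((i.app U).hom x) :=
  congr($(i.naturality (homOfLE h).op) x)

include hi in
theorem isNilpotent_of_app_eq_zero {T : X'.Opens} (hT : IsAffineOpen T) (x : Γ(X', T))
    (hx : (i.app T).hom x = 0) : IsNilpotent x := by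
  rw [Scheme.isNilpotent_iff_basicOpen_eq_bot_of_isCompact hT.isCompact]
  have hpre : i ⁻¹ᵁ X'.basicOpen x = ⊥ := by
    rw [Scheme.preimage_basicOpen]
    change X.basicOpen ((i.app T).hom x) = ⊥
    rw [hx, Scheme.basicOpen_zero]
  ext y
  refine ⟨fun hy => ?_, fun hy => hy.elim⟩
  haveI := hi.2
  obtain ⟨z, rfl⟩ := i.surjective y
  have : z ∈ i ⁻¹ᵁ X'.basicOpen x := hy
  rw [hpre] at this
  exact this

include hi in
theorem existsUnique_root_affine (n : ℕ) (hn : 0 < n) (hu : IsUnit (n : Γ(X, ⊤))) {T : X'.Opens}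
    (hT : IsAffineOpen T) (w : Γ(X', T)) (hw : IsUnit w) (g : Γ(X, i ⁻¹ᵁ T))
    (hg : g ^ n = (i.app T).hom w) : ∃! r : Γ(X', T), r ^ n = w ∧ (i.app T).hom r = g := by
  haveI := hi.1
  refine existsUnique_root (i.app T).hom (i.app_surjective T hT)
    (fun x hx => isNilpotent_of_app_eq_zero i hi hT x hx) n hn ?_ w hw g hg
  have := hu.map (rr (le_top : i ⁻¹ᵁ T ≤ ⊤))
  rwa [map_natCast] at this

theorem exists_affine_le {O : X'.Opens} {x : X'} (hx : x ∈ O) :
    ∃ T : {T : X'.Opens // IsAffineOpen T ∧ T ≤ O}, x ∈ T.1 := by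
  obtain ⟨T, hT, hxT, hTO⟩ := exists_isAffineOpen_mem_and_subset hx
  exact ⟨⟨T, hT, hTO⟩, hxT⟩

include hi in
theorem root_unique (n : ℕ) (hn : 0 < n) (hu : IsUnit (n : Γ(X, ⊤))) {O : X'.Opens} (r r' : Γ(X', O))
    (hr : IsUnit r) (hpow : r ^ n = r' ^ n) (happ : (i.app O).hom r = (i.app O).hom r') : r = r' := by
  refine rr_locally _ _ fun x hx => ?_
  obtain ⟨⟨T, hT, hTO⟩, hxT⟩ := exists_affine_le hx
  refine ⟨T, hTO, hxT, ?_⟩
  refine (existsUnique_root_affine i hi n hn hu hT (rr hTO (r ^ n)) ((hr.pow n).map _)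
    ((i.app T).hom (rr hTO r)) (by rw [map_pow, map_pow])).unique ⟨(map_pow _ _ _).symm, rfl⟩
    ⟨by rw [← map_pow, hpow], by rw [app_rr i hTO, app_rr i hTO, happ]⟩

include hi in
theorem exists_root (n : ℕ) (hn : 0 < n) (hu : IsUnit (n : Γ(X, ⊤))) {O : X'.Opens} (w : Γ(X', O))
    (hw : IsUnit w) (g : Γ(X, i ⁻¹ᵁ O)) (hg : g ^ n = (i.app O).hom w) :
    ∃ r : Γ(X', O), IsUnit r ∧ r ^ n = w ∧ (i.app O).hom r = g := by
  let ι := {T : X'.Opens // IsAffineOpen T ∧ T ≤ O}
  have hex : ∀ T : ι, ∃! r : Γ(X', T.1), r ^ n = rr T.2.2 w ∧ (i.app T.1).hom r = rr (i.preimage_mono T.2.2) g :=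
    fun T => existsUnique_root_affine i hi n hn hu T.2.1 _ (hw.map _) _ (by rw [← map_pow, hg, app_rr i T.2.2])
  choose r hr hruniq using fun T => hex T
  have hunit : ∀ T : ι, IsUnit (r T) := fun T => (isUnit_pow_iff hn.ne').1 ((hr T).1 ▸ hw.map _)
  obtain ⟨s, hs, -⟩ := TopCat.Sheaf.existsUnique_gluing' X'.sheaf (fun T : ι => T.1) O (fun T => homOfLE T.2.2)
    (fun x hx => by
      obtain ⟨T, hxT⟩ := exists_affine_le (O := O) hx
      exact Opens.mem_iSup.2 ⟨T, hxT⟩) r (fun T T' => by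
      refine root_unique i hi n hn hu _ _ ((hunit T).map (rr inf_le_left)) ?_ ?_
      · change rr inf_le_left (r T) ^ n = rr inf_le_right (r T') ^ n
        rw [← map_pow, ← map_pow, (hr T).1, (hr T').1, rr_rr, rr_rr]
      · change (i.app _).hom (rr inf_le_left (r T)) = (i.app _).hom (rr inf_le_right (r T'))
        rw [app_rr, app_rr, (hr T).2, (hr T').2, rr_rr, rr_rr])
  have hs' : ∀ T : ι, rr T.2.2 s = r T := fun T => hs T
  have hpow : s ^ n = w := by
    refine rr_locally _ _ fun x hx => ?_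
    obtain ⟨T, hxT⟩ := exists_affine_le hx
    exact ⟨T.1, T.2.2, hxT, by rw [map_pow, hs' T, (hr T).1]⟩
  refine ⟨s, (isUnit_pow_iff hn.ne').1 (hpow ▸ hw), hpow, ?_⟩
  refine rr_locally _ _ fun z hz => ?_
  obtain ⟨T, hxT⟩ := exists_affine_le (show i.base z ∈ O from hz)
  exact ⟨i ⁻¹ᵁ T.1, i.preimage_mono T.2.2, hxT, by rw [← app_rr i T.2.2, hs' T, (hr T).2]⟩

end thickening

end Groth.Agent.H7Flat.PowerRoot
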