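import Groth.Agent.H7Flat.FiniteFlatStage

/-!
Finite modules over henselizations of polynomial rings over a henselian local ring which are flat over
the base are finitely presented.
-/

set_option autoImplicit false
universe u

namespace Groth.Agent.H7Flat.FiniteFlatFP

open TensorProduct IsLocalRing MvPolynomial

set_option backward.isDefEq.respectTransparency false
set_option maxHeartbeats 1000000
set_option synthInstance.maxHeartbeats 400000

/-- A module finitely presented over a ring below a finite algebra is finitely presented over it. -/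
theorem fp_of_finite {S' S M : Type u} [CommRing S'] [CommRing S] [Algebra S' S] [Module.Finite S' S]
    [AddCommGroup M] [Module S' M] [Module S M] [IsScalarTower S' S M]
    [Module.FinitePresentation S' M] : Module.FinitePresentation S M := by
  have : Module.Finite S M := Module.Finite.of_restrictScalars_finite S' S M
  obtain ⟨n, f, hf⟩ := Module.Finite.exists_fin' S M
  have : Module.Finite S' (Fin n → S) := inferInstance
  have h := Module.FinitePresentation.fg_ker (f.restrictScalars S') hf
  rw [LinearMap.ker_restrictScalars] at h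
  exact Module.finitePresentation_of_surjective f hf (Submodule.FG.of_restrictScalars S' h)

/-- A module killed by `c`, finitely presented over a ring over which `L/(c)` is finite. -/
theorem fp_of_quotient {S' L G : Type u} [CommRing S'] [CommRing L] [Algebra S' L] (c : L)
    [Module.Finite S' (L ⧸ Ideal.span {c})] [AddCommGroup G] [Module L G] [Module.Finite L G]
    [Module S' G] [IsScalarTower S' L G] (hc : ∀ g : G, c • g = 0)
    (h : ∀ [Module.Finite S' G], Module.FinitePresentation S' G) : Module.FinitePresentation L G := by
  let Lb := L ⧸ Ideal.span {c}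
  have htor : Module.IsTorsionBySet L G (Ideal.span {c} : Set L) := fun x ⟨a, ha⟩ => by
    obtain ⟨b, rfl⟩ := Ideal.mem_span_singleton'.mp ha
    change (b * c) • x = 0
    rw [mul_smul, hc, smul_zero]
  let : Module Lb G := htor.module
  have : IsScalarTower L Lb G := htor.isScalarTower
  have : IsScalarTower S' Lb G := htor.isScalarTower
  have : Module.Finite Lb G := Module.Finite.of_restrictScalars_finite L Lb G
  have : Module.Finite S' G := Module.Finite.trans Lb G
  have := h
  have : Module.FinitePresentation Lb G := fp_of_finite (S' := S')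
  have : Module.FinitePresentation L Lb := Module.finitePresentation_of_surjective
    (Submodule.mkQ (Ideal.span {c})) (Submodule.mkQ_surjective _)
    (by rw [Submodule.ker_mkQ]; exact ⟨{c}, by rw [Finset.coe_singleton]⟩)
  exact Module.FinitePresentation.trans L G Lb

/-- Elements of `(c) + mL` lie in the maximal ideal. -/
theorem closedFibre_le {R : Type u} [CommRing R] [IsLocalRing R] {n : ℕ}
    (y : Ideal (MvPolynomial (Fin n) R)) [y.IsPrime] (hy : y.comap C = maximalIdeal R)
    (L : Type u) [CommRing L] [IsLocalRing L] [Algebra (Localization.AtPrime y) L]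
    [IsLocalHom (algebraMap (Localization.AtPrime y) L)]
    [Algebra (MvPolynomial (Fin n) R) L]
    [IsScalarTower (MvPolynomial (Fin n) R) (Localization.AtPrime y) L]
    [Algebra R L] [IsScalarTower R (MvPolynomial (Fin n) R) L] (c : L) (hc : ¬ IsUnit c) :
    Ideal.span {c} ⊔ (maximalIdeal R).map (algebraMap R L) ≤ maximalIdeal L := by
  refine sup_le ?_ ?_
  · rw [Ideal.span_le, Set.singleton_subset_iff]
    exact hc
  · rw [Ideal.map_le_iff_le_comap, IsScalarTower.algebraMap_eq R (MvPolynomial (Fin n) R) L,
      ← Ideal.comap_comap, IsScalarTower.algebraMap_eq (MvPolynomial (Fin n) R) (Localization.AtPrime y) L,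
      ← Ideal.comap_comap, IsLocalRing.maximalIdeal_comap,
      show (maximalIdeal (Localization.AtPrime y)).comap (algebraMap (MvPolynomial (Fin n) R) _) = y from
        IsLocalization.AtPrime.under_maximalIdeal (Localization.AtPrime y) y,
      MvPolynomial.algebraMap_eq, hy]

/-- A map from a henselization to a local ring under which the structure map is local is local. -/
theorem isLocalHom_of_comp_henselization {W L' T : Type u} [CommRing W] [IsLocalRing W] [CommRing L']
    [IsLocalRing L'] [CommRing T] [IsLocalRing T] [Algebra W L'] [IsLocalHom (algebraMap W L')]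
    [Hensel.IsHenselization W L'] (h : L' →+* T) (hh : IsLocalHom (h.comp (algebraMap W L'))) :
    IsLocalHom h := by
  obtain ⟨π, hπ⟩ := H9Hens.exists_isPtColim_of_isHenselization (R := W) L'
  refine ⟨fun x hx => ?_⟩
  by_contra hxu
  refine (mem_maximalIdeal _).mp ?_ hx
  have hle : maximalIdeal L' ≤ (maximalIdeal T).comap h := by
    rw [← hπ.map_maximalIdeal H9Hens.ker_algebraMap_residueField, Ideal.map_le_iff_le_comap,
      Ideal.comap_comap, IsLocalRing.maximalIdeal_comap (h.comp (algebraMap W L'))]
  exact hle ((mem_maximalIdeal _).mpr hxu)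

/-- The reduction to a module killed by an element outside the generic point of the closed fibre. -/
theorem reduce {R : Type u} [CommRing R] [HenselianLocalRing R] {n : ℕ}
    (y : Ideal (MvPolynomial (Fin n) R)) [y.IsPrime] (hy : y.comap C = maximalIdeal R)
    (L : Type u) [CommRing L] [IsLocalRing L] [Algebra (Localization.AtPrime y) L]
    [IsLocalHom (algebraMap (Localization.AtPrime y) L)]
    [Hensel.IsHenselization (Localization.AtPrime y) L]
    [Algebra (MvPolynomial (Fin n) R) L]
    [IsScalarTower (MvPolynomial (Fin n) R) (Localization.AtPrime y) L]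
    [Algebra R L] [IsScalarTower R (MvPolynomial (Fin n) R) L]
    (H : ∀ (G : Type u) [AddCommGroup G] [Module L G] [Module R G] [IsScalarTower R L G]
      [Module.Finite L G] [Module.Flat R G],
      ∀ c : L, c ∉ (maximalIdeal R).map (algebraMap R L) → ¬ IsUnit c → (∀ g : G, c • g = 0) →
        Module.FinitePresentation L G)
    (G : Type u) [AddCommGroup G] [Module L G] [Module R G] [IsScalarTower R L G] [Module.Finite L G]
    [Module.Flat R G] : Module.FinitePresentation L G := by
  obtain ⟨hprime, -, -⟩ := HenselClosedFibre.closedFibre y hy L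
  let 𝔭 := (maximalIdeal R).map (algebraMap R L)
  have : 𝔭.IsPrime := hprime
  obtain ⟨r, e, hind, hspan⟩ := FlatUnivInjHens.exists_fibre_basis (G := G) 𝔭
  let u := Fintype.linearCombination L e
  have huniv : ∀ (Q : Type u) [AddCommGroup Q] [Module R Q],
      Function.Injective ((u.restrictScalars R).lTensor Q) := fun Q _ _ =>
    FlatUnivInjHens.univInj y hy L e hind Q
  have hu : Function.Injective u := fun v w hvw => by
    have h2 : (1 : R) ⊗ₜ[R] v = (1 : R) ⊗ₜ[R] w := huniv R (by
      rw [LinearMap.lTensor_tmul, LinearMap.lTensor_tmul, LinearMap.restrictScalars_apply,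
        LinearMap.restrictScalars_apply, hvw])
    simpa using congrArg (TensorProduct.lid R (Fin r → L)) h2
  let G₁ := G ⧸ LinearMap.range u
  have hflat : Module.Flat R G₁ := by
    have := HenselianFlatSpec.flat_coker_of_univInj (u.restrictScalars R) huniv
    exact Module.Flat.of_linearEquiv ((Submodule.quotEquivOfEq _ _
      (LinearMap.range_restrictScalars u)).trans
      (Submodule.Quotient.restrictScalarsEquiv R (LinearMap.range u))).symm
  have hmem : ∀ g : G₁, ∃ c ∉ 𝔭, c • g ∈ 𝔭 • (⊤ : Submodule L G₁) := by
    intro g
    obtain ⟨g, rfl⟩ := Submodule.Quotient.mk_surjective _ g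
    obtain ⟨c, hc, hcg⟩ := hspan g
    obtain ⟨v, hv, w, hw, hvw⟩ := Submodule.mem_sup.mp hcg
    refine ⟨c, hc, ?_⟩
    have hv0 : (LinearMap.range u).mkQ v = 0 := by
      rw [Submodule.mkQ_apply, Submodule.Quotient.mk_eq_zero]
      rw [show LinearMap.range u = Submodule.span L (Set.range e) from
        Fintype.range_linearCombination L e]
      exact hv
    have hw' := Submodule.mem_map_of_mem (f := (LinearMap.range u).mkQ) hw
    rw [Submodule.map_smul''] at hw'
    have h3 : c • Submodule.Quotient.mk g = (LinearMap.range u).mkQ w := by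
      rw [← Submodule.Quotient.mk_smul, ← hvw, ← Submodule.mkQ_apply, map_add, hv0, zero_add]
    rw [h3]
    exact Submodule.smul_mono le_rfl le_top hw'
  obtain ⟨c, hc, hcG⟩ := FlatUnivInjHens.exists_notMem_annihilator 𝔭 hmem
  have : Module.FinitePresentation L G₁ := by
    by_cases hcu : IsUnit c
    · have : Subsingleton G₁ := subsingleton_of_forall_eq 0 fun g => hcu.smul_eq_zero.mp (hcG g)
      infer_instance
    · exact H G₁ c hc hcu hcG
  have : Module.FinitePresentation L (LinearMap.ker (LinearMap.range u).mkQ) :=
    Module.FinitePresentation.of_equiv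
      ((LinearEquiv.ofInjective u hu).trans (LinearEquiv.ofEq _ _ (Submodule.ker_mkQ _).symm))
  exact Module.finitePresentation_of_ker (LinearMap.range u).mkQ (Submodule.mkQ_surjective _)

/-- Finite flat modules over henselizations of polynomial rings are finitely presented. -/
theorem fp_of_flat {R : Type u} [CommRing R] [HenselianLocalRing R] : ∀ (s : ℕ)
    (y : Ideal (MvPolynomial (Fin s) R)) [y.IsPrime] (_ : y.comap C = maximalIdeal R)
    (L : Type u) [CommRing L] [IsLocalRing L] [Algebra (Localization.AtPrime y) L]
    [IsLocalHom (algebraMap (Localization.AtPrime y) L)]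
    [Hensel.IsHenselization (Localization.AtPrime y) L]
    [Algebra (MvPolynomial (Fin s) R) L]
    [IsScalarTower (MvPolynomial (Fin s) R) (Localization.AtPrime y) L]
    [Algebra R L] [IsScalarTower R (MvPolynomial (Fin s) R) L]
    (G : Type u) [AddCommGroup G] [Module L G] [Module R G] [IsScalarTower R L G] [Module.Finite L G]
    [Module.Flat R G], Module.FinitePresentation L G := by
  intro s
  induction s with
  | zero =>
    intro y _ hy L _ _ _ _ _ _ _ _ _ G _ _ _ _ _ _
    refine reduce y hy L (fun G₁ _ _ _ _ _ _ c hc hcu _ => ?_) G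
    exfalso
    obtain ⟨-, -, hdvd⟩ := HenselClosedFibre.closedFibre y hy L
    obtain ⟨a, ha, hac⟩ := hdvd c hc
    obtain ⟨a, rfl⟩ := C_surjective (R := R) (Fin 0) a
    have hu : IsUnit (algebraMap (MvPolynomial (Fin 0) R) L (C a)) :=
      ((IsLocalRing.notMem_maximalIdeal.mp fun h => ha (Ideal.mem_map_of_mem _ h)).map C).map _
    exact (mem_maximalIdeal _).mp (closedFibre_le y hy L c hcu hac) hu
  | succ t ih =>
    intro y _ hy L _ _ _ _ _ _ _ _ _ G _ _ _ _ _ _
    refine reduce y hy L (fun G₁ _ _ _ _ _ _ c hc hcu hcG => ?_) G
    obtain ⟨-, -, hdvd⟩ := HenselClosedFibre.closedFibre y hy L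
    obtain ⟨a, ha, hac⟩ := hdvd c hc
    obtain ⟨θ, hθ⟩ := FiniteFlatStage.exists_noether a ha
    let Pl := MvPolynomial (Fin (t + 1)) R
    let Pl' := MvPolynomial (Fin t) R
    let θm : Pl' →ₐ[R] Pl := MvPolynomial.aeval θ
    let : Algebra Pl' Pl := θm.toRingHom.toAlgebra
    have : IsScalarTower R Pl' Pl := IsScalarTower.of_algebraMap_eq fun r => (θm.commutes r).symm
    have : Algebra.FiniteType Pl' Pl := Algebra.FiniteType.of_restrictScalars_finiteType R Pl' Pl
    let I : Ideal Pl := Ideal.span {a} ⊔ (maximalIdeal R).map C
    have : Algebra.IsIntegral Pl' (Pl ⧸ I) := ⟨hθ⟩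
    have : Algebra.FiniteType Pl' (Pl ⧸ I) := Algebra.FiniteType.trans
      (inferInstance : Algebra.FiniteType Pl' Pl) inferInstance
    have : Module.Finite Pl' (Pl ⧸ I) := Algebra.IsIntegral.finite
    let y' : Ideal Pl' := y.under Pl'
    have hy' : y'.comap C = maximalIdeal R := by
      change (y.comap (algebraMap Pl' Pl)).comap (algebraMap R Pl') = _
      rw [Ideal.comap_comap, ← IsScalarTower.algebraMap_eq R Pl' Pl]
      exact hy
    obtain ⟨L', _, _, _, _, -, -, hL'⟩ := H9Hens.exists_isHenselization_colim (Localization.AtPrime y')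
    have := hL'.henselian
    have hLh := (inferInstance : Hensel.IsHenselization (Localization.AtPrime y) L).henselian
    let : Algebra Pl' L' :=
      ((algebraMap (Localization.AtPrime y') L').comp (algebraMap Pl' _)).toAlgebra
    have : IsScalarTower Pl' (Localization.AtPrime y') L' :=
      IsScalarTower.of_algebraMap_eq fun _ => rfl
    let : Algebra R L' := ((algebraMap Pl' L').comp (algebraMap R Pl')).toAlgebra
    have : IsScalarTower R Pl' L' := IsScalarTower.of_algebraMap_eq fun _ => rfl
    let : Algebra Pl' L := ((algebraMap Pl L).comp (algebraMap Pl' Pl)).toAlgebra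
    have : IsScalarTower Pl' Pl L := IsScalarTower.of_algebraMap_eq fun _ => rfl
    let φW : Localization.AtPrime y →+* L := algebraMap _ L
    let f : Localization.AtPrime y' →+* L :=
      φW.comp (Localization.localRingHom y' y (algebraMap Pl' Pl) rfl)
    have : IsLocalHom (Localization.localRingHom y' y (algebraMap Pl' Pl) rfl) :=
      Localization.isLocalHom_localRingHom _ _ _ _
    have hf : IsLocalHom f := RingHom.isLocalHom_comp _ _
    obtain ⟨h₀, hh₀, -⟩ := hL'.universal L f hf
    have hh₀l : IsLocalHom h₀ := isLocalHom_of_comp_henselization h₀ (by rw [hh₀]; exact hf)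
    let : Algebra L' L := h₀.toAlgebra
    have : IsLocalHom (algebraMap L' L) := hh₀l
    have : IsScalarTower Pl' L' L := IsScalarTower.of_algebraMap_eq fun x => by
      refine Eq.symm ((RingHom.congr_fun hh₀ (algebraMap Pl' _ x)).trans ?_)
      change φW (Localization.localRingHom y' y (algebraMap Pl' Pl) rfl (algebraMap Pl' _ x)) = _
      rw [Localization.localRingHom_to_map]
      exact (IsScalarTower.algebraMap_apply Pl (Localization.AtPrime y) L _).symm
    have : IsScalarTower R Pl' L := IsScalarTower.of_algebraMap_eq fun r => by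
      rw [IsScalarTower.algebraMap_apply R Pl L, IsScalarTower.algebraMap_apply R Pl' Pl]
      rfl
    have : IsScalarTower R L' L := IsScalarTower.of_algebraMap_eq fun r => by
      rw [IsScalarTower.algebraMap_apply R Pl' L', ← IsScalarTower.algebraMap_apply Pl' L' L,
        ← IsScalarTower.algebraMap_apply R Pl' L]
    obtain ⟨A, _, _, _, ψ, cA, hcA, haA⟩ :=
      FiniteFlatStage.exists_stage y L (maximalIdeal R) c a hac
    have hI : I.map (algebraMap Pl A) ≤
        Ideal.span {cA} ⊔ (y.under Pl').map ((algebraMap Pl A).comp (algebraMap Pl' Pl)) := by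
      have hm : (maximalIdeal R).map ((algebraMap Pl A).comp (algebraMap R Pl)) ≤
          (y.under Pl').map ((algebraMap Pl A).comp (algebraMap Pl' Pl)) := by
        rw [IsScalarTower.algebraMap_eq R Pl' Pl, ← RingHom.comp_assoc,
          ← Ideal.map_map (algebraMap R Pl')]
        refine Ideal.map_mono (Ideal.map_le_iff_le_comap.mpr ?_)
        exact hy'.ge
      rw [Ideal.map_sup, Ideal.map_span, Set.image_singleton, Ideal.map_map, ← MvPolynomial.algebraMap_eq]
      refine sup_le ?_ (hm.trans le_sup_right)
      rw [Ideal.span_le, Set.singleton_subset_iff]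
      exact sup_le_sup_left hm _ haA
    have hfin : Module.Finite L' (L ⧸ Ideal.span {c}) := by
      rw [← hcA]
      exact FiniteFlatStage.finite_quotient y L L' A ψ cA (by rw [hcA]; exact hcu) I hI
    let : Module L' G₁ := Module.compHom G₁ h₀
    have : IsScalarTower L' L G₁ := IsScalarTower.of_algebraMap_smul fun _ _ => rfl
    have : IsScalarTower R L' G₁ := IsScalarTower.of_algebraMap_smul fun r g => by
      change algebraMap L' L (algebraMap R L' r) • g = r • g
      rw [← IsScalarTower.algebraMap_apply R L' L, algebraMap_smul]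
    exact fp_of_quotient c hcG fun [Module.Finite L' G₁] => ih y' hy' L' G₁

end Groth.Agent.H7Flat.FiniteFlatFP
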