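import Groth.Agent.H7Flat.FlatSpread
import Groth.Prelude.Def_FlatCA

/-!
Spreading out flatness for finite modules over algebras of finite type.
-/

set_option autoImplicit false
universe u

namespace Groth.Agent.H7Flat.FlatSpreadFT

set_option backward.isDefEq.respectTransparency false
set_option maxHeartbeats 400000

/-- A localization over a quotient ring is one over the ring. -/
theorem isLocalizedModule_of_surjective {P S N X : Type u} [CommRing P] [CommRing S] [Algebra P S]
    [AddCommGroup N] [Module S N] [Module P N] [IsScalarTower P S N] [AddCommGroup X] [Module S X]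
    [Module P X] [IsScalarTower P S X] (T : Submonoid P) (T' : Submonoid S)
    (hT : T.map (algebraMap P S) = T') (ι : N →ₗ[S] X) [IsLocalizedModule T' ι] :
    IsLocalizedModule T (ι.restrictScalars P) := by
  refine ⟨fun t => ?_, fun y => ?_, fun {x₁ x₂} h => ?_⟩
  · rw [Module.End.isUnit_iff]
    have h := (Module.End.isUnit_iff _).mp (IsLocalizedModule.map_units ι
      (⟨algebraMap P S t, hT ▸ Submonoid.mem_map_of_mem _ t.2⟩ : T'))
    convert h using 1
    funext y
    exact (algebraMap_smul S (t : P) y).symm
  · obtain ⟨⟨x, ⟨w, hw⟩⟩, hx⟩ := IsLocalizedModule.surj T' ι y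
    obtain ⟨t, ht, rfl⟩ := hT.ge hw
    exact ⟨(x, ⟨t, ht⟩), (algebraMap_smul S t y).symm.trans hx⟩
  · obtain ⟨⟨w, hw⟩, hx⟩ := (IsLocalizedModule.eq_iff_exists T' ι).mp h
    obtain ⟨t, ht, rfl⟩ := hT.ge hw
    exact ⟨⟨t, ht⟩, (algebraMap_smul S t x₁).symm.trans (hx.trans (algebraMap_smul S t x₂))⟩

theorem primeCompl_map {P S : Type u} [CommRing P] [CommRing S] [Algebra P S]
    (hsurj : Function.Surjective (algebraMap P S)) (q : Ideal S) [q.IsPrime] :
    (q.comap (algebraMap P S)).primeCompl.map (algebraMap P S) = q.primeCompl := by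
  ext y
  refine ⟨fun ⟨t, ht, hty⟩ => hty ▸ ht, fun hy => ?_⟩
  obtain ⟨t, rfl⟩ := hsurj y
  exact ⟨t, hy, rfl⟩

/-- Over a ring with finitely many weakly associated primes, flatness at a prime spreads to a
principal open, where the module is relatively finitely presented. -/
theorem exists_away {R P S : Type u} [CommRing R] [CommRing P] [CommRing S] [Algebra R P] [Algebra R S]
    [Algebra P S] [IsScalarTower R P S] [Algebra.FinitePresentation R P]
    (hsurj : Function.Surjective (algebraMap P S)) (hR : (FlatCA.weakAss R R).Finite)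
    (N : Type u) [AddCommGroup N] [Module S N] [Module R N] [IsScalarTower R S N] [Module.Finite S N]
    (q : Ideal S) [q.IsPrime] (hflat : FlatCA.FlatAt R q N) :
    ∃ g : S, g ∉ q ∧ Module.Flat R (LocalizedModule (Submonoid.powers g) N) ∧
      ∀ (L X : Type u) [CommRing L] [Algebra S L] [Algebra R L] [IsScalarTower R S L]
        [IsLocalization.Away g L] [AddCommGroup X] [Module S X] [Module L X] [IsScalarTower S L X]
        (ι : N →ₗ[S] X) [IsLocalizedModule (Submonoid.powers g) ι],
        ∃ (n : ℕ) (φ : MvPolynomial (Fin n) R →ₐ[R] L), Function.Surjective φ ∧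
          letI : Module (MvPolynomial (Fin n) R) X := Module.compHom X φ.toRingHom
          Module.FinitePresentation (MvPolynomial (Fin n) R) X := by
  let : Module P N := Module.compHom N (algebraMap P S)
  have : IsScalarTower P S N := IsScalarTower.of_algebraMap_smul fun _ _ => rfl
  have : IsScalarTower R P N := IsScalarTower.of_algebraMap_smul fun r x => by
    change algebraMap P S (algebraMap R P r) • x = r • x
    rw [← IsScalarTower.algebraMap_apply, algebraMap_smul]
  have : Module.Finite P S := Module.Finite.of_surjective (Algebra.linearMap P S) hsurj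
  have : Module.Finite P N := Module.Finite.trans S N
  let q' := q.comap (algebraMap P S)
  have hflat' : FlatCA.FlatAt R q' N := by
    let ι := LocalizedModule.mkLinearMap q.primeCompl N
    have := isLocalizedModule_of_surjective q'.primeCompl q.primeCompl (primeCompl_map hsurj q) ι
    have : Module.Flat R (LocalizedModule q.primeCompl N) := hflat
    exact Module.Flat.of_linearEquiv
      ((IsLocalizedModule.iso q'.primeCompl (ι.restrictScalars P)).restrictScalars R)
  obtain ⟨h, hh, hfp, hfl⟩ := FlatSpread.exists_flat_fp_away hR N q' hflat'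
  let g := algebraMap P S h
  have hmap : (Submonoid.powers h).map (algebraMap P S) = Submonoid.powers g :=
    Submonoid.map_powers _ h
  refine ⟨g, hh, ?_, ?_⟩
  · let ι := LocalizedModule.mkLinearMap (Submonoid.powers g) N
    have := isLocalizedModule_of_surjective (Submonoid.powers h) (Submonoid.powers g) hmap ι
    exact Module.Flat.of_linearEquiv
      ((IsLocalizedModule.iso (Submonoid.powers h) (ι.restrictScalars P)).restrictScalars R).symm
  intro L X _ _ _ _ _ _ _ _ _ ι _
  let Ph := Localization.Away h
  have : Algebra.FinitePresentation P Ph := IsLocalization.Away.finitePresentation h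
  have : Algebra.FinitePresentation R Ph := Algebra.FinitePresentation.trans R P Ph
  let ψ : Ph →+* L := IsLocalization.Away.lift (g := (algebraMap S L).comp (algebraMap P S)) h
    (IsLocalization.Away.algebraMap_isUnit (S := L) g)
  have hψ : ∀ p, ψ (algebraMap P Ph p) = algebraMap S L (algebraMap P S p) := fun p =>
    IsLocalization.Away.lift_eq h _ p
  have hψs : Function.Surjective ψ := by
    intro l
    obtain ⟨⟨s, ⟨_, k, rfl⟩⟩, hls⟩ := IsLocalization.surj (Submonoid.powers g) l
    obtain ⟨p, rfl⟩ := hsurj s
    refine ⟨IsLocalization.mk' Ph p (⟨h ^ k, k, rfl⟩ : Submonoid.powers h), ?_⟩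
    have hu : IsUnit (algebraMap S L (g ^ k)) := by
      rw [map_pow]; exact (IsLocalization.Away.algebraMap_isUnit (S := L) g).pow k
    refine hu.mul_left_injective ?_
    change ψ _ * algebraMap S L (g ^ k) = l * algebraMap S L (g ^ k)
    rw [hls, ← map_pow (algebraMap P S) h k, ← hψ, ← map_mul, IsLocalization.mk'_spec, hψ]
  let : Module P X := Module.compHom X (algebraMap P S)
  have : IsScalarTower P S X := IsScalarTower.of_algebraMap_smul fun _ _ => rfl
  let : Module Ph X := Module.compHom X ψ
  have : IsScalarTower P Ph X := IsScalarTower.of_algebraMap_smul fun p x => by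
    change ψ (algebraMap P Ph p) • x = algebraMap P S p • x
    rw [hψ, algebraMap_smul]
  have := isLocalizedModule_of_surjective (Submonoid.powers h) (Submonoid.powers g) hmap ι
  have : Module.FinitePresentation Ph X :=
    Module.FinitePresentation.of_equiv ((IsLocalizedModule.iso (Submonoid.powers h)
      (ι.restrictScalars P)).extendScalarsOfIsLocalization (Submonoid.powers h) Ph)
  obtain ⟨n, f, hf, hker⟩ := Algebra.FinitePresentation.out (R := R) (A := Ph)
  have hR' : ∀ r, ψ (algebraMap R Ph r) = algebraMap R L r := fun r => by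
    rw [IsScalarTower.algebraMap_apply R P Ph, hψ, ← IsScalarTower.algebraMap_apply R P S,
      ← IsScalarTower.algebraMap_apply R S L]
  let φ : MvPolynomial (Fin n) R →ₐ[R] L :=
    { ψ.comp f.toRingHom with
      commutes' := fun r => by
        change ψ (f (algebraMap R _ r)) = _
        rw [f.commutes, hR'] }
  refine ⟨n, φ, fun l => ?_, ?_⟩
  · obtain ⟨y, rfl⟩ := hψs l
    obtain ⟨z, rfl⟩ := hf y
    exact ⟨z, rfl⟩
  let : Algebra (MvPolynomial (Fin n) R) Ph := f.toRingHom.toAlgebra
  have : Module.FinitePresentation (MvPolynomial (Fin n) R) Ph :=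
    Module.finitePresentation_of_surjective (Algebra.linearMap _ Ph) hf hker
  let : Module (MvPolynomial (Fin n) R) X := Module.compHom X φ.toRingHom
  have : IsScalarTower (MvPolynomial (Fin n) R) Ph X := IsScalarTower.of_algebraMap_smul fun _ _ => rfl
  exact Module.FinitePresentation.trans (MvPolynomial (Fin n) R) X Ph

/-- The flat locus of a finite module over an algebra of finite type is open. -/
theorem isOpen_flatLocus {R S : Type u} [CommRing R] [CommRing S] [Algebra R S] [Algebra.FiniteType R S]
    (hR : (FlatCA.weakAss R R).Finite)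
    (N : Type u) [AddCommGroup N] [Module S N] [Module R N] [IsScalarTower R S N] [Module.Finite S N] :
    IsOpen {q : PrimeSpectrum S | FlatCA.FlatAt R q.asIdeal N} := by
  obtain ⟨n, π, hπ⟩ := Algebra.FiniteType.iff_quotient_mvPolynomial''.mp (inferInstance : Algebra.FiniteType R S)
  let : Algebra (MvPolynomial (Fin n) R) S := π.toRingHom.toAlgebra
  have : IsScalarTower R (MvPolynomial (Fin n) R) S :=
    IsScalarTower.of_algebraMap_eq fun r => (π.commutes r).symm
  refine isOpen_iff_forall_mem_open.mpr fun q hq => ?_
  obtain ⟨g, hg, hfl, -⟩ := exists_away (P := MvPolynomial (Fin n) R) hπ hR N q.asIdeal hq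
  exact ⟨PrimeSpectrum.basicOpen g, fun Q hQ => H06EGA11.flat_localizedModule_of_le (Submonoid.powers g)
    Q.asIdeal.primeCompl (Submonoid.powers_le.mpr hQ), PrimeSpectrum.isOpen_basicOpen, hg⟩

end Groth.Agent.H7Flat.FlatSpreadFT
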