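import Groth.Agent.H7Flat.ValFibre
import Groth.Agent.H7Lim.Topology
import Groth.Agent.H8Props.FlatApproxAffine
import Groth.Agent.H28Top.Noeth
import Mathlib.RingTheory.Spectrum.Prime.ConstructibleSet
import Mathlib.RingTheory.Ideal.KrullsHeightTheorem

/-!
# Constructibility and semicontinuity of the dimension of the fibres
-/

set_option autoImplicit false
set_option backward.isDefEq.respectTransparency false
set_option linter.style.haveILetI false

universe u

open CategoryTheory Limits AlgebraicGeometry TopologicalSpace Topology Groth.Agent.H8Props.FieldDim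

namespace Groth.Agent.H7Flat

theorem isConstructible_dim_fiber_le_noetherian {X S : Scheme.{u}} [IsAffine S] [IsLocallyNoetherian S]
    (f : X ⟶ S) [LocallyOfFiniteType f] [QuasiCompact f] (d : WithBot ℕ∞) :
    IsConstructible {s : S | topologicalKrullDim (f.fiber s) ≤ d} := by
  haveI : IsNoetherian S := ⟨⟩
  refine H28Top.isConstructible_of_forall_irreducible fun Y hY hirr hdense => ?_
  let I := Scheme.IdealSheafData.vanishingIdeal (X := S) ⟨Y, hY⟩
  let i := I.subschemeι
  have hi : Set.range i = Y := by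
    rw [Scheme.IdealSheafData.range_subschemeι, Scheme.IdealSheafData.coe_support_vanishingIdeal]
    rfl
  haveI : IrreducibleSpace I.subscheme := by
    haveI : IrreducibleSpace (Set.range i) := Subtype.irreducibleSpace (hi.symm ▸ hirr)
    rw [irreducibleSpace_def, Set.top_eq_univ, ← Set.range_eq_univ.2 i.isEmbedding.toHomeomorph.symm.surjective, ← Set.image_univ]
    exact (IrreducibleSpace.isIrreducible_univ _).image _ i.isEmbedding.toHomeomorph.symm.continuous.continuousOn
  let t := genericPoint I.subscheme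
  have hspec : ∀ z : I.subscheme, t ⤳ z := fun z => (genericPoint_spec _).specializes trivial
  let f' := pullback.snd f i
  have hc := IsPullback.of_hasPullback f i
  have hdim : ∀ z, topologicalKrullDim (f'.fiber z) = topologicalKrullDim (f.fiber (i z)) :=
    dim_fiber_baseChange f hc
  by_cases htd : topologicalKrullDim (f'.fiber t) ≤ d
  · obtain ⟨W, htW, hW⟩ := exists_nhd_dim_fiber_le f' t d (fun z hz => by rw [(hz.antisymm (hspec z)).eq]; exact htd)
    obtain ⟨U, hU, hUW⟩ := i.isEmbedding.isInducing.isOpen_iff.1 W.2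
    refine ⟨U, hU, ⟨i t, hUW.ge htW, hi.le ⟨t, rfl⟩⟩, ?_⟩
    rintro _ ⟨hyU, hyY⟩
    obtain ⟨z, rfl⟩ := hi.ge hyY
    show topologicalKrullDim (f.fiber (i z)) ≤ d
    rw [← hdim]
    exact hW z (hUW.le hyU)
  · exfalso
    obtain ⟨u, hu⟩ : ∃ u : f'.fiber t, ¬ cdim u ≤ d := by
      by_contra! hcon
      exact htd (dim_eq_iSup_cdim.trans_le (iSup_le hcon))
    obtain ⟨n, hn, hn'⟩ := exists_trdeg_fiber f' u
    have hx : f' (f'.fiberι t u) = t := (f'.range_fiberι t).subset (Set.mem_range_self u)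
    obtain ⟨W, htW, hW⟩ := exists_nhd_le_dim_fiber_of_trdeg f' (f'.fiberι t u)
      (fun z => by rw [hx]; exact hspec z) n hn'
    rw [hx] at htW
    obtain ⟨U, hU, hUW⟩ := i.isEmbedding.isInducing.isOpen_iff.1 W.2
    obtain ⟨y, hyU, hyE, hyY⟩ := mem_closure_iff.1 (hdense (hi.le ⟨t, rfl⟩)) U hU (hUW.ge htW)
    obtain ⟨z, rfl⟩ := hi.ge hyY
    refine hu (hn ▸ (hW z (hUW.le hyU)).trans ?_)
    rw [hdim]
    exact hyE

theorem isConstructible_dim_fiber_le_spec {R A : Type u} [CommRing R] [CommRing A] [Algebra R A]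
    [Algebra.FinitePresentation R A] (d : WithBot ℕ∞) :
    IsConstructible {s : Spec (CommRingCat.of R) |
      topologicalKrullDim ((Spec.map (CommRingCat.ofHom (algebraMap R A))).fiber s) ≤ d} := by
  obtain ⟨R₀, A₀, _, _, _, _, g', hR, hA, hsq⟩ := H8Props.FlatApprox.exists_isPullback_spec_fp R A
  haveI : IsNoetherianRing R₀ := Algebra.FiniteType.isNoetherianRing ℤ R₀
  haveI : IsNoetherianRing (CommRingCat.of R₀) := ‹IsNoetherianRing R₀›
  let f₀ := Spec.map (CommRingCat.ofHom (algebraMap R₀ A₀))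
  haveI : LocallyOfFiniteType f₀ := (HasRingHomProperty.Spec_iff (P := @LocallyOfFiniteType)).mpr
    (RingHom.finiteType_algebraMap.mpr inferInstance)
  let g := Spec.map (CommRingCat.ofHom (algebraMap R₀ R))
  have h := Scheme.Hom.isConstructible_preimage g (isConstructible_dim_fiber_le_noetherian f₀ d)
  convert! h using 1
  ext s
  show _ ↔ topologicalKrullDim (f₀.fiber (g s)) ≤ d
  rw [← dim_fiber_baseChange f₀ hsq s]
  rfl

/-- For a finitely presented morphism the sublevel sets of the fibre dimension are locally constructible. -/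
theorem isLocallyConstructible_dim_fiber_le {X S : Scheme.{u}} (f : X ⟶ S) [LocallyOfFinitePresentation f]
    [QuasiCompact f] (d : WithBot ℕ∞) :
    IsLocallyConstructible {s : S | topologicalKrullDim (f.fiber s) ≤ d} := by
  refine IsLocallyConstructible.of_isOpenCover (U := fun U : S.affineOpens => U.1) (iSup_affineOpens_eq_top S)
    fun U => ?_
  have hU := U.2
  suffices h : IsConstructible (hU.fromSpec ⁻¹' {s : S | topologicalKrullDim (f.fiber s) ≤ d}) by
    convert! H7Lim.isLocallyConstructible_preimage h.isLocallyConstructible hU.isoSpec.hom using 1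
    ext z
    show _ ↔ topologicalKrullDim (f.fiber (hU.fromSpec (hU.isoSpec.hom z))) ≤ d
    rw [← Scheme.Hom.comp_apply, IsAffineOpen.isoSpec_hom_fromSpec]
    rfl
  obtain ⟨s, hs, hcov⟩ := isCompact_and_isOpen_iff_finite_and_eq_biUnion_affineOpens.mp
    ⟨QuasiCompact.isCompact_preimage (f := f) _ U.1.2 hU.isCompact, (f ⁻¹ᵁ U.1).2⟩
  have hle : ∀ V : s, V.1.1 ≤ f ⁻¹ᵁ U.1 := fun V x hx => hcov.ge (Set.mem_biUnion V.2 hx)
  let φ : ∀ V : s, Spec Γ(X, V.1.1) ⟶ Spec Γ(S, U.1) := fun V => Spec.map (f.appLE U.1 V.1.1 (hle V))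
  haveI hlft : ∀ V, LocallyOfFiniteType (φ V) := fun V =>
    (HasRingHomProperty.Spec_iff (P := @LocallyOfFiniteType)).mpr (f.finiteType_appLE hU V.1.2 (hle V))
  have hsq : ∀ V, φ V ≫ hU.fromSpec = V.1.2.fromSpec ≫ f := fun V =>
    IsAffineOpen.SpecMap_appLE_fromSpec f hU V.1.2 (hle V)
  have key : ∀ V w, FlatMor.fibreDimAt f (V.1.2.fromSpec w) = FlatMor.fibreDimAt (φ V) w := fun V w => by
    rw [← fibreDimAt_openImmersion_comp V.1.2.fromSpec f w, ← hsq V]
    exact fibreDimAt_comp_openImmersion (φ V) hU.fromSpec w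
  have e : hU.fromSpec ⁻¹' {s : S | topologicalKrullDim (f.fiber s) ≤ d} =
      ⋂ V : s, {p | topologicalKrullDim ((φ V).fiber p) ≤ d} := by
    ext p
    simp only [Set.mem_preimage, Set.mem_iInter]
    constructor
    · intro h V
      refine (dim_fiber_le_iff _ _ _).2 fun w hw => ?_
      rw [← key]
      refine (dim_fiber_le_iff f _ _).1 h _ ?_
      rw [← Scheme.Hom.comp_apply, ← hsq, Scheme.Hom.comp_apply, hw]
    · intro h
      refine (dim_fiber_le_iff f _ _).2 fun x hx => ?_
      obtain ⟨V, hV, hxV⟩ := Set.mem_iUnion₂.1 (hcov.le (show x ∈ f ⁻¹ᵁ U.1 by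
        show f x ∈ U.1
        rw [hx]; exact hU.range_fromSpec.le ⟨p, rfl⟩))
      obtain ⟨w, rfl⟩ := V.2.range_fromSpec.ge hxV
      rw [key ⟨V, hV⟩]
      refine (dim_fiber_le_iff _ _ _).1 (h ⟨V, hV⟩) w (hU.fromSpec.isOpenEmbedding.injective ?_)
      rw [← Scheme.Hom.comp_apply, hsq ⟨V, hV⟩, Scheme.Hom.comp_apply, hx]
  rw [e]
  haveI : Finite s := hs
  refine (IsLocallyConstructible.iInter fun V => ?_).isConstructible
  letI := (f.appLE U.1 V.1.1 (hle V)).hom.toAlgebra
  haveI : Algebra.FinitePresentation Γ(S, U.1) Γ(X, V.1.1) := f.finitePresentation_appLE hU V.1.2 (hle V)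
  exact (isConstructible_dim_fiber_le_spec (R := Γ(S, U.1)) (A := Γ(X, V.1.1)) d).isLocallyConstructible

/-- Lower semicontinuity for flat finitely presented morphisms. -/
theorem isOpen_lt_dim_fiber {X S : Scheme.{u}} (f : X ⟶ S) [LocallyOfFinitePresentation f] [QuasiCompact f]
    [Flat f] (d : WithBot ℕ∞) : IsOpen {s : S | d < topologicalKrullDim (f.fiber s)} := by
  let E : Set S := {s | topologicalKrullDim (f.fiber s) ≤ d}
  have hEc : {s : S | d < topologicalKrullDim (f.fiber s)} = Eᶜ := by ext s; exact (not_le (α := WithBot ℕ∞)).symm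
  refine isOpen_iff_forall_mem_open.2 fun s hs => ?_
  obtain ⟨U, hU, hsU, -⟩ := exists_isAffineOpen_mem_and_subset (Set.mem_univ s) (U := (⊤ : S.Opens))
  have h1 : IsConstructible (hU.fromSpec ⁻¹' {s : S | d < topologicalKrullDim (f.fiber s)}) := by
    rw [hEc, Set.preimage_compl]
    exact ((isLocallyConstructible_dim_fiber_le f d).preimage_of_isOpenEmbedding
      hU.fromSpec.isOpenEmbedding).isConstructible.compl
  have h2 : StableUnderGeneralization (hU.fromSpec ⁻¹' {s : S | d < topologicalKrullDim (f.fiber s)}) :=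
    fun a b hab ha => lt_of_lt_of_le ha (dim_fiber_le_of_specializes f (hab.map hU.fromSpec.continuous))
  refine ⟨hU.fromSpec '' (hU.fromSpec ⁻¹' {s : S | d < topologicalKrullDim (f.fiber s)}),
    Set.image_preimage_subset _ _,
    hU.fromSpec.isOpenEmbedding.isOpenMap _ (PrimeSpectrum.isOpen_of_stableUnderGeneralization_of_isConstructible h2 h1), ?_⟩
  obtain ⟨p, rfl⟩ := hU.range_fromSpec.ge hsU
  exact ⟨p, hs, rfl⟩

theorem exists_nat_fibreDimAt {X S : Scheme.{u}} (f : X ⟶ S) [LocallyOfFiniteType f] (x : X) :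
    ∃ n : ℕ, FlatMor.fibreDimAt f x ≤ n := by
  haveI := locallyOfFiniteType_fiberToSpec f (f x)
  haveI : IsLocallyNoetherian (f.fiber (f x)) := LocallyOfFiniteType.isLocallyNoetherian (f.fiberToSpecResidueField (f x))
  obtain ⟨s, hs⟩ := exists_nat_cdim (k := S.residueField (f x)) (f.fiberToSpecResidueField (f x)) (f.asFiber x)
  show ∃ n : ℕ, FlatMor.localDim (f.fiber (f x)) (f.asFiber x) ≤ n
  rw [localDim_eq_stalk_add_cdim (k := S.residueField (f x)) (f.fiberToSpecResidueField (f x)), hs]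
  obtain ⟨m, hm⟩ : ∃ m : ℕ, ringKrullDim ((f.fiber (f x)).presheaf.stalk (f.asFiber x)) = m :=
    ⟨_, Order.krullDim_eq_length_of_finiteDimensionalOrder⟩
  exact ⟨m + s, by rw [hm]; norm_cast⟩

theorem exists_nat_dim_fiber {X S : Scheme.{u}} (f : X ⟶ S) [LocallyOfFiniteType f] [QuasiCompact f] (s : S) :
    ∃ n : ℕ, topologicalKrullDim (f.fiber s) ≤ n := by
  obtain ⟨U, hU, hsU, -⟩ := exists_isAffineOpen_mem_and_subset (Set.mem_univ s) (U := (⊤ : S.Opens))
  choose n hn using fun x : X => exists_nat_fibreDimAt f x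
  obtain ⟨t, ht⟩ := (QuasiCompact.isCompact_preimage (f := f) _ U.2 hU.isCompact).elim_finite_subcover
    (fun k : ℕ => {x : X | FlatMor.fibreDimAt f x ≤ (k : ℕ)}) (fun k => isOpen_fibreDimAt_le f k)
    (fun x _ => Set.mem_iUnion.2 ⟨n x, hn x⟩)
  refine ⟨t.sup id, (dim_fiber_le_iff f s _).2 fun x hx => ?_⟩
  obtain ⟨k, hk, hxk⟩ := Set.mem_iUnion₂.1 (ht (show f x ∈ (U : Set S) by rw [hx]; exact hsU))
  exact le_trans (show FlatMor.fibreDimAt f x ≤ (k : ℕ) from hxk) (by exact_mod_cast Finset.le_sup (f := id) hk)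

end Groth.Agent.H7Flat
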