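import Groth.Agent.H7Flat.FibreDim
import Groth.Agent.H7Flat.GenericFreeness
import Mathlib.RingTheory.Flat.FaithfullyFlat.Algebra
import Mathlib.RingTheory.AlgebraicIndependent.TranscendenceBasis

/-!
# The dimension of the fibres near a generic point
-/

set_option autoImplicit false
set_option backward.isDefEq.respectTransparency false
set_option linter.style.haveILetI false

universe u

open CategoryTheory AlgebraicGeometry TopologicalSpace Groth.Agent.H8Props.FieldDim Cardinal
open scoped TensorProduct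

namespace Groth.Agent.H7Flat

theorem exists_eq_div_evaluation {X : Scheme.{u}} {U : X.Opens} (hU : IsAffineOpen U) (x : X) (hx : x ∈ U)
    (z : X.residueField x) :
    ∃ a b, X.evaluation U x hx b ≠ 0 ∧ z * X.evaluation U x hx b = X.evaluation U x hx a := by
  obtain ⟨w, rfl⟩ := X.residue_surjective x z
  letI := X.presheaf.algebra_section_stalk ⟨x, hx⟩
  haveI := hU.isLocalization_stalk ⟨x, hx⟩
  obtain ⟨⟨a, b⟩, hab⟩ := IsLocalization.surj (hU.primeIdealOf ⟨x, hx⟩).asIdeal.primeCompl w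
  refine ⟨a, b.1, ?_, ?_⟩
  · have hu := IsLocalization.map_units (M := (hU.primeIdealOf ⟨x, hx⟩).asIdeal.primeCompl)
      (X.presheaf.stalk x) b
    exact (hu.map (X.residue x).hom).ne_zero
  · exact ((map_mul (X.residue x).hom w _).symm).trans (congrArg (X.residue x).hom hab)

/-- The kernel of evaluation. -/
noncomputable def evKer {X : Scheme.{u}} (U : X.Opens) (x : X) (hx : x ∈ U) : Ideal Γ(X, U) :=
  RingHom.ker (X.evaluation U x hx).hom

instance {X : Scheme.{u}} (U : X.Opens) (x : X) (hx : x ∈ U) : (evKer U x hx).IsPrime :=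
  RingHom.ker_isPrime _

theorem evKer_eq {X : Scheme.{u}} {U : X.Opens} (hU : IsAffineOpen U) (x : X) (hx : x ∈ U) :
    evKer U x hx = (hU.primeIdealOf ⟨x, hx⟩).asIdeal := by
  ext s
  show X.evaluation U x hx s = 0 ↔ _
  rw [X.evaluation_eq_zero_iff_notMem_basicOpen x hx s]
  have h2 : x ∈ X.basicOpen s ↔ hU.primeIdealOf ⟨x, hx⟩ ∈ PrimeSpectrum.basicOpen s := by
    rw [← hU.fromSpec_preimage_basicOpen s]
    show _ ↔ hU.fromSpec _ ∈ X.basicOpen s
    rw [hU.fromSpec_primeIdealOf ⟨x, hx⟩]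
  rw [h2]
  exact not_not

theorem evKer_le_of_specializes {X : Scheme.{u}} (U : X.Opens) {x y : X} (h : x ⤳ y) (hx : x ∈ U) (hy : y ∈ U) :
    evKer U x hx ≤ evKer U y hy := fun s hs => by
  replace hs : X.evaluation U x hx s = 0 := hs
  show X.evaluation U y hy s = 0
  rw [X.evaluation_eq_zero_iff_notMem_basicOpen] at hs ⊢
  exact fun hy' => hs (h.mem_open (X.basicOpen s).2 hy')

theorem evKer_fromSpec {X : Scheme.{u}} {U : X.Opens} (hU : IsAffineOpen U) (q : PrimeSpectrum Γ(X, U))
    (hx : hU.fromSpec q ∈ U) : evKer U (hU.fromSpec q) hx = q.asIdeal := by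
  rw [evKer_eq hU]
  congr 1
  exact hU.fromSpec.isOpenEmbedding.injective (hU.fromSpec_primeIdealOf ⟨_, hx⟩)

variable {X Y : Scheme.{u}} (f : X ⟶ Y) {U : Y.Opens} {V : X.Opens}

theorem evaluation_appLE (hle : V ≤ f ⁻¹ᵁ U) (x : X) (hx : x ∈ V) (r : Γ(Y, U)) :
    f.residueFieldMap x (Y.evaluation U (f x) (hle hx) r) = X.evaluation V x hx (f.appLE U V hle r) := by
  rw [Scheme.evaluation_naturality_apply]
  show X.residue x (X.presheaf.germ _ x _ _) = X.residue x (X.presheaf.germ V x hx _)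
  rw [Scheme.Hom.appLE, CommRingCat.comp_apply, TopCat.Presheaf.germ_res_apply]

/-- Relative transcendence degree of residue fields computed on affine charts. -/
theorem trdeg_residue_eq (hU : IsAffineOpen U) (hV : IsAffineOpen V) (hle : V ≤ f ⁻¹ᵁ U) (x : X) (hx : x ∈ V) :
    letI := (f.residueFieldMap x).hom.toAlgebra
    letI := (f.appLE U V hle).hom.toAlgebra
    ∃ h : evKer U (f x) (hle hx) ≤ (evKer V x hx).comap (algebraMap Γ(Y, U) Γ(X, V)),
      letI := (Ideal.quotientMap (evKer V x hx) (algebraMap Γ(Y, U) Γ(X, V)) h).toAlgebra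
      Algebra.trdeg (Y.residueField (f x)) (X.residueField x) =
        Algebra.trdeg (Γ(Y, U) ⧸ evKer U (f x) (hle hx)) (Γ(X, V) ⧸ evKer V x hx) := by
  letI algf := (f.residueFieldMap x).hom.toAlgebra
  letI := (f.appLE U V hle).hom.toAlgebra
  let p := evKer U (f x) (hle hx)
  let q := evKer V x hx
  have h : p ≤ q.comap (algebraMap Γ(Y, U) Γ(X, V)) := fun r hr => by
    show X.evaluation V x hx (f.appLE U V hle r) = 0
    rw [← evaluation_appLE f hle x hx r, show Y.evaluation U (f x) (hle hx) r = 0 from hr]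
    exact map_zero (f.residueFieldMap x).hom
  refine ⟨h, ?_⟩
  letI algpq : Algebra (Γ(Y, U) ⧸ p) (Γ(X, V) ⧸ q) := (Ideal.quotientMap q _ h).toAlgebra
  let ι₁ : Γ(Y, U) ⧸ p →+* Y.residueField (f x) := RingHom.kerLift (Y.evaluation U (f x) (hle hx)).hom
  let ι₂ : Γ(X, V) ⧸ q →+* X.residueField x := RingHom.kerLift (X.evaluation V x hx).hom
  letI a1 : Algebra (Γ(Y, U) ⧸ p) (Y.residueField (f x)) := ι₁.toAlgebra
  letI a2 : Algebra (Γ(X, V) ⧸ q) (X.residueField x) := ι₂.toAlgebra
  letI a3 : Algebra (Γ(Y, U) ⧸ p) (X.residueField x) := ((f.residueFieldMap x).hom.comp ι₁).toAlgebra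
  haveI : IsScalarTower (Γ(Y, U) ⧸ p) (Y.residueField (f x)) (X.residueField x) :=
    IsScalarTower.of_algebraMap_eq fun _ => rfl
  haveI : IsScalarTower (Γ(Y, U) ⧸ p) (Γ(X, V) ⧸ q) (X.residueField x) :=
    IsScalarTower.of_algebraMap_eq fun z => by
      obtain ⟨r, rfl⟩ := Ideal.Quotient.mk_surjective z
      exact evaluation_appLE f hle x hx r
  have inj₁ : Function.Injective ι₁ := RingHom.kerLift_injective _
  have inj₂ : Function.Injective ι₂ := RingHom.kerLift_injective _
  haveI : FaithfulSMul (Γ(Y, U) ⧸ p) (Y.residueField (f x)) := (faithfulSMul_iff_algebraMap_injective _ _).2 inj₁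
  haveI : FaithfulSMul (Γ(X, V) ⧸ q) (X.residueField x) := (faithfulSMul_iff_algebraMap_injective _ _).2 inj₂
  haveI : FaithfulSMul (Y.residueField (f x)) (X.residueField x) :=
    (faithfulSMul_iff_algebraMap_injective _ _).2 (RingHom.injective _)
  haveI : FaithfulSMul (Γ(Y, U) ⧸ p) (Γ(X, V) ⧸ q) := by
    refine (faithfulSMul_iff_algebraMap_injective _ _).2 fun z w hzw => inj₁ ?_
    apply (f.residueFieldMap x).hom.injective
    have := congrArg (algebraMap (Γ(X, V) ⧸ q) (X.residueField x)) hzw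
    rwa [← IsScalarTower.algebraMap_apply, ← IsScalarTower.algebraMap_apply] at this
  have alg : ∀ {Z : Scheme.{u}} {W : Z.Opens} (_ : IsAffineOpen W) (z : Z) (hz : z ∈ W),
      @Algebra.IsAlgebraic (Γ(Z, W) ⧸ evKer W z hz) (Z.residueField z) _ _
        (RingHom.kerLift (Z.evaluation W z hz).hom).toAlgebra := by
    intro Z W hW z hz
    letI := (RingHom.kerLift (Z.evaluation W z hz).hom).toAlgebra (R := Γ(Z, W) ⧸ evKer W z hz)
    refine ⟨fun w => ?_⟩
    obtain ⟨a, b, hb, hab⟩ := exists_eq_div_evaluation hW z hz w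
    refine ⟨Polynomial.C (Ideal.Quotient.mk _ b) * Polynomial.X - Polynomial.C (Ideal.Quotient.mk _ a), fun h0 => ?_, ?_⟩
    · have h1 := congrArg (fun P => P.coeff 1) h0
      simp only [Polynomial.coeff_sub, Polynomial.coeff_C_mul, Polynomial.coeff_X_one, mul_one, Polynomial.coeff_C,
        one_ne_zero, if_false, sub_zero, Polynomial.coeff_zero] at h1
      exact hb (Ideal.Quotient.eq_zero_iff_mem.1 h1)
    · simp only [map_sub, map_mul, Polynomial.aeval_C, Polynomial.aeval_X]
      show Z.evaluation W z hz b * w - Z.evaluation W z hz a = 0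
      rw [← hab, mul_comm, sub_self]
  have e1 : Algebra.trdeg (Γ(Y, U) ⧸ p) (Y.residueField (f x)) = 0 :=
    trdeg_eq_zero_iff.2 (alg hU (f x) (hle hx))
  have e2 : Algebra.trdeg (Γ(X, V) ⧸ q) (X.residueField x) = 0 := trdeg_eq_zero_iff.2 (alg hV x hx)
  have h1 := trdeg_add_eq (Γ(Y, U) ⧸ p) (Y.residueField (f x)) (A := X.residueField x)
  have h2 := trdeg_add_eq (Γ(Y, U) ⧸ p) (Γ(X, V) ⧸ q) (A := X.residueField x)
  rw [e1, zero_add] at h1
  rw [e2, add_zero] at h2
  exact h1.trans h2.symm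

variable [LocallyOfFiniteType f]

/-- A residue transcendence degree bounds the fibre dimension from below. -/
theorem le_dim_fiber_of_le_trdeg (x : X) (n : ℕ)
    (h : letI := (f.residueFieldMap x).hom.toAlgebra
      (n : Cardinal) ≤ Algebra.trdeg (Y.residueField (f x)) (X.residueField x)) :
    (n : WithBot ℕ∞) ≤ topologicalKrullDim (f.fiber (f x)) := by
  obtain ⟨s, hs, hs'⟩ := exists_trdeg_fiber f (f.asFiber x)
  have key : ∀ x' : X, x' = x → @Algebra.trdeg (Y.residueField (f.base x')) (X.residueField x') _ _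
      (f.residueFieldMap x').hom.toAlgebra = s → n ≤ s := by
    rintro x' rfl h'
    rw [h'] at h
    exact_mod_cast h
  have hns := key _ (f.fiberι_asFiber x) hs'
  rw [dim_eq_iSup_cdim]
  exact le_iSup_of_le (f.asFiber x) (by rw [hs]; exact_mod_cast hns)

/-- A fibre of dimension `n` has a point with that residue transcendence degree. -/
theorem exists_trdeg_eq_of_dim_fiber (y : Y) (n : ℕ) (h : topologicalKrullDim (f.fiber y) = n) :
    ∃ x : X, f x = y ∧ (letI := (f.residueFieldMap x).hom.toAlgebra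
      Algebra.trdeg (Y.residueField (f x)) (X.residueField x) = n) := by
  by_contra hcon
  push Not at hcon
  have hle : ∀ u : f.fiber y, ∃ s : ℕ, cdim u = s ∧ s < n := by
    intro u
    obtain ⟨s, hs, hs'⟩ := exists_trdeg_fiber f u
    refine ⟨s, hs, lt_of_le_of_ne ?_ ?_⟩
    · have : (s : WithBot ℕ∞) ≤ n := hs ▸ h ▸ (dim_eq_iSup_cdim (X := f.fiber y)).symm ▸ le_iSup cdim u
      exact_mod_cast this
    · rintro rfl
      exact hcon (f.fiberι y u) ((f.range_fiberι y).subset (Set.mem_range_self u)) hs'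
  rw [dim_eq_iSup_cdim] at h
  rcases n with _ | m
  · haveI : IsEmpty (f.fiber y) := ⟨fun u => by obtain ⟨s, -, hs⟩ := hle u; omega⟩
    rw [iSup_of_empty] at h
    exact WithBot.bot_ne_coe h
  · have : (⨆ u : f.fiber y, cdim u) ≤ (m : ℕ) := iSup_le fun u => by
      obtain ⟨s, hs, hsm⟩ := hle u
      rw [hs]
      exact_mod_cast (Nat.lt_succ_iff.1 hsm)
    rw [h] at this
    exact absurd this (by norm_cast; omega)

omit [LocallyOfFiniteType f] in
/-- Evaluation commutes with quotients. -/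
theorem aeval_quotient {R A : Type u} [CommRing R] [CommRing A] [Algebra R A] (I : Ideal R) (J : Ideal A)
    [Algebra (R ⧸ I) (A ⧸ J)]
    (hIJ : ∀ r, algebraMap (R ⧸ I) (A ⧸ J) (Ideal.Quotient.mk I r) = Ideal.Quotient.mk J (algebraMap R A r))
    {n : ℕ} (w : Fin n → A) (G : MvPolynomial (Fin n) R) :
    MvPolynomial.aeval (fun i => Ideal.Quotient.mk J (w i)) (MvPolynomial.map (Ideal.Quotient.mk I) G) =
      Ideal.Quotient.mk J (MvPolynomial.aeval w G) := by
  induction G using MvPolynomial.induction_on with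
  | C r => rw [MvPolynomial.map_C, MvPolynomial.aeval_C, MvPolynomial.aeval_C, hIJ]
  | add p q hp hq => simp only [map_add, hp, hq]
  | mul_X p i hp => simp only [map_mul, hp, MvPolynomial.map_X, MvPolynomial.aeval_X]

omit [LocallyOfFiniteType f] in
/-- Prime spreading: independent elements stay independent over primes off a hypersurface. -/
theorem exists_coeff_prime {R A : Type u} [CommRing R] [IsDomain R] [CommRing A] [IsDomain A] [Algebra R A]
    [Algebra.FiniteType R A] (n : ℕ) (z : Fin n → A) (hz : AlgebraicIndependent R z) :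
    ∃ a : R, a ≠ 0 ∧ ∀ p : Ideal R, p.IsPrime → a ∉ p → ∃ q : Ideal A, q.IsPrime ∧
      ∀ F : MvPolynomial (Fin n) R, MvPolynomial.aeval z F ∈ q ↔ F ∈ p.map MvPolynomial.C := by
  classical
  let P := MvPolynomial (Fin n) R
  let γ : P →ₐ[R] A := MvPolynomial.aeval z
  letI : Algebra P A := γ.toRingHom.toAlgebra
  haveI : IsScalarTower R P A := IsScalarTower.of_algebraMap_eq fun r => (γ.commutes r).symm
  haveI : Algebra.FiniteType P A := Algebra.FiniteType.of_restrictScalars_finiteType R P A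
  obtain ⟨h, hh, haf⟩ := exists_isAwayFree_of_finiteType (R := P) A A
  haveI : Module.Free (Localization.Away h) (Localization.Away h ⊗[P] A) := haf.free_baseChange
  haveI : Nontrivial (Localization.Away h ⊗[P] A) := by
    haveI : Nontrivial (Localization.Away h) :=
      (IsLocalization.injective (Localization.Away h) (powers_le_nonZeroDivisors_of_noZeroDivisors hh)).nontrivial
    exact (Algebra.TensorProduct.includeLeft_injective (R := P) (S := P) (A := Localization.Away h) (B := A)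
      (show Function.Injective γ from hz)).nontrivial
  haveI : Module.FaithfullyFlat (Localization.Away h) (Localization.Away h ⊗[P] A) :=
    Module.FaithfullyFlat.of_linearEquiv _ _ (Module.Free.chooseBasis (Localization.Away h) (Localization.Away h ⊗[P] A)).repr
  obtain ⟨m, hm⟩ : ∃ m, MvPolynomial.coeff m h ≠ 0 := MvPolynomial.ne_zero_iff.1 hh
  refine ⟨MvPolynomial.coeff m h, hm, fun p hp ha => ?_⟩
  let Pp : Ideal P := p.map MvPolynomial.C
  have hhp : h ∉ Pp := fun hmem => ha (MvPolynomial.mem_map_C_iff.1 hmem m)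
  haveI : Pp.IsPrime := by
    have : Pp = RingHom.ker (MvPolynomial.map (σ := Fin n) (Ideal.Quotient.mk p)) := by
      rw [MvPolynomial.ker_map, Ideal.mk_ker]
    rw [this]
    exact RingHom.ker_isPrime _
  obtain ⟨T, hT⟩ := (PrimeSpectrum.localization_away_comap_range (Localization.Away h) h).ge
    (show (⟨Pp, inferInstance⟩ : PrimeSpectrum P) ∈ (PrimeSpectrum.basicOpen h : Set _) from hhp)
  obtain ⟨T', hT'⟩ := PrimeSpectrum.comap_surjective_of_faithfullyFlat
    (A := Localization.Away h) (B := Localization.Away h ⊗[P] A) T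
  let inc : A →ₐ[P] Localization.Away h ⊗[P] A := Algebra.TensorProduct.includeRight
  refine ⟨T'.asIdeal.comap inc.toRingHom, Ideal.IsPrime.comap _, fun F => ?_⟩
  show inc (algebraMap P A F) ∈ T'.asIdeal ↔ _
  rw [inc.commutes, IsScalarTower.algebraMap_apply P (Localization.Away h) (Localization.Away h ⊗[P] A)]
  exact (SetLike.ext_iff.1 (congrArg PrimeSpectrum.asIdeal hT') _).trans
    (SetLike.ext_iff.1 (congrArg PrimeSpectrum.asIdeal hT) F)

/-- Elements of a chart whose values at `x` are algebraically independent over the residue field of the image. -/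
theorem exists_indep_of_trdeg (hU : IsAffineOpen U) (hV : IsAffineOpen V) (hle : V ≤ f ⁻¹ᵁ U) (x : X) (hxV : x ∈ V)
    (n : ℕ) (htr : letI := (f.residueFieldMap x).hom.toAlgebra
      Algebra.trdeg (Y.residueField (f x)) (X.residueField x) = n) :
    letI := (f.appLE U V hle).hom.toAlgebra
    ∃ w : Fin n → Γ(X, V), ∀ G : MvPolynomial (Fin n) Γ(Y, U),
      MvPolynomial.aeval w G ∈ evKer V x hxV → ∀ m, MvPolynomial.coeff m G ∈ evKer U (f x) (hle hxV) := by
  obtain ⟨hpq, htr'⟩ := trdeg_residue_eq f hU hV hle x hxV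
  rw [htr'] at htr
  letI algUV := (f.appLE U V hle).hom.toAlgebra
  let p₀ := evKer U (f x) (hle hxV)
  let q₀ := evKer V x hxV
  letI algpq : Algebra (Γ(Y, U) ⧸ p₀) (Γ(X, V) ⧸ q₀) := (Ideal.quotientMap q₀ _ hpq).toAlgebra
  haveI : FaithfulSMul (Γ(Y, U) ⧸ p₀) (Γ(X, V) ⧸ q₀) := by
    refine (faithfulSMul_iff_algebraMap_injective _ _).2 ?_
    show Function.Injective (Ideal.quotientMap q₀ (algebraMap Γ(Y, U) Γ(X, V)) hpq)
    refine Ideal.quotientMap_injective' ?_
    intro r hr
    show Y.evaluation U (f x) _ r = 0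
    apply (f.residueFieldMap x).hom.injective
    rw [map_zero]
    exact (evaluation_appLE f hle x hxV r).trans hr
  obtain ⟨s, hs⟩ := exists_isTranscendenceBasis (Γ(Y, U) ⧸ p₀) (Γ(X, V) ⧸ q₀)
  obtain ⟨e⟩ := Cardinal.mk_eq_nat_iff.1 (hs.cardinalMk_eq_trdeg.trans htr)
  choose w hw using fun i => Ideal.Quotient.mk_surjective ((e.symm i).1 : Γ(X, V) ⧸ q₀)
  refine ⟨w, fun G hG m => ?_⟩
  have hz : AlgebraicIndependent (Γ(Y, U) ⧸ p₀) fun i => Ideal.Quotient.mk q₀ (w i) := by
    simp only [hw]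
    exact hs.1.comp e.symm e.symm.injective
  have h1 : MvPolynomial.map (Ideal.Quotient.mk p₀) G = 0 := (algebraicIndependent_iff.1 hz) _ (by
    rw [aeval_quotient _ _ (fun _ => rfl)]
    exact Ideal.Quotient.eq_zero_iff_mem.2 hG)
  have h2 := congrArg (MvPolynomial.coeff m) h1
  rw [MvPolynomial.coeff_map, MvPolynomial.coeff_zero] at h2
  exact Ideal.Quotient.eq_zero_iff_mem.1 h2

/-- A prime at which given elements are independent bounds the fibre dimension. -/
theorem le_dim_fiber_of_indep (hU : IsAffineOpen U) (hV : IsAffineOpen V) (hle : V ≤ f ⁻¹ᵁ U)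
    {y : Y} (hyU : y ∈ U) (q : PrimeSpectrum Γ(X, V))
    (hq : ∀ r : Γ(Y, U), f.appLE U V hle r ∈ q.asIdeal ↔ r ∈ evKer U y hyU) (n : ℕ) (w : Fin n → Γ(X, V))
    (hind : letI := (f.appLE U V hle).hom.toAlgebra
      ∀ G : MvPolynomial (Fin n) Γ(Y, U), MvPolynomial.aeval w G ∈ q.asIdeal →
        ∀ m, MvPolynomial.coeff m G ∈ evKer U y hyU) :
    (n : WithBot ℕ∞) ≤ topologicalKrullDim (f.fiber y) := by
  letI algUV := (f.appLE U V hle).hom.toAlgebra
  let x' := hV.fromSpec q
  have hx'V : x' ∈ V := hV.range_fromSpec.le ⟨q, rfl⟩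
  have hqx' : evKer V x' hx'V = q.asIdeal := evKer_fromSpec hV q hx'V
  have hfx' : f x' = y := by
    have hx'U : f x' ∈ U := hle hx'V
    have e1 : evKer U (f x') hx'U = evKer U y hyU := by
      ext r
      refine Iff.trans ?_ (hq r)
      show Y.evaluation U (f x') hx'U r = 0 ↔ _
      rw [← hqx', ← map_eq_zero (f.residueFieldMap x').hom]
      exact ⟨fun h => (evaluation_appLE f hle x' hx'V r).symm.trans h,
        fun h => (evaluation_appLE f hle x' hx'V r).trans h⟩
    rw [evKer_eq hU, evKer_eq hU y hyU] at e1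
    have e2 := congrArg hU.fromSpec (PrimeSpectrum.ext e1)
    rwa [hU.fromSpec_primeIdealOf, hU.fromSpec_primeIdealOf] at e2
  subst hfx'
  obtain ⟨hpq', htr''⟩ := trdeg_residue_eq f hU hV hle x' hx'V
  refine le_dim_fiber_of_le_trdeg f x' n ?_
  rw [htr'']
  letI := (Ideal.quotientMap (evKer V x' hx'V) (algebraMap Γ(Y, U) Γ(X, V)) hpq').toAlgebra
  have hind' : AlgebraicIndependent (Γ(Y, U) ⧸ evKer U (f x') (hle hx'V))
      fun i => Ideal.Quotient.mk (evKer V x' hx'V) (w i) := by
    rw [algebraicIndependent_iff]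
    intro G hG
    obtain ⟨G, rfl⟩ := MvPolynomial.map_surjective _ (Ideal.Quotient.mk_surjective) G
    rw [aeval_quotient _ _ (fun _ => rfl)] at hG
    have h1 : MvPolynomial.aeval w G ∈ q.asIdeal := hqx' ▸ Ideal.Quotient.eq_zero_iff_mem.1 hG
    ext m
    rw [MvPolynomial.coeff_map, MvPolynomial.coeff_zero, Ideal.Quotient.eq_zero_iff_mem]
    exact hind G h1 m
  simpa using hind'.lift_cardinalMk_le_trdeg

/-- Near a generic point the fibres have at least the dimension seen at any point of the generic fibre. -/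
theorem exists_nhd_le_dim_fiber_of_trdeg (x : X) (hη : ∀ y, f x ⤳ y) (n : ℕ)
    (htr : letI := (f.residueFieldMap x).hom.toAlgebra
      Algebra.trdeg (Y.residueField (f x)) (X.residueField x) = n) :
    ∃ W : Y.Opens, f x ∈ W ∧ ∀ y ∈ W, (n : WithBot ℕ∞) ≤ topologicalKrullDim (f.fiber y) := by
  classical
  obtain ⟨U, hU, hxU, -⟩ := exists_isAffineOpen_mem_and_subset (Set.mem_univ (f x)) (U := (⊤ : Y.Opens))
  obtain ⟨V, hV, hxV, hVle⟩ := exists_isAffineOpen_mem_and_subset (show x ∈ f ⁻¹ᵁ U from hxU)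
  have hle : V ≤ f ⁻¹ᵁ U := hVle
  obtain ⟨w, hw⟩ := exists_indep_of_trdeg f hU hV hle x hxV n htr
  letI algUV := (f.appLE U V hle).hom.toAlgebra
  let p₀ := evKer U (f x) (hle hxV)
  let q₀ := evKer V x hxV
  have hpq : p₀ ≤ q₀.comap (algebraMap Γ(Y, U) Γ(X, V)) := (trdeg_residue_eq f hU hV hle x hxV).1
  letI algpq : Algebra (Γ(Y, U) ⧸ p₀) (Γ(X, V) ⧸ q₀) := (Ideal.quotientMap q₀ _ hpq).toAlgebra
  haveI : Algebra.FiniteType Γ(Y, U) Γ(X, V) := f.finiteType_appLE hU hV hle
  haveI : IsScalarTower Γ(Y, U) (Γ(Y, U) ⧸ p₀) (Γ(X, V) ⧸ q₀) := IsScalarTower.of_algebraMap_eq fun _ => rfl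
  haveI : Algebra.FiniteType (Γ(Y, U) ⧸ p₀) (Γ(X, V) ⧸ q₀) :=
    Algebra.FiniteType.of_restrictScalars_finiteType Γ(Y, U) _ _
  have hz : AlgebraicIndependent (Γ(Y, U) ⧸ p₀) fun i => Ideal.Quotient.mk q₀ (w i) := by
    rw [algebraicIndependent_iff]
    intro G hG
    obtain ⟨G, rfl⟩ := MvPolynomial.map_surjective _ (Ideal.Quotient.mk_surjective) G
    rw [aeval_quotient _ _ (fun _ => rfl)] at hG
    ext m
    rw [MvPolynomial.coeff_map, MvPolynomial.coeff_zero, Ideal.Quotient.eq_zero_iff_mem]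
    exact hw G (Ideal.Quotient.eq_zero_iff_mem.1 hG) m
  obtain ⟨a, ha, hspread⟩ := exists_coeff_prime n _ hz
  obtain ⟨a, rfl⟩ := Ideal.Quotient.mk_surjective a
  refine ⟨Y.basicOpen a, ?_, fun y hy => ?_⟩
  · rw [← Y.evaluation_ne_zero_iff_mem_basicOpen (f x) hxU a]
    exact fun h0 => ha (Ideal.Quotient.eq_zero_iff_mem.2 h0)
  have hyU : y ∈ U := Y.basicOpen_le a hy
  let py := evKer U y hyU
  have hp₀ : p₀ ≤ py := evKer_le_of_specializes U (hη y) _ _
  let pb : Ideal (Γ(Y, U) ⧸ p₀) := py.map (Ideal.Quotient.mk p₀)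
  have hpb : pb.comap (Ideal.Quotient.mk p₀) = py := by
    rw [Ideal.comap_map_of_surjective _ Ideal.Quotient.mk_surjective, ← RingHom.ker_eq_comap_bot,
      Ideal.mk_ker, sup_eq_left.2 hp₀]
  haveI : pb.IsPrime := Ideal.map_isPrime_of_surjective Ideal.Quotient.mk_surjective (by rw [Ideal.mk_ker]; exact hp₀)
  have hab : Ideal.Quotient.mk p₀ a ∉ pb := by
    intro hmem
    have h1 : a ∈ py := hpb ▸ Ideal.mem_comap.2 hmem
    exact (Y.evaluation_ne_zero_iff_mem_basicOpen y hyU a).2 hy h1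
  obtain ⟨q, hq, hqF⟩ := hspread pb inferInstance hab
  refine le_dim_fiber_of_indep f hU hV hle hyU ⟨q.comap (Ideal.Quotient.mk q₀), Ideal.IsPrime.comap _⟩
    (fun r => ?_) n w (fun G hG m => ?_)
  · have h1 := hqF (MvPolynomial.C (Ideal.Quotient.mk p₀ r))
    rw [MvPolynomial.aeval_C] at h1
    refine h1.trans ?_
    rw [MvPolynomial.mem_map_C_iff]
    constructor
    · intro h2
      have h3 := h2 0
      rw [MvPolynomial.coeff_zero_C] at h3
      show r ∈ py
      rw [← hpb]; exact h3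
    · intro h2 m
      rw [MvPolynomial.coeff_C]
      split_ifs
      · exact Ideal.mem_map_of_mem _ h2
      · exact zero_mem _
  · have h2 : MvPolynomial.aeval (fun i => Ideal.Quotient.mk q₀ (w i)) (MvPolynomial.map (Ideal.Quotient.mk p₀) G) ∈ q := by
      rw [aeval_quotient _ _ (fun _ => rfl)]
      exact hG
    have h4 := MvPolynomial.mem_map_C_iff.1 ((hqF _).1 h2) m
    rw [MvPolynomial.coeff_map] at h4
    show _ ∈ py
    exact hpb ▸ Ideal.mem_comap.2 h4

/-- Fibre dimension is at least the generic one near a generic point. -/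
theorem exists_nhd_le_dim_fiber (η : Y) (hη : ∀ y, η ⤳ y) (n : ℕ) (h : topologicalKrullDim (f.fiber η) = n) :
    ∃ W : Y.Opens, η ∈ W ∧ ∀ y ∈ W, (n : WithBot ℕ∞) ≤ topologicalKrullDim (f.fiber y) := by
  obtain ⟨x, hx, htr⟩ := exists_trdeg_eq_of_dim_fiber f η n h
  subst hx
  exact exists_nhd_le_dim_fiber_of_trdeg f x hη n htr

end Groth.Agent.H7Flat
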