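import Groth.Agent.H9Hens.Local
import Groth.Agent.H9Hens.Pair
import Groth.Agent.H9Hens.PtColim
import Mathlib.RingTheory.Flat.Basic
import Mathlib.RingTheory.Localization.FractionRing

/-!
Flatness along flat algebras, finite algebras over henselian local rings, algebraicity in
henselizations of domains.
-/

set_option autoImplicit false
universe u

namespace Groth.Agent.H7Flat.FlatTransfer

open TensorProduct IsLocalRing

attribute [local instance] Algebra.TensorProduct.rightAlgebra

set_option backward.isDefEq.respectTransparency false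
set_option maxHeartbeats 1000000
set_option synthInstance.maxHeartbeats 400000

/-- A flat algebra preserves flatness over the base. -/
theorem flat_tensor {R B E N : Type u} [CommRing R] [CommRing B] [CommRing E] [Algebra R B]
    [Algebra B E] [Algebra R E] [IsScalarTower R B E] [Module.Flat B E] [AddCommGroup N]
    [Module B N] [Module R N] [IsScalarTower R B N] [Module.Flat R N] :
    Module.Flat R (E ⊗[B] N) := by
  rw [Module.Flat.iff_rTensor_preserves_injective_linearMap]
  intro P P' _ _ _ _ g hg
  rw [← LinearMap.lTensor_inj_iff_rTensor_inj]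
  have h1 : Function.Injective (AlgebraTensorModule.lTensor B N g) :=
    Module.Flat.lTensor_preserves_injective_linearMap (M := N) g hg
  have h2 := Module.Flat.lTensor_preserves_injective_linearMap (M := E)
    (AlgebraTensorModule.lTensor B N g) h1
  have e : ∀ x, AlgebraTensorModule.assoc R B B E N P' (g.lTensor (E ⊗[B] N) x) =
      (AlgebraTensorModule.lTensor B N g).lTensor E (AlgebraTensorModule.assoc R B B E N P x) := by
    intro x
    induction x using TensorProduct.induction_on with
    | zero => simp
    | tmul a q =>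
      induction a using TensorProduct.induction_on with
      | zero => simp
      | tmul e n => simp
      | add x y hx hy => simp only [add_tmul, map_add, hx, hy]
    | add x y hx hy => simp only [map_add, hx, hy]
  intro x y hxy
  apply (AlgebraTensorModule.assoc R B B E N P).injective
  apply h2
  rw [← e, ← e, hxy]

/-- A local finite algebra over a henselian local ring is henselian. -/
theorem henselianLocalRing_of_finite (A B : Type u) [CommRing A] [HenselianLocalRing A] [CommRing B]
    [IsLocalRing B] [Algebra A B] [IsLocalHom (algebraMap A B)] [Module.Finite A B] :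
    HenselianLocalRing B := by
  have : HenselianRing A (maximalIdeal A) := inferInstance
  let mB := (maximalIdeal A).map (algebraMap A B)
  have : HenselianRing B mB := H9Hens.henselianRing_of_isIntegral B
  have hle : mB ≤ maximalIdeal B := map_maximalIdeal_le (algebraMap A B)
  have hrad : mB.radical = maximalIdeal B := by
    refine le_antisymm ((maximalIdeal.isMaximal B).isPrime.radical_le_iff.mpr hle) ?_
    rw [Ideal.radical_eq_sInf]
    refine le_sInf fun P ⟨hP, hPp⟩ => ?_
    have : (P.comap (algebraMap A B)).IsMaximal := by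
      have h : P.comap (algebraMap A B) = maximalIdeal A :=
        le_antisymm (le_maximalIdeal (Ideal.comap_ne_top _ hPp.ne_top))
          (Ideal.map_le_iff_le_comap.mp hP)
      rw [h]; exact maximalIdeal.isMaximal A
    have : P.IsMaximal := Ideal.isMaximal_of_isIntegral_of_isMaximal_comap P this
    exact (eq_maximalIdeal this).ge
  have h := H9Hens.henselianRing_radical (I := mB)
  rw [hrad] at h
  exact H9Hens.henselianLocalRing_of_henselianRing

/-- The integral closure of a henselian local domain in a field containing it is local. -/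
theorem isLocalRing_integralClosure (R K : Type u) [CommRing R] [HenselianLocalRing R] [Field K]
    [Algebra R K] : IsLocalRing (integralClosure R K) := by
  let R' := integralClosure R K
  refine IsLocalRing.of_unique_max_ideal ?_
  obtain ⟨M₀, hM₀⟩ := Ideal.exists_maximal R'
  refine ⟨M₀, hM₀, fun M hM => ?_⟩
  by_contra hne
  obtain ⟨b, hbM, hbM₀⟩ : ∃ b ∈ M, b ∉ M₀ := by
    by_contra h
    push Not at h
    exact hne (hM.eq_of_le hM₀.ne_top h)
  let B := Algebra.adjoin R {b}
  have : Module.Finite R B := Algebra.finite_adjoin_simple_of_isIntegral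
    (Algebra.IsIntegral.isIntegral (R := R) b)
  have : Algebra.IsIntegral R B := Algebra.IsIntegral.of_finite R B
  have hmax : ∀ P : Ideal R', P.IsMaximal → (P.comap B.val.toRingHom).IsMaximal := fun P hP => by
    have : (P.comap B.val.toRingHom).IsPrime := Ideal.comap_isPrime _ _
    refine Ideal.isMaximal_of_isIntegral_of_isMaximal_comap (R := R) _ ?_
    have : P.IsPrime := hP.isPrime
    have h := Ideal.isMaximal_comap_of_isIntegral_of_isMaximal (R := R) P
    rw [Ideal.comap_comap]
    exact h
  let n₀ : MaximalSpectrum B := ⟨_, hmax M₀ hM₀⟩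
  obtain ⟨e, he, hen, heo⟩ := H9Hens.exists_idem_isolating (R := R) (B := B)
    (fun c hc => H9Hens.exists_idem_lift (A := R) (I := maximalIdeal R) c hc) n₀
  rcases IsIdempotentElem.iff_eq_zero_or_one.mp he with rfl | rfl
  · exact hen (zero_mem _)
  · let n : MaximalSpectrum B := ⟨_, hmax M hM⟩
    have hn : n ≠ n₀ := fun h => hbM₀ (by
      have : (⟨b, Algebra.self_mem_adjoin_singleton R b⟩ : B) ∈ n.asIdeal := hbM
      rw [h] at this
      exact this)
    exact n.isMaximal.ne_top ((Ideal.eq_top_iff_one _).mpr (heo n hn))

/-- A nonzero element of a henselization of a domain which is a domain divides a nonzero element of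
the base. -/
theorem exists_dvd_algebraMap {A k H : Type u} [CommRing A] [IsDomain A] [CommRing k] [Algebra A k]
    [CommRing H] [IsDomain H] [Algebra A H] {π : H →ₐ[A] k} (hH : H9Hens.IsPtColim π)
    (hinj : Function.Injective (algebraMap A H)) (d : H) (hd : d ≠ 0) :
    ∃ a : A, a ≠ 0 ∧ d ∣ algebraMap A H a := by
  obtain ⟨S, _, _, _, φ, y, rfl⟩ := hH.exists_rep d
  let K := FractionRing A
  have : Algebra.Etale K (K ⊗[A] S) := inferInstance
  have : Algebra.FormallyUnramified K (K ⊗[A] S) := inferInstance
  have : Module.Finite K (K ⊗[A] S) := Algebra.FormallyUnramified.finite_of_free K (K ⊗[A] S)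
  obtain ⟨P, hPm, hP⟩ := Algebra.IsIntegral.isIntegral (R := K) ((1 : K) ⊗ₜ[A] y)
  let Q := IsLocalization.integerNormalization (nonZeroDivisors A) P
  obtain ⟨b, hb, hQ⟩ := IsLocalization.integerNormalization_spec (nonZeroDivisors A) P
  have hb0 : b ≠ 0 := nonZeroDivisors.ne_zero hb
  have hQ0 : Q ≠ 0 := by
    intro h
    rw [show IsLocalization.integerNormalization (nonZeroDivisors A) P = 0 from h,
      Polynomial.map_zero] at hQ
    have := congrArg (fun p => Polynomial.coeff p P.natDegree) hQ
    simp [hPm.coeff_natDegree, Algebra.smul_def] at this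
    exact hb0 (IsFractionRing.injective A K (this.symm.trans (map_zero _).symm))
  have hQy : (1 : K) ⊗ₜ[A] Polynomial.aeval y Q = 0 := by
    have h1 : (1 : K) ⊗ₜ[A] Polynomial.aeval y Q = Polynomial.aeval ((1 : K) ⊗ₜ[A] y) Q :=
      (Polynomial.aeval_algHom_apply
        (Algebra.TensorProduct.includeRight : S →ₐ[A] K ⊗[A] S) y Q).symm
    rw [h1, ← Polynomial.aeval_map_algebraMap K, hQ, ← algebraMap_smul K b P, map_smul,
      show Polynomial.aeval ((1 : K) ⊗ₜ[A] y) P = 0 from hP, smul_zero]
  have : IsLocalizedModule (nonZeroDivisors A) (TensorProduct.mk A K S 1) :=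
    (isLocalizedModule_iff_isBaseChange (nonZeroDivisors A) K _).mpr
      (TensorProduct.isBaseChange A S K)
  obtain ⟨⟨c, hc⟩, hcQ⟩ := (IsLocalizedModule.eq_zero_iff (nonZeroDivisors A)
    (TensorProduct.mk A K S 1)).mp hQy
  have hroot : Polynomial.aeval (φ y) Q = 0 := by
    have h := congrArg φ hcQ
    rw [Submonoid.smul_def, map_smul, map_zero, Algebra.smul_def,
      ← Polynomial.aeval_algHom_apply] at h
    refine (mul_eq_zero.mp h).resolve_left fun h0 => nonZeroDivisors.ne_zero hc ?_
    exact hinj (h0.trans (map_zero _).symm)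
  obtain ⟨j, R₀, hR₀, hndvd⟩ : ∃ (j : ℕ) (R₀ : Polynomial A),
      Q = Polynomial.X ^ j * R₀ ∧ ¬ Polynomial.X ∣ R₀ := by
    obtain ⟨R₀, hR₀, hnd⟩ := Polynomial.exists_eq_pow_rootMultiplicity_mul_and_not_dvd Q hQ0 0
    exact ⟨_, R₀, by simpa using hR₀, by simpa using hnd⟩
  have h0 : Polynomial.aeval (φ y) R₀ = 0 := by
    rw [hR₀, map_mul, map_pow, Polynomial.aeval_X] at hroot
    exact (mul_eq_zero.mp hroot).resolve_left (pow_ne_zero _ hd)
  refine ⟨R₀.coeff 0, fun h => hndvd (Polynomial.X_dvd_iff.mpr h),
    -Polynomial.aeval (φ y) R₀.divX, ?_⟩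
  have h2 : R₀ = Polynomial.X * R₀.divX + Polynomial.C (R₀.coeff 0) :=
    (Polynomial.X_mul_divX_add R₀).symm
  rw [h2, map_add, map_mul, Polynomial.aeval_X, Polynomial.aeval_C] at h0
  linear_combination h0

end Groth.Agent.H7Flat.FlatTransfer
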