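import Groth.Agent.H11Tilde.StalkGen
import Groth.Agent.H11Tilde.Gen
import Groth.Agent.H11Tilde.AffineInvertible
import Groth.Agent.H11Ample.Basic

/-!
# The invertible module of a cocycle of units
-/

set_option autoImplicit false
set_option backward.isDefEq.respectTransparency false
set_option linter.style.haveILetI false

noncomputable section

universe u

open CategoryTheory CategoryTheory.Limits AlgebraicGeometry Opposite TopologicalSpace

namespace Groth.Agent.H7Flat.LineCocycle

open Groth.Agent.H11Tilde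

variable {X : Scheme.{u}}

/-- restriction of functions -/
abbrev rr {U T : X.Opens} (h : T ≤ U) : Γ(X, U) →+* Γ(X, T) := (X.presheaf.map (homOfLE h).op).hom

theorem rr_rr {U V W : X.Opens} (h : V ≤ U) (h' : W ≤ V) (x : Γ(X, U)) :
    rr h' (rr h x) = rr (h'.trans h) x := H10Coh.rres_rres h h' x

theorem rr_self {U : X.Opens} (h : U ≤ U) (x : Γ(X, U)) : rr h x = x := by
  unfold rr
  rw [Subsingleton.elim (homOfLE h).op (𝟙 _), CategoryTheory.Functor.map_id]
  rfl

theorem rr_locally {W : X.Opens} (s t : Γ(X, W))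
    (h : ∀ x ∈ W, ∃ (V : X.Opens) (hV : V ≤ W), x ∈ V ∧ rr hV s = rr hV t) : s = t := by
  choose V hV hxV he using h
  exact TopCat.Sheaf.eq_of_locally_eq' X.sheaf (fun x : W => V x.1 x.2) W
    (fun x => homOfLE (hV x.1 x.2)) (fun x hx => Opens.mem_iSup.2 ⟨⟨x, hx⟩, hxV x hx⟩) s t
    (fun x => he x.1 x.2)

/-- A cocycle of units for a family of opens. -/
structure Data (X : Scheme.{u}) where
  J : Type u
  V : J → X.Opens
  g : ∀ a b, Γ(X, V a ⊓ V b)
  isUnit : ∀ a b, IsUnit (g a b)
  cocycle : ∀ a b c (T : X.Opens) (ha : T ≤ V a) (hb : T ≤ V b) (hc : T ≤ V c),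
    rr (le_inf ha hb) (g a b) * rr (le_inf hb hc) (g b c) = rr (le_inf ha hc) (g a c)
  cover : ∀ x : X, ∃ a, x ∈ V a

variable (D : Data X)

theorem Data.g_self (a : D.J) (T : X.Opens) (h : T ≤ D.V a ⊓ D.V a) : rr h (D.g a a) = 1 := by
  have := D.cocycle a a a T (h.trans inf_le_left) (h.trans inf_le_left) (h.trans inf_le_left)
  exact ((D.isUnit a a).map (rr h)).mul_eq_left.1 this

/-- the local families over an open -/
def Fam (W : X.Opens) : AddSubgroup (∀ a, Γ(X, W ⊓ D.V a)) where
  carrier := {s | ∀ a b (T : X.Opens) (hT : T ≤ W) (ha : T ≤ D.V a) (hb : T ≤ D.V b),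
    rr (le_inf hT ha) (s a) = rr (le_inf ha hb) (D.g a b) * rr (le_inf hT hb) (s b)}
  add_mem' := fun {s t} hs ht a b T hT ha hb => by
    simp only [Pi.add_apply, map_add, hs a b T hT ha hb, ht a b T hT ha hb, mul_add]
  zero_mem' := fun a b T hT ha hb => by simp only [Pi.zero_apply, map_zero, mul_zero]
  neg_mem' := fun {s} hs a b T hT ha hb => by simp only [Pi.neg_apply, map_neg, hs a b T hT ha hb, mul_neg]

instance smulFam (W : X.Opens) : SMul Γ(X, W) (Fam D W) where
  smul r s := ⟨fun a => rr inf_le_left r * s.1 a, fun a b T hT ha hb => by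
    simp only [map_mul, rr_rr, s.2 a b T hT ha hb]
    ring⟩

theorem smul_val {W : X.Opens} (r : Γ(X, W)) (s : Fam D W) (a : D.J) :
    (r • s).1 a = rr inf_le_left r * s.1 a := rfl

instance moduleFam (W : X.Opens) : Module Γ(X, W) (Fam D W) where
  one_smul s := Subtype.ext (funext fun a => by rw [smul_val, map_one, one_mul])
  mul_smul r r' s := Subtype.ext (funext fun a => by rw [smul_val, smul_val, smul_val, map_mul, mul_assoc])
  smul_zero r := Subtype.ext (funext fun a => mul_zero _)
  smul_add r s t := Subtype.ext (funext fun a => mul_add _ _ _)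
  add_smul r r' s := Subtype.ext (funext fun a => by
    change rr inf_le_left (r + r') * s.1 a = rr inf_le_left r * s.1 a + rr inf_le_left r' * s.1 a
    rw [map_add, add_mul])
  zero_smul s := Subtype.ext (funext fun a => by
    change rr inf_le_left (0 : Γ(X, W)) * s.1 a = 0
    rw [map_zero, zero_mul])

/-- restriction of families -/
def famRes {U W : X.Opens} (h : W ≤ U) (s : Fam D U) : Fam D W :=
  ⟨fun a => rr (inf_le_inf_right _ h) (s.1 a), fun a b T hT ha hb => by
    simp only [rr_rr]; exact s.2 a b T (hT.trans h) ha hb⟩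

/-- the object of families over an open -/
def obj (U : X.Opensᵒᵖ) : ModuleCat.{u} (X.ringCatSheaf.obj.obj U) :=
  @ModuleCat.of (X.ringCatSheaf.obj.obj U) _ (Fam D U.unop) _
    (show Module Γ(X, U.unop) (Fam D U.unop) from inferInstance)

/-- the presheaf of modules of families -/
def pre : PresheafOfModules.{u} X.ringCatSheaf.obj where
  obj U := obj D U
  map {U W} f := ModuleCat.ofHom
    (X := obj D U)
    (Y := (ModuleCat.restrictScalars (X.ringCatSheaf.obj.map f).hom).obj (obj D W))
    { toFun := fun s => famRes D f.unop.le s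
      map_add' := fun s t => Subtype.ext (funext fun a => map_add (rr _) _ _)
      map_smul' := fun r s => Subtype.ext (funext fun a => by
        change rr _ (rr inf_le_left r * s.1 a) = rr inf_le_left (rr f.unop.le r) * rr _ (s.1 a)
        rw [map_mul, rr_rr, rr_rr]) }
  map_id U := by
    ext s
    exact Subtype.ext (funext fun a => rr_self _ _)
  map_comp {U V W} f g := by
    ext s
    exact Subtype.ext (funext fun a => (rr_rr _ _ _).symm)

theorem isSheaf_pre : TopCat.Presheaf.IsSheaf (X := X) (pre D).presheaf := by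
  refine (TopCat.Presheaf.isSheaf_iff_isSheafUniqueGluing _).2 fun ι U sf hsf => ?_
  let sf' : ∀ i, Fam D (U i) := fun i => sf i
  have hsf' : ∀ i j, famRes D inf_le_left (sf' i) = famRes D inf_le_right (sf' j) := fun i j => hsf i j
  have hglue : ∀ a, ∃! t : Γ(X, iSup U ⊓ D.V a), ∀ i,
      rr (inf_le_inf_right _ (le_iSup U i)) t = (sf' i).1 a := by
    intro a
    refine TopCat.Sheaf.existsUnique_gluing' X.sheaf (fun i => U i ⊓ D.V a) (iSup U ⊓ D.V a)
      (fun i => homOfLE (inf_le_inf_right _ (le_iSup U i))) (by rw [iSup_inf_eq]) (fun i => (sf' i).1 a)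
      fun i j => ?_
    have h := congr(rr (le_inf (le_inf (inf_le_left.trans inf_le_left) (inf_le_right.trans inf_le_left))
      (inf_le_left.trans inf_le_right) : (U i ⊓ D.V a) ⊓ (U j ⊓ D.V a) ≤ (U i ⊓ U j) ⊓ D.V a)
      (($(hsf' i j)).1 a))
    simp only [famRes, rr_rr] at h
    exact h
  choose t ht using fun a => (hglue a).exists
  have hmem : t ∈ Fam D (iSup U) := by
    intro a b T hT ha hb
    refine rr_locally _ _ fun x hx => ?_
    obtain ⟨i, hi⟩ := Opens.mem_iSup.1 (hT hx)
    refine ⟨T ⊓ U i, inf_le_left, ⟨hx, hi⟩, ?_⟩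
    have h := (sf' i).2 a b (T ⊓ U i) inf_le_right (inf_le_left.trans ha) (inf_le_left.trans hb)
    rw [← ht a i, ← ht b i, rr_rr, rr_rr] at h
    simp only [map_mul, rr_rr]
    exact h
  refine ⟨(⟨t, hmem⟩ : Fam D (iSup U)), fun i => Subtype.ext (funext fun a => ht a i), fun y hy => ?_⟩
  refine Subtype.ext (funext fun a => (hglue a).unique (fun i => ?_) (ht a))
  exact congr(($(hy i) : Fam D (U i)).1 a)

/-- the module of a cocycle -/
def line : X.Modules := ⟨pre D, isSheaf_pre D⟩

theorem line_res {U W : X.Opens} (h : W ≤ U) (s : Fam D U) :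
    (line D).presheaf.map (homOfLE h).op (show Γ(line D, U) from s) = famRes D h s := rfl

/-- the generator over a member of the family -/
def gen (a : D.J) : Γ(line D, D.V a) :=
  show Fam D (D.V a) from ⟨fun b => rr (inf_comm _ _).le (D.g b a), fun b c T hT hb hc => by
    simp only [rr_rr]
    exact (D.cocycle b c a T hb hc hT).symm⟩

theorem gen_val (a b : D.J) : ((gen D a : Γ(line D, D.V a)) : Fam D (D.V a)).1 b =
    rr (inf_comm _ _).le (D.g b a) := rfl

theorem isGen_gen (a : D.J) : IsGen (line D) (gen D a) := by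
  refine isGen_of_bijective fun W hW => ?_
  have key : ∀ (r : Γ(X, W)) (b : D.J),
      ((r • (line D).presheaf.map (homOfLE hW).op (gen D a) : Γ(line D, W)) : Fam D W).1 b =
        rr inf_le_left r * rr (le_inf inf_le_right (inf_le_left.trans hW)) (D.g b a) := fun r b => by
    change rr inf_le_left r * rr _ (rr _ (D.g b a)) = _
    rw [rr_rr]
  constructor
  · intro r r' h
    have h2 := congr(rr (le_inf le_rfl hW : W ≤ W ⊓ D.V a) (($h : Fam D W).1 a))
    rw [key, key, map_mul, map_mul, rr_rr, rr_rr, rr_rr, D.g_self, mul_one, mul_one, rr_self, rr_self] at h2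
    exact h2
  · intro s
    let s' : Fam D W := s
    refine ⟨rr (le_inf le_rfl hW : W ≤ W ⊓ D.V a) (s'.1 a), Subtype.ext (funext fun b => ?_)⟩
    refine (key _ b).trans ?_
    have h := s'.2 b a (W ⊓ D.V b) inf_le_left inf_le_right (inf_le_left.trans hW)
    rw [rr_self] at h
    rw [rr_rr, mul_comm]
    exact h.symm

theorem isInvertible_line : PicF.IsInvertible (line D) :=
  H11Ample.isInvertible_of_gen fun x => by
    obtain ⟨a, ha⟩ := D.cover x
    exact ⟨D.V a, gen D a, ha, isGen_gen D a⟩

theorem gen_trans (a b : D.J) (T : X.Opens) (ha : T ≤ D.V a) (hb : T ≤ D.V b) :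
    (line D).presheaf.map (homOfLE hb).op (gen D b) =
      rr (le_inf ha hb) (D.g a b) • (line D).presheaf.map (homOfLE ha).op (gen D a) := by
  refine Subtype.ext (funext fun c => ?_)
  change rr _ (rr _ (D.g c b)) = rr inf_le_left (rr _ (D.g a b)) * rr _ (rr _ (D.g c a))
  rw [rr_rr, rr_rr, rr_rr, mul_comm]
  exact (D.cocycle c a b (T ⊓ D.V c) inf_le_right (inf_le_left.trans ha) (inf_le_left.trans hb)).symm

end Groth.Agent.H7Flat.LineCocycle
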