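import Groth.Prelude.Def_FlatCA
import Mathlib

/-!
Flatness at a prime: elementwise criterion, finite ring extensions.
-/

namespace Groth.Agent.H7Flat.FlatAtFinite

open TensorProduct

universe u

set_option backward.isDefEq.respectTransparency false

variable (R : Type u) [CommRing R]

/-- A localization of a module is flat iff the kernels of `N ⊗ a → N ⊗ R` are killed by the
localization. -/
theorem flat_localizedModule_iff {S : Type u} [CommRing S] [Algebra R S] (T : Submonoid S)
    (N : Type u) [AddCommGroup N] [Module S N] [Module R N] [IsScalarTower R S N] :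
    Module.Flat R (LocalizedModule T N) ↔ ∀ (a : Ideal R) (z : N ⊗[R] a),
      a.subtype.lTensor N z = 0 → ∃ s ∈ T, s • z = 0 := by
  let mk := LocalizedModule.mkLinearMap T N
  have hcomm : ∀ (a : Ideal R) (z : N ⊗[R] a), a.subtype.lTensor (LocalizedModule T N)
      (AlgebraTensorModule.rTensor R a mk z) =
        AlgebraTensorModule.rTensor R R mk (a.subtype.lTensor N z) := by
    intro a z
    induction z using TensorProduct.induction_on with
    | zero => simp
    | tmul n x => simp
    | add x y hx hy => simp only [map_add, hx, hy]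
  constructor
  · intro h a z hz
    have h0 : AlgebraTensorModule.rTensor R a mk z = 0 := by
      apply Module.Flat.lTensor_preserves_injective_linearMap (M := LocalizedModule T N) a.subtype
        a.subtype_injective
      rw [map_zero, hcomm, hz, map_zero]
    obtain ⟨s, hs⟩ := (IsLocalizedModule.eq_zero_iff T (AlgebraTensorModule.rTensor R a mk)).mp h0
    exact ⟨s, s.2, hs⟩
  · intro h
    rw [Module.Flat.iff_lTensor_injective']
    intro a
    rw [injective_iff_map_eq_zero]
    intro w hw
    obtain ⟨⟨z, s⟩, hsz⟩ := IsLocalizedModule.surj T (AlgebraTensorModule.rTensor R a mk) w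
    have hlin : ∀ v, a.subtype.lTensor (LocalizedModule T N) ((s : S) • v) =
        (s : S) • a.subtype.lTensor (LocalizedModule T N) v := fun v =>
      (AlgebraTensorModule.lTensor S (LocalizedModule T N) a.subtype).map_smul _ v
    have h0 : AlgebraTensorModule.rTensor R R mk (a.subtype.lTensor N z) = 0 := by
      rw [← hcomm, ← show (s : S) • w = AlgebraTensorModule.rTensor R a mk z from hsz, hlin, hw,
        smul_zero]
    obtain ⟨t, ht⟩ := (IsLocalizedModule.eq_zero_iff T (AlgebraTensorModule.rTensor R R mk)).mp h0
    have htz : a.subtype.lTensor N ((t : S) • z) = 0 := by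
      exact ((AlgebraTensorModule.lTensor S N a.subtype).map_smul (t : S) z).trans ht
    obtain ⟨v, hv, hvz⟩ := h a _ htz
    have : ((⟨v, hv⟩ * t * s : T) : S) • w = 0 := by
      rw [Submonoid.coe_mul, mul_smul, show (s : S) • w = AlgebraTensorModule.rTensor R a mk z from hsz,
        Submonoid.coe_mul, mul_smul, ← map_smul, ← map_smul, hvz, map_zero]
    apply ((Module.End.isUnit_iff _).mp
      (IsLocalizedModule.map_units (AlgebraTensorModule.rTensor R a mk) (⟨v, hv⟩ * t * s))).injective
    rw [Module.algebraMap_end_apply, Module.algebraMap_end_apply, smul_zero]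
    exact this

variable {R}

/-- Along an integral map, flatness at a prime downstairs is flatness at all primes over it. -/
theorem flat_localizedModule_integral_iff {S S' : Type u} [CommRing S] [CommRing S'] [Algebra R S]
    [Algebra S S'] [Algebra R S'] [IsScalarTower R S S'] [Algebra.IsIntegral S S']
    (q : Ideal S) [q.IsPrime] (N : Type u) [AddCommGroup N] [Module S' N] [Module S N]
    [IsScalarTower S S' N] [Module R N] [IsScalarTower R S' N] [IsScalarTower R S N] :
    Module.Flat R (LocalizedModule q.primeCompl N) ↔
      ∀ (Q : Ideal S') [Q.IsPrime], Q.comap (algebraMap S S') = q →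
        Module.Flat R (LocalizedModule Q.primeCompl N) := by
  constructor
  · intro h Q _ hQ
    rw [flat_localizedModule_iff] at h ⊢
    intro a z hz
    obtain ⟨s, hs, hsz⟩ := h a z hz
    refine ⟨algebraMap S S' s, fun hsQ => hs (hQ ▸ hsQ), ?_⟩
    rw [algebraMap_smul]
    exact hsz
  · intro h
    rw [flat_localizedModule_iff]
    intro a z hz
    by_contra hcon
    let J : Ideal S' := (Submodule.span S' {z}).annihilator
    have hJ : J.comap (algebraMap S S') ≤ q := by
      intro s hs
      by_contra hsq
      refine hcon ⟨s, hsq, ?_⟩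
      rw [← algebraMap_smul S' s]
      exact (Submodule.mem_annihilator_span_singleton z _).mp hs
    obtain ⟨Q, hJQ, hQ, hQq⟩ := Ideal.exists_ideal_over_prime_of_isIntegral q J hJ
    have := hQ
    obtain ⟨s, hs, hsz⟩ := (flat_localizedModule_iff R Q.primeCompl N).mp (h Q hQq) a z hz
    exact hs (hJQ ((Submodule.mem_annihilator_span_singleton z _).mpr hsz))

end Groth.Agent.H7Flat.FlatAtFinite

namespace Groth.Agent.H7Flat.FlatAtFinite

open TensorProduct

universe v

variable {R S S' : Type v} [CommRing R] [CommRing S] [CommRing S'] [Algebra R S] [Algebra S S']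
  [Algebra R S'] [IsScalarTower R S S'] [Module.Flat S S'] {N N' : Type v} [AddCommGroup N]
  [Module S N] [Module R N] [IsScalarTower R S N] [AddCommGroup N'] [Module S' N'] [Module S N']
  [IsScalarTower S S' N'] [Module R N'] [IsScalarTower R S' N'] [IsScalarTower R S N']

set_option backward.isDefEq.respectTransparency false in
/-- Flatness over the base at a prime is insensitive to a flat base change of rings. -/
theorem flat_localizedModule_flat_iff {ψ : N →ₗ[S] N'} (hψ : IsBaseChange S' ψ) (Q : Ideal S')
    [Q.IsPrime] :
    Module.Flat R (LocalizedModule (Q.comap (algebraMap S S')).primeCompl N) ↔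
      Module.Flat R (LocalizedModule Q.primeCompl N') := by
  rw [flat_localizedModule_iff, flat_localizedModule_iff]
  refine forall_congr' fun a => ?_
  let L : N ⊗[R] a →ₗ[S] N ⊗[R] R := AlgebraTensorModule.lTensor S N a.subtype
  let E : ∀ (W : Type v) [AddCommGroup W] [Module R W], S' ⊗[S] (N ⊗[R] W) ≃ₗ[S'] N' ⊗[R] W :=
    fun W _ _ => (AlgebraTensorModule.assoc R S S' S' N W).symm ≪≫ₗ
      AlgebraTensorModule.congr hψ.equiv (LinearEquiv.refl R W)
  have hnat : ∀ w, a.subtype.lTensor N' (E a w) = E R (L.lTensor S' w) := by
    intro w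
    induction w using TensorProduct.induction_on with
    | zero => simp
    | add x y hx hy => simp only [map_add, hx, hy]
    | tmul c u =>
      induction u using TensorProduct.induction_on with
      | zero => simp
      | add x y hx hy => simp only [tmul_add, map_add, hx, hy]
      | tmul n x => simp [E, L]
  constructor
  · intro h z hz
    obtain ⟨w, rfl⟩ := (E a).surjective z
    rw [hnat, LinearEquiv.map_eq_zero_iff] at hz
    obtain ⟨v, rfl⟩ := ((Module.Flat.lTensor_exact S'
      (LinearMap.exact_subtype_ker_map L)) w).mp hz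
    clear hz
    induction v using TensorProduct.induction_on with
    | zero => exact ⟨1, Submonoid.one_mem _, by simp⟩
    | tmul c u =>
      obtain ⟨s, hs, hsu⟩ := h u.1 u.2
      refine ⟨algebraMap S S' s, fun hsQ => hs hsQ, ?_⟩
      rw [← map_smul, LinearMap.lTensor_tmul, algebraMap_smul, ← tmul_smul]
      simp [hsu]
    | add x y hx hy =>
      obtain ⟨s, hs, hsx⟩ := hx
      obtain ⟨t, ht, hty⟩ := hy
      refine ⟨s * t, Submonoid.mul_mem _ hs ht, ?_⟩
      rw [map_add, map_add, smul_add, mul_comm s t, mul_smul, hsx, mul_comm t s, mul_smul, hty,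
        smul_zero, smul_zero, add_zero]
  · intro h z hz
    by_contra hcon
    obtain ⟨t, ht, htz⟩ := h (E a ((1 : S') ⊗ₜ z)) (by
      rw [hnat, LinearMap.lTensor_tmul, show L z = 0 from hz, tmul_zero, map_zero])
    rw [← map_smul, LinearEquiv.map_eq_zero_iff, smul_tmul', smul_eq_mul, mul_one] at htz
    let J : Ideal S := (Submodule.span S {z}).annihilator
    have hmem : ∀ s, s ∈ J ↔ s • z = 0 := fun s => Submodule.mem_annihilator_span_singleton z s
    let g : S ⧸ J →ₗ[S] N ⊗[R] a := Submodule.liftQ J (LinearMap.toSpanSingleton S _ z)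
      fun s hs => (hmem s).mp hs
    have hg : Function.Injective g := by
      rw [← LinearMap.ker_eq_bot]
      exact Submodule.ker_liftQ_eq_bot _ _ _ fun s hs => (hmem s).mpr hs
    have h0 : (t ⊗ₜ[S] Ideal.Quotient.mk J 1 : S' ⊗[S] (S ⧸ J)) = 0 := by
      apply Module.Flat.lTensor_preserves_injective_linearMap (M := S') g hg
      rw [map_zero, LinearMap.lTensor_tmul, show g (Ideal.Quotient.mk J 1) = z from one_smul S z]
      exact htz
    have h1 := congrArg (TensorProduct.tensorQuotEquivQuotSMul S' J) h0
    rw [TensorProduct.tensorQuotEquivQuotSMul_tmul_mk, map_zero, one_smul,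
      Submodule.Quotient.mk_eq_zero, Ideal.smul_top_eq_map, Submodule.restrictScalars_mem] at h1
    refine ht (Ideal.map_le_iff_le_comap.mpr (fun s hs => ?_) h1)
    by_contra hsQ
    exact hcon ⟨s, hsQ, (hmem s).mp hs⟩

end Groth.Agent.H7Flat.FlatAtFinite
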