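import Groth.Agent.H7Flat.ImpurityDescend
import Groth.Agent.H7Flat.InjectiveModMax
import Groth.Agent.H02CA.FibreAss
import Groth.Agent.H02CA.FlatModel
import Groth.Agent.H8Props.FlatAtBaseChange
import Groth.Agent.H7Flat.FlatAtFinite

/-!
Elements regular on a fibre of a flat finitely presented module are universally regular near it.
-/

set_option autoImplicit false
universe u

namespace Groth.Agent.H7Flat.FibreRegular

open TensorProduct FlatMor ImpurityDescend

set_option backward.isDefEq.respectTransparency false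
set_option maxHeartbeats 1000000
set_option synthInstance.maxHeartbeats 400000

/-- Annihilators in a flat base change. -/
theorem mem_map_annihilator {F F' M M' : Type u} [CommRing F] [CommRing F'] [Algebra F F']
    [Module.Flat F F'] [AddCommGroup M] [Module F M] [AddCommGroup M'] [Module F' M'] [Module F M']
    [IsScalarTower F F' M'] {g : M →ₗ[F] M'} (hg : IsBaseChange F' g) (x : M) {c : F'}
    (hc : c • g x = 0) : c ∈ (Submodule.span F {x}).annihilator.map (algebraMap F F') := by
  let J : Ideal F := (Submodule.span F {x}).annihilator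
  have hJ : ∀ a, a ∈ J ↔ a • x = 0 := fun a => Submodule.mem_annihilator_span_singleton x a
  let ι : F ⧸ J →ₗ[F] M := Submodule.liftQ J (LinearMap.toSpanSingleton F M x) fun a ha => by
    simpa using (hJ a).mp ha
  have hι : Function.Injective ι := by
    rw [← LinearMap.ker_eq_bot]
    exact Submodule.ker_liftQ_eq_bot _ _ _ fun a ha => (hJ a).mpr (by simpa using ha)
  have h0 : (c ⊗ₜ[F] Ideal.Quotient.mk J 1 : F' ⊗[F] (F ⧸ J)) = 0 := by
    apply Module.Flat.lTensor_preserves_injective_linearMap (M := F') ι hι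
    apply hg.equiv.injective
    rw [map_zero, map_zero, LinearMap.lTensor_tmul, IsBaseChange.equiv_tmul,
      show ι (Ideal.Quotient.mk J 1) = x from one_smul F x]
    exact hc
  have h1 := congrArg (TensorProduct.tensorQuotEquivQuotSMul F' J) h0
  rwa [TensorProduct.tensorQuotEquivQuotSMul_tmul_mk, map_zero, one_smul,
    Submodule.Quotient.mk_eq_zero, Ideal.smul_top_eq_map, Submodule.restrictScalars_mem] at h1

attribute [local instance] Algebra.TensorProduct.rightAlgebra

/-- Regularity on the fibre descends along base change of the base. -/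
theorem fiber_regular_descend {R R' S S' N N' : Type u} [CommRing R] [CommRing R']
    [CommRing S] [CommRing S'] [Algebra R R'] [Algebra R S] [Algebra R' S'] [Algebra S S']
    [Algebra R S'] [IsScalarTower R R' S'] [IsScalarTower R S S'] [Algebra.IsPushout R S R' S']
    [AddCommGroup N] [Module S N] [AddCommGroup N'] [Module S' N'] [Module S N']
    [IsScalarTower S S' N'] {g : N →ₗ[S] N'} (hg : IsBaseChange S' g)
    (t : Ideal R) [t.IsPrime] (t' : Ideal R') [t'.IsPrime] [t'.LiesOver t]
    (P : Ideal S') [P.IsPrime] [P.LiesOver t'] (s : S)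
    (hs : ∀ x : FlatCA.fiberMod t' S' N', (∃ c ∉ P, c • algebraMap S S' s • x = 0) →
      ∃ c ∉ P, c • x = 0) :
    ∀ x : FlatCA.fiberMod t S N, (∃ c ∉ P.comap (algebraMap S S'), c • s • x = 0) →
      ∃ c ∉ P.comap (algebraMap S S'), c • x = 0 := by
  let ν : t.ResidueField →ₐ[R] t'.ResidueField :=
    Ideal.ResidueField.mapₐ t t' (Algebra.ofId R R') (t'.over_def t)
  let : Algebra t.ResidueField t'.ResidueField := ν.toRingHom.toAlgebra
  have : IsScalarTower R t.ResidueField t'.ResidueField :=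
    IsScalarTower.of_algebraMap_eq fun r => (ν.commutes r).symm
  let : Algebra S (t'.Fiber S') := ((algebraMap S' (t'.Fiber S')).comp (algebraMap S S')).toAlgebra
  have : IsScalarTower S S' (t'.Fiber S') := IsScalarTower.of_algebraMap_eq fun _ => rfl
  have : IsScalarTower R R' (t'.Fiber S') := inferInstance
  have : IsScalarTower R S (t'.Fiber S') := IsScalarTower.of_algebraMap_eq fun r => by
    change _ = algebraMap S' (t'.Fiber S') (algebraMap S S' (algebraMap R S r))
    rw [← IsScalarTower.algebraMap_apply R S S', IsScalarTower.algebraMap_apply R R' S',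
      ← IsScalarTower.algebraMap_apply R' S' (t'.Fiber S'), ← IsScalarTower.algebraMap_apply]
  let φ : t.Fiber S →ₐ[R] t'.Fiber S' := Algebra.TensorProduct.lift
    ((IsScalarTower.toAlgHom R t'.ResidueField (t'.Fiber S')).comp ν)
    (IsScalarTower.toAlgHom R S (t'.Fiber S')) (fun _ _ => mul_comm _ _)
  let : Algebra (t.Fiber S) (t'.Fiber S') := φ.toRingHom.toAlgebra
  have hφS : ∀ s, φ (algebraMap S (t.Fiber S) s) = algebraMap S (t'.Fiber S') s := fun s => by
    change φ ((1 : t.ResidueField) ⊗ₜ[R] s) = _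
    simp [φ, ← Algebra.TensorProduct.one_def]
  have : IsScalarTower S (t.Fiber S) (t'.Fiber S') :=
    IsScalarTower.of_algebraMap_eq fun s => (hφS s).symm
  have : IsScalarTower t.ResidueField (t.Fiber S) (t'.Fiber S') :=
    IsScalarTower.of_algebraMap_eq fun k => by
      change _ = φ (k ⊗ₜ[R] (1 : S))
      simp [φ]
      rfl
  have : IsScalarTower R S' (t'.Fiber S') := IsScalarTower.of_algebraMap_eq fun r => by
    rw [IsScalarTower.algebraMap_apply R R' S', ← IsScalarTower.algebraMap_apply R' S' (t'.Fiber S'),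
      ← IsScalarTower.algebraMap_apply]
  have : Algebra.IsPushout R R' S S' := Algebra.IsPushout.symm inferInstance
  have h0 : Algebra.IsPushout R' t'.ResidueField S' (t'.Fiber S') := inferInstance
  have h1 : Algebra.IsPushout R t'.ResidueField S (t'.Fiber S') :=
    (Algebra.IsPushout.comp_iff R R' S S' (T := t'.ResidueField) (T' := t'.Fiber S')).mpr h0
  have h2 : Algebra.IsPushout R t.ResidueField S (t.Fiber S) := inferInstance
  have h3 : Algebra.IsPushout t.ResidueField t'.ResidueField (t.Fiber S) (t'.Fiber S') :=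
    (Algebra.IsPushout.comp_iff R t.ResidueField S (t.Fiber S) (T := t'.ResidueField)
      (T' := t'.Fiber S')).mp h1
  have h4 := h3.symm
  have : Module.Free (t.Fiber S) (t'.Fiber S') :=
    free_of_isPushout t.ResidueField (t.Fiber S) t'.ResidueField (t'.Fiber S')
  let : Module (t.Fiber S) (FlatCA.fiberMod t' S' N') := Module.compHom (FlatCA.fiberMod t' S' N') (algebraMap (t.Fiber S) (t'.Fiber S'))
  have : IsScalarTower (t.Fiber S) (t'.Fiber S') (FlatCA.fiberMod t' S' N') :=
    IsScalarTower.of_algebraMap_smul fun _ _ => rfl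
  let : Module S (FlatCA.fiberMod t' S' N') := Module.compHom (FlatCA.fiberMod t' S' N') (algebraMap S S')
  have : IsScalarTower S S' (FlatCA.fiberMod t' S' N') := IsScalarTower.of_algebraMap_smul fun _ _ => rfl
  have : IsScalarTower S' (t'.Fiber S') (FlatCA.fiberMod t' S' N') :=
    IsScalarTower.of_algebraMap_smul fun s m =>
      algebraMap_smul (t'.Fiber S') s (show (t'.Fiber S') ⊗[S'] N' from m)
  have : IsScalarTower S (t'.Fiber S') (FlatCA.fiberMod t' S' N') := IsScalarTower.of_algebraMap_smul fun s m => by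
    exact algebraMap_smul (t'.Fiber S') (algebraMap S S' s) m
  have : IsScalarTower S (t.Fiber S) (FlatCA.fiberMod t' S' N') := IsScalarTower.of_algebraMap_smul fun s m => by
    change φ (algebraMap S (t.Fiber S) s) • m = _
    rw [hφS, algebraMap_smul]
  have hM' : IsBaseChange (t'.Fiber S') (FlatCA.toFiberMod t' S' N') :=
    TensorProduct.isBaseChange S' N' (t'.Fiber S')
  have : IsScalarTower S (t.Fiber S) (FlatCA.fiberMod t S N) :=
    IsScalarTower.of_algebraMap_smul fun s m =>
      algebraMap_smul (t.Fiber S) s (show (t.Fiber S) ⊗[S] N from m)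
  have hM : IsBaseChange (t.Fiber S) (FlatCA.toFiberMod t S N) :=
    TensorProduct.isBaseChange S N (t.Fiber S)
  let fN : N →ₗ[S] (FlatCA.fiberMod t' S' N') := ((FlatCA.toFiberMod t' S' N').restrictScalars S).comp g
  have hfN : IsBaseChange (t'.Fiber S') fN := IsBaseChange.comp hg hM'
  let γ : FlatCA.fiberMod t S N →ₗ[t.Fiber S] (FlatCA.fiberMod t' S' N') := hM.lift fN
  have hγ : IsBaseChange (t'.Fiber S') γ := by
    refine IsBaseChange.of_comp hM ?_
    rw [show γ.restrictScalars S ∘ₗ FlatCA.toFiberMod t S N = fN from hM.lift_comp fN]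
    exact hfN
  rintro x ⟨c, hc, hcx⟩
  have hsm : ∀ (a : S) (y : FlatCA.fiberMod t S N), γ (a • y) = algebraMap S S' a • γ y := by
    intro a y
    rw [← algebraMap_smul (t.Fiber S) a y, map_smul, algebraMap_smul, algebraMap_smul]
  obtain ⟨c', hc', hc'x⟩ := hs (γ x) ⟨algebraMap S S' c, hc, by rw [← hsm, ← hsm, hcx, map_zero]⟩
  rw [← algebraMap_smul (t'.Fiber S') c' (γ x)] at hc'x
  have hmem := mem_map_annihilator hγ x hc'x
  have hnle : ¬ (Submodule.span (t.Fiber S) {x}).annihilator ≤
      FlatCA.fiberIdeal t (P.comap (algebraMap S S')) := by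
    intro hle
    refine hc' ?_
    rw [← comap_fiberIdeal t' P, Ideal.mem_comap]
    refine Ideal.map_mono hle hmem |> fun h => ?_
    refine (Ideal.map_le_iff_le_comap.mpr ?_) h
    refine Ideal.map_le_iff_le_comap.mpr fun a ha => ?_
    change φ (algebraMap S (t.Fiber S) a) ∈ FlatCA.fiberIdeal t' P
    rw [hφS]
    exact Ideal.mem_map_of_mem _ ha
  obtain ⟨f, hfann, hf⟩ := SetLike.not_le_iff_exists.mp hnle
  obtain ⟨r, hr, a, ha⟩ := Ideal.Fiber.exists_smul_eq_one_tmul t f
  refine ⟨a, fun hmem' => hf ?_, ?_⟩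
  · have h1 : (1 : t.ResidueField) ⊗ₜ[R] a ∈ FlatCA.fiberIdeal t (P.comap (algebraMap S S')) :=
      Ideal.mem_map_of_mem _ hmem'
    rw [← ha, Algebra.smul_def] at h1
    refine (Ideal.unit_mul_mem_iff_mem _ ?_).mp h1
    rw [IsScalarTower.algebraMap_apply R t.ResidueField (t.Fiber S)]
    exact (IsUnit.mk0 _ (mt Ideal.algebraMap_residueField_eq_zero.mp hr)).map _
  · rw [← algebraMap_smul (t.Fiber S) a x,
      show algebraMap S (t.Fiber S) a = r • f from ha.symm, Algebra.smul_def, mul_smul,
      (Submodule.mem_annihilator_span_singleton x f).mp hfann, smul_zero]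

/-- Injectivity of tensors from a flat cokernel. -/
theorem lTensor_injective_of_flat_coker {R N M : Type u} [CommRing R] [AddCommGroup N] [Module R N]
    [AddCommGroup M] [Module R M] (u : N →ₗ[R] M) (hu : Function.Injective u)
    [Module.Flat R (M ⧸ LinearMap.range u)] (Q : Type u) [AddCommGroup Q] [Module R Q] :
    Function.Injective (u.lTensor Q) := by
  let π : (Q →₀ R) →ₗ[R] Q := Finsupp.linearCombination R id
  have hπ : Function.Surjective π := fun q => ⟨Finsupp.single q 1, by simp [π]⟩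
  have h1 : Function.Injective ((LinearMap.ker π).subtype.rTensor (M ⧸ LinearMap.range u)) :=
    Module.Flat.rTensor_preserves_injective_linearMap (M := M ⧸ LinearMap.range u) _
      (LinearMap.ker π).subtype_injective
  have h2 : Function.Injective (u.lTensor (Q →₀ R)) :=
    Module.Flat.lTensor_preserves_injective_linearMap (M := Q →₀ R) u hu
  have key := lTensor_injective_of_exact_of_exact_of_rTensor_injective (R := R)
    (M₁ := ↥(LinearMap.ker π)) (M₂ := Q →₀ R) (M₃ := Q) (N₁ := N) (N₂ := M)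
    (N₃ := M ⧸ LinearMap.range u)
    (f₁ := (LinearMap.ker π).subtype) (f₂ := π) (g₁ := u) (g₂ := (LinearMap.range u).mkQ)
    (π.exact_subtype_ker_map) hπ (LinearMap.exact_map_mkQ_range u) (Submodule.mkQ_surjective _)
  exact key h1 h2

/-- Regularity on the fibre gives universal regularity at the prime, Noetherian case. -/
theorem smul_regular_noetherian {R S : Type u} [CommRing R] [CommRing S] [Algebra R S]
    [IsNoetherianRing R] [IsNoetherianRing S] {N : Type u} [AddCommGroup N] [Module S N]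
    [Module R N] [IsScalarTower R S N] [Module.Finite S N] (p : Ideal R) [p.IsPrime] (q : Ideal S)
    [q.IsPrime] [hqp : q.LiesOver p] (hflat : Module.Flat R (LocalizedModule q.primeCompl N))
    (s : S) (hs : ∀ x : FlatCA.fiberMod p S N, (∃ c ∉ q, c • s • x = 0) → ∃ c ∉ q, c • x = 0)
    (Q : Type u) [AddCommGroup Q] [Module R Q] (z : N ⊗[R] Q) (hz : s • z = 0) :
    ∃ c ∉ q, c • z = 0 := by
  let Rp := Localization.AtPrime p
  let Sq := Localization.AtPrime q
  let Nq := LocalizedModule q.primeCompl N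
  let θ : Rp →+* Sq := Localization.localRingHom p q (algebraMap R S) hqp.over
  let : Algebra Rp Sq := θ.toAlgebra
  have : IsScalarTower R Rp Sq := IsScalarTower.of_algebraMap_eq fun r => by
    change _ = θ (algebraMap R Rp r)
    rw [Localization.localRingHom_to_map, IsScalarTower.algebraMap_apply R S Sq]
  have : IsLocalHom (algebraMap Rp Sq) :=
    inferInstanceAs (IsLocalHom (Localization.localRingHom p q (algebraMap R S) hqp.over))
  let : Module Rp Nq := Module.compHom Nq θ
  have : IsScalarTower Rp Sq Nq := IsScalarTower.of_algebraMap_smul fun _ _ => rfl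
  have : IsScalarTower R Rp Nq := IsScalarTower.of_algebraMap_smul fun r x => by
    change θ (algebraMap R Rp r) • x = r • x
    rw [Localization.localRingHom_to_map, algebraMap_smul, algebraMap_smul]
  have : Module.Flat Rp Nq := (Module.flat_iff_of_isLocalization Rp p.primeCompl Nq).mpr hflat
  have : IsNoetherianRing Sq := IsLocalization.isNoetherianRing q.primeCompl Sq inferInstance
  have : IsNoetherianRing Rp := IsLocalization.isNoetherianRing p.primeCompl Rp inferInstance
  let v : Nq →ₗ[Sq] Nq := algebraMap S Sq s • LinearMap.id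
  let u : Nq →ₗ[Rp] Nq := v.restrictScalars Rp
  have hu : ∀ x, u x = s • x := fun x => algebraMap_smul Sq s x
  let mk := LocalizedModule.mkLinearMap q.primeCompl N
  let I : Submodule S N := p.map (algebraMap R S) • ⊤
  -- `m • Nq` and `p N`
  have L2 : ∀ n ∈ I, mk n ∈ IsLocalRing.maximalIdeal Rp • (⊤ : Submodule Rp Nq) := by
    intro n hn
    refine Submodule.smul_induction_on hn (fun j hj m _ => ?_) (fun a b ha hb => ?_)
    · clear hn
      induction hj using Submodule.span_induction generalizing m with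
      | mem j hj =>
        obtain ⟨a, ha, rfl⟩ := hj
        rw [algebraMap_smul, LinearMap.map_smul_of_tower, ← algebraMap_smul Rp a]
        exact Submodule.smul_mem_smul
          ((IsLocalization.AtPrime.to_map_mem_maximal_iff Rp p a).mpr ha) Submodule.mem_top
      | zero => simp
      | add a b _ _ ha hb => rw [add_smul, map_add]; exact add_mem (ha m Submodule.mem_top) (hb m Submodule.mem_top)
      | smul c j _ hj => rw [smul_eq_mul, mul_comm, mul_smul]; exact hj _ Submodule.mem_top
    · rw [map_add]; exact add_mem ha hb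
  have L1 : ∀ y ∈ IsLocalRing.maximalIdeal Rp • (⊤ : Submodule Rp Nq),
      ∃ c ∉ q, ∃ n ∈ I, c • y = mk n := by
    intro y hy
    refine Submodule.smul_induction_on hy (fun a ha m _ => ?_) (fun a b ha hb => ?_)
    · obtain ⟨a, ⟨w, hw⟩, rfl⟩ := IsLocalization.exists_mk'_eq p.primeCompl a
      obtain ⟨⟨n, c⟩, hm⟩ := IsLocalizedModule.surj q.primeCompl mk m
      have ha' : a ∈ p := (IsLocalization.AtPrime.mk'_mem_maximal_iff Rp p a ⟨w, hw⟩).mp ha
      refine ⟨algebraMap R S w * c, ?_, algebraMap R S a • n, Submodule.smul_mem_smul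
        (Ideal.mem_map_of_mem _ ha') Submodule.mem_top, ?_⟩
      · intro h
        exact (Ideal.IsPrime.mem_or_mem ‹q.IsPrime› h).elim
          (fun h => hw (hqp.over.ge h)) c.2
      · have h1 : algebraMap R S w • (IsLocalization.mk' Rp a (⟨w, hw⟩ : p.primeCompl) • m) =
            a • m := by
          rw [algebraMap_smul, ← algebraMap_smul Rp w, ← mul_smul, IsLocalization.mk'_spec'_mk,
            algebraMap_smul]
        rw [mul_comm, mul_smul, h1, algebraMap_smul, LinearMap.map_smul_of_tower, ← hm]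
        rw [smul_comm]
        rfl
    · obtain ⟨c₁, hc₁, n₁, hn₁, e₁⟩ := ha
      obtain ⟨c₂, hc₂, n₂, hn₂, e₂⟩ := hb
      refine ⟨c₁ * c₂, fun h => (Ideal.IsPrime.mem_or_mem ‹q.IsPrime› h).elim hc₁ hc₂,
        c₂ • n₁ + c₁ • n₂, add_mem (Submodule.smul_mem _ _ hn₁) (Submodule.smul_mem _ _ hn₂), ?_⟩
      rw [map_add, map_smul, map_smul, ← e₁, ← e₂, smul_smul, smul_smul, smul_add, mul_comm c₂]
  have hinj : Function.Injective (u.lTensor (IsLocalRing.ResidueField Rp)) := by
    refine lTensor_residueField_injective u fun x hx => ?_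
    obtain ⟨⟨n, c⟩, hxn⟩ := IsLocalizedModule.surj q.primeCompl mk x
    obtain ⟨c', hc', n', hn', e⟩ := L1 _ hx
    have hxn' : (c : S) • x = mk n := hxn
    have h1 : mk ((c' * s) • n) = mk ((c : S) • n') := by
      rw [map_smul, map_smul, ← hxn', ← e, hu, smul_smul, smul_smul, smul_smul]
      congr 1
      ring
    obtain ⟨d, hd⟩ := (IsLocalizedModule.eq_iff_exists q.primeCompl mk).mp h1
    have h2 : FlatCA.toFiberMod p S N (((d : S) * c' * s) • n) = 0 := by
      rw [Groth.Agent.H02CA.FibreAss.toFiberMod_eq_zero_iff]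
      refine ⟨1, (Ideal.ne_top_iff_one p).mp (Ideal.IsPrime.ne_top inferInstance), ?_⟩
      rw [map_one, one_smul, mul_assoc, mul_smul]
      rw [show (d : S) • ((c' * s) • n) = (d : S) • ((c : S) • n') from hd]
      exact Submodule.smul_mem _ _ (Submodule.smul_mem _ _ hn')
    rw [mul_smul, map_smul, map_smul] at h2
    obtain ⟨g, hg, hgx⟩ := hs _ ⟨(d : S) * c', fun h =>
      (Ideal.IsPrime.mem_or_mem ‹q.IsPrime› h).elim d.2 hc', h2⟩
    rw [← map_smul, Groth.Agent.H02CA.FibreAss.toFiberMod_eq_zero_iff] at hgx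
    obtain ⟨r, hr, hrn⟩ := hgx
    let e' : q.primeCompl := ⟨algebraMap R S r * g * c, fun h =>
      (Ideal.IsPrime.mem_or_mem ‹q.IsPrime› h).elim
        (fun h => (Ideal.IsPrime.mem_or_mem ‹q.IsPrime› h).elim (fun h => hr (hqp.over.ge h)) hg) c.2⟩
    have h3 : (e' : S) • x ∈ IsLocalRing.maximalIdeal Rp • (⊤ : Submodule Rp Nq) := by
      change ((algebraMap R S r * g) * (c : S)) • x ∈ _
      rw [mul_smul, hxn', ← map_smul, mul_smul]
      exact L2 _ hrn
    let w : Sq := IsLocalization.mk' Sq (1 : S) e'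
    have h4 : ((w • LinearMap.id : Nq →ₗ[Sq] Nq).restrictScalars Rp) ((e' : S) • x) = x := by
      change w • ((e' : S) • x) = x
      rw [← algebraMap_smul Sq (e' : S), ← mul_smul, IsLocalization.mk'_spec, map_one, one_smul]
    rw [← h4]
    exact Submodule.smul_top_le_comap_smul_top _ _ h3
  have key := injective_and_flat_quotient (S := Sq) u hinj
  let uR : Nq →ₗ[R] Nq := u.restrictScalars R
  have : Module.Flat R (Nq ⧸ LinearMap.range uR) := by
    have := key.2
    have : Module.Flat R (Nq ⧸ LinearMap.range u) := Module.Flat.trans R Rp _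
    exact Module.Flat.of_linearEquiv ((Submodule.quotEquivOfEq (LinearMap.range uR)
      ((LinearMap.range u).restrictScalars R) (LinearMap.range_restrictScalars u)) ≪≫ₗ
        Submodule.Quotient.restrictScalarsEquiv R (LinearMap.range u))
  have hQ : Function.Injective (uR.rTensor Q) := by
    rw [← LinearMap.lTensor_inj_iff_rTensor_inj]
    exact lTensor_injective_of_flat_coker uR key.1 Q
  have h0 : uR.rTensor Q (AlgebraTensorModule.rTensor R Q mk z) =
      AlgebraTensorModule.rTensor R Q mk (s • z) := by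
    clear hz
    induction z using TensorProduct.induction_on with
    | zero => simp
    | tmul n y =>
      change uR (mk n) ⊗ₜ[R] y = _
      rw [smul_tmul', show uR (mk n) = s • mk n from hu _, ← map_smul]
      rfl
    | add a b ha hb => simp only [smul_add, map_add, ha, hb]
  rw [hz, map_zero] at h0
  have h00 : AlgebraTensorModule.rTensor R Q mk z = 0 := hQ (by rw [h0, map_zero])
  obtain ⟨d, hd⟩ := (IsLocalizedModule.eq_zero_iff q.primeCompl
    (AlgebraTensorModule.rTensor R Q mk)).mp h00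
  exact ⟨d, d.2, hd⟩

/-- Regularity on the fibre gives universal regularity, given a Noetherian model. -/
theorem smul_regular_of_model {R S R₁ S₁ : Type u} [CommRing R] [CommRing S] [Algebra R S]
    [CommRing R₁] [CommRing S₁] [IsNoetherianRing R₁] [IsNoetherianRing S₁] [Algebra R₁ R]
    [Algebra R₁ S₁] [Algebra S₁ S] [Algebra R₁ S] [IsScalarTower R₁ R S] [IsScalarTower R₁ S₁ S]
    [Algebra.IsPushout R₁ S₁ R S] {N N₁ : Type u} [AddCommGroup N] [Module S N] [Module R N]
    [IsScalarTower R S N] [Module S₁ N] [IsScalarTower S₁ S N] [AddCommGroup N₁] [Module S₁ N₁]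
    [Module R₁ N₁] [IsScalarTower R₁ S₁ N₁] [Module.Finite S₁ N₁] [Module.Flat R₁ N₁]
    {γ : N₁ →ₗ[S₁] N} (hγ : IsBaseChange S γ) (p : Ideal R) [p.IsPrime] (q : Ideal S) [q.IsPrime]
    [hqp : q.LiesOver p] (s₁ : S₁)
    (hs : ∀ x : FlatCA.fiberMod p S N, (∃ c ∉ q, c • algebraMap S₁ S s₁ • x = 0) →
      ∃ c ∉ q, c • x = 0)
    (Q : Type u) [AddCommGroup Q] [Module R Q] (z : N ⊗[R] Q) (hz : algebraMap S₁ S s₁ • z = 0) :
    ∃ c ∉ q, c • z = 0 := by
  let p₁ := p.comap (algebraMap R₁ R)
  let q₁ := q.comap (algebraMap S₁ S)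
  have : p₁.IsPrime := Ideal.comap_isPrime _ _
  have : q₁.IsPrime := Ideal.comap_isPrime _ _
  have : p.LiesOver p₁ := ⟨rfl⟩
  have : q₁.LiesOver p₁ := ⟨by
    change p.comap (algebraMap R₁ R) = (q.comap _).comap (algebraMap R₁ S₁)
    rw [hqp.over, Ideal.under, Ideal.comap_comap, Ideal.comap_comap,
      ← IsScalarTower.algebraMap_eq, ← IsScalarTower.algebraMap_eq]⟩
  have hs₁' := fiber_regular_descend hγ p₁ p q s₁ hs
  have hflat₁ : Module.Flat R₁ (LocalizedModule q₁.primeCompl N₁) := by
    rw [Groth.Agent.H7Flat.FlatAtFinite.flat_localizedModule_iff]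
    intro a y hy
    refine ⟨1, Submonoid.one_mem _, ?_⟩
    rw [one_smul]
    exact Module.Flat.lTensor_preserves_injective_linearMap a.subtype a.subtype_injective
      (by rw [hy, map_zero])
  let : Module R₁ N := Module.compHom N (algebraMap R₁ R)
  have : IsScalarTower R₁ R N := IsScalarTower.of_algebraMap_smul fun _ _ => rfl
  have : IsScalarTower R₁ S₁ N := IsScalarTower.of_algebraMap_smul fun x n => by
    change algebraMap R₁ S₁ x • n = algebraMap R₁ R x • n
    rw [← algebraMap_smul S (algebraMap R₁ R x) n, ← algebraMap_smul S (algebraMap R₁ S₁ x) n,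
      ← IsScalarTower.algebraMap_apply, ← IsScalarTower.algebraMap_apply]
  let : Module R₁ Q := Module.compHom Q (algebraMap R₁ R)
  have : IsScalarTower R₁ R Q := IsScalarTower.of_algebraMap_smul fun _ _ => rfl
  have hb : IsBaseChange R (γ.restrictScalars R₁) :=
    Groth.Agent.H8Props.FlatAtBC.isBaseChange_restrictScalars (R := R₁) (R' := R) γ hγ
  let e : N₁ ⊗[R₁] Q ≃+ N ⊗[R] Q :=
    ((TensorProduct.comm R₁ N₁ Q).toAddEquiv.trans (hb.tensorEquiv Q).symm.toAddEquiv).trans
      (TensorProduct.comm R Q N).toAddEquiv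
  have he : ∀ (m : N₁) (y : Q), e (m ⊗ₜ y) = γ m ⊗ₜ y := fun m y => by
    show TensorProduct.comm R Q N ((hb.tensorEquiv Q).symm (y ⊗ₜ m)) = _
    simp [IsBaseChange.tensorEquiv, IsBaseChange.equiv_tmul]
  have hesm : ∀ (a : S₁) (y : N₁ ⊗[R₁] Q), e (a • y) = algebraMap S₁ S a • e y := by
    intro a y
    induction y using TensorProduct.induction_on with
    | zero => simp
    | tmul m y => rw [smul_tmul', he, he, smul_tmul', map_smul, algebraMap_smul]
    | add x y hx hy => simp only [smul_add, map_add, hx, hy]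
  obtain ⟨z, rfl⟩ := e.surjective z
  rw [← hesm, map_eq_zero_iff e e.injective] at hz
  obtain ⟨c, hc, hcz⟩ := smul_regular_noetherian p₁ q₁ hflat₁ s₁ hs₁' Q z hz
  exact ⟨algebraMap S₁ S c, hc, by rw [← hesm, hcz, map_zero]⟩

/-- Regularity on the fibre gives universal regularity, given a model of the coefficients. -/
theorem smul_regular_of_pushout {R S R₀ S₀ R₁ S₁ : Type u} [CommRing R] [CommRing S] [Algebra R S]
    [CommRing R₀] [CommRing S₀] [CommRing R₁] [CommRing S₁] [IsNoetherianRing R₁]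
    [IsNoetherianRing S₁] [Algebra R₀ R] [Algebra R₀ S₀] [Algebra R₀ S] [Algebra S₀ S]
    [IsScalarTower R₀ R S] [IsScalarTower R₀ S₀ S] [hpush : Algebra.IsPushout R₀ R S₀ S]
    [Algebra R₀ R₁] [Algebra R₀ S₁] [Algebra S₀ S₁] [Algebra R₁ S₁] [IsScalarTower R₀ R₁ S₁]
    [IsScalarTower R₀ S₀ S₁] [Algebra.IsPushout R₀ R₁ S₀ S₁]
    [Algebra R₁ R] [IsScalarTower R₀ R₁ R] [Algebra S₁ S] [IsScalarTower S₀ S₁ S]
    [IsScalarTower R₀ S₁ S] [Algebra R₁ S] [IsScalarTower R₁ R S] [IsScalarTower R₁ S₁ S]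
    {N N₀ : Type u} [AddCommGroup N] [Module S N] [Module R N] [IsScalarTower R S N]
    [AddCommGroup N₀] [Module S₀ N₀] [Module R₀ N₀] [IsScalarTower R₀ S₀ N₀]
    [Module.Finite S₀ N₀] [Module.Flat R₀ N₀] [Module S₀ N] [IsScalarTower S₀ S N]
    {f : N₀ →ₗ[S₀] N} (hf : IsBaseChange S f) (p : Ideal R) [p.IsPrime] (q : Ideal S) [q.IsPrime]
    [hqp : q.LiesOver p] (s₁ : S₁)
    (hs : ∀ x : FlatCA.fiberMod p S N, (∃ c ∉ q, c • algebraMap S₁ S s₁ • x = 0) →
      ∃ c ∉ q, c • x = 0)
    (Q : Type u) [AddCommGroup Q] [Module R Q] (z : N ⊗[R] Q) (hz : algebraMap S₁ S s₁ • z = 0) :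
    ∃ c ∉ q, c • z = 0 := by
  have : IsScalarTower R₀ R₁ S := IsScalarTower.of_algebraMap_eq fun x => by
    rw [IsScalarTower.algebraMap_apply R₁ R S, ← IsScalarTower.algebraMap_apply R₀ R₁ R,
      ← IsScalarTower.algebraMap_apply]
  have hp1 : Algebra.IsPushout R₁ R S₁ S :=
    (Algebra.IsPushout.comp_iff R₀ R₁ S₀ S₁ (T := R) (T' := S)).mp hpush
  have : Algebra.IsPushout R₁ S₁ R S := hp1.symm
  let N₁ := S₁ ⊗[S₀] N₀
  let f₁ : N₀ →ₗ[S₀] N₁ := TensorProduct.mk S₀ S₁ N₀ 1
  have hf₁ : IsBaseChange S₁ f₁ := TensorProduct.isBaseChange S₀ N₀ S₁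
  have : IsScalarTower R₁ S₁ N₁ := inferInstance
  have : IsScalarTower R₀ S₁ N₁ := inferInstance
  have : IsScalarTower R₀ R₁ N₁ := IsScalarTower.of_algebraMap_smul fun r x => by
    rw [← algebraMap_smul S₁ (algebraMap R₀ R₁ r) x, ← IsScalarTower.algebraMap_apply,
      algebraMap_smul]
  have : IsScalarTower R₀ S₀ N₁ := IsScalarTower.of_algebraMap_smul fun r x => by
    rw [← algebraMap_smul S₁ (algebraMap R₀ S₀ r) x, ← IsScalarTower.algebraMap_apply,
      algebraMap_smul]
  have : Algebra.IsPushout R₀ S₀ R₁ S₁ := Algebra.IsPushout.symm inferInstance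
  have : Module.Flat R₁ N₁ := Module.Flat.isBaseChange R₀ R₁ N₀ N₁
    (Groth.Agent.H8Props.FlatAtBC.isBaseChange_restrictScalars (R := R₀) (R' := R₁) f₁ hf₁)
  let : Module S₁ N := Module.compHom N (algebraMap S₁ S)
  have : IsScalarTower S₁ S N := IsScalarTower.of_algebraMap_smul fun _ _ => rfl
  have : IsScalarTower S₀ S₁ N := IsScalarTower.of_algebraMap_smul fun x n => by
    change algebraMap S₁ S (algebraMap S₀ S₁ x) • n = x • n
    rw [← IsScalarTower.algebraMap_apply, algebraMap_smul]
  let γ : N₁ →ₗ[S₁] N := hf₁.lift f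
  have hγ : IsBaseChange S γ := by
    refine IsBaseChange.of_comp hf₁ ?_
    rw [show γ.restrictScalars S₀ ∘ₗ f₁ = f from hf₁.lift_comp f]
    exact hf
  exact smul_regular_of_model (R₁ := R₁) hγ p q s₁ hs Q z hz

/-- Regularity on the fibre gives universal regularity for the tensor model. -/
theorem smul_regular_of_tensor {R S R₀ S₀ R₁ : Type u} [CommRing R] [CommRing S] [Algebra R S]
    [CommRing R₀] [CommRing S₀] [CommRing R₁] [Algebra R₀ R] [Algebra R₀ S₀] [Algebra R₀ S]
    [Algebra S₀ S] [IsScalarTower R₀ R S] [IsScalarTower R₀ S₀ S]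
    [hpush : Algebra.IsPushout R₀ R S₀ S] [Algebra R₀ R₁] [IsNoetherianRing R₁]
    [Algebra.FiniteType R₀ S₀] [Algebra R₁ R] [IsScalarTower R₀ R₁ R]
    {N N₀ : Type u} [AddCommGroup N] [Module S N] [Module R N] [IsScalarTower R S N]
    [AddCommGroup N₀] [Module S₀ N₀] [Module R₀ N₀] [IsScalarTower R₀ S₀ N₀]
    [Module.Finite S₀ N₀] [Module.Flat R₀ N₀] [Module S₀ N] [IsScalarTower S₀ S N]
    {f : N₀ →ₗ[S₀] N} (hf : IsBaseChange S f) (p : Ideal R) [p.IsPrime] (q : Ideal S) [q.IsPrime]
    [hqp : q.LiesOver p] (s : S) (s₁ : R₁ ⊗[R₀] S₀)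
    (hs₁ : Algebra.IsPushout.equiv R₀ R S₀ S
      (LinearMap.rTensor S₀ (IsScalarTower.toAlgHom R₀ R₁ R).toLinearMap s₁) = s)
    (hs : ∀ x : FlatCA.fiberMod p S N, (∃ c ∉ q, c • s • x = 0) → ∃ c ∉ q, c • x = 0)
    (Q : Type u) [AddCommGroup Q] [Module R Q] (z : N ⊗[R] Q) (hz : s • z = 0) :
    ∃ c ∉ q, c • z = 0 := by
  let ψ : R₁ ⊗[R₀] S₀ →ₐ[R₀] S := Algebra.TensorProduct.lift
    ((IsScalarTower.toAlgHom R₀ R S).comp (IsScalarTower.toAlgHom R₀ R₁ R))
    (IsScalarTower.toAlgHom R₀ S₀ S) fun _ _ => .all _ _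
  have hψ : ∀ a b, ψ (a ⊗ₜ[R₀] b) = algebraMap R S (algebraMap R₁ R a) * algebraMap S₀ S b :=
    fun a b => Algebra.TensorProduct.lift_tmul _ _ _ _ _
  have hψs : ψ s₁ = s := by
    rw [← hs₁]
    clear hs₁
    induction s₁ using TensorProduct.induction_on with
    | zero => simp
    | tmul a b =>
      rw [hψ, LinearMap.rTensor_tmul, Algebra.IsPushout.equiv_tmul]
      rfl
    | add a b ha hb => simp only [map_add, ha, hb]
  subst hψs
  let : Algebra (R₁ ⊗[R₀] S₀) S := ψ.toRingHom.toAlgebra
  let : Algebra R₁ S := ((algebraMap R S).comp (algebraMap R₁ R)).toAlgebra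
  have : IsScalarTower R₁ R S := IsScalarTower.of_algebraMap_eq fun _ => rfl
  have : IsScalarTower R₁ (R₁ ⊗[R₀] S₀) S := IsScalarTower.of_algebraMap_eq fun x => by
    change algebraMap R S (algebraMap R₁ R x) = ψ (x ⊗ₜ[R₀] (1 : S₀))
    rw [hψ, map_one, mul_one]
  have : IsScalarTower R₀ (R₁ ⊗[R₀] S₀) S :=
    IsScalarTower.of_algebraMap_eq fun x => (ψ.commutes x).symm
  have : IsScalarTower S₀ (R₁ ⊗[R₀] S₀) S := IsScalarTower.of_algebraMap_eq fun x => by
    change _ = ψ ((1 : R₁) ⊗ₜ[R₀] x)
    rw [hψ, map_one, map_one, one_mul]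
  have : IsScalarTower R₀ S₀ (R₁ ⊗[R₀] S₀) := IsScalarTower.of_algebraMap_eq fun x =>
    ((Algebra.TensorProduct.includeRight : S₀ →ₐ[R₀] R₁ ⊗[R₀] S₀).commutes x).symm
  have : IsNoetherianRing (R₁ ⊗[R₀] S₀) := Algebra.FiniteType.isNoetherianRing R₁ _
  exact smul_regular_of_pushout (R₀ := R₀) (R₁ := R₁) hf p q s₁ hs Q z hz

/-- Regularity on the fibre gives universal regularity at the prime for flat finitely presented
modules over finitely presented algebras. -/
theorem smul_regular {R S : Type u} [CommRing R] [CommRing S] [Algebra R S]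
    [Algebra.FinitePresentation R S] {N : Type u} [AddCommGroup N] [Module S N] [Module R N]
    [IsScalarTower R S N] [Module.FinitePresentation S N] [Module.Flat R N] (p : Ideal R)
    [p.IsPrime] (q : Ideal S) [q.IsPrime] [hqp : q.LiesOver p] (s : S)
    (hs : ∀ x : FlatCA.fiberMod p S N, (∃ c ∉ q, c • s • x = 0) → ∃ c ∉ q, c • x = 0)
    (Q : Type u) [AddCommGroup Q] [Module R Q] (z : N ⊗[R] Q) (hz : s • z = 0) :
    ∃ c ∉ q, c • z = 0 := by
  classical
  obtain ⟨n, π, hπ, hker⟩ := Algebra.FinitePresentation.out (R := R) (A := S)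
  let P := MvPolynomial (Fin n) R
  let : Algebra P S := π.toRingHom.toAlgebra
  have : IsScalarTower R P S := IsScalarTower.of_algebraMap_eq fun x => (π.commutes x).symm
  have : Module.FinitePresentation P S :=
    Module.finitePresentation_of_surjective (Algebra.linearMap P S) hπ hker
  let : Module P N := Module.compHom N π.toRingHom
  have : IsScalarTower P S N := IsScalarTower.of_algebraMap_smul fun _ _ => rfl
  have : IsScalarTower R P N := IsScalarTower.of_algebraMap_smul fun a x => by
    change π (algebraMap R _ a) • x = a • x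
    rw [π.commutes, algebraMap_smul]
  have : Module.FinitePresentation P N := Module.FinitePresentation.trans P N S
  let : Module Pᵐᵒᵖ N := Module.compHom N ((RingHom.id P).fromOpposite mul_comm)
  have : IsCentralScalar P N := ⟨fun _ _ => rfl⟩
  obtain ⟨R₀, _, _, S₀, _, _, _, _, _, _, N₀, _, _, _, _, _, _, f, hR₀, hS₀, hN₀, hflat₀, hpush,
    hf⟩ := Groth.Agent.H02CA.FlatModel.exists_model (M := N) π hπ (fun _ _ => rfl) hker
  obtain ⟨w, rfl⟩ := (Algebra.IsPushout.equiv R₀ R S₀ S).surjective s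
  obtain ⟨T, hT⟩ := TensorProduct.exists_finset w
  have : IsNoetherianRing R₀ := Algebra.FiniteType.isNoetherianRing ℤ R₀
  let : Algebra (MvPolynomial T R₀) R :=
    (MvPolynomial.aeval fun i : T => (i : R × S₀).1).toRingHom.toAlgebra
  have : IsScalarTower R₀ (MvPolynomial T R₀) R :=
    IsScalarTower.of_algebraMap_eq fun x => (AlgHom.commutes _ x).symm
  refine smul_regular_of_tensor (R₀ := R₀) (R₁ := MvPolynomial T R₀) hf p q _
    (∑ i : T, MvPolynomial.X i ⊗ₜ[R₀] (i : R × S₀).2) ?_ hs Q z hz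
  rw [hT, map_sum, ← Finset.sum_coe_sort T]
  congr 1
  refine Finset.sum_congr rfl fun i _ => ?_
  simp [RingHom.algebraMap_toAlgebra]

end Groth.Agent.H7Flat.FibreRegular
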