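import Groth.Agent.H7Flat.FibreGenericSpec
import Groth.Agent.H7Flat.FibreRegular
import Groth.Agent.S5754
import Groth.Agent.H9Hens.Split
import Mathlib

/-!
Over a henselian Noetherian local ring, associated points of the fibres of a flat module which
meet the closed fibre do so universally.
-/

set_option autoImplicit false
universe u

namespace Groth.Agent.H7Flat.HenselianFlatSpec

open TensorProduct FlatMor IsLocalRing ImpurityDescend FibreGenericSpec
open Groth.Agent.H02CA.FibreAss (fiber_smul)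
open scoped Pointwise

attribute [local instance] Algebra.TensorProduct.rightAlgebra

set_option backward.isDefEq.respectTransparency false
set_option maxHeartbeats 1000000
set_option synthInstance.maxHeartbeats 400000

/-- The cokernel of a universally injective map into a flat module is flat. -/
theorem flat_coker_of_univInj {R N M : Type u} [CommRing R] [AddCommGroup N] [Module R N]
    [AddCommGroup M] [Module R M] [Module.Flat R M] (u : N →ₗ[R] M)
    (hu : ∀ (Q : Type u) [AddCommGroup Q] [Module R Q], Function.Injective (u.lTensor Q)) :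
    Module.Flat R (M ⧸ LinearMap.range u) := by
  rw [Module.Flat.iff_rTensor_injective']
  intro I
  rw [injective_iff_map_eq_zero]
  intro x hx
  obtain ⟨y, rfl⟩ := LinearMap.lTensor_surjective I (Submodule.mkQ_surjective (LinearMap.range u)) x
  have hnat : ∀ {A B : Type u} [AddCommGroup A] [Module R A] [AddCommGroup B] [Module R B]
      (f : A →ₗ[R] B) (v : I ⊗[R] A),
      (I.subtype.rTensor B) (f.lTensor I v) = f.lTensor R (I.subtype.rTensor A v) := by
    intro A B _ _ _ _ f v
    rw [← LinearMap.comp_apply, ← LinearMap.comp_apply, LinearMap.rTensor_comp_lTensor,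
      LinearMap.lTensor_comp_rTensor]
  rw [hnat] at hx
  obtain ⟨n, hn⟩ :=
    (lTensor_exact R (LinearMap.exact_map_mkQ_range u) (Submodule.mkQ_surjective _) _).mp hx
  have h1 : u.lTensor (R ⧸ I) (I.mkQ.rTensor N n) = 0 := by
    rw [← LinearMap.comp_apply, LinearMap.lTensor_comp_rTensor, ← LinearMap.rTensor_comp_lTensor,
      LinearMap.comp_apply, hn, ← LinearMap.comp_apply, ← LinearMap.rTensor_comp,
      (LinearMap.exact_subtype_mkQ I).linearMap_comp_eq_zero, LinearMap.rTensor_zero,
      LinearMap.zero_apply]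
  obtain ⟨w, hw⟩ := (rTensor_exact N (LinearMap.exact_subtype_mkQ I) I.mkQ_surjective n).mp
    ((injective_iff_map_eq_zero _).mp (hu (R ⧸ I)) _ h1)
  have hy : y = u.lTensor I w := by
    apply Module.Flat.rTensor_preserves_injective_linearMap (M := M) I.subtype I.subtype_injective
    rw [hnat, hw, hn]
  rw [hy, ← LinearMap.comp_apply, ← LinearMap.lTensor_comp,
    (LinearMap.exact_map_mkQ_range u).linearMap_comp_eq_zero, LinearMap.lTensor_zero,
    LinearMap.zero_apply]

variable {A S : Type u} [CommRing A] [IsLocalRing A] [IsNoetherianRing A] [CommRing S] [Algebra A S]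
  [Algebra.FiniteType A S]

/-- Where an element is regular on the closed fibre, the cokernel of multiplication is flat. -/
theorem flatAt_coker_smul {N : Type u} [AddCommGroup N] [Module S N] [Module A N]
    [IsScalarTower A S N] [Module.Finite S N] (Q : Ideal S) [Q.IsPrime]
    [Q.LiesOver (maximalIdeal A)] (hflat : FlatCA.FlatAt A Q N) (g : S)
    (hg : ∀ x : FlatCA.fiberMod (maximalIdeal A) S N,
      (∃ c ∉ Q, c • g • x = 0) → ∃ c ∉ Q, c • x = 0) :
    FlatCA.FlatAt A Q (N ⧸ LinearMap.range (LinearMap.lsmul S N g)) := by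
  have : IsNoetherianRing S := Algebra.FiniteType.isNoetherianRing A S
  let L := LocalizedModule Q.primeCompl N
  let N₁ := N ⧸ LinearMap.range (LinearMap.lsmul S N g)
  have : Module.Flat A L := hflat
  let u : L →ₗ[A] L := (LinearMap.lsmul S L g).restrictScalars A
  have hu : ∀ (P : Type u) [AddCommGroup P] [Module A P], Function.Injective (u.lTensor P) := by
    intro P _ _
    rw [LinearMap.lTensor_inj_iff_rTensor_inj, injective_iff_map_eq_zero]
    intro z hz
    let f := AlgebraTensorModule.rTensor A P (LocalizedModule.mkLinearMap Q.primeCompl N)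
    obtain ⟨⟨w, c⟩, hw⟩ := IsLocalizedModule.surj Q.primeCompl f z
    have hgz : g • z = 0 := by
      rw [← hz]
      clear hz hw
      induction z using TensorProduct.induction_on with
      | zero => simp
      | tmul a b => rfl
      | add a b ha hb => simp only [map_add, smul_add, ha, hb]
    have h1 : f (g • w) = 0 := by
      rw [map_smul, show f w = (c : S) • z from hw.symm, smul_comm, hgz, smul_zero]
    obtain ⟨d, hd⟩ := (IsLocalizedModule.eq_zero_iff Q.primeCompl f).mp h1
    obtain ⟨e, he, hew⟩ := FibreRegular.smul_regular_noetherian (maximalIdeal A) Q hflat g hg P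
      ((d : S) • w) (by rw [smul_comm]; exact hd)
    refine IsLocalizedModule.smul_injective f ((⟨e, he⟩ : Q.primeCompl) * d * c) ?_
    show (e * (d : S) * (c : S)) • z = (((⟨e, he⟩ : Q.primeCompl) * d * c : Q.primeCompl) : S) • 0
    rw [smul_zero, mul_smul, show (c : S) • z = f w from hw, ← map_smul, mul_smul, hew, map_zero]
  have hflat₂ : Module.Flat A (L ⧸ LinearMap.range u) := flat_coker_of_univInj u hu
  let π : L →ₗ[S] LocalizedModule Q.primeCompl N₁ :=
    IsLocalizedModule.map Q.primeCompl (LocalizedModule.mkLinearMap Q.primeCompl N)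
      (LocalizedModule.mkLinearMap Q.primeCompl N₁)
      (Submodule.mkQ (LinearMap.range (LinearMap.lsmul S N g)))
  have hπ : Function.Surjective π :=
    IsLocalizedModule.map_surjective Q.primeCompl _ _ _ (Submodule.mkQ_surjective _)
  have hker : LinearMap.ker (π.restrictScalars A) = LinearMap.range u := by
    have hex : Function.Exact (LinearMap.lsmul S L g) π := by
      have h := IsLocalizedModule.map_exact Q.primeCompl
        (LocalizedModule.mkLinearMap Q.primeCompl N) (LocalizedModule.mkLinearMap Q.primeCompl N)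
        (LocalizedModule.mkLinearMap Q.primeCompl N₁) (LinearMap.lsmul S N g)
        (Submodule.mkQ (LinearMap.range (LinearMap.lsmul S N g))) (LinearMap.exact_map_mkQ_range _)
      have e : IsLocalizedModule.map Q.primeCompl (LocalizedModule.mkLinearMap Q.primeCompl N)
          (LocalizedModule.mkLinearMap Q.primeCompl N) (LinearMap.lsmul S N g) =
          LinearMap.lsmul S L g := by
        apply IsLocalizedModule.ext Q.primeCompl (LocalizedModule.mkLinearMap Q.primeCompl N)
          (IsLocalizedModule.map_units (LocalizedModule.mkLinearMap Q.primeCompl N))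
        refine LinearMap.ext fun n => ?_
        rw [LinearMap.comp_apply, LinearMap.comp_apply, IsLocalizedModule.map_apply,
          LinearMap.lsmul_apply, LinearMap.lsmul_apply, map_smul]
      rwa [e] at h
    ext z
    exact ⟨fun h => (hex z).mp h, fun h => (hex z).mpr h⟩
  exact Module.Flat.of_linearEquiv
    ((Submodule.quotEquivOfEq _ _ hker.symm) ≪≫ₗ
      (π.restrictScalars A).quotKerEquivOfSurjective hπ).symm

/-- Elements regular on the closed fibre at a point stay so on a neighbourhood. -/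
theorem exists_nhd_fiber_regular {N : Type u} [AddCommGroup N] [Module S N] [Module A N]
    [IsScalarTower A S N] [Module.Finite S N]
    (p : Ideal A) [p.IsPrime] (Q : Ideal S) [Q.IsPrime] (g : S)
    (hg : ∀ x : FlatCA.fiberMod p S N, (∃ c ∉ Q, c • g • x = 0) → ∃ c ∉ Q, c • x = 0) :
    ∃ c₁ ∉ Q, ∀ (Q' : Ideal S), Q'.IsPrime → c₁ ∉ Q' →
      ∀ x : FlatCA.fiberMod p S N, (∃ c ∉ Q', c • g • x = 0) → ∃ c ∉ Q', c • x = 0 := by
  classical
  have : IsNoetherianRing (p.Fiber S) := Algebra.FiniteType.isNoetherianRing p.ResidueField _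
  have : Module.Finite (p.Fiber S) (FlatCA.fiberMod p S N) :=
    inferInstanceAs (Module.Finite (p.Fiber S) ((p.Fiber S) ⊗[S] N))
  let inc : S →+* p.Fiber S := algebraMap S (p.Fiber S)
  let K : Submodule (p.Fiber S) (FlatCA.fiberMod p S N) :=
    LinearMap.ker (LinearMap.lsmul (p.Fiber S) (FlatCA.fiberMod p S N) (inc g))
  have hK : ∀ x, x ∈ K ↔ g • x = 0 := fun x => by
    rw [LinearMap.mem_ker, LinearMap.lsmul_apply, fiber_smul]
    exact Iff.rfl
  obtain ⟨G, hG⟩ := IsNoetherian.noetherian K
  have hkill : ∀ X : G, ∃ c ∉ Q, c • (X : FlatCA.fiberMod p S N) = 0 := fun X =>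
    hg _ ⟨1, Q.primeCompl.one_mem, by
      rw [one_smul]; exact (hK _).mp (hG ▸ Submodule.subset_span X.2)⟩
  choose c hc hcX using hkill
  refine ⟨∏ X, c X, prod_mem (S := Q.primeCompl) fun X _ => hc X, fun Q' hQ' hc₁ x ⟨d, hd, hdx⟩ =>
    ⟨(∏ X, c X) * d, hQ'.mem_or_mem.mt (not_or_intro hc₁ hd), ?_⟩⟩
  have hmem : d • x ∈ K := (hK _).mpr (by rw [smul_comm]; exact hdx)
  rw [mul_smul]
  generalize d • x = y at hmem ⊢
  rw [← hG] at hmem
  rw [fiber_smul]
  induction hmem using Submodule.span_induction with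
  | mem Y hY =>
    rw [← fiber_smul, ← Finset.prod_erase_mul _ _ (Finset.mem_univ (⟨Y, hY⟩ : G)), mul_smul,
      hcX ⟨Y, hY⟩, smul_zero]
  | zero => rw [smul_zero]
  | add _ _ _ _ h h' => rw [smul_add, h, h', add_zero]
  | smul a _ _ h => rw [smul_comm, h, smul_zero]

/-- The step along the fibre: the next associated point. -/
theorem exists_next {N : Type u} [AddCommGroup N] [Module S N] [Module A N]
    [IsScalarTower A S N] [Module.Finite S N] (Q : Ideal S) [Q.IsPrime]
    [Q.LiesOver (maximalIdeal A)] (hflat : FlatCA.FlatAt A Q N) (g : S) (hgQ : g ∈ Q)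
    (hg : ∀ x : FlatCA.fiberMod (maximalIdeal A) S N,
      (∃ c ∉ Q, c • g • x = 0) → ∃ c ∉ Q, c • x = 0)
    (p : Ideal A) [p.IsPrime] (q : Ideal S) [q.IsPrime] [q.LiesOver p] (hqQ : q ≤ Q)
    (hq : FlatCA.fiberIdeal p q ∈ associatedPrimes (p.Fiber S) (FlatCA.fiberMod p S N)) :
    ∃ x : Ideal S, x.IsPrime ∧ x.LiesOver p ∧ q < x ∧ x ≤ Q ∧
      FlatCA.fiberIdeal p x ∈ associatedPrimes (p.Fiber S)
        (FlatCA.fiberMod p S (N ⧸ LinearMap.range (LinearMap.lsmul S N g))) := by
  classical
  have : IsNoetherianRing S := Algebra.FiniteType.isNoetherianRing A S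
  have : IsNoetherianRing (p.Fiber S) := Algebra.FiniteType.isNoetherianRing p.ResidueField _
  let J := p.map (algebraMap A S)
  let M := N ⧸ J • (⊤ : Submodule S N)
  have hqass : q ∈ FlatCA.ass S M := by
    refine Groth.Agent.H02CA.FibreAss.ass_quot_of_ass_fiber p q
      ((Groth.Agent.H02CA.FibreAss.ass_fiber_iff p q).mpr ⟨_, ⟨hq.isPrime, ?_⟩, comap_fiberIdeal p q⟩)
    obtain ⟨-, y, hy⟩ := isAssociatedPrime_iff.mp hq
    refine ⟨y, hy.trans ?_⟩
    ext a
    rw [Submodule.mem_colon_singleton, Submodule.mem_annihilator_span_singleton, Submodule.mem_bot]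
  have hregM : ∀ m : M, g • m = 0 → ∃ c ∉ Q, c • m = 0 := by
    intro m hm
    let e := Groth.Agent.H02CA.FibreAss.quotEquivTensor (S := S) N p
    obtain ⟨c, hc, h⟩ := FibreRegular.smul_regular_noetherian (maximalIdeal A) Q hflat g hg (A ⧸ p)
      (e m) (by rw [← map_smul, hm, map_zero])
    exact ⟨c, hc, e.injective (by rw [map_smul, h, map_zero])⟩
  let K : Submodule S M :=
    { carrier := {m | ∃ c ∉ Q, c • m = 0}
      zero_mem' := ⟨1, Q.primeCompl.one_mem, smul_zero _⟩
      add_mem' := fun {a b} ⟨c, hc, ha⟩ ⟨d, hd, hb⟩ => ⟨d * c, Q.primeCompl.mul_mem hd hc, by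
        rw [smul_add, mul_smul, ha, smul_zero, mul_comm, mul_smul, hb, smul_zero, add_zero]⟩
      smul_mem' := fun s a ⟨c, hc, ha⟩ => ⟨c, hc, by rw [smul_comm, ha, smul_zero]⟩ }
  have hreg : IsSMulRegular (M ⧸ K) g := by
    rw [isSMulRegular_iff_right_eq_zero_of_smul]
    intro y hy
    obtain ⟨m, rfl⟩ := Submodule.Quotient.mk_surjective _ y
    rw [← Submodule.Quotient.mk_smul, Submodule.Quotient.mk_eq_zero] at hy
    obtain ⟨c, hc, hcm⟩ := hy
    obtain ⟨d, hd, hdm⟩ := hregM (c • m) (by rw [smul_comm]; exact hcm)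
    exact (Submodule.Quotient.mk_eq_zero _).mpr
      ⟨d * c, Q.primeCompl.mul_mem hd hc, by rw [mul_smul]; exact hdm⟩
  obtain ⟨-, m₀, hm₀⟩ := hqass
  have hm₀' : ∀ s, s ∈ q ↔ s • m₀ = 0 := fun s => by
    rw [hm₀, Submodule.mem_annihilator_span_singleton]
  have hqK : q ∈ associatedPrimes S (M ⧸ K) := by
    refine isAssociatedPrime_iff.mpr ⟨inferInstance, K.mkQ m₀, ?_⟩
    ext s
    rw [Submodule.mem_colon_singleton, Submodule.mem_bot, ← map_smul, Submodule.mkQ_apply,
      Submodule.Quotient.mk_eq_zero]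
    constructor
    · exact fun hs => ⟨1, Q.primeCompl.one_mem, by rw [(hm₀' s).mp hs, smul_zero]⟩
    · rintro ⟨c, hc, h⟩
      rw [smul_smul, ← hm₀'] at h
      exact (Ideal.IsPrime.mem_or_mem ‹q.IsPrime› h).resolve_left fun h => hc (hqQ h)
  have hgq : g ∉ q := fun h => by
    obtain ⟨c, hc, hcm⟩ := hregM m₀ ((hm₀' g).mp h)
    exact hc (hqQ ((hm₀' c).mpr hcm))
  obtain ⟨x, hx, hxQ⟩ := Ideal.exists_minimalPrimes_le
    (show q ⊔ Ideal.span {g} ≤ Q from sup_le hqQ ((Ideal.span_singleton_le_iff_mem Q).mpr hgQ))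
  have hxp : x.IsPrime := hx.1.1
  obtain ⟨-, Y, hY⟩ := isAssociatedPrime_iff.mp (S5754.result S (M ⧸ K) g hreg q hqK x hx)
  have hgx : g ∈ x := hx.1.2 (Ideal.mem_sup_right (Ideal.mem_span_singleton_self g))
  have hqx : q ≤ x := le_sup_left.trans hx.1.2
  let N₁ := N ⧸ LinearMap.range (LinearMap.lsmul S N g)
  let M₁ := N₁ ⧸ J • (⊤ : Submodule S N₁)
  let θ : N →ₗ[S] M₁ :=
    (Submodule.mkQ (J • (⊤ : Submodule S N₁))).comp (Submodule.mkQ (LinearMap.range (LinearMap.lsmul S N g)))
  obtain ⟨Ym, hYm⟩ := Submodule.Quotient.mk_surjective _ Y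
  obtain ⟨Yk, hYk⟩ := Submodule.Quotient.mk_surjective _ Ym
  obtain ⟨n, hn⟩ := Submodule.Quotient.mk_surjective _ Yk
  subst hYm hYk hn
  have hθker : ∀ w ∈ J • (⊤ : Submodule S N), θ w = 0 := fun w hw => by
    have h := Submodule.smul_top_le_comap_smul_top J
      (Submodule.mkQ (LinearMap.range (LinearMap.lsmul S N g))) hw
    exact (Submodule.Quotient.mk_eq_zero _).mpr h
  have hzero : ∀ s : S, (∃ c ∉ Q, c • s • θ n = 0) ↔ s ∈ x := by
    intro s
    rw [hY, Submodule.mem_colon_singleton, Submodule.mem_bot, ← Submodule.Quotient.mk_smul,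
      ← Submodule.Quotient.mk_smul, ← Submodule.Quotient.mk_smul, Submodule.Quotient.mk_eq_zero,
      Submodule.mem_smul_pointwise_iff_exists]
    constructor
    · rintro ⟨c, hc, h⟩
      rw [smul_smul, ← map_smul] at h
      have h1 : Submodule.mkQ (LinearMap.range (LinearMap.lsmul S N g)) ((c * s) • n) ∈
          (J • (⊤ : Submodule S N)).map (Submodule.mkQ (LinearMap.range (LinearMap.lsmul S N g))) := by
        rw [Submodule.map_smul'', Submodule.map_top, Submodule.range_mkQ]
        exact (Submodule.Quotient.mk_eq_zero _).mp h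
      obtain ⟨w, hw, hwe⟩ := h1
      obtain ⟨n', hn'⟩ := (Submodule.Quotient.eq _).mp hwe.symm
      have hn'' : g • n' = (c * s) • n - w := hn'
      have hcu : IsUnit (algebraMap S (Localization.AtPrime Q) c) :=
        IsLocalization.map_units _ (⟨c, hc⟩ : Q.primeCompl)
      obtain ⟨y₀, -, hy₀⟩ := (show ∃ y₀, y₀ ∈ (⊤ : Submodule S (M ⧸ K)) ∧
          g • y₀ = Submodule.Quotient.mk (Submodule.Quotient.mk ((c * s) • n)) from
        ⟨Submodule.Quotient.mk (Submodule.Quotient.mk n'), Submodule.mem_top, by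
          rw [← Submodule.Quotient.mk_smul, ← Submodule.Quotient.mk_smul, hn'']
          refine congrArg Submodule.Quotient.mk ((Submodule.Quotient.eq _).mpr ?_)
          rw [sub_sub_cancel_left]
          exact neg_mem hw⟩)
      have hcs : c * s ∈ x := by
        rw [hY, Submodule.mem_colon_singleton, Submodule.mem_bot, ← Submodule.Quotient.mk_smul,
          ← Submodule.Quotient.mk_smul, ← Submodule.Quotient.mk_smul, Submodule.Quotient.mk_eq_zero,
          Submodule.mem_smul_pointwise_iff_exists]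
        exact ⟨y₀, Submodule.mem_top, hy₀⟩
      have hsx : s ∈ x := (hxp.mem_or_mem hcs).resolve_left fun h => hc (hxQ h)
      rw [hY, Submodule.mem_colon_singleton, Submodule.mem_bot, ← Submodule.Quotient.mk_smul,
        ← Submodule.Quotient.mk_smul, ← Submodule.Quotient.mk_smul, Submodule.Quotient.mk_eq_zero,
        Submodule.mem_smul_pointwise_iff_exists] at hsx
      exact hsx
    · rintro ⟨y₀, -, hy₀⟩
      obtain ⟨m₁, rfl⟩ := Submodule.Quotient.mk_surjective _ y₀
      obtain ⟨n', rfl⟩ := Submodule.Quotient.mk_surjective _ m₁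
      rw [← Submodule.Quotient.mk_smul, Submodule.Quotient.eq] at hy₀
      obtain ⟨c, hc, hcz⟩ := hy₀
      rw [← Submodule.Quotient.mk_smul, ← Submodule.Quotient.mk_sub, ← Submodule.Quotient.mk_smul,
        Submodule.Quotient.mk_eq_zero] at hcz
      refine ⟨c, hc, ?_⟩
      have h0 := hθker _ hcz
      rw [map_smul, map_sub, map_smul, map_smul,
        show g • θ n' = 0 from ?_, zero_sub, smul_neg, neg_eq_zero] at h0
      · exact h0
      · rw [← map_smul]
        show Submodule.Quotient.mk (Submodule.Quotient.mk (g • n')) = (0 : M₁)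
        rw [show (Submodule.Quotient.mk (g • n') : N₁) = 0 from
            (Submodule.Quotient.mk_eq_zero _).mpr ⟨n', rfl⟩, Submodule.Quotient.mk_zero]
  obtain ⟨G, hG⟩ := IsNoetherian.noetherian x
  have hcG : ∀ s : G, ∃ c ∉ Q, c • (s : S) • θ n = 0 := fun s =>
    (hzero _).mpr (hG.le (Submodule.subset_span s.2))
  choose cs hcs hcsn using hcG
  let c₀ := ∏ s, cs s
  have hc₀ : c₀ ∉ Q := prod_mem (S := Q.primeCompl) fun s _ => hcs s
  have hxass : x ∈ FlatCA.ass S M₁ := by
    refine ⟨hxp, c₀ • θ n, le_antisymm ?_ fun t ht => ?_⟩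
    · rw [← hG]
      refine Submodule.span_le.mpr fun s hs => ?_
      rw [SetLike.mem_coe, Submodule.mem_annihilator_span_singleton, smul_comm,
        show c₀ = (∏ t ∈ Finset.univ.erase ⟨s, hs⟩, cs t) * cs ⟨s, hs⟩ from
          (Finset.prod_erase_mul _ _ (Finset.mem_univ _)).symm, mul_smul, hcsn ⟨s, hs⟩, smul_zero]
    · rw [Submodule.mem_annihilator_span_singleton, smul_comm] at ht
      exact (hzero t).mp ⟨c₀, hc₀, ht⟩
  have hxover : x.LiesOver p := by
    refine ⟨le_antisymm ((q.over_def p).le.trans (Ideal.comap_mono hqx)) fun r hr => ?_⟩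
    by_contra hrp
    let L := LocalizedModule Q.primeCompl N₁
    have : Module.Flat A L := flatAt_coker_smul Q hflat g hg
    obtain ⟨c, hc, hcn⟩ := (hzero (algebraMap A S r)).mpr hr
    let mk := LocalizedModule.mkLinearMap Q.primeCompl N₁
    let n₁ : N₁ := Submodule.Quotient.mk n
    have h1 : c • algebraMap A S r • n₁ ∈ J • (⊤ : Submodule S N₁) :=
      (Submodule.Quotient.mk_eq_zero _).mp hcn
    have hunit : IsUnit (algebraMap S (Localization.AtPrime Q) c) :=
      IsLocalization.map_units _ (⟨c, hc⟩ : Q.primeCompl)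
    have h2 : algebraMap A S r • c • mk n₁ ∈ J • (⊤ : Submodule S L) := by
      rw [smul_comm, ← map_smul, ← map_smul]
      exact Submodule.smul_top_le_comap_smul_top J mk h1
    have h3 : mk (c • n₁) ∈ J • (⊤ : Submodule S L) := by
      rw [map_smul]
      exact Groth.Agent.H02CA.FibreAss.mem_of_smul_mem p hrp h2
    obtain ⟨d, hd, hdm⟩ : ∃ d ∉ Q, d • c • n₁ ∈ J • (⊤ : Submodule S N₁) := by
      have hex : mk.comp (J • (⊤ : Submodule S N₁)).subtype = mk.comp (J • (⊤ : Submodule S N₁)).subtype :=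
        rfl
      obtain ⟨⟨w, d⟩, hwd⟩ : ∃ wd : (J • (⊤ : Submodule S N₁) : Submodule S N₁) × Q.primeCompl,
          (wd.2 : S) • mk (c • n₁) = mk wd.1 := by
        generalize mk (c • n₁) = v at h3 ⊢
        refine Submodule.smul_induction_on h3 (fun j hj l _ => ?_) (fun a b ha hb => ?_)
        · obtain ⟨⟨l', d⟩, hl⟩ := IsLocalizedModule.surj Q.primeCompl mk l
          refine ⟨⟨⟨j • l', Submodule.smul_mem_smul hj trivial⟩, d⟩, ?_⟩
          show (d : S) • j • l = mk (j • l')
          rw [smul_comm, map_smul, ← show d • l = mk l' from hl]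
          rfl
        · obtain ⟨⟨wa, da⟩, ha⟩ := ha
          obtain ⟨⟨wb, db⟩, hb⟩ := hb
          refine ⟨⟨(db : S) • wa + (da : S) • wb, da * db⟩, ?_⟩
          rw [Submodule.coe_add, Submodule.coe_smul, Submodule.coe_smul, map_add, map_smul,
            map_smul, ← ha, ← hb, smul_smul, smul_smul, smul_add, Submonoid.coe_mul, mul_comm (db : S)]
      obtain ⟨e, he⟩ := (IsLocalizedModule.eq_iff_exists Q.primeCompl mk).mp
        (show mk ((d : S) • c • n₁) = mk w by rw [map_smul]; exact hwd)
      refine ⟨(e : S) * d, (e * d).2, ?_⟩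
      rw [mul_smul, show (e : S) • (d : S) • c • n₁ = (e : S) • (w : N₁) from he]
      exact Submodule.smul_mem _ _ w.2
    have h4 : d * c ∈ x := (hzero _).mp ⟨1, Q.primeCompl.one_mem, by
      rw [one_smul, mul_smul]
      exact (Submodule.Quotient.mk_eq_zero _).mpr hdm⟩
    exact (hxp.mem_or_mem h4).elim (fun h => hd (hxQ h)) fun h => hc (hxQ h)
  refine ⟨x, hxp, hxover, lt_of_le_of_ne hqx fun e => hgq (e ▸ hgx), hxQ, ?_⟩
  have h1 := Groth.Agent.H02CA.FibreAss.ass_fiber_of_ass_quot p x hxover.over.symm hxass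
  obtain ⟨P, ⟨hPp, y, hy⟩, hPx⟩ := (Groth.Agent.H02CA.FibreAss.ass_fiber_iff p x).mp h1
  have hP : FlatCA.fiberIdeal p x = P :=
    (congrArg (FlatCA.fiberIdeal p) hPx.symm).trans (fiberIdeal_comap p P)
  rw [hP]
  refine isAssociatedPrime_iff.mpr ⟨hPp, y, hy.trans ?_⟩
  ext a
  rw [Submodule.mem_colon_singleton, Submodule.mem_annihilator_span_singleton, Submodule.mem_bot]

end Groth.Agent.H7Flat.HenselianFlatSpec
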