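import Groth.Agent.H7Flat.FibreRepr

/-!
Maps to a flat module which are injective on all fibres are universally injective.
-/

set_option autoImplicit false
universe u

namespace Groth.Agent.H7Flat.UnivInjFibres

open TensorProduct UnivInjCover WeakAssTensor FibreRepr
open Groth.Agent.H02CA.FibreAss (fiber_smul toFiberMod_eq_zero_iff)

attribute [local instance] Algebra.TensorProduct.rightAlgebra

set_option backward.isDefEq.respectTransparency false
set_option maxHeartbeats 1000000
set_option synthInstance.maxHeartbeats 400000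

/-- A finitely presented module over a localization of a quotient is a localization of a finitely
presented module. -/
theorem exists_fp_localization {P L N : Type u} [CommRing P] [CommRing L] [Algebra P L]
    (T : Submonoid P) (hT : ∀ t ∈ T, IsUnit (algebraMap P L t))
    (hsurj : ∀ s : L, ∃ t ∈ T, ∃ p, algebraMap P L t * s = algebraMap P L p)
    (G : Finset P) (hG : ∀ x, algebraMap P L x = 0 → ∃ t ∈ T, t * x ∈ Ideal.span (G : Set P))
    (hG0 : ∀ x ∈ G, algebraMap P L x = 0)
    [AddCommGroup N] [Module L N] [Module P N] [IsScalarTower P L N] [Module.FinitePresentation L N] :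
    ∃ (N' : Type u) (_ : AddCommGroup N') (_ : Module P N') (_ : Module.FinitePresentation P N')
      (ι : N' →ₗ[P] N), IsLocalizedModule T ι := by
  classical
  obtain ⟨k, m, f, g, hf, hfg⟩ := Module.FinitePresentation.exists_fin' L N
  have hcol : ∀ i : Fin m, ∃ t ∈ T, ∃ p : Fin k → P,
      ∀ j, algebraMap P L t * g (Pi.single i 1) j = algebraMap P L (p j) := by
    intro i
    choose t ht p hp using fun j => hsurj (g (Pi.single i 1) j)
    refine ⟨∏ j, t j, prod_mem fun j _ => ht j,
      fun j => (∏ l ∈ Finset.univ.erase j, t l) * p j, fun j => ?_⟩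
    rw [map_mul _ _ (p j), ← hp, ← mul_assoc, ← map_mul, Finset.prod_erase_mul _ _ (Finset.mem_univ j)]
  choose t ht p hp using hcol
  let red : (Fin k → P) →ₗ[P] (Fin k → L) :=
    LinearMap.pi fun j => (Algebra.linearMap P L) ∘ₗ LinearMap.proj j
  let K₀ : Submodule P (Fin k → P) := Submodule.span P
    ((Set.range p) ∪ ((fun e : Fin k × P => Pi.single e.1 e.2) '' (Set.univ ×ˢ (G : Set P))))
  have hK₀fg : K₀.FG := Submodule.fg_span ((Set.finite_range p).union
    ((Set.finite_univ.prod G.finite_toSet).image _))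
  let φ : (Fin k → P) →ₗ[P] N := (f.restrictScalars P) ∘ₗ red
  have hrel : ∀ i, algebraMap P L (t i) • g (Pi.single i 1) = red (p i) := fun i =>
    funext fun j => hp i j
  have hK₀ : K₀ ≤ LinearMap.ker φ := by
    rw [Submodule.span_le]
    rintro _ (⟨i, rfl⟩ | ⟨⟨j, x⟩, ⟨-, hx⟩, rfl⟩)
    · change f (red (p i)) = 0
      rw [← hrel, map_smul, hfg.apply_apply_eq_zero, smul_zero]
    · change f (red (Pi.single j x)) = 0
      rw [show red (Pi.single j x) = 0 from funext fun l => by
        rcases eq_or_ne l j with rfl | h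
        · change algebraMap P L ((Pi.single l x : Fin k → P) l) = 0
          rw [Pi.single_eq_same, hG0 x hx]
        · change algebraMap P L ((Pi.single j x : Fin k → P) l) = 0
          rw [Pi.single_eq_of_ne h, map_zero], map_zero]
  have : Module.FinitePresentation P ((Fin k → P) ⧸ K₀) :=
    Module.finitePresentation_of_surjective K₀.mkQ (Submodule.mkQ_surjective _)
      (by rwa [Submodule.ker_mkQ])
  refine ⟨(Fin k → P) ⧸ K₀, inferInstance, inferInstance, this, K₀.liftQ φ hK₀, ?_⟩
  refine ⟨fun x => ?_, fun y => ?_, fun {a b} h => ?_⟩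
  · rw [Module.End.isUnit_iff]
    obtain ⟨e, he⟩ := hT x x.2
    refine ⟨fun a b hab => ?_, fun y => ⟨((e⁻¹ : Lˣ) : L) • y, ?_⟩⟩
    · refine smul_left_cancel e ?_
      change (e : L) • a = (e : L) • b
      rw [he, algebraMap_smul, algebraMap_smul]
      exact hab
    · change (x : P) • ((e⁻¹ : Lˣ) : L) • y = y
      rw [← algebraMap_smul L (x : P), ← he, smul_smul, e.mul_inv, one_smul]
  · obtain ⟨a, rfl⟩ := hf y
    choose s hs b hb using fun j => hsurj (a j)
    refine ⟨(Submodule.Quotient.mk fun j => (∏ l ∈ Finset.univ.erase j, s l) * b j,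
      ⟨∏ j, s j, prod_mem fun j _ => hs j⟩), ?_⟩
    change (∏ j, s j) • f a = f (red _)
    rw [← algebraMap_smul L (∏ j, s j), ← map_smul]
    congr 1
    funext j
    change algebraMap P L (∏ l, s l) * a j =
      algebraMap P L ((∏ l ∈ Finset.univ.erase j, s l) * b j)
    rw [map_mul _ _ (b j), ← hb, ← mul_assoc, ← map_mul, Finset.prod_erase_mul _ _ (Finset.mem_univ j)]
  · obtain ⟨x, hx⟩ := Submodule.Quotient.mk_surjective K₀ (a - b)
    have h0 : f (red x) = 0 := by
      change φ x = 0
      rw [show φ x = K₀.liftQ φ hK₀ (Submodule.Quotient.mk x) from rfl, hx, map_sub, h, sub_self]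
    obtain ⟨l, hl⟩ := (hfg _).mp h0
    choose s hs b' hb using fun i => hsurj (l i)
    let ss := ∏ i, s i * t i
    let y : Fin k → P :=
      ∑ i, ((∏ j ∈ Finset.univ.erase i, s j * t j) * b' i) • p i
    have hy : red y = red (ss • x) := by
      have hgl : g l = ∑ i, l i • g (Pi.single i 1) := by
        conv_lhs => rw [pi_eq_sum_univ' l, map_sum]
        simp only [map_smul]
      simp only [y, map_sum, map_smul, ← hrel, ← hl, hgl, Finset.smul_sum]
      refine Finset.sum_congr rfl fun i _ => ?_
      rw [← algebraMap_smul L ((∏ j ∈ Finset.univ.erase i, s j * t j) * b' i),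
        ← algebraMap_smul L ss, smul_smul, smul_smul, map_mul, ← hb,
        show ss = (∏ j ∈ Finset.univ.erase i, s j * t j) * (s i * t i) from
          (Finset.prod_erase_mul _ _ (Finset.mem_univ i)).symm, map_mul, map_mul]
      congr 1
      ring
    choose u' hu' hu using fun j => hG ((y - ss • x) j) (by
      have := congrFun (sub_eq_zero.mpr hy) j
      rwa [← map_sub] at this)
    refine ⟨⟨(∏ j, u' j) * ss, mul_mem (prod_mem fun j _ => hu' j)
      (prod_mem fun i _ => mul_mem (hs i) (ht i))⟩, ?_⟩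
    change ((∏ j, u' j) * ss) • a = ((∏ j, u' j) * ss) • b
    rw [← sub_eq_zero, ← smul_sub, ← hx, ← Submodule.Quotient.mk_smul, Submodule.Quotient.mk_eq_zero,
      mul_smul, show (∏ j, u' j) • ss • x = (∏ j, u' j) • y - (∏ j, u' j) • (y - ss • x) by
        rw [← smul_sub, sub_sub_cancel]]
    refine sub_mem (Submodule.smul_mem _ _ (sum_mem fun i _ => Submodule.smul_mem _ _
      (Submodule.subset_span (Or.inl ⟨i, rfl⟩)))) ?_
    rw [pi_eq_sum_univ' ((∏ j, u' j) • (y - ss • x))]
    refine sum_mem fun j _ => ?_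
    have hmem : ∀ z ∈ Ideal.span (G : Set P), (Pi.single j z : Fin k → P) ∈ K₀ := by
      intro z hz
      induction hz using Submodule.span_induction with
      | mem z hz => exact Submodule.subset_span (Or.inr ⟨(j, z), ⟨trivial, hz⟩, rfl⟩)
      | zero => rw [Pi.single_zero]; exact zero_mem _
      | add a b _ _ ha hb => rw [Pi.single_add]; exact add_mem ha hb
      | smul c a _ ha => rw [Pi.single_smul]; exact Submodule.smul_mem _ _ ha
    rw [← Pi.single_smul, smul_eq_mul, mul_one, Pi.smul_apply, smul_eq_mul]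
    refine hmem _ ?_
    rw [← Finset.prod_erase_mul _ _ (Finset.mem_univ j), mul_assoc]
    exact Ideal.mul_mem_left _ _ (hu j)

/-- Maps injective on all fibres are universally injective: polynomial ring form. -/
theorem univInj_of_fibres_poly {A : Type u} [CommRing A] {n : ℕ} {L N' N M : Type u}
    [CommRing L] [Algebra A L] [AddCommGroup N'] [Module (MvPolynomial (Fin n) A) N'] [Module A N']
    [IsScalarTower A (MvPolynomial (Fin n) A) N']
    [Module.FinitePresentation (MvPolynomial (Fin n) A) N'] (T : Submonoid (MvPolynomial (Fin n) A))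
    [AddCommGroup N] [Module A N] [Module (MvPolynomial (Fin n) A) N]
    [IsScalarTower A (MvPolynomial (Fin n) A) N] [Module.Flat A N]
    (ι : N' →ₗ[MvPolynomial (Fin n) A] N) [IsLocalizedModule T ι]
    [AddCommGroup M] [Module A M] [Module.Flat A M] (u : N →ₗ[A] M)
    (hu : ∀ (p : Ideal A) [p.IsPrime], Function.Injective (u.lTensor p.ResidueField)) :
    FlatCA.UnivInj A u := by
  classical
  intro Q _ _
  rw [LinearMap.lTensor_inj_iff_rTensor_inj, injective_iff_map_eq_zero]
  intro z hz
  by_contra hne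
  have hne' : (Submodule.span A {z}).annihilator ≠ ⊤ := fun e => hne
    ((one_smul A z).symm.trans ((Submodule.mem_annihilator_span_singleton z 1).mp
      (e.ge Submodule.mem_top)))
  obtain ⟨m₀, hm₀, hle⟩ := Ideal.exists_le_maximal _ hne'
  obtain ⟨p, hp, -⟩ := Ideal.exists_minimalPrimes_le hle
  have : p.IsPrime := hp.1.1
  have hz0 : ∀ c ∉ p, c • z ≠ 0 := fun c hc h =>
    hc (hp.1.2 ((Submodule.mem_annihilator_span_singleton z c).mpr h))
  let P := MvPolynomial (Fin n) A
  have : IsNoetherianRing (p.Fiber P) := Algebra.FiniteType.isNoetherianRing p.ResidueField _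
  have : Module.Finite (p.Fiber P) (FlatCA.fiberMod p P N') :=
    inferInstanceAs (Module.Finite (p.Fiber P) ((p.Fiber P) ⊗[P] N'))
  let K' : Submodule (p.Fiber P) (FlatCA.fiberMod p P N') :=
    { carrier := {X | ∃ c ∈ T, c • X = 0}
      zero_mem' := ⟨1, T.one_mem, smul_zero _⟩
      add_mem' := fun {X Y} ⟨c, hc, hX⟩ ⟨d, hd, hY⟩ => ⟨d * c, T.mul_mem hd hc, by
        rw [smul_add, mul_smul, hX, smul_zero, mul_comm, mul_smul, hY, smul_zero, add_zero]⟩
      smul_mem' := fun a X ⟨c, hc, hX⟩ => ⟨c, hc, by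
        rw [fiber_smul] at hX ⊢
        rw [smul_comm, hX, smul_zero]⟩ }
  obtain ⟨F, hF⟩ := IsNoetherian.noetherian K'
  have hmem : ∀ X : F, ∃ c ∈ T, c • (X : FlatCA.fiberMod p P N') = 0 := fun X =>
    (hF.le (Submodule.subset_span X.2) : (X : FlatCA.fiberMod p P N') ∈ K')
  choose c hc hcX using hmem
  obtain ⟨c₀, hc₀, hc₀K⟩ : ∃ c₀ ∈ T, ∀ X : FlatCA.fiberMod p P N',
      (∃ c ∈ T, c • X = 0) → c₀ • X = 0 := by
    refine ⟨∏ X, c X, prod_mem fun X _ => hc X, fun X hX => ?_⟩
    have hX' : X ∈ K' := hX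
    rw [← hF] at hX'
    rw [fiber_smul]
    clear hX
    induction hX' using Submodule.span_induction with
    | mem Y hY =>
      rw [← fiber_smul, ← Finset.prod_erase_mul _ _ (Finset.mem_univ (⟨Y, hY⟩ : F)), mul_smul,
        hcX ⟨Y, hY⟩, smul_zero]
    | zero => rw [smul_zero]
    | add _ _ _ _ h h' => rw [smul_add, h, h', add_zero]
    | smul a _ _ h => rw [smul_comm, h, smul_zero]
  obtain ⟨R₁, _, N₁, _, _, γ, φ, hγ, hφ⟩ := exists_poly_stage N' c₀
  obtain ⟨m, g, hg⟩ := Submodule.fg_iff_exists_fin_generating_family.mp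
    (IsNoetherian.noetherian (p.comap (algebraMap R₁ A)))
  have hgp : ∀ i, algebraMap R₁ A (g i) ∈ p := fun i =>
    (hg.le (Submodule.subset_span (Set.mem_range_self i)) : g i ∈ p.comap (algebraMap R₁ A))
  obtain ⟨a, haz, hakill⟩ := exists_smul_killed p z hz0
    (Finset.univ.image fun i => algebraMap R₁ A (g i)) (fun x hx => by
      obtain ⟨i, -, rfl⟩ := Finset.mem_image.mp hx
      obtain ⟨c, hc, k, hk⟩ := exists_mul_pow_mem hp (hgp i)
      exact ⟨c, hc, k, by
        rw [← mul_smul]; exact (Submodule.mem_annihilator_span_singleton z _).mp hk⟩)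
  obtain ⟨w, hw⟩ := exists_of_killed (fun i => algebraMap R₁ A (g i)) (a • z) fun i =>
    hakill _ (Finset.mem_image_of_mem _ (Finset.mem_univ i))
  change N ⊗[A] tor (R := A) g Q at w
  obtain ⟨⟨w', t⟩, hwt⟩ := IsLocalizedModule.surj T
    (AlgebraTensorModule.rTensor A (tor (R := A) g Q) ι) w
  obtain ⟨r, hr, k, x, e, hind, hrep⟩ := exists_indep_repr hγ Q p c₀ φ hφ g hg w'
  have hcr : ∀ {X Y : Type u} [AddCommGroup X] [Module A X] [AddCommGroup Y] [Module A Y]
      (h : X →ₗ[A] Y) (y : N' ⊗[A] X),
      (ι.restrictScalars A).rTensor Y (h.lTensor N' y) =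
        h.lTensor N ((ι.restrictScalars A).rTensor X y) := by
    intro X Y _ _ _ _ h y
    rw [← LinearMap.comp_apply, ← LinearMap.comp_apply, LinearMap.rTensor_comp_lTensor,
      LinearMap.lTensor_comp_rTensor]
  have hsmul : ∀ {X Y : Type u} [AddCommGroup X] [Module A X] [AddCommGroup Y] [Module A Y]
      (h : X →ₗ[A] Y) (b : P) (y : N ⊗[A] X), h.lTensor N (b • y) = b • h.lTensor N y := by
    intro X Y _ _ _ _ h b y
    induction y using TensorProduct.induction_on with
    | zero => simp
    | tmul a b => rfl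
    | add y y' hy hy' => simp only [smul_add, map_add, hy, hy']
  have hkey : (c₀ * t) • r • a • z = ∑ i, ι (c₀ • x i) ⊗ₜ[A] e i := by
    have h1 := congrArg ((ι.restrictScalars A).rTensor Q) hrep
    rw [map_sum, LinearMap.map_smul] at h1
    have h2 : (ι.restrictScalars A).rTensor Q (c₀ • (tor (R := A) g Q).subtype.lTensor N' w') =
        c₀ • (ι.restrictScalars A).rTensor Q ((tor (R := A) g Q).subtype.lTensor N' w') :=
      (AlgebraTensorModule.rTensor A Q ι).map_smul c₀ _
    rw [h2, hcr] at h1
    have h3 : (ι.restrictScalars A).rTensor (tor (R := A) g Q) w' = (t : P) • w := hwt.symm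
    rw [h3, hsmul] at h1
    rw [smul_comm (c₀ * (t : P)) r, mul_smul, ← hw]
    exact h1
  have hvbij : ∀ b ∈ T, Function.Bijective fun y : N => b • y := fun b hb =>
    (Module.End.isUnit_iff _).mp (IsLocalizedModule.map_units ι ⟨b, hb⟩)
  have hbT : c₀ * (t : P) ∈ T := T.mul_mem hc₀ t.2
  let μ : N ≃ₗ[A] N := LinearEquiv.ofBijective
    ((LinearMap.lsmul P N (c₀ * (t : P))).restrictScalars A) (hvbij _ hbT)
  let v : Fin k → N := fun i => μ.symm (ι (c₀ • x i))
  have hv : r • a • z = ∑ i, v i ⊗ₜ[A] e i := by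
    have h1 : μ.toLinearMap.rTensor Q (r • a • z) = (c₀ * (t : P)) • (r • a • z) := by
      generalize r • a • z = y
      induction y using TensorProduct.induction_on with
      | zero => simp
      | tmul a b => rfl
      | add y y' hy hy' => simp only [smul_add, map_add, hy, hy']
    have h2 := congrArg (μ.symm.toLinearMap.rTensor Q) (h1.trans hkey)
    rw [← LinearMap.rTensor_comp_apply, LinearEquiv.symm_comp, LinearMap.rTensor_id,
      LinearMap.id_apply, map_sum] at h2
    exact h2
  have hvind : ∀ l : Fin k → A,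
      (1 : p.ResidueField) ⊗ₜ[A] (∑ i, l i • u (v i)) = 0 → ∀ i, l i ∈ p := by
    intro l hl
    have h1 : (1 : p.ResidueField) ⊗ₜ[A] (∑ i, l i • v i) = 0 := hu p (by
      rw [LinearMap.lTensor_tmul, map_sum, map_zero, ← hl]
      simp only [map_smul])
    have h2 := congrArg (μ.toLinearMap.lTensor p.ResidueField) h1
    rw [LinearMap.lTensor_tmul, map_zero, map_sum] at h2
    simp only [map_smul, v, LinearEquiv.coe_coe, LinearEquiv.apply_symm_apply] at h2
    have h3 : AlgebraTensorModule.rTensor A p.ResidueField ι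
        ((c₀ • ∑ i, l i • x i) ⊗ₜ[A] (1 : p.ResidueField)) = 0 := by
      rw [AlgebraTensorModule.rTensor_tmul, Finset.smul_sum, map_sum]
      apply (TensorProduct.comm A N p.ResidueField).injective
      rw [map_zero, TensorProduct.comm_tmul, ← h2]
      congr 1
      refine Finset.sum_congr rfl fun i _ => ?_
      rw [smul_comm, LinearMap.map_smul_of_tower, ι.map_smul]
    obtain ⟨t', ht'⟩ := (IsLocalizedModule.eq_zero_iff T
      (AlgebraTensorModule.rTensor A p.ResidueField ι)).mp h3
    have h4 := congrArg (TensorProduct.comm A N' p.ResidueField) ht'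
    rw [Submonoid.smul_def, smul_tmul', TensorProduct.comm_tmul, map_zero, smul_smul] at h4
    have h5 := fiber_eq_zero_of_one_tmul (S := P) p _ h4
    rw [map_smul] at h5
    have h6 := hc₀K _ ⟨_, T.mul_mem t'.2 hc₀, h5⟩
    rw [← map_smul] at h6
    exact hind l (one_tmul_eq_zero_of_fiber (S := P) p _ h6)
  have h0 : ∑ i, u (v i) ⊗ₜ[A] e i = 0 := by
    rw [show ∑ i, u (v i) ⊗ₜ[A] e i = u.rTensor Q (∑ i, v i ⊗ₜ[A] e i) by
      simp only [map_sum, LinearMap.rTensor_tmul], ← hv, map_smul, map_smul, hz, smul_zero,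
      smul_zero]
  obtain ⟨d, hd, hde⟩ := exists_notMem_smul_eq_zero p (fun i => u (v i)) e hvind h0
  refine haz (d * r) (p.primeCompl.mul_mem hd hr) ?_
  rw [mul_smul, hv, Finset.smul_sum]
  exact Finset.sum_eq_zero fun i _ => by rw [← tmul_smul, hde, tmul_zero]

/-- Maps injective on all fibres are universally injective. -/
theorem univInj_of_fibres {A B L : Type u} [CommRing A] [CommRing B] [Algebra A B]
    [Algebra.FinitePresentation A B] [CommRing L] [Algebra B L] [Algebra A L] [IsScalarTower A B L]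
    (T : Submonoid B) [IsLocalization T L] (N : Type u) [AddCommGroup N] [Module L N] [Module A N]
    [IsScalarTower A L N] [Module.FinitePresentation L N] [Module.Flat A N]
    (M : Type u) [AddCommGroup M] [Module A M] [Module.Flat A M] (u : N →ₗ[A] M)
    (hu : ∀ (p : Ideal A) [p.IsPrime], Function.Injective (u.lTensor p.ResidueField)) :
    FlatCA.UnivInj A u := by
  obtain ⟨n, π, hπ, G, hG⟩ := Algebra.FinitePresentation.out (R := A) (A := B)
  let : Algebra (MvPolynomial (Fin n) A) L := ((algebraMap B L).comp π.toRingHom).toAlgebra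
  have hmap : ∀ x, algebraMap (MvPolynomial (Fin n) A) L x = algebraMap B L (π x) := fun _ => rfl
  have : IsScalarTower A (MvPolynomial (Fin n) A) L := IsScalarTower.of_algebraMap_eq fun a => by
    rw [hmap, π.commutes, ← IsScalarTower.algebraMap_apply]
  let : Module (MvPolynomial (Fin n) A) N :=
    Module.compHom N (algebraMap (MvPolynomial (Fin n) A) L)
  have : IsScalarTower (MvPolynomial (Fin n) A) L N :=
    IsScalarTower.of_algebraMap_smul fun _ _ => rfl
  have : IsScalarTower A (MvPolynomial (Fin n) A) N :=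
    IsScalarTower.of_algebraMap_smul fun a x => by
      change algebraMap (MvPolynomial (Fin n) A) L (algebraMap A _ a) • x = a • x
      rw [← IsScalarTower.algebraMap_apply, algebraMap_smul]
  obtain ⟨N', i₁, i₂, i₃, ι, i₄⟩ := exists_fp_localization (L := L) (N := N)
    (T.comap π.toRingHom.toMonoidHom) (fun t ht => IsLocalization.map_units L (⟨π t, ht⟩ : T))
    (fun s => by
      obtain ⟨⟨b, t⟩, hs⟩ := IsLocalization.surj T s
      obtain ⟨t', ht'⟩ := hπ t
      obtain ⟨p, hp⟩ := hπ b
      exact ⟨t', show π t' ∈ T from ht' ▸ t.2, p, by rw [hmap, hmap, ht', hp, mul_comm]; exact hs⟩)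
    G (fun x hx => by
      obtain ⟨t, ht⟩ := (IsLocalization.map_eq_zero_iff T L (π x)).mp hx
      obtain ⟨t', ht'⟩ := hπ t
      refine ⟨t', show π t' ∈ T from ht' ▸ t.2, hG.ge ?_⟩
      change π (t' * x) = 0
      rw [map_mul, ht', ht])
    (fun x hx => by
      have h0 : π x = 0 := hG.le (Submodule.subset_span hx)
      rw [hmap, h0, map_zero])
  let : Module A N' := Module.compHom N' (algebraMap A (MvPolynomial (Fin n) A))
  have : IsScalarTower A (MvPolynomial (Fin n) A) N' :=
    IsScalarTower.of_algebraMap_smul fun _ _ => rfl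
  exact univInj_of_fibres_poly (L := L) (T.comap π.toRingHom.toMonoidHom) ι u hu

end Groth.Agent.H7Flat.UnivInjFibres
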