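import Groth.Agent.H8Props.FibreDimSemicont
import Groth.Agent.H05EGA4.Topo
import Mathlib.AlgebraicGeometry.IdealSheaf.Subscheme

/-!
# Dimensions of fibres
-/

set_option autoImplicit false
set_option linter.style.haveILetI false

universe u

open AlgebraicGeometry CategoryTheory TopologicalSpace Groth.Agent.H8Props.FieldDim

namespace Groth.Agent.H7Flat

variable {X S : Scheme.{u}} (f : X ⟶ S)

/-- The fibre dimension is at most `d` iff all local dimensions are. -/
theorem dim_fiber_le_iff (s : S) (d : WithBot ℕ∞) :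
    topologicalKrullDim (f.fiber s) ≤ d ↔ ∀ x : X, f x = s → FlatMor.fibreDimAt f x ≤ d := by
  constructor
  · intro h x hx
    subst hx
    exact (H28Top.localDim_le_dim _).trans h
  · intro h
    refine H28Top.dim_le_of_chains fun c => ?_
    obtain ⟨u, hu⟩ := c.head.isIrreducible.nonempty
    refine (H28Top.chain_le_localDim c hu).trans ?_
    rw [← fibreDimAt_eq_localDim f u]
    exact h _ ((f.range_fiberι s).subset (Set.mem_range_self u))

theorem setOf_dim_fiber_le (d : WithBot ℕ∞) :
    {s : S | topologicalKrullDim (f.fiber s) ≤ d} = (f '' {x | ¬ FlatMor.fibreDimAt f x ≤ d})ᶜ := by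
  ext s
  rw [Set.mem_setOf_eq, dim_fiber_le_iff, Set.mem_compl_iff, Set.mem_image]
  constructor
  · rintro h ⟨x, hx, hs⟩; exact hx (h x hs)
  · intro h x hs; by_contra hx; exact h ⟨x, hx, hs⟩

theorem fibreDimAt_nonneg (x : X) : 0 ≤ FlatMor.fibreDimAt f x := by
  refine le_iInf fun U => ?_
  haveI : Nonempty (U.1 : Set (f.fiber (f x))) := ⟨⟨_, U.2⟩⟩
  haveI : Nonempty (IrreducibleCloseds (U.1 : Set (f.fiber (f x)))) :=
    ⟨⟨closure {⟨_, U.2⟩}, isIrreducible_singleton.closure, isClosed_closure⟩⟩
  exact Order.krullDim_nonneg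

theorem isOpen_fibreDimAt_le' [LocallyOfFiniteType f] (d : WithBot ℕ∞) :
    IsOpen {x : X | FlatMor.fibreDimAt f x ≤ d} := by
  match d with
  | ⊥ =>
    convert! isOpen_empty using 1
    refine Set.eq_empty_iff_forall_notMem.2 fun x hx => ?_
    have := (fibreDimAt_nonneg f x).trans hx
    simp at this
  | (⊤ : ℕ∞) =>
    convert! isOpen_univ using 1
    refine Set.eq_univ_of_forall fun x => ?_
    show FlatMor.fibreDimAt f x ≤ _
    exact le_top
  | ((n : ℕ) : ℕ∞) => exact isOpen_fibreDimAt_le f n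

/-- Upper semicontinuity on the base for closed maps. -/
theorem isOpen_dim_fiber_le [LocallyOfFiniteType f] (hf : IsClosedMap f) (d : WithBot ℕ∞) :
    IsOpen {s : S | topologicalKrullDim (f.fiber s) ≤ d} := by
  rw [setOf_dim_fiber_le]
  refine (hf _ ?_).isOpen_compl
  rw [← isOpen_compl_iff]
  convert! isOpen_fibreDimAt_le' f d using 1
  ext x
  simp

/-- If the bound holds over a point to which a quasi-compact image specialises, it holds nearby. -/
theorem exists_nhd_dim_fiber_le [LocallyOfFiniteType f] [QuasiCompact f] (s : S) (d : WithBot ℕ∞)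
    (h : ∀ t : S, t ⤳ s → topologicalKrullDim (f.fiber t) ≤ d) :
    ∃ V : S.Opens, s ∈ V ∧ ∀ t ∈ V, topologicalKrullDim (f.fiber t) ≤ d := by
  let C : Set X := {x | ¬ FlatMor.fibreDimAt f x ≤ d}
  have hC : IsClosed C := by
    rw [← isOpen_compl_iff]
    convert! isOpen_fibreDimAt_le' f d using 1
    ext x; simp [C]
  refine ⟨⟨(closure (f '' C))ᶜ, isClosed_closure.isOpen_compl⟩, fun hs => ?_, fun t ht => ?_⟩
  · let i := (Scheme.IdealSheafData.vanishingIdeal ⟨C, hC⟩).subschemeι
    have hi : Set.range i = C := by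
      rw [Scheme.IdealSheafData.range_subschemeι, Scheme.IdealSheafData.coe_support_vanishingIdeal]
      rfl
    have hfC : f '' C = Set.range (i ≫ f) :=
      (congrArg (f '' ·) hi.symm).trans (Set.range_comp f i).symm
    replace hs : s ∈ closure (f '' C) := hs
    rw [hfC] at hs
    obtain ⟨z, hz⟩ := H05EGA4.exists_specializes_of_mem_closure_range (i ≫ f) hs
    have hzC : i z ∈ C := hi.le ⟨z, rfl⟩
    exact hzC ((dim_fiber_le_iff f (f (i z)) d).1 (h _ hz) (i z) rfl)
  · rw [dim_fiber_le_iff]
    intro x hx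
    by_contra hn
    exact ht (subset_closure ⟨x, hn, hx⟩)

end Groth.Agent.H7Flat
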