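import Groth.Agent.H7Flat.QuasiFiniteSpread
import Groth.Agent.H17.GenFiniteDense
import Mathlib.AlgebraicGeometry.Morphisms.QuasiFinite
import Mathlib.AlgebraicGeometry.Morphisms.ClosedImmersion
import Mathlib.AlgebraicGeometry.Limits
import Mathlib.Topology.GDelta.Basic

/-!
# Quasi-finite morphisms are finite over a dense open
-/

set_option autoImplicit false
set_option backward.isDefEq.respectTransparency false
set_option linter.style.haveILetI false

universe u

open CategoryTheory Limits AlgebraicGeometry TopologicalSpace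

namespace Groth.Agent.H7Flat

variable {X Y : Scheme.{u}}

theorem isNowhereDense_biUnion {α ι : Type*} [TopologicalSpace α] {G : Set ι} (hG : G.Finite)
    {S : ι → Set α} (h : ∀ i ∈ G, IsNowhereDense (S i)) : IsNowhereDense (⋃ i ∈ G, S i) := by
  induction G, hG using Set.Finite.induction_on with
  | empty => simp [IsNowhereDense]
  | @insert a s _ _ ih =>
    rw [Set.biUnion_insert]
    show interior (closure (S a ∪ ⋃ i ∈ s, S i)) = ∅
    rw [closure_union, interior_union_isClosed_of_interior_empty isClosed_closure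
      (ih fun i hi => h i (Set.mem_insert_of_mem _ hi))]
    exact h a (Set.mem_insert _ _)

theorem isNowhereDense_preimage {α β : Type*} [TopologicalSpace α] [TopologicalSpace β] {g : α → β}
    (hc : Continuous g) (ho : IsOpenMap g) {T : Set β} (hT : IsNowhereDense T) :
    IsNowhereDense (g ⁻¹' T) := by
  rw [IsNowhereDense, ← ho.preimage_closure_eq_closure_preimage hc,
    ← ho.preimage_interior_eq_interior_preimage hc, hT, Set.preimage_empty]

theorem finite_comap_preimage_appLE (f : Y ⟶ X) [LocallyQuasiFinite f] {U : X.Opens} (hU : IsAffineOpen U)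
    {W : Y.Opens} (hW : IsAffineOpen W) (e : W ≤ f ⁻¹ᵁ U) (p : PrimeSpectrum Γ(X, U)) :
    (PrimeSpectrum.comap (f.appLE U W e).hom ⁻¹' {p}).Finite := by
  have h := LocallyQuasiFinite.quasiFinite_appLE (f := f) hU hW e
  letI := (f.appLE U W e).hom.toAlgebra
  haveI : Algebra.QuasiFinite Γ(X, U) Γ(Y, W) := h
  exact Algebra.QuasiFinite.finite_comap_preimage_singleton p

/-- Quasi-finite morphisms map closed nowhere dense sets to nowhere dense sets. -/
theorem isNowhereDense_image (f : Y ⟶ X) [LocallyQuasiFinite f] [LocallyOfFiniteType f] [QuasiCompact f]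
    {T : Set Y} (hT : IsClosed T) (hT' : IsNowhereDense T) : IsNowhereDense (f '' T) := by
  by_contra hnd
  obtain ⟨x, hx⟩ := Set.nonempty_iff_ne_empty.2 hnd
  obtain ⟨X₀, hX₀, hxX₀, hX₀s⟩ := exists_isAffineOpen_mem_and_subset (U := ⟨_, isOpen_interior⟩) hx
  obtain ⟨G, hG, hGeq⟩ := (isCompact_iff_finite_and_eq_biUnion_affineOpens (X := Y)).1
    (f.isCompact_preimage hX₀.isCompact)
  have hle : ∀ W ∈ G, (W : Y.affineOpens).1 ≤ f ⁻¹ᵁ X₀ := fun W hW y hy => by
    rw [hGeq]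
    exact Opens.mem_iSup.2 ⟨W, Opens.mem_iSup.2 ⟨hW, hy⟩⟩
  have hpiece : ∀ W ∈ G, IsNowhereDense (hX₀.fromSpec ⁻¹' (f '' (T ∩ ((W : Y.affineOpens).1 : Set Y)))) := by
    intro W hW
    have hcomm : ∀ q, hX₀.fromSpec (PrimeSpectrum.comap (f.appLE X₀ W.1 (hle W hW)).hom q) =
        f (W.2.fromSpec q) := fun q => by
      have h := IsAffineOpen.SpecMap_appLE_fromSpec f hX₀ W.2 (hle W hW)
      exact congr($h q)
    have heq : hX₀.fromSpec ⁻¹' (f '' (T ∩ (W.1 : Set Y))) =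
        PrimeSpectrum.comap (f.appLE X₀ W.1 (hle W hW)).hom '' (W.2.fromSpec ⁻¹' T) := by
      ext p
      constructor
      · rintro ⟨y, ⟨hyT, hyW⟩, hyp⟩
        obtain ⟨q, rfl⟩ : y ∈ Set.range W.2.fromSpec := by rw [W.2.range_fromSpec]; exact hyW
        exact ⟨q, hyT, hX₀.fromSpec.isOpenEmbedding.injective ((hcomm q).trans hyp)⟩
      · rintro ⟨q, hq, rfl⟩
        exact ⟨W.2.fromSpec q, ⟨hq, W.2.range_fromSpec.le ⟨q, rfl⟩⟩, (hcomm q).symm⟩
    rw [heq]
    letI := (f.appLE X₀ W.1 (hle W hW)).hom.toAlgebra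
    haveI : Algebra.FiniteType Γ(X, X₀) Γ(Y, W.1) :=
      LocallyOfFiniteType.finiteType_appLE f hX₀ W.2 (hle W hW)
    exact isNowhereDense_image_comap (R := Γ(X, X₀)) (A := Γ(Y, W.1))
      (finite_comap_preimage_appLE f hX₀ W.2 (hle W hW)) (hT.preimage W.2.fromSpec.continuous)
      (isNowhereDense_preimage W.2.fromSpec.continuous W.2.fromSpec.isOpenEmbedding.isOpenMap hT')
  have hall := isNowhereDense_biUnion hG hpiece
  have huniv : hX₀.fromSpec ⁻¹' (f '' T) =
      ⋃ W ∈ G, hX₀.fromSpec ⁻¹' (f '' (T ∩ ((W : Y.affineOpens).1 : Set Y))) := by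
    ext p
    simp only [Set.mem_preimage, Set.mem_iUnion, exists_prop]
    constructor
    · rintro ⟨y, hyT, hyp⟩
      have hy : y ∈ f ⁻¹ᵁ X₀ := by
        show f y ∈ (X₀ : Set X)
        rw [show f y = hX₀.fromSpec p from hyp]; exact hX₀.range_fromSpec.le ⟨p, rfl⟩
      rw [hGeq] at hy
      obtain ⟨W, hy⟩ := Opens.mem_iSup.1 hy
      obtain ⟨hW, hyW⟩ := Opens.mem_iSup.1 hy
      exact ⟨W, hW, y, ⟨hyT, hyW⟩, hyp⟩
    · rintro ⟨W, -, y, hy, hyp⟩
      exact ⟨y, hy.1, hyp⟩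
  rw [← huniv, IsNowhereDense, ← hX₀.fromSpec.isOpenEmbedding.isOpenMap.preimage_closure_eq_closure_preimage
    hX₀.fromSpec.continuous] at hall
  obtain ⟨p, rfl⟩ : x ∈ Set.range hX₀.fromSpec := by rw [hX₀.range_fromSpec]; exact hxX₀
  have : p ∈ interior (hX₀.fromSpec ⁻¹' closure (f '' T)) :=
    preimage_interior_subset_interior_preimage hX₀.fromSpec.continuous hx
  rw [hall] at this
  exact this

/-- A relatively closed open subset of an affine open is affine. -/
theorem isAffineOpen_of_relClosed {W O : Y.Opens} (hW : IsAffineOpen W) (hle : O ≤ W)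
    (hcl : closure (O : Set Y) ∩ W ⊆ O) : IsAffineOpen O := by
  haveI : IsAffine (W : Scheme.{u}) := hW
  have hrange : Set.range (Y.homOfLE hle) = W.ι ⁻¹' (O : Set Y) := by
    rw [← Scheme.Hom.coe_opensRange, Scheme.opensRange_homOfLE]
    rfl
  haveI : IsClosedImmersion (Y.homOfLE hle) := by
    refine IsClosedImmersion.of_isPreimmersion _ ?_
    rw [hrange]
    have h : W.ι ⁻¹' (O : Set Y) = W.ι ⁻¹' closure (O : Set Y) :=
      Set.Subset.antisymm (Set.preimage_mono subset_closure) fun z hz => hcl ⟨hz, z.2⟩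
    rw [h]
    exact isClosed_closure.preimage W.ι.continuous
  exact isAffine_of_isAffineHom (Y.homOfLE hle)

/-- A finite union of affine opens that are relatively closed in `P` is affine. -/
theorem isAffineOpen_biSup_of_relClosed {P : Y.Opens} {ι : Type*} {G : Set ι} (hG : G.Finite)
    {W : ι → Y.Opens} (hW : ∀ i ∈ G, IsAffineOpen (W i)) (hle : ∀ i ∈ G, W i ≤ P)
    (hcl : ∀ i ∈ G, closure (W i : Set Y) ∩ P ⊆ W i) : IsAffineOpen (⨆ i ∈ G, W i) := by
  suffices h : IsAffineOpen (⨆ i ∈ G, W i) ∧ closure ((⨆ i ∈ G, W i : Y.Opens) : Set Y) ∩ P ⊆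
      ((⨆ i ∈ G, W i : Y.Opens) : Set Y) from h.1
  induction G, hG using Set.Finite.induction_on with
  | empty => simp [isAffineOpen_bot]
  | @insert a s _ _ ih =>
    obtain ⟨hQ, hQc⟩ := ih (fun i hi => hW i (Set.mem_insert_of_mem _ hi))
      (fun i hi => hle i (Set.mem_insert_of_mem _ hi)) (fun i hi => hcl i (Set.mem_insert_of_mem _ hi))
    set Q := ⨆ i ∈ s, W i
    have hWa := hW a (Set.mem_insert _ _)
    have hca := hcl a (Set.mem_insert _ _)
    have hla := hle a (Set.mem_insert _ _)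
    rw [iSup_insert]
    change IsAffineOpen (W a ⊔ Q) ∧ _
    refine ⟨?_, ?_⟩
    · let D : Y.Opens := ⟨(W a : Set Y) ∩ (closure (Q : Set Y))ᶜ, (W a).isOpen.inter isClosed_closure.isOpen_compl⟩
      have hD : IsAffineOpen D := by
        refine isAffineOpen_of_relClosed hWa Set.inter_subset_left ?_
        rintro y ⟨hy, hyW⟩
        refine ⟨hyW, fun hyQ => ?_⟩
        have hyQ' : y ∈ Q := hQc ⟨hyQ, hla hyW⟩
        obtain ⟨z, hzQ, hzD⟩ := mem_closure_iff.1 hy _ Q.isOpen hyQ'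
        exact hzD.2 (subset_closure hzQ)
      have hdisj : Disjoint D Q := by
        rw [← Opens.coe_disjoint, Set.disjoint_left]
        exact fun y hy hyQ => hy.2 (subset_closure hyQ)
      have heq : W a ⊔ Q = D ⊔ Q := by
        apply Opens.ext
        simp only [Opens.coe_sup]
        ext y
        constructor
        · rintro (hy | hy)
          · by_cases hyQ : y ∈ closure (Q : Set Y)
            · exact Or.inr (hQc ⟨hyQ, hla hy⟩)
            · exact Or.inl ⟨hy, hyQ⟩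
          · exact Or.inr hy
        · rintro (hy | hy)
          · exact Or.inl hy.1
          · exact Or.inr hy
      rw [heq]
      exact hD.sup_of_disjoint hQ hdisj
    · rw [Opens.coe_sup, closure_union, Set.union_inter_distrib_right]
      exact Set.union_subset_union hca hQc

/-- Over some nonempty open inside any given one, a quasi-finite morphism is finite. -/
theorem exists_isFinite_morphismRestrict (f : Y ⟶ X) [LocallyQuasiFinite f] [LocallyOfFiniteType f]
    [QuasiCompact f] (O : X.Opens) (hO : (O : Set X).Nonempty) :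
    ∃ V : X.Opens, V ≤ O ∧ (V : Set X).Nonempty ∧ IsFinite (f ∣_ V) := by
  obtain ⟨x₀, hx₀⟩ := hO
  obtain ⟨X₀, hX₀, hxX₀, hX₀O⟩ := exists_isAffineOpen_mem_and_subset (U := O) hx₀
  obtain ⟨G, hG, hGeq⟩ := (isCompact_iff_finite_and_eq_biUnion_affineOpens (X := Y)).1
    (f.isCompact_preimage hX₀.isCompact)
  have hle : ∀ W ∈ G, (W : Y.affineOpens).1 ≤ f ⁻¹ᵁ X₀ := fun W hW y hy => by
    rw [hGeq]
    exact Opens.mem_iSup.2 ⟨W, Opens.mem_iSup.2 ⟨hW, hy⟩⟩
  have hfr : IsNowhereDense (⋃ W ∈ G, f '' frontier ((W : Y.affineOpens).1 : Set Y)) :=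
    isNowhereDense_biUnion hG fun W _ => isNowhereDense_image f isClosed_frontier
      (by rw [IsNowhereDense, isClosed_frontier.closure_eq]; rw [← frontier_compl]; exact interior_frontier W.1.isOpen.isClosed_compl)
  set B := closure (⋃ W ∈ G, f '' frontier ((W : Y.affineOpens).1 : Set Y)) with hB
  obtain ⟨x₁, hx₁, hx₁B⟩ : ∃ x₁ ∈ (X₀ : Set X), x₁ ∉ B := by
    by_contra h
    push Not at h
    have : x₀ ∈ interior B := interior_maximal h X₀.isOpen hxX₀
    rw [hB, hfr] at this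
    exact this
  obtain ⟨r, hrle, hx₁r⟩ := hX₀.exists_basicOpen_le (V := X₀ ⊓ ⟨Bᶜ, isClosed_closure.isOpen_compl⟩)
    ⟨x₁, hx₁, hx₁B⟩ hx₁
  set V₀ := X.basicOpen r
  have hV₀ : IsAffineOpen V₀ := hX₀.basicOpen r
  set P := f ⁻¹ᵁ V₀
  have hW' : ∀ W ∈ G, IsAffineOpen ((W : Y.affineOpens).1 ⊓ P) := fun W hW => by
    have h1 : W.1 ⊓ P = Y.basicOpen (f.appLE X₀ W.1 (hle W hW) r) := by
      rw [Scheme.basicOpen_appLE]
    rw [h1]
    exact W.2.basicOpen _
  have hcl : ∀ W ∈ G, closure ((((W : Y.affineOpens).1 ⊓ P : Y.Opens)) : Set Y) ∩ P ⊆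
      ((W.1 ⊓ P : Y.Opens) : Set Y) := by
    rintro W hW y ⟨hy, hyP⟩
    refine ⟨?_, hyP⟩
    by_contra hyW
    have hyfr : y ∈ frontier (W.1 : Set Y) := by
      rw [W.1.isOpen.frontier_eq]
      exact ⟨closure_mono Set.inter_subset_left hy, hyW⟩
    exact (hrle hyP).2 (subset_closure (Set.mem_biUnion hW ⟨y, hyfr, rfl⟩))
  have hP : IsAffineOpen P := by
    have hP' : P = ⨆ W ∈ G, ((W : Y.affineOpens).1 ⊓ P) := by
      refine le_antisymm (fun y hy => ?_) (iSup₂_le fun W _ => inf_le_right)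
      have hy' : y ∈ f ⁻¹ᵁ X₀ := X.basicOpen_le r hy
      rw [hGeq] at hy'
      obtain ⟨W, hy'⟩ := Opens.mem_iSup.1 hy'
      obtain ⟨hW, hyW⟩ := Opens.mem_iSup.1 hy'
      exact Opens.mem_iSup.2 ⟨W, Opens.mem_iSup.2 ⟨hW, hyW, hy⟩⟩
    rw [hP']
    exact isAffineOpen_biSup_of_relClosed hG hW' (fun W _ => inf_le_right) hcl
  have hone : ¬ IsNilpotent (1 : Γ(X, V₀)) := by
    rintro ⟨n, hn⟩
    exact (hV₀.primeIdealOf ⟨x₁, hx₁r⟩).isPrime.ne_top
      (Ideal.eq_top_iff_one _ |>.2 (by rw [← one_pow n, hn]; exact zero_mem _))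
  letI := (f.appLE V₀ P le_rfl).hom.toAlgebra
  haveI : Algebra.FiniteType Γ(X, V₀) Γ(Y, P) :=
    LocallyOfFiniteType.finiteType_appLE f hV₀ hP le_rfl
  obtain ⟨s, hs, -, hfin⟩ := exists_finite_away (R := Γ(X, V₀)) (A := Γ(Y, P))
    (finite_comap_preimage_appLE f hV₀ hP le_rfl) hone
  refine ⟨X.basicOpen s, (X.basicOpen_le s).trans ((X.basicOpen_le r).trans hX₀O), ?_, ?_⟩
  · obtain ⟨q, hq, hsq⟩ : ∃ q : Ideal Γ(X, V₀), q.IsPrime ∧ s ∉ q := by
      by_contra h
      push Not at h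
      exact hs (mem_nilradical.1 (by rw [nilradical_eq_sInf, Submodule.mem_sInf]; exact fun q hq => h q hq))
    refine ⟨hV₀.fromSpec ⟨q, hq⟩, ?_⟩
    show (⟨q, hq⟩ : Spec Γ(X, V₀)) ∈ hV₀.fromSpec ⁻¹ᵁ X.basicOpen s
    rw [hV₀.fromSpec_preimage_basicOpen]
    exact hsq
  · set D := X.basicOpen s
    have hDP : f ⁻¹ᵁ D ≤ P := fun y hy => X.basicOpen_le s hy
    have hpre := H17.GenFinite.preimage_basicOpen_of_le f (V₀ := V₀) (W := P) le_rfl s hDP
    refine H17.GenFinite.isFinite_morphismRestrict_of_app f (hV₀.basicOpen s) (hpre ▸ hP.basicOpen _) ?_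
    algebraize [(f.app D).hom]
    algebraize [(X.presheaf.map (homOfLE (X.basicOpen_le s)).op).hom,
      (Y.presheaf.map (homOfLE hDP).op).hom, ((Y.presheaf.map (homOfLE hDP).op).hom.comp (f.appLE V₀ P le_rfl).hom)]
    haveI : IsScalarTower Γ(X, V₀) Γ(X, D) Γ(Y, f ⁻¹ᵁ D) :=
      IsScalarTower.of_algebraMap_eq' (by
        simp only [RingHom.algebraMap_toAlgebra, ← CommRingCat.hom_comp]
        rw [Scheme.Hom.appLE_map, Scheme.Hom.app_eq_appLE, Scheme.Hom.map_appLE])
    haveI : IsLocalization.Away s Γ(X, D) := hV₀.isLocalization_basicOpen s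
    haveI : IsLocalization.Away (algebraMap Γ(X, V₀) Γ(Y, P) s) Γ(Y, f ⁻¹ᵁ D) :=
      hP.isLocalization_of_eq_basicOpen _ (homOfLE hDP) hpre
    exact hfin Γ(X, D) Γ(Y, f ⁻¹ᵁ D)

/-- A quasi-finite morphism is finite over a dense open. -/
theorem exists_dense_isFinite (f : Y ⟶ X) [LocallyQuasiFinite f] [LocallyOfFiniteType f] [QuasiCompact f] :
    ∃ U : X.Opens, Dense (U : Set X) ∧ IsFinite (f ∣_ U) := by
  refine ⟨⨆ V : {V : X.Opens // IsFinite (f ∣_ V)}, V.1, ?_,
    H17.GenFinite.isFinite_morphismRestrict_iSup f _ fun V => V.2⟩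
  rw [dense_iff_inter_open]
  intro O hO hne
  obtain ⟨V, hVO, ⟨v, hv⟩, hfin⟩ := exists_isFinite_morphismRestrict f ⟨O, hO⟩ hne
  exact ⟨v, hVO hv, Opens.mem_iSup.2 ⟨⟨V, hfin⟩, hv⟩⟩

end Groth.Agent.H7Flat
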