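import Groth.Agent.H7Flat.FibreModel

/-!
# The fibrewise criterion of flatness, with `Y → S` only locally of finite type

`f : X ⟶ Y`, `g : Y ⟶ S` with `f ≫ g` locally of finite presentation and `g` locally of finite type.
-/

set_option autoImplicit false
set_option linter.style.haveILetI false
universe u

open AlgebraicGeometry CategoryTheory CategoryTheory.Limits TopologicalSpace

namespace Groth.Agent.H7Flat

open Groth.Agent.H8Props Groth.Agent.H8Props.FibreCriterion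

/-- Flatness of the map of fibres passes to a model with the same fibre. -/
theorem flat_fiberMap_comp_closedImmersion {X Y Y₀ S : Scheme.{u}} (f : X ⟶ Y) (g : Y ⟶ S)
    (i : Y ⟶ Y₀) (g₀ : Y₀ ⟶ S) (w : i ≫ g₀ = g) (s : S)
    [IsIso (pullback.snd i (g₀.fiberι s))] (z₀ : ((f ≫ i) ≫ g₀).fiber s)
    (h : ∀ z : (f ≫ g).fiber s, (f ≫ g).fiberι s z = ((f ≫ i) ≫ g₀).fiberι s z₀ →
      ((MoreMor.fiberMap f g s).stalkMap z).hom.Flat) :
    ((MoreMor.fiberMap (f ≫ i) g₀ s).stalkMap z₀).hom.Flat := by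
  let k := pullback.fst i (g₀.fiberι s)
  let j := pullback.snd i (g₀.fiberι s)
  let k' : pullback i (g₀.fiberι s) ⟶ g.fiber s :=
    pullback.lift k (j ≫ g₀.fiberToSpecResidueField s) (by
      rw [Category.assoc, ← g₀.fiber_fac s, ← w, pullback.condition_assoc])
  have hk' : k' ≫ g.fiberι s = k := pullback.lift_fst _ _ _
  have hp := isPullback_fiberMap f g s
  let lX : pullback f k ⟶ (f ≫ g).fiber s := hp.lift (pullback.fst f k) (pullback.snd f k ≫ k')
    (by rw [pullback.condition, Category.assoc, hk'])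
  have hlX : lX ≫ (f ≫ g).fiberι s = pullback.fst f k := hp.lift_fst _ _ _
  have hsq : IsPullback lX (pullback.snd f k) (MoreMor.fiberMap f g s) k' := by
    refine IsPullback.of_right ?_ (hp.lift_snd _ _ _) hp
    rw [hlX, hk']
    exact IsPullback.of_hasPullback f k
  have hq := (IsPullback.of_hasPullback f k).paste_vert (IsPullback.of_hasPullback i (g₀.fiberι s))
  let e := (isPullback_fiberMap (f ≫ i) g₀ s).isoIsPullback _ _ hq
  have he : e.hom ≫ pullback.snd f k ≫ j = MoreMor.fiberMap (f ≫ i) g₀ s :=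
    IsPullback.isoIsPullback_hom_snd _ _ _ hq
  have he' : e.hom ≫ pullback.fst f k = ((f ≫ i) ≫ g₀).fiberι s :=
    IsPullback.isoIsPullback_hom_fst _ _ _ hq
  have h1 : ((pullback.snd f k).stalkMap (e.hom z₀)).hom.Flat := by
    refine flat_stalkMap_baseChange hsq _ (h _ ?_)
    rw [← Scheme.Hom.comp_apply, hlX, ← Scheme.Hom.comp_apply, he']
  refine flat_stalkMap_congr he z₀ ((S4656.result e.hom _ z₀ (Flat.stalkMap _ _)).mpr ?_)
  exact (S4656.result _ j _ h1).mpr (Flat.stalkMap _ _)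

/-- The fibrewise criterion on affine bases: flatness spreads to a neighbourhood. -/
theorem exists_nhds_flat_of_fiberMap_affine {X Y S : Scheme.{u}} [IsAffine Y] [IsAffine S]
    (f : X ⟶ Y) (g : Y ⟶ S) [LocallyOfFinitePresentation (f ≫ g)] [LocallyOfFiniteType g]
    [Flat (f ≫ g)] (s : S) (z : (f ≫ g).fiber s)
    (h : ((MoreMor.fiberMap f g s).stalkMap z).hom.Flat) :
    ∃ N : Set X, IsOpen N ∧ (f ≫ g).fiberι s z ∈ N ∧
      ∀ x ∈ N, (g.stalkMap (f x)).hom.Flat ∧ (f.stalkMap x).hom.Flat := by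
  obtain ⟨Y₀, i, g₀, hi, hg₀, w, hiso⟩ := exists_fp_model g s
  have e : (f ≫ i) ≫ g₀ = f ≫ g := by rw [Category.assoc, w]
  haveI : LocallyOfFinitePresentation ((f ≫ i) ≫ g₀) := by rw [e]; infer_instance
  haveI : Flat ((f ≫ i) ≫ g₀) := by rw [e]; infer_instance
  haveI : LocallyOfFinitePresentation (f ≫ i) := H12AlgSp.lfp_of_comp (f ≫ i) g₀
  have hrange : (f ≫ g).fiberι s z ∈ Set.range (((f ≫ i) ≫ g₀).fiberι s) := by
    rw [Scheme.Hom.range_fiberι]
    show ((f ≫ i) ≫ g₀) _ = s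
    rw [e]
    exact ((f ≫ g).range_fiberι s).subset (Set.mem_range_self z)
  obtain ⟨z₀, hz₀⟩ := hrange
  have h₀ := flat_fiberMap_comp_closedImmersion f g i g₀ w s z₀ fun z' hz' => by
    rw [hz₀] at hz'
    rw [((f ≫ g).fiberι s).isEmbedding.injective hz']
    exact h
  obtain ⟨hf₀, hg₀'⟩ := flat_stalkMap_of_fiberMap (f ≫ i) g₀ s z₀ h₀
  rw [hz₀] at hf₀ hg₀'
  refine ⟨{x | ((f ≫ i).stalkMap x).hom.Flat} ∩ (f ≫ i) ⁻¹' {y | (g₀.stalkMap y).hom.Flat},
    (FlatLocus.isOpen_setOf_flat_stalkMap _).inter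
      ((FlatLocus.isOpen_setOf_flat_stalkMap _).preimage (f ≫ i).continuous), ⟨hf₀, hg₀'⟩, ?_⟩
  rintro x ⟨hfx, hgx⟩
  have hc : (f ≫ i).stalkMap x = i.stalkMap (f x) ≫ f.stalkMap x := Scheme.Hom.stalkMap_comp f i x
  have hfx : ((f ≫ i).stalkMap x).hom.Flat := hfx
  have hinj : Function.Injective (i.stalkMap (f x)).hom := by
    letI := ((f ≫ i).stalkMap x).hom.toAlgebra
    haveI : Module.Flat (Y₀.presheaf.stalk ((f ≫ i) x)) (X.presheaf.stalk x) := hfx
    haveI : IsLocalHom (algebraMap (Y₀.presheaf.stalk ((f ≫ i) x)) (X.presheaf.stalk x)) :=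
      inferInstanceAs (IsLocalHom ((f ≫ i).stalkMap x).hom)
    haveI : Module.FaithfullyFlat (Y₀.presheaf.stalk ((f ≫ i) x)) (X.presheaf.stalk x) :=
      Module.FaithfullyFlat.of_flat_of_isLocalHom
    have h1 : Function.Injective ((f ≫ i).stalkMap x).hom :=
      FaithfulSMul.algebraMap_injective (Y₀.presheaf.stalk ((f ≫ i) x)) (X.presheaf.stalk x)
    rw [hc] at h1
    exact Function.Injective.of_comp (f := (f.stalkMap x).hom) h1
  let ei := RingEquiv.ofBijective (i.stalkMap (f x)).hom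
    ⟨hinj, i.stalkMap_surjective (f x)⟩
  have hif : (i.stalkMap (f x)).hom.Flat := RingHom.Flat.of_bijective ei.bijective
  constructor
  · exact flat_stalkMap_congr w _ ((S4656.result i g₀ (f x) hif).mpr hgx)
  · rw [hc] at hfx
    have h2 := RingHom.Flat.comp (RingHom.Flat.of_bijective (f := ei.symm.toRingHom) ei.symm.bijective) hfx
    convert h2 using 1
    exact RingHom.ext fun r => (congrArg (f.stalkMap x).hom (ei.apply_symm_apply r)).symm

/-- The fibrewise criterion of flatness spreads to a neighbourhood. -/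
theorem exists_nhds_flat_of_fiberMap {X Y S : Scheme.{u}} (f : X ⟶ Y) (g : Y ⟶ S)
    [LocallyOfFinitePresentation (f ≫ g)] [LocallyOfFiniteType g] (x : X)
    (hfg : ((f ≫ g).stalkMap x).hom.Flat)
    (h : ((MoreMor.fiberMap f g (g (f x))).stalkMap ((f ≫ g).asFiber x)).hom.Flat) :
    ∃ N : Set X, IsOpen N ∧ x ∈ N ∧ ∀ x' ∈ N, (g.stalkMap (f x')).hom.Flat ∧ (f.stalkMap x').hom.Flat := by
  obtain ⟨U, hU, hsU, -⟩ := exists_affine_nhd (g (f x)) ⊤ trivial
  obtain ⟨V, hV, hxV, hVU⟩ := exists_affine_nhd (f x) (g ⁻¹ᵁ U) hsU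
  let F : X.Opens := ⟨_, FlatLocus.isOpen_setOf_flat_stalkMap (f ≫ g)⟩
  obtain ⟨W, -, hxW, hW⟩ := exists_affine_nhd x (f ⁻¹ᵁ V ⊓ F) ⟨hxV, hfg⟩
  have hWV : W ≤ f ⁻¹ᵁ V := hW.trans inf_le_left
  haveI : IsAffine V.toScheme := hV
  haveI : IsAffine U.toScheme := hU
  let f' := f.resLE V W hWV
  let g' := g.resLE U V hVU
  have hf' : W.ι ≫ f = f' ≫ V.ι := (Scheme.Hom.resLE_comp_ι f hWV).symm
  have hg' : V.ι ≫ g = g' ≫ U.ι := (Scheme.Hom.resLE_comp_ι g hVU).symm
  have hfg' : (f' ≫ g') ≫ U.ι = W.ι ≫ f ≫ g := by rw [Category.assoc, ← hg', ← reassoc_of% hf']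
  have hle : W ≤ (f ≫ g) ⁻¹ᵁ U := fun y hy => hVU (hWV hy)
  have hres : f' ≫ g' = (f ≫ g).resLE U W hle := by
    rw [← cancel_mono U.ι, hfg', Scheme.Hom.resLE_comp_ι]
  haveI : LocallyOfFiniteType g' := inferInstance
  haveI : LocallyOfFinitePresentation (f' ≫ g') := hres ▸ inferInstance
  haveI : Flat (f' ≫ g') := (Flat.iff_flat_stalkMap _).mpr fun y => by
    refine flat_stalkMap_of_comp_openImmersion _ U.ι y (flat_stalkMap_congr hfg'.symm y ?_)
    exact (S4656.result W.ι (f ≫ g) y (Flat.stalkMap _ _)).mpr (hW y.2).2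
  let x' : W.toScheme := ⟨x, hxW⟩
  let s' : U.toScheme := (f' ≫ g') x'
  have hs' : U.ι s' = g (f x) := by
    show U.ι ((f' ≫ g') x') = _
    rw [← Scheme.Hom.comp_apply, hfg']
    rfl
  let z' : (f' ≫ g').fiber s' := (f' ≫ g').asFiber x'
  have hz' : (f' ≫ g').fiberι s' z' = x' := (f' ≫ g').fiberι_asFiber x'
  have h' : ((MoreMor.fiberMap f' g' s').stalkMap z').hom.Flat := by
    refine flat_fiberMap_of_openImmersion f g f' g' U.ι V.ι W.ι hg' hf' s' z' ?_
    rw [hz']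
    have key : ∀ t : S, t = g (f x) → ∀ w : (f ≫ g).fiber t, (f ≫ g).fiberι t w = x →
        ((MoreMor.fiberMap f g t).stalkMap w).hom.Flat := by
      rintro t rfl w hw
      obtain rfl : w = (f ≫ g).asFiber x :=
        ((f ≫ g).fiberι _).isEmbedding.injective (hw.trans ((f ≫ g).fiberι_asFiber x).symm)
      exact h
    exact key _ hs'
  obtain ⟨N, hN, hxN, hflat⟩ := exists_nhds_flat_of_fiberMap_affine f' g' s' z' h'
  rw [hz'] at hxN
  refine ⟨W.ι '' N, W.ι.isOpenEmbedding.isOpenMap _ hN, ⟨x', hxN, rfl⟩, ?_⟩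
  rintro _ ⟨w, hw, rfl⟩
  obtain ⟨hgl, hfl⟩ := hflat w hw
  constructor
  · have h1 : ((V.ι ≫ g).stalkMap (f' w)).hom.Flat :=
      flat_stalkMap_congr hg'.symm _ ((S4656.result g' U.ι (f' w) hgl).mpr (Flat.stalkMap _ _))
    have h2 := (S4656.result V.ι g (f' w) (Flat.stalkMap _ _)).mp h1
    have e : V.ι (f' w) = f (W.ι w) := by rw [← Scheme.Hom.comp_apply, ← hf']; rfl
    rwa [e] at h2
  · have h1 : ((W.ι ≫ f).stalkMap w).hom.Flat :=
      flat_stalkMap_congr hf'.symm w ((S4656.result f' V.ι w hfl).mpr (Flat.stalkMap _ _))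
    exact (S4656.result W.ι f w (Flat.stalkMap _ _)).mp h1

end Groth.Agent.H7Flat
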