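import Groth.Agent.H7Flat.GenericFreeness
import Mathlib.AlgebraicGeometry.Morphisms.Flat
import Mathlib.AlgebraicGeometry.Morphisms.FinitePresentation
import Mathlib.RingTheory.RingHom.Flat
import Mathlib.RingTheory.RingHom.FinitePresentation
import Mathlib.RingTheory.Localization.BaseChange

/-!
# Generic flatness over reduced bases
-/

set_option autoImplicit false
set_option backward.isDefEq.respectTransparency false

universe u

open AlgebraicGeometry CategoryTheory TopologicalSpace TensorProduct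

namespace Groth.Agent.H7Flat

/-- Flatness and finite presentation after inverting `g`, transported to any localizations. -/
lemma awayMap_flat_and_finitePresentation {R S : Type u} [CommRing R] [CommRing S] (φ : R →+* S)
    (g : R) (Rg Sg : Type u) [CommRing Rg] [CommRing Sg] [Algebra R Rg] [IsLocalization.Away g Rg]
    [Algebra S Sg] [IsLocalization.Away (φ g) Sg]
    (hf : letI := φ.toAlgebra
      Module.Free (Localization.Away g) (Localization.Away g ⊗[R] S))
    (hp : letI := φ.toAlgebra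
      Algebra.FinitePresentation (Localization.Away g) (Localization.Away g ⊗[R] S)) :
    (IsLocalization.Away.map Rg Sg φ g).Flat ∧
      (IsLocalization.Away.map Rg Sg φ g).FinitePresentation := by
  algebraize [φ]
  let A := Localization.Away g
  let ψ : A →+* Sg := IsLocalization.Away.map A Sg φ g
  let _ : Algebra A Sg := ψ.toAlgebra
  let _ : Algebra R Sg := Algebra.compHom Sg φ
  have : IsScalarTower R S Sg := IsScalarTower.of_algebraMap_eq fun _ ↦ rfl
  have : IsScalarTower R A Sg := IsScalarTower.of_algebraMap_eq fun x ↦ by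
    change _ = ψ (algebraMap R A x)
    simp [ψ, IsLocalization.Away.map]
    rfl
  have : IsLocalization (Algebra.algebraMapSubmonoid S (Submonoid.powers g)) Sg := by
    rw [Algebra.algebraMapSubmonoid, Submonoid.map_powers]; exact ‹IsLocalization.Away (φ g) Sg›
  have : Algebra.IsPushout R A S Sg :=
    (Algebra.isPushout_of_isLocalization (Submonoid.powers g) A S Sg).symm
  let e : A ⊗[R] S ≃ₐ[A] Sg := Algebra.IsPushout.equiv R A S Sg
  have hψ : ψ.Flat ∧ ψ.FinitePresentation :=
    ⟨Module.Flat.of_linearEquiv e.symm.toLinearEquiv, hp.equiv e⟩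
  let i : Rg ≃ₐ[R] A := IsLocalization.algEquiv (Submonoid.powers g) Rg A
  have hcomp : IsLocalization.Away.map Rg Sg φ g = ψ.comp i.toRingEquiv.toRingHom := by
    refine IsLocalization.ringHom_ext (Submonoid.powers g) (RingHom.ext fun x ↦ ?_)
    simp [ψ, IsLocalization.Away.map]
  rw [hcomp]
  exact ⟨RingHom.Flat.comp (RingHom.Flat.of_bijective i.toRingEquiv.bijective) hψ.1,
    hψ.2.comp (RingHom.FinitePresentation.of_bijective i.toRingEquiv.bijective)⟩

/-- Both flat and locally of finite presentation. -/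
abbrev flatLFP : MorphismProperty Scheme.{u} := @Flat ⊓ @LocallyOfFinitePresentation

lemma exists_mul_chain {R : Type u} [CommRing R] [Nontrivial R] {ι : Type*} (s : Finset ι)
    (P : ι → R → Prop) (hstep : ∀ i a, a ≠ 0 → ∃ f, f ≠ 0 ∧ a ∣ f ∧ ∀ g, f ∣ g → P i g) :
    ∃ f : R, f ≠ 0 ∧ ∀ i ∈ s, P i f := by
  classical
  suffices ∃ f : R, f ≠ 0 ∧ ∀ i ∈ s, ∀ g, f ∣ g → P i g by
    obtain ⟨f, hf, h⟩ := this
    exact ⟨f, hf, fun i hi ↦ h i hi f dvd_rfl⟩
  induction s using Finset.induction with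
  | empty => exact ⟨1, one_ne_zero, by simp⟩
  | insert i s _ ih =>
    obtain ⟨f, hf, h⟩ := ih
    obtain ⟨f', hf', hff', h'⟩ := hstep i f hf
    refine ⟨f', hf', fun j hj g hg ↦ ?_⟩
    obtain rfl | hj := Finset.mem_insert.mp hj
    · exact h' g hg
    · exact h j hj g (hff'.trans hg)

/-- Generic flatness over a reduced affine open. -/
theorem exists_basicOpen_flatLFP {X S : Scheme.{u}} (f : X ⟶ S) [IsReduced S]
    [LocallyOfFiniteType f] [QuasiCompact f] {V : S.Opens} (hV : IsAffineOpen V)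
    (hne : (V : Set S).Nonempty) :
    ∃ g : Γ(S, V), (S.basicOpen g : Set S).Nonempty ∧ flatLFP (f ∣_ S.basicOpen g) := by
  obtain ⟨s, hs, hW⟩ := (isCompact_and_isOpen_iff_finite_and_eq_biUnion_affineOpens
    (X := X) (U := f ⁻¹ᵁ V)).mp ⟨f.isCompact_preimage hV.isCompact, (f ⁻¹ᵁ V).2⟩
  have hle : ∀ W ∈ s, (W : X.Opens) ≤ f ⁻¹ᵁ V := fun W hW' x hx ↦
    hW.ge (Set.mem_biUnion hW' hx)
  have : IsReduced (V : Scheme.{u}) := inferInstance
  have : _root_.IsReduced Γ(S, V) := IsReduced.component_reduced V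
  have : Nontrivial Γ(S, V) := by
    obtain ⟨x, hx⟩ := hne
    exact (S.presheaf.germ V x hx).hom.domain_nontrivial
  obtain ⟨g, hg, hgood⟩ := exists_mul_chain hs.toFinset
    (fun W g ↦ ∀ (h : (W : X.Opens) ≤ f ⁻¹ᵁ V), letI := (f.appLE V W h).hom.toAlgebra
      Module.Free (Localization.Away g) (Localization.Away g ⊗[Γ(S, V)] Γ(X, W)) ∧
      Algebra.FinitePresentation (Localization.Away g) (Localization.Away g ⊗[Γ(S, V)] Γ(X, W)))
    (fun W a ha ↦ by
      by_cases h : (W : X.Opens) ≤ f ⁻¹ᵁ V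
      · let _ := (f.appLE V W h).hom.toAlgebra
        have : Algebra.FiniteType Γ(S, V) Γ(X, W) := f.finiteType_appLE hV W.2 h
        obtain ⟨b, hb, hab, hb'⟩ := exists_free_baseChange (R := Γ(S, V)) Γ(X, W) Γ(X, W) a ha
        obtain ⟨c, hc, hbc, hc'⟩ := exists_finitePresentation_algebra' (R := Γ(S, V)) Γ(X, W) b hb
        exact ⟨c, hc, hab.trans hbc, fun g hg _ ↦ ⟨hb' g (hbc.trans hg), hc' g hg⟩⟩
      · exact ⟨a, ha, dvd_rfl, fun g _ h' ↦ absurd h' h⟩)
  refine ⟨g, ?_, ?_⟩
  · by_contra hempty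
    refine hg (basicOpen_eq_bot_iff g |>.mp ?_)
    ext x
    exact iff_of_false (fun hx ↦ hempty ⟨x, hx⟩) (fun hx ↦ hx.elim)
  set D := S.basicOpen g
  have hD : IsAffineOpen D := hV.basicOpen g
  let U : s → (f ⁻¹ᵁ D).toScheme.Opens := fun W ↦ (f ⁻¹ᵁ D).ι ⁻¹ᵁ (W : X.Opens)
  have hU : iSup U = ⊤ := by
    refine top_le_iff.mp fun x _ ↦ ?_
    obtain ⟨W, hW', hx⟩ := Set.mem_iUnion₂.mp
      (hW.le (S.basicOpen_le g (show f ((f ⁻¹ᵁ D).ι x) ∈ D from x.2)))
    exact Opens.mem_iSup.mpr ⟨⟨W, hW'⟩, hx⟩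
  have key : ∀ W : s, Flat ((U W).ι ≫ f ∣_ D) ∧ LocallyOfFinitePresentation ((U W).ι ≫ f ∣_ D) := by
    intro ⟨W, hW'⟩
    let e₀ := hle W hW'
    let B := X.basicOpen (f.appLE V W e₀ g)
    have hB : B ≤ f ⁻¹ᵁ D := by simp [B, D, Scheme.Hom.appLE]
    let i := IsOpenImmersion.isoOfRangeEq ((U ⟨W, hW'⟩).ι ≫ (f ⁻¹ᵁ D).ι) B.ι (by
      simp only [Scheme.Hom.comp_base, TopCat.coe_comp, Set.range_comp, Scheme.Opens.range_ι]
      change Subtype.val '' (Subtype.val ⁻¹' (W.1 : Set X)) = (B : Set X)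
      ext x
      simp [B, D, Scheme.Hom.appLE, and_comm])
    have hfac : (U ⟨W, hW'⟩).ι ≫ f ∣_ D = i.hom ≫ f.resLE D B hB := by
      rw [← cancel_mono D.ι, Category.assoc, morphismRestrict_ι, Category.assoc,
        Scheme.Hom.resLE_comp_ι, ← Category.assoc i.hom, IsOpenImmersion.isoOfRangeEq_hom_fac,
        Category.assoc]
    have : IsAffine (D : Scheme.{u}) := hD
    have : IsAffine (B : Scheme.{u}) := W.2.basicOpen _
    let := hV.isLocalization_basicOpen g
    let := W.2.isLocalization_basicOpen (f.appLE V W e₀ g)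
    obtain ⟨h1, h2⟩ := hgood W (hs.mem_toFinset.mpr hW') e₀
    obtain ⟨h3, h4⟩ := awayMap_flat_and_finitePresentation (f.appLE V W e₀).hom g
      Γ(S, D) Γ(X, B) h1 h2
    have happ := IsAffineOpen.appLE_eq_away_map f hV W.2 e₀ g
    have hiso := arrowResLEAppIso f D B hB
    rw [hfac]
    refine ⟨(MorphismProperty.cancel_left_of_respectsIso @Flat i.hom _).mpr ?_,
      (MorphismProperty.cancel_left_of_respectsIso @LocallyOfFinitePresentation i.hom _).mpr ?_⟩
    · rw [HasRingHomProperty.iff_of_isAffine (P := @Flat)]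
      have : RingHom.Flat (f.appLE D B hB).hom := by rw [happ]; exact h3
      have hR := RingHom.toMorphismProperty_respectsIso_iff.mp RingHom.Flat.respectsIso
      exact (MorphismProperty.arrow_mk_iso_iff (RingHom.toMorphismProperty RingHom.Flat) hiso).mpr this
    · rw [HasRingHomProperty.iff_of_isAffine (P := @LocallyOfFinitePresentation)]
      have : RingHom.FinitePresentation (f.appLE D B hB).hom := by rw [happ]; exact h4
      have hR := RingHom.toMorphismProperty_respectsIso_iff.mp RingHom.finitePresentation_respectsIso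
      exact (MorphismProperty.arrow_mk_iso_iff
        (RingHom.toMorphismProperty RingHom.FinitePresentation) hiso).mpr this
  exact ⟨(IsZariskiLocalAtSource.iff_of_iSup_eq_top (P := @Flat) U hU).mpr fun W ↦ (key W).1,
    (IsZariskiLocalAtSource.iff_of_iSup_eq_top (P := @LocallyOfFinitePresentation) U hU).mpr
      fun W ↦ (key W).2⟩

/-- Generic flatness over a reduced base. -/
theorem exists_dense_flatLFP {X S : Scheme.{u}} (f : X ⟶ S) [IsReduced S]
    [LocallyOfFiniteType f] [QuasiCompact f] :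
    ∃ U : S.Opens, Dense (U : Set S) ∧ Flat (f ∣_ U) ∧ LocallyOfFinitePresentation (f ∣_ U) := by
  let good : Set S.Opens := {D | Flat (f ∣_ D) ∧ LocallyOfFinitePresentation (f ∣_ D)}
  have hlocal : ∀ (P : MorphismProperty Scheme.{u}) [P.RespectsIso] [IsZariskiLocalAtTarget P],
      (∀ D : good, P (f ∣_ D.1)) → P (f ∣_ sSup good) := by
    intro P _ _ h
    refine IsZariskiLocalAtTarget.of_iSup_eq_top
      (fun D : good ↦ (sSup good).ι ⁻¹ᵁ D.1) ?_ fun D ↦ ?_
    · rw [← Scheme.Hom.preimage_iSup, ← sSup_eq_iSup']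
      exact Scheme.Opens.ι_preimage_self _
    · exact (MorphismProperty.arrow_mk_iso_iff P (morphismRestrictRestrict f (sSup good) _)).mpr
        ((MorphismProperty.arrow_mk_iso_iff P (morphismRestrictEq f (by
          simp [Scheme.Hom.image_preimage_eq_opensRange_inf, le_sSup D.2]))).mpr (h D))
  refine ⟨sSup good, ?_, hlocal @Flat fun D ↦ D.2.1,
    hlocal @LocallyOfFinitePresentation fun D ↦ D.2.2⟩
  · rw [dense_iff_inter_open]
    rintro O hO ⟨x, hx⟩
    obtain ⟨_, ⟨V, hV, rfl⟩, hxV, hVO⟩ := S.isBasis_affineOpens.exists_subset_of_mem_open hx hO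
    obtain ⟨g, ⟨y, hy⟩, h⟩ := exists_basicOpen_flatLFP f hV ⟨x, hxV⟩
    exact ⟨y, hVO (S.basicOpen_le g hy), Opens.mem_sSup.mpr ⟨_, h, hy⟩⟩

end Groth.Agent.H7Flat
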