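import Mathlib.AlgebraicGeometry.Fiber
import Mathlib.AlgebraicGeometry.Pullbacks
import Mathlib.AlgebraicGeometry.PullbackCarrier
import Mathlib.AlgebraicGeometry.ResidueField

/-!
# Affine charts of scheme fibres
-/

set_option autoImplicit false
set_option backward.isDefEq.respectTransparency false
set_option linter.style.haveILetI false

universe u

open CategoryTheory Limits AlgebraicGeometry TopologicalSpace
open scoped TensorProduct

namespace Groth.Agent.H7Flat.FibreChart

variable {X Y : Scheme.{u}} (f : X ⟶ Y)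

theorem evaluation_fromSpec {V : Y.Opens} (hV : IsAffineOpen V) (y : Y) (hy : y ∈ V) :
    Spec.map (Y.evaluation V y hy) ≫ hV.fromSpec = Y.fromSpecResidueField y := by
  rw [Scheme.evaluation, Scheme.fromSpecResidueField, Spec.map_comp, Category.assoc,
    ← hV.fromSpecStalk_eq_fromSpecStalk hy]
  rfl

theorem isField_residueField (y : Y) : IsField (Y.residueField y : Type u) :=
  Field.toIsField _

/-- The chart of the fibre over `y` given by an affine open over an affine open. -/
theorem exists_fibreChart {V : Y.Opens} (hV : IsAffineOpen V) {W : X.Opens} (hW : IsAffineOpen W)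
    (e : W ≤ f ⁻¹ᵁ V) (y : Y) (hy : y ∈ V) :
    letI := (f.appLE V W e).hom.toAlgebra
    letI := (Y.evaluation V y hy).hom.toAlgebra
    ∃ j : Spec (CommRingCat.of (Γ(X, W) ⊗[Γ(Y, V)] Y.residueField y)) ⟶ f.fiber y,
      IsOpenImmersion j ∧ Set.range j = f.fiberι y ⁻¹' (W : Set X) ∧
      j ≫ f.fiberι y = Spec.map (CommRingCat.ofHom Algebra.TensorProduct.includeLeftRingHom) ≫ hW.fromSpec := by
  letI := (f.appLE V W e).hom.toAlgebra
  letI := (Y.evaluation V y hy).hom.toAlgebra
  let g₁ := Spec.map (CommRingCat.ofHom (algebraMap Γ(Y, V) Γ(X, W)))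
  let g₂ := Spec.map (CommRingCat.ofHom (algebraMap Γ(Y, V) (Y.residueField y)))
  let m : pullback g₁ g₂ ⟶ f.fiber y :=
    pullback.map g₁ g₂ f (Y.fromSpecResidueField y) hW.fromSpec (𝟙 _) hV.fromSpec
      (IsAffineOpen.SpecMap_appLE_fromSpec f hV hW e)
      ((evaluation_fromSpec hV y hy).trans (Category.id_comp _).symm)
  refine ⟨(pullbackSpecIso Γ(Y, V) Γ(X, W) (Y.residueField y)).inv ≫ m, inferInstance, ?_, ?_⟩
  · rw [Scheme.Hom.comp_base, TopCat.coe_comp, Set.range_comp,
      Set.range_eq_univ.2 (pullbackSpecIso Γ(Y, V) Γ(X, W) (Y.residueField y)).inv.surjective, Set.image_univ]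
    refine (Scheme.Pullback.range_map ..).trans ?_
    ext z
    constructor
    · rintro ⟨h1, -⟩
      exact hW.range_fromSpec.le h1
    · exact fun h1 => ⟨hW.range_fromSpec.ge h1, _, rfl⟩
  · rw [Category.assoc, show m ≫ f.fiberι y = pullback.fst g₁ g₂ ≫ hW.fromSpec from pullback.lift_fst _ _ _,
      pullbackSpecIso_inv_fst_assoc]

end Groth.Agent.H7Flat.FibreChart
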