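import Groth.Agent.H7Flat.GenericFibreScheme
import Groth.Agent.H7Flat.FibreChart
import Groth.Agent.H8Props.SchDenseDepth
import Mathlib.AlgebraicGeometry.Morphisms.SchemeTheoreticallyDominant
import Mathlib.AlgebraicGeometry.Noetherian
import Mathlib.RingTheory.Ideal.AssociatedPrime.Finiteness

/-!
# Scheme-theoretic density in fibres near the generic point
-/

set_option autoImplicit false
set_option backward.isDefEq.respectTransparency false
set_option linter.style.haveILetI false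

universe u

open scoped TensorProduct

namespace Groth.Agent.H7Flat.GenericFibre

section algebra

variable {R A : Type u} [CommRing R] [CommRing A] [Algebra R A]

/-- An element of `J` regular on the generic fibre is regular on nearby fibres. -/
theorem exists_regular_mem [IsDomain R] [Algebra.FiniteType R A] (K : Type u) [Field K] [Algebra R K]
    [IsFractionRing R K] (J : Ideal A)
    (h : ∀ z : K ⊗[R] A, (∀ a ∈ J, ((1 : K) ⊗ₜ[R] a) * z = 0) → z = 0) :
    ∃ a ∈ J, ∃ f : R, f ≠ 0 ∧ ∀ g : R, f ∣ g → g ≠ 0 → ∀ (k : Type u) [Field k] [Algebra R k],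
      algebraMap R k g ≠ 0 → IsSMulRegular (k ⊗[R] A) ((1 : k) ⊗ₜ[R] a) := by
  classical
  haveI : IsNoetherianRing (K ⊗[R] A) := Algebra.FiniteType.isNoetherianRing K _
  let incl := (Algebra.TensorProduct.includeRight : A →ₐ[R] K ⊗[R] A).toRingHom
  let S := associatedPrimes (K ⊗[R] A) (K ⊗[R] A)
  have hS : S.Finite := associatedPrimes.finite _ _
  obtain ⟨a, haJ, ha⟩ : ∃ a ∈ J, ∀ P ∈ S, incl a ∉ P := by
    by_contra hcon
    push Not at hcon
    have hsub : (J : Set A) ⊆ ⋃ P ∈ (hS.toFinset : Set (Ideal (K ⊗[R] A))), (P.comap incl : Set A) := fun a ha => by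
      obtain ⟨P, hP, haP⟩ := hcon a ha
      exact Set.mem_iUnion₂.2 ⟨P, by simpa using hP, haP⟩
    obtain ⟨P₀, hP₀, -⟩ := hcon 0 (zero_mem J)
    obtain ⟨P, hP, hJP⟩ := (Ideal.subset_union_prime P₀ P₀ (fun P hP _ _ => by
      haveI : P.IsPrime := (isAssociatedPrime_iff.1 (by simpa using hP : P ∈ S)).1
      exact Ideal.IsPrime.comap _)).1 hsub
    obtain ⟨hPp, z, hz⟩ := isAssociatedPrime_iff.1 (by simpa using hP : P ∈ S)
    have h1 : z = 0 := h z fun b hb => by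
      have h2 : incl b ∈ P := hJP hb
      rw [hz, Submodule.mem_colon_singleton, Submodule.mem_bot, smul_eq_mul] at h2
      exact h2
    exact hPp.ne_top ((Ideal.eq_top_iff_one _).2 (by
      rw [hz, h1, Submodule.mem_colon_singleton, Submodule.mem_bot, smul_zero]))
  have hreg : ∀ z : K ⊗[R] A, incl a * z = 0 → z = 0 := by
    intro z hz
    by_contra hz0
    obtain ⟨P, hP, hle⟩ := exists_le_isAssociatedPrime_of_isNoetherianRing (K ⊗[R] A) z hz0
    exact ha P hP (hle (by rw [Submodule.mem_colon_singleton, Submodule.mem_bot, smul_eq_mul]; exact hz))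
  obtain ⟨f₁, hf₁, -, hfree₁⟩ := exists_free_baseChange (R := R) A A 1 one_ne_zero
  obtain ⟨f, hf, hf₁f, hfree⟩ := exists_free_baseChange (R := R) (A ⧸ Ideal.span {a}) (A ⧸ Ideal.span {a}) f₁ hf₁
  refine ⟨a, haJ, f, hf, fun g hfg hg k _ _ hk => ?_⟩
  haveI := hfree₁ g (hf₁f.trans hfg)
  haveI := hfree g hfg
  refine isSMulRegular_fiber (A := A) k hk fun b hb => ?_
  have h1 : incl b = 0 := hreg _ (by rw [← map_mul, hb, map_zero])
  obtain ⟨⟨r, hr⟩, hrb⟩ := (IsLocalizedModule.eq_zero_iff (nonZeroDivisors R) (TensorProduct.mk R K A 1)).1 h1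
  exact torsion_of_free hg (nonZeroDivisors.ne_zero hr) hrb

/-- Killing an ideal of the base that dies in `k` does not change the fibre ring. -/
theorem exists_quotTensorEquiv (p : Ideal R) (k : Type u) [CommRing k] [Algebra R k] [Algebra (R ⧸ p) k]
    [IsScalarTower R (R ⧸ p) k] [Algebra (R ⧸ p) (A ⧸ p.map (algebraMap R A))]
    [IsScalarTower R (R ⧸ p) (A ⧸ p.map (algebraMap R A))] :
    ∃ e : k ⊗[R] A ≃+* k ⊗[R ⧸ p] (A ⧸ p.map (algebraMap R A)),
      ∀ a : A, e (1 ⊗ₜ a) = 1 ⊗ₜ Ideal.Quotient.mk _ a := by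
  let N := p.map (algebraMap R A)
  let φ : k ⊗[R] A →ₐ[R] k ⊗[R ⧸ p] (A ⧸ N) :=
    Algebra.TensorProduct.lift
      ((Algebra.TensorProduct.includeLeft : k →ₐ[R ⧸ p] k ⊗[R ⧸ p] (A ⧸ N)).restrictScalars R)
      (((Algebra.TensorProduct.includeRight : (A ⧸ N) →ₐ[R ⧸ p] k ⊗[R ⧸ p] (A ⧸ N)).restrictScalars R).comp
        (Ideal.Quotient.mkₐ R N)) fun _ _ => Commute.all _ _
  have hN : N ≤ RingHom.ker (Algebra.TensorProduct.includeRight : A →ₐ[R] k ⊗[R] A).toRingHom :=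
    Ideal.map_le_iff_le_comap.2 fun r hr => by
      show (Algebra.TensorProduct.includeRight : A →ₐ[R] k ⊗[R] A) (algebraMap R A r) = 0
      rw [AlgHom.commutes, IsScalarTower.algebraMap_apply R k (k ⊗[R] A),
        IsScalarTower.algebraMap_apply R (R ⧸ p) k, Ideal.Quotient.algebraMap_eq,
        Ideal.Quotient.eq_zero_iff_mem.2 hr, map_zero, map_zero]
  let β₀ : A ⧸ N →ₐ[R] k ⊗[R] A :=
    Ideal.Quotient.liftₐ N (Algebra.TensorProduct.includeRight : A →ₐ[R] k ⊗[R] A) fun x hx => hN hx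
  let β : A ⧸ N →ₐ[R ⧸ p] k ⊗[R] A :=
    { β₀ with
      commutes' := fun c => by
        obtain ⟨r, rfl⟩ := Ideal.Quotient.mk_surjective c
        show β₀ (algebraMap (R ⧸ p) (A ⧸ N) (algebraMap R (R ⧸ p) r)) = algebraMap (R ⧸ p) (k ⊗[R] A) (algebraMap R (R ⧸ p) r)
        rw [← IsScalarTower.algebraMap_apply R (R ⧸ p) (A ⧸ N), AlgHom.commutes,
          ← IsScalarTower.algebraMap_apply R (R ⧸ p) (k ⊗[R] A)] }
  let ψ : k ⊗[R ⧸ p] (A ⧸ N) →ₐ[R ⧸ p] k ⊗[R] A :=
    Algebra.TensorProduct.lift (Algebra.TensorProduct.includeLeft : k →ₐ[R ⧸ p] k ⊗[R] A) β fun _ _ => Commute.all _ _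
  have hφψ : ∀ z, φ (ψ z) = z := by
    intro z
    induction z with
    | zero => simp only [map_zero]
    | tmul c x =>
      obtain ⟨x, rfl⟩ := Ideal.Quotient.mk_surjective x
      simp [φ, ψ, β, β₀]
    | add x y hx hy => simp only [map_add, hx, hy]
  have hψφ : ∀ z, ψ (φ z) = z := by
    intro z
    induction z with
    | zero => simp only [map_zero]
    | tmul c x =>
      simp [φ, ψ, β, β₀]
    | add x y hx hy => simp only [map_add, hx, hy]
  refine ⟨{ φ.toRingHom with invFun := ψ, left_inv := hψφ, right_inv := hφψ }, fun a => ?_⟩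
  show φ (1 ⊗ₜ a) = _
  simp [φ]
  rfl

end algebra

section Scheme

open CategoryTheory AlgebraicGeometry TopologicalSpace

variable {X Y : Scheme.{u}} (f : X ⟶ Y)

theorem quotient_mk_residue {V : Y.Opens} (hV : IsAffineOpen V) (y : Y) (hy : y ∈ V) (r : Γ(Y, V))
    (hr : r ∈ (hV.primeIdealOf ⟨y, hy⟩).asIdeal) : (Y.evaluation V y hy).hom r = 0 := by
  letI := Y.presheaf.algebra_section_stalk ⟨y, hy⟩
  haveI := hV.isLocalization_stalk ⟨y, hy⟩
  show IsLocalRing.residue _ (algebraMap Γ(Y, V) (Y.presheaf.stalk y) r) = 0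
  rw [IsLocalRing.residue_eq_zero_iff]
  exact (IsLocalization.AtPrime.to_map_mem_maximal_iff (Y.presheaf.stalk y) (hV.primeIdealOf ⟨y, hy⟩).asIdeal r).2 hr

theorem isFractionRing_residueField {V : Y.Opens} (hV : IsAffineOpen V) (y : Y) (hy : y ∈ V)
    [Algebra (Γ(Y, V) ⧸ (hV.primeIdealOf ⟨y, hy⟩).asIdeal) (Y.residueField y)]
    (h : ∀ r, algebraMap (Γ(Y, V) ⧸ (hV.primeIdealOf ⟨y, hy⟩).asIdeal) (Y.residueField y) (Ideal.Quotient.mk _ r) =
      (Y.evaluation V y hy).hom r) :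
    IsFractionRing (Γ(Y, V) ⧸ (hV.primeIdealOf ⟨y, hy⟩).asIdeal) (Y.residueField y) := by
  letI := Y.presheaf.algebra_section_stalk ⟨y, hy⟩
  haveI := hV.isLocalization_stalk ⟨y, hy⟩
  have hinj : Function.Injective (algebraMap (Γ(Y, V) ⧸ (hV.primeIdealOf ⟨y, hy⟩).asIdeal) (Y.residueField y)) := by
    rw [injective_iff_map_eq_zero]
    intro c hc
    obtain ⟨r, rfl⟩ := Ideal.Quotient.mk_surjective c
    refine Ideal.Quotient.eq_zero_iff_mem.2 ?_
    exact (IsLocalization.AtPrime.to_map_mem_maximal_iff (Y.presheaf.stalk y) (hV.primeIdealOf ⟨y, hy⟩).asIdeal r).1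
      ((IsLocalRing.residue_eq_zero_iff _).1 ((h r).symm.trans hc))
  haveI := (hV.primeIdealOf ⟨y, hy⟩).isPrime
  haveI : FaithfulSMul (Γ(Y, V) ⧸ (hV.primeIdealOf ⟨y, hy⟩).asIdeal) (Y.residueField y) := (faithfulSMul_iff_algebraMap_injective _ _).2 hinj
  refine IsFractionRing.of_field _ _ fun z => ?_
  obtain ⟨s, rfl⟩ := IsLocalRing.residue_surjective (R := Y.presheaf.stalk y) z
  obtain ⟨⟨n, d⟩, hd⟩ := IsLocalization.surj (M := (hV.primeIdealOf ⟨y, hy⟩).asIdeal.primeCompl) s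
  refine ⟨Ideal.Quotient.mk (hV.primeIdealOf ⟨y, hy⟩).asIdeal n, Ideal.Quotient.mk (hV.primeIdealOf ⟨y, hy⟩).asIdeal d, ?_⟩
  refine Eq.trans ?_ (congrArg₂ (· / ·) (h n) (h d)).symm
  have hdne : (Y.evaluation V y hy).hom (d : Γ(Y, V)) ≠ 0 := by
    intro h0
    exact d.2 (Ideal.Quotient.eq_zero_iff_mem.1 (hinj (((h d).trans h0).trans (map_zero _).symm)))
  rw [eq_div_iff hdne]
  show (Y.residue y).hom s * (Y.residue y).hom (algebraMap Γ(Y, V) (Y.presheaf.stalk y) d) = (Y.residue y).hom (algebraMap Γ(Y, V) (Y.presheaf.stalk y) n)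
  rw [← map_mul, hd]

theorem exists_fibreChart' {V : Y.Opens} (hV : IsAffineOpen V) {W : X.Opens} (hW : IsAffineOpen W)
    (e : W ≤ f ⁻¹ᵁ V) (y : Y) (hy : y ∈ V) :
    letI := (f.appLE V W e).hom.toAlgebra
    letI := (Y.evaluation V y hy).hom.toAlgebra
    ∃ j : Spec (CommRingCat.of (Y.residueField y ⊗[Γ(Y, V)] Γ(X, W))) ⟶ f.fiber y,
      IsOpenImmersion j ∧ Set.range j = f.fiberι y ⁻¹' (W : Set X) ∧
      ∀ Q, f.fiberι y (j Q) =
        hW.fromSpec (PrimeSpectrum.comap (Algebra.TensorProduct.includeRight :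
          Γ(X, W) →ₐ[Γ(Y, V)] Y.residueField y ⊗[Γ(Y, V)] Γ(X, W)).toRingHom Q) := by
  letI := (f.appLE V W e).hom.toAlgebra
  letI := (Y.evaluation V y hy).hom.toAlgebra
  obtain ⟨j, hj, hjr, hjι⟩ := FibreChart.exists_fibreChart f hV hW e y hy
  let c := (Algebra.TensorProduct.comm Γ(Y, V) Γ(X, W) (Y.residueField y)).toRingEquiv
  refine ⟨Spec.map (c.toCommRingCatIso.hom) ≫ j, inferInstance, ?_, fun Q => ?_⟩
  · rw [Scheme.Hom.comp_base, TopCat.coe_comp, Set.range_comp,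
      Set.range_eq_univ.2 (Spec.map c.toCommRingCatIso.hom).surjective, Set.image_univ, hjr]
  · refine congr($hjι (Spec.map c.toCommRingCatIso.hom Q)).trans ?_
    show hW.fromSpec _ = hW.fromSpec _
    refine congrArg _ (PrimeSpectrum.ext ?_)
    ext a
    show c (a ⊗ₜ 1) ∈ Q.asIdeal ↔ (1 : Y.residueField y) ⊗ₜ[Γ(Y, V)] a ∈ Q.asIdeal
    simp [c]

variable [LocallyOfFiniteType f] [QuasiCompact f] [IrreducibleSpace Y]

/-- Near the generic point every fibre has, locally on the complement of `U`, a regular element. -/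
theorem exists_basicOpen_regular (U : X.Opens) [IsSchemeTheoreticallyDominant (f.fiberι (genericPoint Y) ⁻¹ᵁ U).ι]
    {V : Y.Opens} (hV : IsAffineOpen V) (hη : genericPoint Y ∈ V) {W : X.Opens} (hW : IsAffineOpen W)
    (e : W ≤ f ⁻¹ᵁ V) :
    ∃ t : Γ(Y, V), genericPoint Y ∈ Y.basicOpen t ∧ ∀ y ∈ Y.basicOpen t, ∀ z : f.fiber y,
      f.fiberι y z ∈ W → f.fiberι y z ∉ U →
        ∃ b ∈ IsLocalRing.maximalIdeal ((f.fiber y).presheaf.stalk z),
          IsSMulRegular ((f.fiber y).presheaf.stalk z) b := by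
  set η := genericPoint Y
  let p₀ := (hV.primeIdealOf ⟨η, hη⟩).asIdeal
  haveI : p₀.IsPrime := (hV.primeIdealOf ⟨η, hη⟩).isPrime
  have hp₀ : ∀ p : PrimeSpectrum Γ(Y, V), p₀ ≤ p.asIdeal := by
    intro p
    have h : η ⤳ hV.fromSpec p := (genericPoint_spec Y).specializes trivial
    have h' : hV.fromSpec (hV.primeIdealOf ⟨η, hη⟩) ⤳ hV.fromSpec p := by
      rw [hV.fromSpec_primeIdealOf]; exact h
    exact (PrimeSpectrum.le_iff_specializes _ p).2 (hV.fromSpec.isOpenEmbedding.isInducing.specializes_iff.1 h')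
  letI := (f.appLE V W e).hom.toAlgebra
  haveI : Algebra.FiniteType Γ(Y, V) Γ(X, W) := f.finiteType_appLE hV hW e
  let N := p₀.map (algebraMap Γ(Y, V) Γ(X, W))
  letI : Algebra (Γ(Y, V) ⧸ p₀) (Γ(X, W) ⧸ N) :=
    (Ideal.quotientMap N (algebraMap Γ(Y, V) Γ(X, W)) Ideal.le_comap_map).toAlgebra
  haveI : IsScalarTower Γ(Y, V) (Γ(Y, V) ⧸ p₀) (Γ(X, W) ⧸ N) := IsScalarTower.of_algebraMap_eq fun r => rfl
  haveI : Algebra.FiniteType Γ(Y, V) (Γ(X, W) ⧸ N) := (inferInstance : Algebra.FiniteType Γ(Y, V) Γ(X, W)).of_surjective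
    (Ideal.Quotient.mkₐ Γ(Y, V) N) Ideal.Quotient.mk_surjective
  haveI : Algebra.FiniteType (Γ(Y, V) ⧸ p₀) (Γ(X, W) ⧸ N) :=
    Algebra.FiniteType.of_restrictScalars_finiteType Γ(Y, V) (Γ(Y, V) ⧸ p₀) _
  let J := PrimeSpectrum.vanishingIdeal (hW.fromSpec ⁻¹' (U : Set X)ᶜ)
  have hJ : ∀ q : PrimeSpectrum Γ(X, W), J ≤ q.asIdeal ↔ hW.fromSpec q ∉ U := fun q => by
    have : q ∈ PrimeSpectrum.zeroLocus (J : Set Γ(X, W)) ↔ q ∈ hW.fromSpec ⁻¹' (U : Set X)ᶜ := by
      rw [PrimeSpectrum.zeroLocus_vanishingIdeal_eq_closure]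
      exact Set.ext_iff.1 (U.2.isClosed_compl.preimage hW.fromSpec.continuous).closure_eq q
    exact this
  letI : Algebra (Γ(Y, V) ⧸ p₀) (Y.residueField η) :=
    (Ideal.Quotient.lift p₀ (Y.evaluation V η hη).hom fun r hr => quotient_mk_residue hV η hη r hr).toAlgebra
  haveI : IsFractionRing (Γ(Y, V) ⧸ p₀) (Y.residueField η) := isFractionRing_residueField hV η hη fun r => rfl
  have hgen : ∀ z : Y.residueField η ⊗[Γ(Y, V) ⧸ p₀] (Γ(X, W) ⧸ N),
      (∀ a ∈ J.map (Ideal.Quotient.mk N), ((1 : Y.residueField η) ⊗ₜ[Γ(Y, V) ⧸ p₀] a) * z = 0) → z = 0 := by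
    letI := (Y.evaluation V η hη).hom.toAlgebra
    haveI : IsScalarTower Γ(Y, V) (Γ(Y, V) ⧸ p₀) (Y.residueField η) := IsScalarTower.of_algebraMap_eq fun r => rfl
    obtain ⟨E, hE⟩ := exists_quotTensorEquiv (A := Γ(X, W)) p₀ (Y.residueField η)
    obtain ⟨j, hj, -, hjι⟩ := exists_fibreChart' f hV hW e η hη
    intro z hz
    obtain ⟨z, rfl⟩ := E.surjective z
    suffices hz0 : z = 0 by rw [hz0, map_zero]
    have hz' : ∀ a ∈ J, ((1 : Y.residueField η) ⊗ₜ[Γ(Y, V)] a) * z = 0 := fun a ha => by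
      apply E.injective
      rw [map_mul, hE, map_zero]
      exact hz _ (Ideal.mem_map_of_mem _ ha)
    let B := CommRingCat.of (Y.residueField η ⊗[Γ(Y, V)] Γ(X, W))
    haveI : LocallyOfFiniteType (f.fiberToSpecResidueField η) :=
      MorphismProperty.pullback_snd (P := @LocallyOfFiniteType) _ _ inferInstance
    haveI : IsLocallyNoetherian (f.fiber η) := LocallyOfFiniteType.isLocallyNoetherian (f.fiberToSpecResidueField η)
    let U'' := j ⁻¹ᵁ (f.fiberι η ⁻¹ᵁ U)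
    haveI : IsLocallyNoetherian (Spec B) := isLocallyNoetherian_of_isOpenImmersion j
    haveI : IsSchemeTheoreticallyDominant U''.ι :=
      IsSchemeTheoreticallyDominant.of_isPullback (isPullback_morphismRestrict j (f.fiberι η ⁻¹ᵁ U))
    have hinj := U''.ι.app_injective ⊤
    obtain ⟨s, hs⟩ : ∃ s, (Scheme.ΓSpecIso B).hom s = z := (ConcreteCategory.bijective_of_isIso (Scheme.ΓSpecIso B).hom).2 z
    suffices hs0 : s = 0 by rw [← hs, hs0, map_zero]
    apply hinj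
    rw [map_zero]
    refine TopCat.Presheaf.section_ext U''.toScheme.sheaf _ _ _ fun x hx => ?_
    have hxU : hW.fromSpec (PrimeSpectrum.comap (Algebra.TensorProduct.includeRight :
        Γ(X, W) →ₐ[Γ(Y, V)] Y.residueField η ⊗[Γ(Y, V)] Γ(X, W)).toRingHom x.1) ∈ U := by
      rw [← hjι]; exact x.2
    obtain ⟨a, haJ, ha⟩ : ∃ a ∈ J, ((1 : Y.residueField η) ⊗ₜ[Γ(Y, V)] a) ∉ (x.1 : PrimeSpectrum B).asIdeal := by
      by_contra hcon
      push Not at hcon
      exact ((hJ _).1 fun b hb => hcon b hb) hxU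
    have hkill := hz' a haJ
    rw [← hs] at hkill
    obtain ⟨a', ha'⟩ : ∃ a', (Scheme.ΓSpecIso B).hom a' = ((1 : Y.residueField η) ⊗ₜ[Γ(Y, V)] a) :=
      (ConcreteCategory.bijective_of_isIso (Scheme.ΓSpecIso B).hom).2 _
    rw [← ha', ← map_mul] at hkill
    have hmul : a' * s = 0 := (ConcreteCategory.bijective_of_isIso (Scheme.ΓSpecIso B).hom).1 (hkill.trans (map_zero _).symm)
    have hu : IsUnit (U''.toScheme.presheaf.germ _ x hx (U''.ι.app ⊤ a')) := by
      rw [← Scheme.mem_basicOpen, ← Scheme.preimage_basicOpen]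
      show x.1 ∈ (Spec B).basicOpen a'
      rw [show a' = (Scheme.ΓSpecIso B).inv ((Scheme.ΓSpecIso B).hom a') from
        congr($((Scheme.ΓSpecIso B).hom_inv_id) a').symm, ha', basicOpen_eq_of_affine]
      exact ha
    show U''.toScheme.presheaf.germ _ x hx (U''.ι.app ⊤ s) = U''.toScheme.presheaf.germ _ x hx 0
    rw [map_zero]
    refine (hu.mul_right_eq_zero).1 ?_
    rw [← map_mul, ← map_mul, hmul, map_zero, map_zero]
  obtain ⟨a', ha'J, g₀, hg₀, hreg⟩ := exists_regular_mem (Y.residueField η) _ hgen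
  obtain ⟨a, haJ, rfl⟩ := (Ideal.mem_map_iff_of_surjective _ Ideal.Quotient.mk_surjective).1 ha'J
  obtain ⟨g, rfl⟩ := Ideal.Quotient.mk_surjective g₀
  refine ⟨g, ?_, fun y hy z hzW hzU => ?_⟩
  · by_contra hc
    have hgp : g ∈ p₀ := by
      by_contra hgp
      refine hc ?_
      have h1 : hV.primeIdealOf ⟨η, hη⟩ ∈ hV.fromSpec ⁻¹ᵁ Y.basicOpen g := by
        rw [hV.fromSpec_preimage_basicOpen]
        exact hgp
      have h2 : hV.fromSpec (hV.primeIdealOf ⟨η, hη⟩) ∈ Y.basicOpen g := h1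
      rw [hV.fromSpec_primeIdealOf] at h2
      exact h2
    exact hg₀ (Ideal.Quotient.eq_zero_iff_mem.2 hgp)
  · have hyV : y ∈ V := Y.basicOpen_le g hy
    letI := (Y.evaluation V y hyV).hom.toAlgebra
    letI : Algebra (Γ(Y, V) ⧸ p₀) (Y.residueField y) :=
      (Ideal.Quotient.lift p₀ (Y.evaluation V y hyV).hom fun r hr =>
        quotient_mk_residue hV y hyV r (hp₀ _ hr)).toAlgebra
    haveI : IsScalarTower Γ(Y, V) (Γ(Y, V) ⧸ p₀) (Y.residueField y) := IsScalarTower.of_algebraMap_eq fun r => rfl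
    have hgk : algebraMap (Γ(Y, V) ⧸ p₀) (Y.residueField y) (Ideal.Quotient.mk p₀ g) ≠ 0 :=
      IsUnit.ne_zero ((Scheme.mem_basicOpen Y g y hyV).1 hy |>.map (Y.residue y).hom)
    have hk := hreg _ dvd_rfl hg₀ (Y.residueField y) hgk
    obtain ⟨E, hE⟩ := exists_quotTensorEquiv (A := Γ(X, W)) p₀ (Y.residueField y)
    obtain ⟨j, hj, hjr, hjι⟩ := exists_fibreChart' f hV hW e y hyV
    let B := CommRingCat.of (Y.residueField y ⊗[Γ(Y, V)] Γ(X, W))
    let b₀ : B := (1 : Y.residueField y) ⊗ₜ[Γ(Y, V)] a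
    have hb₀ : ∀ c : B, b₀ * c = 0 → c = 0 := fun c hc => by
      apply E.injective
      refine hk ?_
      show _ * E c = _ * E 0
      rw [map_zero, mul_zero, ← hE, ← map_mul, show ((1 : Y.residueField y) ⊗ₜ[Γ(Y, V)] a) * c = 0 from hc, map_zero]
    obtain ⟨Q, rfl⟩ : z ∈ Set.range j := by rw [hjr]; exact hzW
    have hmem : b₀ ∈ (Q : PrimeSpectrum B).asIdeal := by
      have := (hJ _).2 (by rw [← hjι]; exact hzU) haJ
      exact this
    letI : Algebra B ((Spec B).presheaf.stalk Q) := StructureSheaf.stalkAlgebra B Q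
    haveI : IsLocalization.AtPrime ((Spec B).presheaf.stalk Q) (Q : PrimeSpectrum B).asIdeal :=
      StructureSheaf.IsLocalization.to_stalk B Q
    let σ := (asIso (j.stalkMap Q)).commRingCatIsoToRingEquiv.symm
    let β := algebraMap B ((Spec B).presheaf.stalk Q) b₀
    refine ⟨σ β, ?_, ?_⟩
    · have hβ : β ∈ IsLocalRing.maximalIdeal ((Spec B).presheaf.stalk Q) :=
        (IsLocalization.AtPrime.to_map_mem_maximal_iff _ (Q : PrimeSpectrum B).asIdeal b₀).2 hmem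
      rw [IsLocalRing.mem_maximalIdeal, mem_nonunits_iff] at hβ ⊢
      exact fun hu => hβ (by simpa using hu.map σ.symm)
    · refine (isSMulRegular_iff_right_eq_zero_of_smul).2 fun w hw => ?_
      obtain ⟨w, rfl⟩ := σ.surjective w
      rw [smul_eq_mul, ← map_mul, EmbeddingLike.map_eq_zero_iff] at hw
      rw [EmbeddingLike.map_eq_zero_iff]
      obtain ⟨⟨c, d⟩, hcd⟩ := IsLocalization.surj (M := (Q : PrimeSpectrum B).asIdeal.primeCompl) w
      have h3 : algebraMap B ((Spec B).presheaf.stalk Q) (b₀ * c) = 0 := by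
        rw [map_mul, ← hcd]
        show β * (w * _) = 0
        rw [← mul_assoc, hw, zero_mul]
      obtain ⟨m, hm⟩ := (IsLocalization.map_eq_zero_iff (Q : PrimeSpectrum B).asIdeal.primeCompl _ _).1 h3
      have h4 : (m : B) * c = 0 := hb₀ _ (by rw [← hm]; ring)
      have h5 : algebraMap B ((Spec B).presheaf.stalk Q) c = 0 :=
        (IsLocalization.map_eq_zero_iff (Q : PrimeSpectrum B).asIdeal.primeCompl _ _).2 ⟨m, h4⟩
      rw [h5] at hcd
      exact (IsUnit.mul_left_eq_zero (IsLocalization.map_units ((Spec B).presheaf.stalk Q) d)).1 hcd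

/-- Scheme-theoretic density spreads from the generic fibre to nearby fibres. -/
theorem exists_opens_schemeTheoreticallyDominant (U : X.Opens)
    (h : IsSchemeTheoreticallyDominant (f.fiberι (genericPoint Y) ⁻¹ᵁ U).ι) :
    ∃ V : Y.Opens, genericPoint Y ∈ V ∧ ∀ y ∈ V, IsSchemeTheoreticallyDominant (f.fiberι y ⁻¹ᵁ U).ι := by
  haveI := h
  obtain ⟨V, hV, hη, -⟩ := exists_isAffineOpen_mem_and_subset (U := (⊤ : Y.Opens)) (x := genericPoint Y) trivial
  obtain ⟨G, hG, hGeq⟩ := (isCompact_iff_finite_and_eq_biUnion_affineOpens (X := X)).1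
    (f.isCompact_preimage hV.isCompact)
  have hle : ∀ W ∈ G, (W : X.affineOpens).1 ≤ f ⁻¹ᵁ V := fun W hW x hx => by
    rw [hGeq]
    exact Opens.mem_iSup.2 ⟨W, Opens.mem_iSup.2 ⟨hW, hx⟩⟩
  choose! t ht using fun W (hW : W ∈ G) => exists_basicOpen_regular f U hV hη W.2 (hle W hW)
  let V' : Y.Opens := ⟨(V : Set Y) ∩ ⋂ W ∈ G, (Y.basicOpen (t W) : Set Y),
    V.2.inter (hG.isOpen_biInter fun W _ => (Y.basicOpen (t W)).2)⟩
  refine ⟨V', ⟨hη, Set.mem_iInter₂.2 fun W hW => (ht W hW).1⟩, fun y hy => ?_⟩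
  refine ⟨Groth.Agent.H8Props.SchDenseDepth.ker_ι_eq_bot _ fun z hz => ?_⟩
  have hzV : f.fiberι y z ∈ f ⁻¹ᵁ V := by
    have : f.fiberι y z ∈ Set.range (f.fiberι y) := ⟨z, rfl⟩
    rw [f.range_fiberι] at this
    show f (f.fiberι y z) ∈ V
    rw [show f (f.fiberι y z) = y from this]
    exact hy.1
  rw [hGeq] at hzV
  obtain ⟨W, hW⟩ := Opens.mem_iSup.1 hzV
  obtain ⟨hWG, hzW⟩ := Opens.mem_iSup.1 hW
  exact (ht W hWG).2 y (Set.mem_iInter₂.1 hy.2 W hWG) z hzW hz

end Scheme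

end Groth.Agent.H7Flat.GenericFibre
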