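import Groth.Agent.H7Flat.GenericFibreNotReduced
import Groth.Agent.H7Flat.GenericFibreDense
import Groth.Agent.H06Red.Scheme
import Groth.Agent.H8Props.GeometricDescent
import Groth.Agent.S9634
import Mathlib.RingTheory.DedekindDomain.IntegralClosure

/-!
# Fibres near a generic fibre which is not geometrically reduced
-/

set_option autoImplicit false
set_option backward.isDefEq.respectTransparency false
set_option linter.style.haveILetI false

universe u

open CategoryTheory CategoryTheory.Limits AlgebraicGeometry TensorProduct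

namespace Groth.Agent.H7Flat.GenericFibre

/-- If all finite base changes are reduced, the scheme is geometrically reduced. -/
theorem exists_finite_not_isReduced {k : Type u} [Field k] {X : Scheme.{u}}
    (f : X ⟶ Spec (CommRingCat.of k)) (h : ¬ GeometricallyReduced f) :
    ∃ (K : Type u) (_ : Field K) (_ : Algebra k K), Module.Finite k K ∧
      ¬ IsReduced (pullback f (Spec.map (CommRingCat.ofHom (algebraMap k K)))) := by
  by_contra hcon
  push Not at hcon
  refine h ⟨geometrically_iff_of_isClosedUnderIsomorphisms.2 fun K _ y => ?_⟩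
  haveI : IsReduced (pullback y f) := by
    refine H06Red.isReduced_pullback_of_forall y f fun R i _ φ hφ => ?_
    letI := φ.hom.toAlgebra
    refine ((S9634.result (k := k) (S := R)).out 0 1).mp ?_
    intro k' _ _ _ _
    let s : Spec (CommRingCat.of k') ⟶ Spec (CommRingCat.of k) :=
      Spec.map (CommRingCat.ofHom (algebraMap k k'))
    have : IsReduced (pullback f s) := hcon k' inferInstance inferInstance inferInstance
    have : IsReduced (pullback (Spec.map φ) s) :=
      isReduced_of_isOpenImmersion
        (pullback.map (Spec.map φ) s f s i (𝟙 _) (𝟙 _) (by simpa using hφ) (by simp))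
    have : IsReduced (pullback s (Spec.map φ)) :=
      isReduced_of_isOpenImmersion (pullbackSymmetry s (Spec.map φ)).hom
    have : IsReduced (Spec (.of (k' ⊗[k] R))) :=
      isReduced_of_isOpenImmersion (pullbackSpecIso k k' R).inv
    exact (affine_isReduced_iff _).1 this
  exact isReduced_of_isOpenImmersion (pullbackSymmetry f y).hom

/-- The residue field of the generic point of an affine integral scheme, mapped to the fraction field. -/
theorem isIso_of_SpecMap_fromSpecResidueField {R' K : Type u} [CommRing R'] [IsDomain R'] [Field K]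
    [Algebra R' K] [IsFractionRing R' K] (y' : ↥(Spec (CommRingCat.of R')))
    (θ : (Spec (CommRingCat.of R')).residueField y' ⟶ CommRingCat.of K)
    (h : Spec.map θ ≫ (Spec (CommRingCat.of R')).fromSpecResidueField y' =
      Spec.map (CommRingCat.ofHom (algebraMap R' K))) :
    IsIso θ ∧ y' = genericPoint (Spec (CommRingCat.of R')) := by
  constructor
  · refine (ConcreteCategory.isIso_iff_bijective _).mpr ⟨RingHom.injective θ.hom, fun z => ?_⟩
    let ev := (Scheme.ΓSpecIso (CommRingCat.of R')).inv ≫
      ((Spec (CommRingCat.of R')).fromSpecResidueField y').appTop ≫ (Scheme.ΓSpecIso _).hom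
    have hev : ev ≫ θ = CommRingCat.ofHom (algebraMap R' K) := by
      simp only [ev, Category.assoc]
      rw [← Scheme.ΓSpecIso_naturality θ, ← Scheme.Hom.comp_appTop_assoc, h,
        Scheme.ΓSpecIso_naturality, Iso.inv_hom_id_assoc]
    obtain ⟨n, d, -, rfl⟩ := IsFractionRing.div_surjective (A := R') z
    refine ⟨ev.hom n / ev.hom d, ?_⟩
    rw [map_div₀]
    exact congrArg₂ (· / ·) (congrArg (fun k => k.hom n) hev) (congrArg (fun k => k.hom d) hev)
  · have h1 : Spec.map (CommRingCat.ofHom (algebraMap R' K)) (IsLocalRing.closedPoint K) = y' := by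
      rw [← h, Scheme.Hom.comp_apply, Scheme.fromSpecResidueField_apply]
    rw [← h1, genericPoint_eq_bot_of_affine]
    refine PrimeSpectrum.ext ?_
    show (IsLocalRing.maximalIdeal K).comap (algebraMap R' K) = ⊥
    rw [(Ideal.eq_bot_or_top _).resolve_right (IsLocalRing.maximalIdeal.isMaximal K).ne_top,
      ← RingHom.ker_eq_comap_bot, (RingHom.injective_iff_ker_eq_bot _).1 (IsFractionRing.injective R' K)]

set_option maxHeartbeats 800000 in
/-- A generic fibre which is not geometrically reduced spreads. -/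
theorem exists_opens_not_geometricallyReduced {X Y : Scheme.{u}} (f : X ⟶ Y) [IrreducibleSpace Y]
    [LocallyOfFiniteType f] [QuasiCompact f]
    (h : ¬ GeometricallyReduced (f.fiberToSpecResidueField (genericPoint Y))) :
    ∃ O : Y.Opens, (O : Set Y).Nonempty ∧
      ∀ y ∈ O, ¬ GeometricallyReduced (f.fiberToSpecResidueField y) := by
  set η := genericPoint Y with hηdef
  obtain ⟨K, _, _, hfin, hK⟩ := exists_finite_not_isReduced (k := Y.residueField η) _ h
  obtain ⟨V, hV, hη, -⟩ := exists_isAffineOpen_mem_and_subset (U := (⊤ : Y.Opens)) (x := η) trivial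
  let p := (hV.primeIdealOf ⟨η, hη⟩).asIdeal
  haveI : p.IsPrime := (hV.primeIdealOf ⟨η, hη⟩).isPrime
  letI : Algebra (Γ(Y, V) ⧸ p) ↑(Y.residueField η) :=
    (Ideal.Quotient.lift p (Y.evaluation V η hη).hom fun r hr => quotient_mk_residue hV η hη r hr).toAlgebra
  haveI := isFractionRing_residueField hV η hη fun _ => rfl
  letI : Algebra (Γ(Y, V) ⧸ p) K :=
    ((algebraMap (Y.residueField η) K).comp (algebraMap (Γ(Y, V) ⧸ p) (Y.residueField η))).toAlgebra
  haveI : IsScalarTower (Γ(Y, V) ⧸ p) ↑(Y.residueField η) K := IsScalarTower.of_algebraMap_eq fun _ => rfl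
  let R' := integralClosure (Γ(Y, V) ⧸ p) K
  haveI : IsFractionRing R' K := integralClosure.isFractionRing_of_finite_extension (↑(Y.residueField η)) K
  let a : Γ(Y, V) ⟶ CommRingCat.of R' :=
    CommRingCat.ofHom ((algebraMap (Γ(Y, V) ⧸ p) R').comp (Ideal.Quotient.mk p))
  let π₀ := Spec.map a
  have hint : (algebraMap (Γ(Y, V) ⧸ p) R').IsIntegral := algebraMap_isIntegral_iff.2 inferInstance
  haveI : IsIntegralHom π₀ := by
    rw [IsIntegralHom.SpecMap_iff]
    exact RingHom.IsIntegral.trans _ _ (RingHom.isIntegral_of_surjective _ Ideal.Quotient.mk_surjective) hint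
  let π := π₀ ≫ hV.fromSpec
  let X' := pullback f π
  let f' := pullback.snd f π
  let c : Spec (CommRingCat.of K) ⟶ Spec (CommRingCat.of R') :=
    Spec.map (CommRingCat.ofHom (algebraMap R' K))
  obtain ⟨⟨y', θ⟩, hθ⟩ := (Scheme.SpecToEquivOfField K _).symm.surjective c
  have hθ' : Spec.map θ ≫ (Spec (CommRingCat.of R')).fromSpecResidueField y' = c := hθ
  obtain ⟨hθiso, hy'⟩ := isIso_of_SpecMap_fromSpecResidueField y' θ hθ'
  haveI := hθiso
  have hnr : ¬ IsReduced (f'.fiber y') := by
    intro hred
    refine hK ?_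
    haveI : IsReduced (pullback f' ((Spec (CommRingCat.of R')).fromSpecResidueField y')) := hred
    haveI : IsReduced (pullback f' c) := by
      rw [← hθ']
      exact isReduced_of_isOpenImmersion (pullback.map f' _ f' ((Spec (CommRingCat.of R')).fromSpecResidueField y')
        (𝟙 _) (Spec.map θ) (𝟙 _) (by simp) (by simp))
    have e : Spec.map (CommRingCat.ofHom (algebraMap (Y.residueField η) K)) ≫ Y.fromSpecResidueField η =
        c ≫ π := by
      rw [← FibreChart.evaluation_fromSpec hV η hη]
      simp only [π, π₀, c, ← Spec.map_comp_assoc]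
      rfl
    let b := Spec.map (CommRingCat.ofHom (algebraMap (Y.residueField η) K))
    exact isReduced_of_isOpenImmersion ((pullbackLeftPullbackSndIso f (Y.fromSpecResidueField η) b).hom ≫
      (pullback.congrHom rfl e).hom ≫ (pullbackLeftPullbackSndIso f π c).inv)
  haveI : IrreducibleSpace (Spec (CommRingCat.of R')) := inferInstance
  obtain ⟨V', hV', hgood⟩ := exists_opens_not_isReduced f' (hy' ▸ hnr)
  let O₀ : Set ↥(Spec Γ(Y, V)) := (π₀ '' (V' : Set _)ᶜ)ᶜ
  have hO₀ : IsOpen O₀ := (π₀.isClosedMap _ V'.2.isClosed_compl).isOpen_compl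
  have hη₀ : hV.primeIdealOf ⟨η, hη⟩ ∈ O₀ := by
    rintro ⟨t, ht, htp⟩
    refine ht ?_
    have ht' : t.asIdeal.comap a.hom = p := congrArg PrimeSpectrum.asIdeal htp
    have : t.asIdeal = ⊥ := by
      refine Ideal.eq_bot_of_comap_eq_bot (R := Γ(Y, V) ⧸ p) ?_
      refine eq_bot_iff.2 fun z hz => ?_
      obtain ⟨r, rfl⟩ := Ideal.Quotient.mk_surjective z
      exact Ideal.Quotient.eq_zero_iff_mem.2 (ht'.le hz)
    rw [show t = (⊥ : PrimeSpectrum R') from PrimeSpectrum.ext this]
    rw [genericPoint_eq_bot_of_affine] at hV'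
    exact hV'
  refine ⟨⟨hV.fromSpec '' O₀, hV.fromSpec.isOpenEmbedding.isOpenMap _ hO₀⟩,
    ⟨_, _, hη₀, rfl⟩, ?_⟩
  rintro _ ⟨q, hq, rfl⟩ hgeo
  have hpq : p ≤ q.asIdeal := by
    refine (PrimeSpectrum.le_iff_specializes _ q).2 ?_
    refine hV.fromSpec.isEmbedding.specializes_iff.1 ?_
    rw [hV.fromSpec_primeIdealOf]
    exact genericPoint_specializes _
  haveI : (q.asIdeal.map (Ideal.Quotient.mk p)).IsPrime :=
    Ideal.map_isPrime_of_surjective Ideal.Quotient.mk_surjective (by rwa [Ideal.mk_ker])
  haveI : FaithfulSMul (Γ(Y, V) ⧸ p) R' := (faithfulSMul_iff_algebraMap_injective _ _).2 (by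
    intro x y hxy
    have := congrArg (algebraMap R' K) hxy
    rw [← IsScalarTower.algebraMap_apply, ← IsScalarTower.algebraMap_apply] at this
    exact IsFractionRing.injective (Γ(Y, V) ⧸ p) (Y.residueField η)
      ((algebraMap (Y.residueField η) K).injective this))
  obtain ⟨Q, hQ, hQq⟩ := Ideal.exists_ideal_over_prime_of_isIntegral (S := R') (q.asIdeal.map (Ideal.Quotient.mk p)) ⊥
    (by rw [← RingHom.ker_eq_comap_bot, (RingHom.injective_iff_ker_eq_bot _).1 (FaithfulSMul.algebraMap_injective (Γ(Y, V) ⧸ p) R')]; exact bot_le)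
  let t : ↥(Spec (CommRingCat.of R')) := ⟨Q, hQq.1⟩
  have htq : π₀ t = q := by
    refine PrimeSpectrum.ext ?_
    show Q.comap ((algebraMap (Γ(Y, V) ⧸ p) R').comp (Ideal.Quotient.mk p)) = q.asIdeal
    rw [← Ideal.comap_comap, hQq.2, Ideal.comap_map_of_surjective _ Ideal.Quotient.mk_surjective,
      ← RingHom.ker_eq_comap_bot, Ideal.mk_ker, sup_eq_left.2 hpq]
  have htV : t ∈ V' := by
    by_contra hc
    exact hq ⟨t, hc, htq⟩
  have hπt : π t = hV.fromSpec q := by rw [← htq]; rfl
  refine hgood t htV ?_
  haveI : GeometricallyReduced (f'.fiberToSpecResidueField t) := by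
    rw [GeometricallyReduced.eq_geometrically] at hgeo ⊢
    exact (H8Props.GeometricDescent.fiber_iff H8Props.GeometricDescent.descends_isReduced f π f'
      (pullback.fst f π) (IsPullback.of_hasPullback f π) t).2 (hπt ▸ hgeo)
  exact GeometricallyReduced.geometrically_isReduced (f := f'.fiberToSpecResidueField t)
    (𝟙 _) (𝟙 _) (f'.fiberToSpecResidueField t) IsPullback.of_id_fst

end Groth.Agent.H7Flat.GenericFibre
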