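import Groth.Agent.H06Geom.Components
import Groth.Agent.S4622
import Groth.Prelude.Def_MoreMor
import Mathlib.AlgebraicGeometry.Fiber

/-!
# Invariance of the geometric numbers of components under base change
-/

set_option autoImplicit false
set_option linter.style.haveILetI false
set_option backward.isDefEq.respectTransparency false
universe u

open AlgebraicGeometry CategoryTheory CategoryTheory.Limits

namespace Groth.Agent.H7Flat.GeomCount

open Groth.Agent.H06Geom

theorem mk_irreducibleComponents_congr {A B : Type u} [TopologicalSpace A] [TopologicalSpace B]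
    (e : A ≃ₜ B) :
    Cardinal.mk ↥(irreducibleComponents B) = Cardinal.mk ↥(irreducibleComponents A) :=
  Cardinal.mk_congr (irreducibleComponentsEquivOfIsPreirreducibleFiber e e.continuous e.isOpenMap
    (fun _ => (Set.subsingleton_singleton.preimage e.injective).isPreirreducible) e.surjective).toEquiv

theorem mk_connectedComponents_congr {A B : Type u} [TopologicalSpace A] [TopologicalSpace B]
    (e : A ≃ₜ B) :
    Cardinal.mk (_root_.ConnectedComponents A) = Cardinal.mk (_root_.ConnectedComponents B) :=
  Cardinal.mk_congr (e.isQuotientMap.isCoinducing.connectedComponentsHomeomorph fun y => by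
    obtain ⟨x, rfl⟩ := e.surjective y
    rw [show e ⁻¹' {e x} = {x} from Set.ext fun z => e.injective.eq_iff]
    exact isConnected_singleton).toEquiv

variable {k : Type u} [Field k] {X : Scheme.{u}} (f : X ⟶ Spec (CommRingCat.of k))

/-- A separably closed extension and its algebraic closure give the same space. -/
theorem exists_homeomorph (L : Type u) [Field L] [Algebra k L] [IsSepClosed L] :
    ∃ (Ω : Type u) (_ : Field Ω) (_ : Algebra k Ω) (_ : IsAlgClosed Ω),
      Nonempty (↥(FBase.bc f Ω) ≃ₜ ↥(FBase.bc f L)) := by
  let Ω := AlgebraicClosure L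
  refine ⟨Ω, inferInstance, inferInstance, inferInstance, ?_⟩
  have h := S4622.result (k' := Ω) (FBase.bcStr f L)
    (𝟙 _) (𝟙 _) (FBase.bcπ (FBase.bcStr f L) Ω) (IsPullback.of_id_snd)
  let e : FBase.bc (FBase.bcStr f L) Ω ≅ FBase.bc f Ω :=
    pullbackLeftPullbackSndIso f (Spec.map (CommRingCat.ofHom (algebraMap k L)))
        (Spec.map (CommRingCat.ofHom (algebraMap L Ω))) ≪≫
      pullback.congrHom rfl (by rw [← Spec.map_comp, ← CommRingCat.ofHom_comp]; rfl)
  exact ⟨e.inv.homeomorph.trans (IsHomeomorph.homeomorph _ h)⟩

/-- The number of irreducible components over a separably closed field does not depend on it. -/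
theorem mk_irreducibleComponents_eq (L M : Type u) [Field L] [Algebra k L] [IsSepClosed L]
    [Field M] [Algebra k M] [IsSepClosed M] :
    Cardinal.mk ↥(irreducibleComponents ↥(FBase.bc f L)) =
      Cardinal.mk ↥(irreducibleComponents ↥(FBase.bc f M)) := by
  obtain ⟨Ω, _, _, _, ⟨e⟩⟩ := exists_homeomorph f L
  obtain ⟨Ω', _, _, _, ⟨e'⟩⟩ := exists_homeomorph f M
  rw [mk_irreducibleComponents_congr e, mk_irreducibleComponents_congr e']
  exact le_antisymm (card_irreducibleComponents_le f) (card_irreducibleComponents_le f)

/-- The number of connected components over a separably closed field does not depend on it. -/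
theorem mk_connectedComponents_eq (L M : Type u) [Field L] [Algebra k L] [IsSepClosed L]
    [Field M] [Algebra k M] [IsSepClosed M] :
    Cardinal.mk (_root_.ConnectedComponents ↥(FBase.bc f L)) =
      Cardinal.mk (_root_.ConnectedComponents ↥(FBase.bc f M)) := by
  obtain ⟨Ω, _, _, _, ⟨e⟩⟩ := exists_homeomorph f L
  obtain ⟨Ω', _, _, _, ⟨e'⟩⟩ := exists_homeomorph f M
  rw [← mk_connectedComponents_congr e, ← mk_connectedComponents_congr e']
  exact le_antisymm (card_connectedComponents_le f) (card_connectedComponents_le f)

/-- In a cartesian square the geometric fibre upstairs is a geometric fibre downstairs. -/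
theorem exists_iso_geomFiber {X' Y Y' Z : Scheme.{u}} {g' : X' ⟶ Z} {f' : X' ⟶ Y'} {h : Z ⟶ Y}
    {g : Y' ⟶ Y} (hc : IsPullback g' f' h g) (y' : Y') :
    letI : Algebra ↑(Y.residueField (g y')) (SeparableClosure (Y'.residueField y')) :=
      ((algebraMap (Y'.residueField y') (SeparableClosure (Y'.residueField y'))).comp
        (g.residueFieldMap y').hom).toAlgebra
    Nonempty (MoreMor.geomFiber f' y' ≅
      FBase.bc (k := ↑(Y.residueField (g y'))) (h.fiberToSpecResidueField (g y')) (SeparableClosure (Y'.residueField y'))) := by
  letI : Algebra ↑(Y.residueField (g y')) (SeparableClosure (Y'.residueField y')) :=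
    ((algebraMap (Y'.residueField y') (SeparableClosure (Y'.residueField y'))).comp
      (g.residueFieldMap y').hom).toAlgebra
  have h1 := isPullback_fiberToSpecResidueField_of_isPullback hc y'
  let b := Spec.map (CommRingCat.ofHom
      (algebraMap (Y'.residueField y') (SeparableClosure (Y'.residueField y'))))
  have h2 := (IsPullback.of_hasPullback (f'.fiberToSpecResidueField y') b).flip.paste_vert h1.flip
  refine ⟨h2.flip.isoPullback ≪≫ pullback.congrHom rfl ?_⟩
  rw [← Spec.map_comp]
  rfl

end Groth.Agent.H7Flat.GeomCount
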