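import Groth.Agent.H7Flat.UnivInjCover

/-!
Weakly associated points of `N ⊗ M` for a flat module `N`: they lie over weakly associated points
of `M`, at associated points of the fibres, and conversely.
-/

set_option autoImplicit false
universe u

namespace Groth.Agent.H7Flat.WeakAssTensor

open TensorProduct FlatMor ImpurityDescend UnivInjCover
open Groth.Agent.H02CA.FibreAss (fiber_smul toFiberMod_eq_zero_iff)

attribute [local instance] Algebra.TensorProduct.rightAlgebra

set_option backward.isDefEq.respectTransparency false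
set_option maxHeartbeats 1000000
set_option synthInstance.maxHeartbeats 400000

/-- Vanishing in the fibre module gives vanishing in the tensor product with the residue field. -/
theorem one_tmul_eq_zero_of_fiber {R S : Type u} [CommRing R] [CommRing S] [Algebra R S]
    {N : Type u} [AddCommGroup N] [Module S N] [Module R N] [IsScalarTower R S N] (p : Ideal R)
    [p.IsPrime] (n : N) (h : FlatCA.toFiberMod p S N n = 0) :
    (1 : p.ResidueField) ⊗ₜ[R] n = 0 := by
  obtain ⟨r, hr, hrn⟩ := (toFiberMod_eq_zero_iff p n).mp h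
  rw [algebraMap_smul] at hrn
  have key : ∀ w ∈ p.map (algebraMap R S) • (⊤ : Submodule S N),
      (1 : p.ResidueField) ⊗ₜ[R] w = 0 := by
    intro w hw
    refine Submodule.smul_induction_on hw (fun j hj m _ => ?_)
      (fun a b ha hb => by rw [tmul_add, ha, hb, add_zero])
    induction hj using Submodule.span_induction generalizing m with
    | mem j hj =>
      obtain ⟨a, ha, rfl⟩ := hj
      rw [algebraMap_smul, tmul_smul, smul_tmul', Algebra.smul_def, mul_one,
        Ideal.algebraMap_residueField_eq_zero.mpr ha, zero_tmul]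
    | zero => rw [zero_smul, tmul_zero]
    | add a b _ _ ha hb => rw [add_smul, tmul_add, ha m trivial, hb m trivial, add_zero]
    | smul c j _ hj => rw [smul_eq_mul, mul_comm, mul_smul]; exact hj _ trivial
  have h1 := key _ hrn
  rw [tmul_smul, ← algebraMap_smul p.ResidueField r] at h1
  exact ((IsUnit.mk0 _ (mt Ideal.algebraMap_residueField_eq_zero.mp hr)).smul_eq_zero).mp h1

/-- The map from the tensor product with the residue field to the fibre module. -/
theorem fiber_eq_zero_of_one_tmul {R S : Type u} [CommRing R] [CommRing S] [Algebra R S]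
    {N : Type u} [AddCommGroup N] [Module S N] [Module R N] [IsScalarTower R S N] (p : Ideal R)
    [p.IsPrime] (n : N) (h : (1 : p.ResidueField) ⊗ₜ[R] n = 0) :
    FlatCA.toFiberMod p S N n = 0 := by
  let F : p.ResidueField →+ N →+ FlatCA.fiberMod p S N := AddMonoidHom.mk'
    (fun k => (DistribSMul.toAddMonoidHom (FlatCA.fiberMod p S N)
      (algebraMap p.ResidueField (p.Fiber S) k)).comp (FlatCA.toFiberMod p S N).toAddMonoidHom)
    (fun a b => by
      ext x
      change algebraMap p.ResidueField (p.Fiber S) (a + b) • FlatCA.toFiberMod p S N x =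
        algebraMap p.ResidueField (p.Fiber S) a • FlatCA.toFiberMod p S N x +
          algebraMap p.ResidueField (p.Fiber S) b • FlatCA.toFiberMod p S N x
      rw [map_add, add_smul])
  let ε : p.ResidueField ⊗[R] N →+ FlatCA.fiberMod p S N := TensorProduct.liftAddHom F
    (fun a k x => by
      change algebraMap p.ResidueField (p.Fiber S) (a • k) • FlatCA.toFiberMod p S N x =
        algebraMap p.ResidueField (p.Fiber S) k • FlatCA.toFiberMod p S N (a • x)
      rw [Algebra.smul_def a k, map_mul, ← algebraMap_smul S a x,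
        (FlatCA.toFiberMod p S N).map_smul, fiber_smul, smul_smul, AlgHom.commutes,
        IsScalarTower.algebraMap_apply R p.ResidueField (p.Fiber S), mul_comm])
  have h1 : ε ((1 : p.ResidueField) ⊗ₜ[R] n) = FlatCA.toFiberMod p S N n := by
    change algebraMap p.ResidueField (p.Fiber S) 1 • FlatCA.toFiberMod p S N n = _
    rw [map_one, one_smul]
  rw [← h1, h, map_zero]

/-- Common denominators in a residue field. -/
theorem exists_scale {R : Type u} [CommRing R] (p : Ideal R) [p.IsPrime] {ι : Type*} [Finite ι]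
    (c : ι → p.ResidueField) : ∃ r ∉ p, ∃ l : ι → R,
      ∀ i, algebraMap R p.ResidueField r * c i = algebraMap R p.ResidueField (l i) := by
  obtain ⟨b, hb⟩ := IsLocalization.exist_integer_multiples_of_finite (nonZeroDivisors (R ⧸ p)) c
  obtain ⟨r, hr⟩ := Ideal.Quotient.mk_surjective (b : R ⧸ p)
  choose m hm using hb
  choose l hl using fun i => Ideal.Quotient.mk_surjective (m i)
  refine ⟨r, fun h => ?_, l, fun i => ?_⟩
  · exact nonZeroDivisors.ne_zero b.2 (hr ▸ Ideal.Quotient.eq_zero_iff_mem.mpr h)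
  · rw [← Ideal.algebraMap_quotient_residueField_mk, ← Ideal.algebraMap_quotient_residueField_mk,
      hr, hl, hm i, Algebra.smul_def]

/-- For a flat module, a family independent on the fibre is universally independent near the
prime. -/
theorem exists_notMem_smul_eq_zero {R N M : Type u} [CommRing R] [AddCommGroup N] [Module R N]
    [Module.Flat R N] [AddCommGroup M] [Module R M] (p : Ideal R) [p.IsPrime] {ι : Type*}
    [Fintype ι] (y : ι → N) (e : ι → M)
    (hy : ∀ l : ι → R, (1 : p.ResidueField) ⊗ₜ[R] (∑ i, l i • y i) = 0 → ∀ i, l i ∈ p)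
    (h : ∑ i, y i ⊗ₜ[R] e i = 0) : ∃ d ∉ p, ∀ i, d • e i = 0 := by
  classical
  have h' : ∑ i, e i ⊗ₜ[R] y i = (0 : M ⊗[R] N) := by
    have := congrArg (TensorProduct.comm R N M) h
    simpa [map_sum] using this
  have hinj : Function.Injective
      ((Submodule.span R (Set.range e)).subtype.rTensor N) :=
    Module.Flat.rTensor_preserves_injective_linearMap (M := N) _
      (Submodule.span R (Set.range e)).subtype_injective
  obtain ⟨κ, a, u, hu, ha⟩ :=
    vanishesTrivially_of_sum_tmul_eq_zero_of_rTensor_injective R hinj h'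
  let K := p.ResidueField
  let f : (ι → K) →ₗ[K] (Fin κ → K) :=
    Fintype.linearCombination K fun i j => algebraMap R K (a i j)
  have hf : LinearMap.ker f = ⊥ := by
    rw [LinearMap.ker_eq_bot']
    intro c hc
    obtain ⟨r, hr, l, hl⟩ := exists_scale p c
    have hmem : ∀ j, ∑ i, l i * a i j ∈ p := fun j => by
      rw [← Ideal.algebraMap_residueField_eq_zero, map_sum]
      have h0 : ∑ i, c i * algebraMap R K (a i j) = 0 := by
        have := congrFun hc j
        simpa [f, Fintype.linearCombination_apply, Finset.sum_apply] using this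
      rw [show ∑ i, algebraMap R K (l i * a i j) =
        algebraMap R K r * ∑ i, c i * algebraMap R K (a i j) by
        rw [Finset.mul_sum]
        exact Finset.sum_congr rfl fun i _ => by rw [map_mul, ← hl, mul_assoc], h0, mul_zero]
    have hlp := hy l (by
      simp only [hu, Finset.smul_sum, smul_smul]
      rw [Finset.sum_comm, tmul_sum]
      refine Finset.sum_eq_zero fun j _ => ?_
      rw [← Finset.sum_smul, tmul_smul, smul_tmul', Algebra.smul_def, mul_one,
        Ideal.algebraMap_residueField_eq_zero.mpr (hmem j), zero_tmul])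
    funext i
    have := hl i
    rw [Ideal.algebraMap_residueField_eq_zero.mpr (hlp i)] at this
    exact (mul_eq_zero.mp this).resolve_left (mt Ideal.algebraMap_residueField_eq_zero.mp hr)
  obtain ⟨g, hg⟩ := f.exists_leftInverse_of_injective hf
  obtain ⟨r, hr, b, hb⟩ := exists_scale p fun x : Fin κ × ι => g (Pi.single x.1 1) x.2
  let A : Matrix ι ι R := Matrix.of fun i m => ∑ j, a i j * b (j, m)
  have hAe : ∀ m, ∑ i, A i m • e i = 0 := fun m => by
    simp only [A, Matrix.of_apply, Finset.sum_smul]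
    rw [Finset.sum_comm]
    refine Finset.sum_eq_zero fun j _ => ?_
    simp only [mul_comm (a _ j), mul_smul]
    rw [← Finset.smul_sum, ha j, smul_zero]
  have hA : (algebraMap R K).mapMatrix A = algebraMap R K r • (1 : Matrix ι ι K) := by
    ext i m
    have h1 : g (f (Pi.single i 1)) m = (Pi.single i (1 : K) : ι → K) m :=
      congrFun (LinearMap.congr_fun hg _) m
    have h2 : f (Pi.single i 1) = ∑ j, algebraMap R K (a i j) • (Pi.single j (1 : K) : Fin κ → K) := by
      rw [Fintype.linearCombination_apply_single, one_smul]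
      exact pi_eq_sum_univ' _
    rw [h2, map_sum, Finset.sum_apply] at h1
    simp only [map_smul, Pi.smul_apply, smul_eq_mul] at h1
    simp only [RingHom.mapMatrix_apply, Matrix.map_apply, A, Matrix.of_apply, map_sum, map_mul,
      ← hb, Matrix.smul_apply, smul_eq_mul, Matrix.one_apply]
    rw [show (if i = m then (1 : K) else 0) = (Pi.single i (1 : K) : ι → K) m by
      simp [Pi.single_apply, eq_comm], ← h1, Finset.mul_sum]
    exact Finset.sum_congr rfl fun j _ => by rw [← hb (j, m)]; ring
  refine ⟨A.det, fun hd => ?_, fun m => ?_⟩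
  · have := RingHom.map_det (algebraMap R K) A
    rw [Ideal.algebraMap_residueField_eq_zero.mpr hd, hA, Matrix.det_smul, Matrix.det_one,
      mul_one] at this
    exact pow_ne_zero _ (mt Ideal.algebraMap_residueField_eq_zero.mp hr) this.symm
  · have h1 : ∀ i, (A * A.adjugate) i m = if i = m then A.det else 0 := fun i => by
      rw [Matrix.mul_adjugate, Matrix.smul_apply, Matrix.one_apply, smul_eq_mul, mul_ite, mul_one,
        mul_zero]
    calc A.det • e m = ∑ i, (A * A.adjugate) i m • e i := by simp [h1, ite_smul]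
      _ = ∑ k, A.adjugate k m • ∑ i, A i k • e i := by
        simp only [Matrix.mul_apply, Finset.sum_smul, Finset.smul_sum, smul_smul]
        rw [Finset.sum_comm]
        exact Finset.sum_congr rfl fun k _ => Finset.sum_congr rfl fun i _ => by rw [mul_comm]
      _ = 0 := by simp [hAe]

/-- An element at a prime can be multiplied so as to be killed, near the prime, by finitely many
given nilpotently acting elements without vanishing there. -/
theorem exists_smul_killed {A X : Type u} [CommRing A] [AddCommGroup X] [Module A X] (P : Ideal A)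
    [P.IsPrime] (z : X) (hz : ∀ c ∉ P, c • z ≠ 0) (G : Finset A)
    (hG : ∀ g ∈ G, ∃ c ∉ P, ∃ n : ℕ, c • g ^ n • z = 0) :
    ∃ a : A, (∀ c ∉ P, c • a • z ≠ 0) ∧ ∀ g ∈ G, g • a • z = 0 := by
  classical
  induction G using Finset.induction with
  | empty => exact ⟨1, fun c hc => by rw [one_smul]; exact hz c hc, by simp⟩
  | insert g G _ ih =>
    obtain ⟨a, ha, haG⟩ := ih fun x hx => hG x (Finset.mem_insert_of_mem hx)
    obtain ⟨c, hc, n, hn⟩ := hG g (Finset.mem_insert_self _ _)
    have hex : ∃ n : ℕ, ∃ c ∉ P, c • g ^ n • a • z = 0 :=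
      ⟨n, c, hc, by rw [smul_comm (g ^ n) a, smul_comm c a, hn, smul_zero]⟩
    obtain ⟨c₁, hc₁, hn₁⟩ := Nat.find_spec hex
    have hpos : Nat.find hex ≠ 0 := fun h0 => ha c₁ hc₁ (by rwa [h0, pow_zero, one_smul] at hn₁)
    obtain ⟨k, hk⟩ := Nat.exists_eq_succ_of_ne_zero hpos
    refine ⟨c₁ * g ^ k * a, fun d hd h0 => Nat.find_min hex (hk ▸ Nat.lt_succ_self k)
      ⟨d * c₁, P.primeCompl.mul_mem hd hc₁, by rw [← h0]; simp only [smul_smul]; ring_nf⟩,
      fun x hx => ?_⟩
    rcases Finset.mem_insert.mp hx with rfl | hx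
    · rw [← hn₁, hk]
      simp only [smul_smul, Nat.succ_eq_add_one, pow_succ]
      ring_nf
    · rw [show x • (c₁ * g ^ k * a) • z = (c₁ * g ^ k) • x • a • z by
        simp only [smul_smul]; ring_nf, haG x hx, smul_zero]

/-- An element of `N ⊗ M` killed by finitely many scalars comes from the torsion of `M`. -/
theorem exists_of_killed {R N M : Type u} [CommRing R] [AddCommGroup N] [Module R N]
    [Module.Flat R N] [AddCommGroup M] [Module R M] {m : ℕ} (g : Fin m → R) (z : N ⊗[R] M)
    (hz : ∀ i, g i • z = 0) :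
    ∃ w : N ⊗[R] LinearMap.ker (LinearMap.pi fun i => LinearMap.lsmul R M (g i)),
      (LinearMap.ker (LinearMap.pi fun i => LinearMap.lsmul R M (g i))).subtype.lTensor N w = z := by
  let π : M →ₗ[R] (Fin m → M) := LinearMap.pi fun i => LinearMap.lsmul R M (g i)
  have hex := Module.Flat.lTensor_exact (M := N) (LinearMap.exact_subtype_ker_map π)
  have h1 : π.lTensor N z = 0 := by
    apply (TensorProduct.piRight R R N fun _ : Fin m => M).injective
    rw [map_zero]
    funext i
    have h2 : ∀ x : N ⊗[R] M,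
        TensorProduct.piRight R R N (fun _ : Fin m => M) (π.lTensor N x) i = g i • x := by
      intro x
      induction x using TensorProduct.induction_on with
      | zero => simp
      | tmul a b =>
        rw [LinearMap.lTensor_tmul, TensorProduct.piRight_apply, TensorProduct.piRightHom_tmul,
          ← TensorProduct.tmul_smul]
        rfl
      | add a b ha hb => simp only [map_add, Pi.add_apply, smul_add, ha, hb]
    rw [h2, hz i]
    rfl
  exact (hex z).mp h1

/-- Independence is preserved by field extensions. -/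
theorem linearIndependent_extend {A k K N : Type u} [CommRing A] [Field k] [Field K] [Algebra A k]
    [Algebra A K] [Algebra k K] [IsScalarTower A k K] [AddCommGroup N] [Module A N] {ι : Type*}
    {y : ι → N} (hy : LinearIndependent k fun i => (1 : k) ⊗ₜ[A] y i) :
    LinearIndependent K fun i => (1 : K) ⊗ₜ[A] y i := by
  have h1 := (Module.Flat.linearIndependent_one_tmul (S := K) hy).map'
    (AlgebraTensorModule.cancelBaseChange A k K K N).toLinearMap (LinearEquiv.ker _)
  have e : ∀ i, (AlgebraTensorModule.cancelBaseChange A k K K N) ((1 : K) ⊗ₜ[k] ((1 : k) ⊗ₜ[A] y i))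
      = (1 : K) ⊗ₜ[A] y i := fun i => by
    rw [AlgebraTensorModule.cancelBaseChange_tmul, one_smul]
  exact (funext e : (fun i => (AlgebraTensorModule.cancelBaseChange A k K K N)
    ((1 : K) ⊗ₜ[k] ((1 : k) ⊗ₜ[A] y i))) = _) ▸ h1

/-- Independence on fibres is preserved by base change of the base. -/
theorem one_tmul_baseChange {R₁ R N₁ N : Type u} [CommRing R₁] [CommRing R] [Algebra R₁ R]
    [AddCommGroup N₁] [Module R₁ N₁] [AddCommGroup N] [Module R N] [Module R₁ N]
    [IsScalarTower R₁ R N] {γ : N₁ →ₗ[R₁] N} (hγ : IsBaseChange R γ) (p₁ : Ideal R₁) [p₁.IsPrime]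
    (p : Ideal R) [p.IsPrime] [p.LiesOver p₁] {ι : Type*} [Fintype ι] (y : ι → N₁)
    (hy : LinearIndependent p₁.ResidueField fun i => (1 : p₁.ResidueField) ⊗ₜ[R₁] y i)
    (l : ι → R) (hl : (1 : p.ResidueField) ⊗ₜ[R] (∑ i, l i • γ (y i)) = 0) : ∀ i, l i ∈ p := by
  let ν : p₁.ResidueField →ₐ[R₁] p.ResidueField :=
    Ideal.ResidueField.mapₐ p₁ p (Algebra.ofId R₁ R) (p.over_def p₁)
  let : Algebra p₁.ResidueField p.ResidueField := ν.toRingHom.toAlgebra
  have : IsScalarTower R₁ p₁.ResidueField p.ResidueField :=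
    IsScalarTower.of_algebraMap_eq fun r => (ν.commutes r).symm
  have hind : LinearIndependent p.ResidueField
      (fun i => (1 : p.ResidueField) ⊗ₜ[R₁] y i) :=
    linearIndependent_extend (k := p₁.ResidueField) (K := p.ResidueField) hy
  have hsum : ∑ i, algebraMap R p.ResidueField (l i) • ((1 : p.ResidueField) ⊗ₜ[R₁] y i) = 0 := by
    apply (hγ.tensorEquiv p.ResidueField).symm.injective
    rw [map_zero, map_sum, ← hl, tmul_sum]
    refine Finset.sum_congr rfl fun i _ => ?_
    rw [algebraMap_smul, map_smul, tmul_smul]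
    congr 1
    simp [IsBaseChange.tensorEquiv, IsBaseChange.equiv_tmul]
  intro i
  exact Ideal.algebraMap_residueField_eq_zero.mp
    (Fintype.linearIndependent_iff.mp hind _ hsum i)

/-- A weakly associated point of `N ⊗ M` lies over a weakly associated point of `M`: the case of
a given model. -/
theorem mem_weakAss_of_model {R S R₁ : Type u} [CommRing R] [CommRing S] [Algebra R S]
    [CommRing R₁] [IsNoetherianRing R₁] [Algebra R₁ R] {N N₁ : Type u} [AddCommGroup N]
    [Module S N] [Module R N] [IsScalarTower R S N] [Module.Flat R N] [AddCommGroup N₁]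
    [Module R₁ N₁] [Module R₁ N] [IsScalarTower R₁ R N] {γ : N₁ →ₗ[R₁] N} (hγ : IsBaseChange R γ)
    (M : Type u) [AddCommGroup M] [Module R M] (p : Ideal R) [p.IsPrime] (q : Ideal S) [q.IsPrime]
    [hqp : q.LiesOver p] (c₀ : S) (hc₀ : c₀ ∉ q)
    (hc₀K : ∀ X : FlatCA.fiberMod p S N, (∃ c ∉ q, c • X = 0) → c₀ • X = 0)
    (φ : N₁ →ₗ[R₁] N₁) (hφ : ∀ x, γ (φ x) = c₀ • γ x) (hq : q ∈ FlatCA.weakAss S (N ⊗[R] M)) :
    p ∈ FlatCA.weakAss R M := by
  classical
  obtain ⟨z, hz⟩ := hq
  have hz0 : ∀ c ∉ q, c • z ≠ 0 := fun c hc h =>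
    hc (hz.1.2 ((Submodule.mem_annihilator_span_singleton z c).mpr h))
  have hnil : ∀ x ∈ q, ∃ c ∉ q, ∃ n : ℕ, c • x ^ n • z = 0 := fun x hx => by
    obtain ⟨c, hc, n, hn⟩ := exists_mul_pow_mem hz hx
    exact ⟨c, hc, n, by
      rw [← mul_smul]; exact (Submodule.mem_annihilator_span_singleton z _).mp hn⟩
  let p₁ := p.comap (algebraMap R₁ R)
  have : p₁.IsPrime := Ideal.comap_isPrime _ _
  have : p.LiesOver p₁ := ⟨rfl⟩
  have hmemq : ∀ a ∈ p, algebraMap R S a ∈ q := fun a ha => hqp.over.le ha
  obtain ⟨m, g, hg⟩ := Submodule.fg_iff_exists_fin_generating_family.mp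
    (IsNoetherian.noetherian p₁ : p₁.FG)
  have hgp : ∀ i, algebraMap R₁ R (g i) ∈ p := fun i =>
    (hg.le (Submodule.subset_span (Set.mem_range_self i)) : g i ∈ p₁)
  obtain ⟨a, haz, hakill⟩ := exists_smul_killed q z hz0
    (Finset.univ.image fun i => algebraMap R S (algebraMap R₁ R (g i))) (fun x hx => by
      obtain ⟨i, -, rfl⟩ := Finset.mem_image.mp hx
      exact hnil _ (hmemq _ (hgp i)))
  let gR : Fin m → R := fun i => algebraMap R₁ R (g i)
  have hkill : ∀ i, gR i • a • z = 0 := fun i => by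
    rw [← algebraMap_smul S (gR i) (a • z)]
    exact hakill _ (Finset.mem_image_of_mem _ (Finset.mem_univ i))
  obtain ⟨w, hw⟩ := exists_of_killed gR (a • z) hkill
  let E := LinearMap.ker (LinearMap.pi fun i => LinearMap.lsmul R M (gR i))
  obtain ⟨k, n', e, hrep⟩ : ∃ (k : ℕ) (n' : Fin k → N₁) (e : Fin k → E),
      w = ∑ i, γ (n' i) ⊗ₜ[R] e i := by
    clear hw
    induction w using TensorProduct.induction_on with
    | zero => exact ⟨0, Fin.elim0, Fin.elim0, by simp⟩
    | tmul n x =>
      induction n using hγ.inductionOn generalizing x with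
      | zero => exact ⟨0, Fin.elim0, Fin.elim0, by simp⟩
      | tmul n => exact ⟨1, fun _ => n, fun _ => x, by simp⟩
      | smul r n ih => rw [TensorProduct.smul_tmul]; exact ih _
      | add n n'' ih ih' =>
        obtain ⟨k, a, b, h⟩ := ih x
        obtain ⟨k', a', b', h'⟩ := ih' x
        exact ⟨k + k', Fin.append a a', Fin.append b b', by simp [add_tmul, h, h', Fin.sum_univ_add]⟩
    | add w w' ih ih' =>
      obtain ⟨k, a, b, rfl⟩ := ih
      obtain ⟨k', a', b', rfl⟩ := ih'
      exact ⟨k + k', Fin.append a a', Fin.append b b', by simp [Fin.sum_univ_add]⟩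
  have hz₁ : c₀ • a • z = ∑ i, γ (φ (n' i)) ⊗ₜ[R] (e i : M) := by
    rw [← hw, hrep, map_sum, Finset.smul_sum]
    refine Finset.sum_congr rfl fun i _ => ?_
    rw [LinearMap.lTensor_tmul, smul_tmul', hφ]
    rfl
  obtain ⟨κ, b, hbinj, hspan, hind⟩ := exists_linearIndependent' p₁.ResidueField
    fun i : Fin k => (1 : p₁.ResidueField) ⊗ₜ[R₁] φ (n' i)
  have : Finite κ := Finite.of_injective b hbinj
  have : Fintype κ := Fintype.ofFinite κ
  have hgen : ∀ i, ∃ r ∉ p₁, ∃ l : κ → R₁,
      r • φ (n' i) - ∑ j, l j • φ (n' (b j)) ∈ p₁ • (⊤ : Submodule R₁ N₁) := by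
    intro i
    have hmem : (1 : p₁.ResidueField) ⊗ₜ[R₁] φ (n' i) ∈ Submodule.span p₁.ResidueField
        (Set.range fun j => (1 : p₁.ResidueField) ⊗ₜ[R₁] φ (n' (b j))) := by
      have h1 := hspan.ge (Submodule.subset_span (Set.mem_range_self i))
      exact h1
    obtain ⟨c, hc⟩ := (Submodule.mem_span_range_iff_exists_fun _).mp hmem
    obtain ⟨r, hr, l, hl⟩ := exists_scale p₁ c
    have h0 : (1 : p₁.ResidueField) ⊗ₜ[R₁] (r • φ (n' i) - ∑ j, l j • φ (n' (b j))) = 0 := by
      rw [tmul_sub, tmul_smul, tmul_sum, ← hc, Finset.smul_sum, sub_eq_zero]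
      refine Finset.sum_congr rfl fun j _ => ?_
      rw [tmul_smul, ← algebraMap_smul p₁.ResidueField r, smul_smul, hl, algebraMap_smul]
    obtain ⟨r', hr', h'⟩ := (toFiberMod_eq_zero_iff (S := R₁) p₁ _).mp (fiber_eq_zero_of_one_tmul (S := R₁) p₁ _ h0)
    rw [Algebra.algebraMap_self, Ideal.map_id, RingHom.id_apply, smul_sub, smul_smul,
      Finset.smul_sum] at h'
    simp only [smul_smul] at h'
    exact ⟨r' * r, p₁.primeCompl.mul_mem hr' hr, fun j => r' * l j, h'⟩
  choose r hr l hl using hgen
  have hpE : ∀ v ∈ p₁ • (⊤ : Submodule R₁ N₁), ∀ x : E, γ v ⊗ₜ[R] (x : M) = 0 := by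
    intro v hv x
    refine Submodule.smul_induction_on hv (fun j hj n _ => ?_)
      (fun a b ha hb => by rw [map_add, add_tmul, ha, hb, add_zero])
    rw [← hg] at hj
    obtain ⟨c, rfl⟩ := (Submodule.mem_span_range_iff_exists_fun R₁).mp hj
    rw [map_smul, ← algebraMap_smul R (∑ i, c i • g i) (γ n), map_sum, smul_tmul]
    simp only [smul_eq_mul, map_mul, Finset.sum_smul, mul_smul]
    rw [Finset.sum_eq_zero fun i _ => ?_, tmul_zero]
    have hx : gR i • (x : M) = 0 := congrFun (LinearMap.mem_ker.mp x.2) i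
    rw [show algebraMap R₁ R (g i) • (x : M) = 0 from hx, smul_zero]
  let rr : R₁ := ∏ i, r i
  have hrr : algebraMap R S (algebraMap R₁ R rr) ∉ q := fun h =>
    (prod_mem (S := p₁.primeCompl) fun i _ => hr i : rr ∈ p₁.primeCompl) (hqp.over.ge h)
  let e' : κ → M := fun j => ∑ i, algebraMap R₁ R ((∏ t ∈ Finset.univ.erase i, r t) * l i j) • (e i : M)
  have hz₂ : algebraMap R S (algebraMap R₁ R rr) • c₀ • a • z =
      ∑ j, γ (φ (n' (b j))) ⊗ₜ[R] e' j := by
    rw [algebraMap_smul, hz₁, Finset.smul_sum]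
    simp only [e', tmul_sum]
    rw [Finset.sum_comm]
    refine Finset.sum_congr rfl fun i _ => ?_
    have hconv : ∀ (t : R₁) (v : N₁) (x : M),
        γ (t • v) ⊗ₜ[R] x = γ v ⊗ₜ[R] (algebraMap R₁ R t • x) := fun t v x => by
      rw [map_smul, ← algebraMap_smul R t (γ v), smul_tmul]
    have h1 := hpE _ (hl i) (e i)
    rw [map_sub, sub_tmul, sub_eq_zero, map_sum, sum_tmul] at h1
    simp only [hconv] at h1
    rw [show rr = (∏ t ∈ Finset.univ.erase i, r t) * r i from
      (Finset.prod_erase_mul _ _ (Finset.mem_univ i)).symm, map_mul, mul_smul, ← tmul_smul, h1,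
      Finset.smul_sum]
    refine Finset.sum_congr rfl fun j _ => ?_
    rw [← tmul_smul, smul_smul, ← map_mul]
  have hnz : ∀ c ∉ q, c • (∑ j, γ (φ (n' (b j))) ⊗ₜ[R] e' j) ≠ 0 := fun c hc h => by
    rw [← hz₂, smul_smul, smul_smul] at h
    exact haz _ (q.primeCompl.mul_mem (q.primeCompl.mul_mem hc hrr) hc₀) h
  obtain ⟨j, hj⟩ : ∃ j, ∀ d ∉ p, d • e' j ≠ 0 := by
    by_contra hne
    push Not at hne
    choose d hd hde using hne
    refine hnz (algebraMap R S (∏ j, d j)) (fun h =>
      (prod_mem (S := p.primeCompl) fun j _ => hd j : (∏ j, d j) ∈ p.primeCompl)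
        (hqp.over.ge h)) ?_
    rw [algebraMap_smul, Finset.smul_sum]
    refine Finset.sum_eq_zero fun j _ => ?_
    rw [← tmul_smul, ← Finset.prod_erase_mul _ _ (Finset.mem_univ j), mul_smul, hde j, smul_zero,
      tmul_zero]
  have hindep : ∀ c ∉ q, ∀ μ : κ → R,
      (1 : p.ResidueField) ⊗ₜ[R] (∑ j, μ j • (c • γ (φ (n' (b j))))) = 0 → ∀ j, μ j ∈ p := by
    intro c hc μ h
    have hsum : ∑ j, μ j • (c • γ (φ (n' (b j)))) = (c * c₀) • ∑ j, μ j • γ (n' (b j)) := by
      rw [Finset.smul_sum]
      exact Finset.sum_congr rfl fun j _ => by rw [hφ, mul_smul, smul_comm (μ j) c, smul_comm (μ j) c₀]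
    rw [hsum] at h
    have h1 := fiber_eq_zero_of_one_tmul (S := S) p _ h
    rw [map_smul] at h1
    have h2 := hc₀K _ ⟨c * c₀, q.primeCompl.mul_mem hc hc₀, h1⟩
    rw [← map_smul] at h2
    refine one_tmul_baseChange hγ p₁ p (fun j => φ (n' (b j))) hind μ ?_
    rw [show ∑ j, μ j • γ (φ (n' (b j))) = c₀ • ∑ j, μ j • γ (n' (b j)) by
      rw [Finset.smul_sum]
      exact Finset.sum_congr rfl fun j _ => by rw [hφ, smul_comm (μ j) c₀]]
    exact one_tmul_eq_zero_of_fiber (S := S) p _ h2
  refine ⟨e' j, ⟨inferInstance, fun x hx => ?_⟩, fun P hP hPp x hx => ?_⟩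
  · by_contra hxp
    exact hj x hxp ((Submodule.mem_annihilator_span_singleton _ _).mp hx)
  · obtain ⟨c, hc, n, hn⟩ := hnil _ (hmemq x hx)
    have h1 : c • ∑ i, γ (φ (n' (b i))) ⊗ₜ[R] (x ^ n • e' i) = 0 := by
      rw [show ∑ i, γ (φ (n' (b i))) ⊗ₜ[R] (x ^ n • e' i) =
        x ^ n • ∑ i, γ (φ (n' (b i))) ⊗ₜ[R] e' i by simp [Finset.smul_sum, tmul_smul],
        ← hz₂, ← algebraMap_smul S (x ^ n), map_pow]
      simp only [smul_smul]
      rw [show c * (algebraMap R S x ^ n * (algebraMap R S (algebraMap R₁ R rr) * (c₀ * a))) =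
        (algebraMap R S (algebraMap R₁ R rr) * (c₀ * a)) * (c * algebraMap R S x ^ n) by ring,
        mul_smul, mul_smul c, hn, smul_zero]
    rw [Finset.smul_sum] at h1
    simp only [smul_tmul'] at h1
    obtain ⟨d, hd, hde⟩ := exists_notMem_smul_eq_zero p _ _ (hindep c hc) h1
    have hmemP : d * x ^ n ∈ P :=
      hP.2 ((Submodule.mem_annihilator_span_singleton _ _).mpr (by rw [mul_smul]; exact hde j))
    exact hP.1.mem_of_pow_mem n ((hP.1.mem_or_mem hmemP).resolve_left fun h => hd (hPp h))

/-- An associated point of the fibre over a weakly associated point of `M` is weakly associated to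
`N ⊗ M`. -/
theorem mem_weakAss_tensor {R S : Type u} [CommRing R] [CommRing S] [Algebra R S]
    [Algebra.FiniteType R S] {N : Type u} [AddCommGroup N] [Module S N] [Module R N]
    [IsScalarTower R S N] [Module.Finite S N] [Module.Flat R N]
    (M : Type u) [AddCommGroup M] [Module R M] (p : Ideal R) [p.IsPrime] (q : Ideal S) [q.IsPrime]
    [hqp : q.LiesOver p] (hpM : p ∈ FlatCA.weakAss R M)
    (hq : FlatCA.fiberIdeal p q ∈ associatedPrimes (p.Fiber S) (FlatCA.fiberMod p S N)) :
    q ∈ FlatCA.weakAss S (N ⊗[R] M) := by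
  classical
  have : IsNoetherianRing (p.Fiber S) := Algebra.FiniteType.isNoetherianRing p.ResidueField _
  obtain ⟨m, hm⟩ := hpM
  have hm0 : ∀ c ∉ p, c • m ≠ 0 := fun c hc h =>
    hc (hm.1.2 ((Submodule.mem_annihilator_span_singleton m c).mpr h))
  have hmnil : ∀ x ∈ p, ∃ c ∉ p, ∃ n : ℕ, c • x ^ n • m = 0 := fun x hx => by
    obtain ⟨c, hc, n, hn⟩ := exists_mul_pow_mem hm hx
    exact ⟨c, hc, n, by
      rw [← mul_smul]; exact (Submodule.mem_annihilator_span_singleton m _).mp hn⟩
  obtain ⟨-, Y, hY⟩ := isAssociatedPrime_iff.mp hq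
  obtain ⟨r₀, hr₀, y, hy⟩ := Groth.Agent.H02CA.FibreAss.exists_rep p Y
  have hr₀q : algebraMap R S r₀ ∉ q := fun h => hr₀ (hqp.over.ge h)
  have hyann : ∀ s : S, FlatCA.toFiberMod p S N (s • y) = 0 ↔ s ∈ q := fun s => by
    rw [map_smul, ← hy, smul_smul, fiber_smul]
    have h1 : ∀ t : p.Fiber S, t • Y = 0 ↔ t ∈ FlatCA.fiberIdeal p q := fun t => by
      rw [hY, Submodule.mem_colon_singleton, Submodule.mem_bot]
    rw [h1]
    change algebraMap S (p.Fiber S) _ ∈ _ ↔ _
    rw [← Ideal.mem_comap, comap_fiberIdeal p q]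
    exact ⟨fun h => (Ideal.IsPrime.mem_or_mem ‹q.IsPrime› h).resolve_right hr₀q,
      fun h => q.mul_mem_right _ h⟩
  obtain ⟨G, hGq, hGspan⟩ : ∃ G : Finset S, (G : Set S) ⊆ q ∧
      FlatCA.fiberIdeal p q ≤ Ideal.span (algebraMap S (p.Fiber S) '' G) := by
    obtain ⟨T, hT, e⟩ := (Submodule.fg_span_iff_fg_span_finset_subset _).mp
      (IsNoetherian.noetherian (Ideal.span (algebraMap S (p.Fiber S) '' (q : Set S))))
    obtain ⟨G, hG, rfl⟩ := Finset.subset_set_image_iff.mp hT
    exact ⟨G, hG, by rw [Finset.coe_image] at e; exact e.le⟩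
  have hfin : ∀ v ∈ p.map (algebraMap R S) • (⊤ : Submodule S N),
      ∃ I : Finset R, (I : Set R) ⊆ p ∧
        v ∈ (Ideal.span (I : Set R)).map (algebraMap R S) • (⊤ : Submodule S N) := by
    intro v hv
    refine Submodule.smul_induction_on hv (fun j hj n _ => ?_) (fun a b ha hb => ?_)
    · induction hj using Submodule.span_induction generalizing n with
      | mem j hj =>
        obtain ⟨c, hc, rfl⟩ := hj
        refine ⟨{c}, by simpa using hc, Submodule.smul_mem_smul (Ideal.mem_map_of_mem _ ?_) trivial⟩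
        exact Ideal.subset_span (by simp)
      | zero => exact ⟨∅, by simp, by simp⟩
      | add a b _ _ ha hb =>
        obtain ⟨I, hI, h⟩ := ha n trivial
        obtain ⟨I', hI', h'⟩ := hb n trivial
        refine ⟨I ∪ I', by simp [hI, hI'], ?_⟩
        rw [add_smul]
        exact add_mem
          (Submodule.smul_mono_left (Ideal.map_mono (Ideal.span_mono (by simp))) h)
          (Submodule.smul_mono_left (Ideal.map_mono (Ideal.span_mono (by simp))) h')
      | smul c j _ hj => rw [smul_eq_mul, mul_comm, mul_smul]; exact hj _ trivial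
    · obtain ⟨I, hI, h⟩ := ha
      obtain ⟨I', hI', h'⟩ := hb
      exact ⟨I ∪ I', by simp [hI, hI'], add_mem
        (Submodule.smul_mono_left (Ideal.map_mono (Ideal.span_mono (by simp))) h)
        (Submodule.smul_mono_left (Ideal.map_mono (Ideal.span_mono (by simp))) h')⟩
  have hker : ∀ s : G, ∃ r ∉ p, ∃ I : Finset R, (I : Set R) ⊆ p ∧ (algebraMap R S r * s) • y ∈
      (Ideal.span (I : Set R)).map (algebraMap R S) • (⊤ : Submodule S N) := fun s => by
    obtain ⟨r, hr, h⟩ := (toFiberMod_eq_zero_iff p _).mp ((hyann s).mpr (hGq s.2))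
    rw [smul_smul] at h
    obtain ⟨I, hI, h'⟩ := hfin _ h
    exact ⟨r, hr, I, hI, h'⟩
  choose r hr I hI hy' using hker
  obtain ⟨a, ham, hakill⟩ := exists_smul_killed p m hm0 (Finset.univ.biUnion I) (fun x hx => by
    obtain ⟨s, -, hs⟩ := Finset.mem_biUnion.mp hx
    exact hmnil x (hI s hs))
  let z : N ⊗[R] M := y ⊗ₜ[R] (a • m)
  have hz0 : ∀ c ∉ q, c • z ≠ 0 := fun c hc h => by
    rw [smul_tmul'] at h
    have h' : ∑ _i : PUnit.{u+1}, (c • y) ⊗ₜ[R] (a • m) = 0 := by simpa using h
    obtain ⟨d, hd, hde⟩ := exists_notMem_smul_eq_zero p (fun _ : PUnit.{u+1} => c • y) _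
      (fun l hl i => by
        have h1 := fiber_eq_zero_of_one_tmul (S := S) p _ hl
        simp only [Finset.univ_unique, Finset.sum_singleton] at h1
        rw [← algebraMap_smul S (l default), smul_smul, hyann] at h1
        exact hqp.over.ge ((Ideal.IsPrime.mem_or_mem ‹q.IsPrime› h1).resolve_right hc)) h'
    exact ham d hd (hde PUnit.unit)
  refine ⟨z, ⟨inferInstance, fun x hx => ?_⟩, fun P hP hPq => ?_⟩
  · by_contra hxq
    exact hz0 x hxq ((Submodule.mem_annihilator_span_singleton _ _).mp hx)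
  have hPprime : P.IsPrime := hP.1
  have hpP : ∀ x ∈ p, algebraMap R S x ∈ P := fun x hx => by
    obtain ⟨c, hc, n, hn⟩ := hmnil x hx
    have h0 : algebraMap R S (c * x ^ n) ∈ P := hP.2
      ((Submodule.mem_annihilator_span_singleton _ _).mpr (by
        rw [algebraMap_smul]
        change (c * x ^ n) • (y ⊗ₜ[R] (a • m)) = 0
        rw [← tmul_smul, smul_comm, mul_smul, hn, smul_zero, tmul_zero]))
    rw [map_mul, map_pow] at h0
    exact hPprime.mem_of_pow_mem n
      ((hPprime.mem_or_mem h0).resolve_left fun h => hc (hqp.over.ge (hPq h)))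
  have hGP : ∀ s : G, (s : S) ∈ P := fun s => by
    have h0 : ((algebraMap R S (r s) * s) • y) ⊗ₜ[R] (a • m) = 0 := by
      refine Submodule.smul_induction_on (hy' s) (fun j hj n _ => ?_)
        (fun x x' hx hx' => by rw [add_tmul, hx, hx', add_zero])
      induction hj using Submodule.span_induction generalizing n with
      | mem j hj =>
        obtain ⟨c, hc, rfl⟩ := hj
        rw [algebraMap_smul, smul_tmul]
        have hca : c • a • m = 0 := by
          induction hc using Submodule.span_induction with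
          | mem c hc => exact hakill c (Finset.mem_biUnion.mpr ⟨s, Finset.mem_univ _, hc⟩)
          | zero => rw [zero_smul]
          | add _ _ _ _ h h' => rw [add_smul, h, h', add_zero]
          | smul t _ _ h => rw [smul_eq_mul, mul_smul, h, smul_zero]
        rw [hca, tmul_zero]
      | zero => rw [zero_smul, zero_tmul]
      | add _ _ _ _ h h' => rw [add_smul, add_tmul, h n trivial, h' n trivial, add_zero]
      | smul t j _ h => rw [smul_eq_mul, mul_comm, mul_smul]; exact h _ trivial
    have h1 : algebraMap R S (r s) * s ∈ P := hP.2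
      ((Submodule.mem_annihilator_span_singleton _ _).mpr (by rw [smul_tmul']; exact h0))
    exact (hPprime.mem_or_mem h1).resolve_left fun h => hr s (hqp.over.ge (hPq h))
  have : P.LiesOver p := ⟨le_antisymm (fun x hx => hpP x hx) fun x hx => hqp.over.ge (hPq hx)⟩
  calc q = (FlatCA.fiberIdeal p q).comap (algebraMap S (p.Fiber S)) := (comap_fiberIdeal p q).symm
    _ ≤ (FlatCA.fiberIdeal p P).comap (algebraMap S (p.Fiber S)) := Ideal.comap_mono
      (hGspan.trans (Ideal.span_le.mpr (by
        rintro _ ⟨s, hs, rfl⟩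
        exact Ideal.mem_map_of_mem _ (hGP ⟨s, hs⟩))))
    _ = P := comap_fiberIdeal p P

/-- An element of the algebra acts on a polynomial stage of a model. -/
theorem exists_stage_endo {R S R₀ S₀ R₁ N N₀ : Type u} [CommRing R] [CommRing S] [CommRing R₀]
    [CommRing S₀] [CommRing R₁] [Algebra R S] [Algebra R₀ R] [Algebra R₀ S₀] [Algebra R₀ S]
    [Algebra S₀ S] [IsScalarTower R₀ R S] [IsScalarTower R₀ S₀ S]
    [Algebra.IsPushout R₀ R S₀ S] [Algebra R₀ R₁] [Algebra R₁ R] [IsScalarTower R₀ R₁ R]
    [AddCommGroup N] [Module S N] [Module R N] [IsScalarTower R S N] [AddCommGroup N₀]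
    [Module S₀ N₀] [Module R₀ N₀] [IsScalarTower R₀ S₀ N₀] [Module S₀ N] [IsScalarTower S₀ S N]
    [Module R₀ N] [IsScalarTower R₀ R N] [IsScalarTower R₀ S₀ N] [Module R₁ N]
    [IsScalarTower R₁ R N] [IsScalarTower R₀ R₁ N] (f : N₀ →ₗ[S₀] N) (t : R₁ ⊗[R₀] S₀) :
    ∃ φ : R₁ ⊗[R₀] N₀ →ₗ[R₁] R₁ ⊗[R₀] N₀,
      ∀ x, (f.restrictScalars R₀).liftBaseChange R₁ (φ x) =
        Algebra.IsPushout.equiv R₀ R S₀ S
          (LinearMap.rTensor S₀ (IsScalarTower.toAlgHom R₀ R₁ R).toLinearMap t) •
            (f.restrictScalars R₀).liftBaseChange R₁ x := by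
  induction t using TensorProduct.induction_on with
  | zero => exact ⟨0, fun x => by simp⟩
  | tmul r b =>
    refine ⟨r • ((LinearMap.lsmul S₀ N₀ b).restrictScalars R₀).baseChange R₁, fun x => ?_⟩
    rw [LinearMap.rTensor_tmul, Algebra.IsPushout.equiv_tmul]
    induction x using TensorProduct.induction_on with
    | zero => simp
    | tmul a n =>
      rw [LinearMap.smul_apply, LinearMap.baseChange_tmul, map_smul, LinearMap.liftBaseChange_tmul,
        LinearMap.liftBaseChange_tmul]
      change r • a • f (b • n) =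
        (algebraMap R S (algebraMap R₁ R r) * algebraMap S₀ S b) • a • f n
      rw [f.map_smul, mul_smul, algebraMap_smul S (algebraMap R₁ R r), algebraMap_smul R r,
        ← algebraMap_smul S b (f n), ← algebraMap_smul R a, ← algebraMap_smul R a,
        smul_comm (algebraMap R₁ R a) (algebraMap S₀ S b)]
    | add x y hx hy => simp only [map_add, hx, hy, smul_add]
  | add t t' ht ht' =>
    obtain ⟨φ, hφ⟩ := ht
    obtain ⟨φ', hφ'⟩ := ht'
    exact ⟨φ + φ', fun x => by simp [hφ, hφ', add_smul]⟩

/-- A weakly associated point of `N ⊗ M` lies over a weakly associated point of `M`. -/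
theorem mem_weakAss_fst {R S : Type u} [CommRing R] [CommRing S] [Algebra R S]
    [Algebra.FinitePresentation R S] {N : Type u} [AddCommGroup N] [Module S N] [Module R N]
    [IsScalarTower R S N] [Module.FinitePresentation S N] [Module.Flat R N]
    (M : Type u) [AddCommGroup M] [Module R M] (p : Ideal R) [p.IsPrime] (q : Ideal S) [q.IsPrime]
    [q.LiesOver p] (hq : q ∈ FlatCA.weakAss S (N ⊗[R] M)) : p ∈ FlatCA.weakAss R M := by
  classical
  have : IsNoetherianRing (p.Fiber S) := Algebra.FiniteType.isNoetherianRing p.ResidueField _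
  have : Module.Finite (p.Fiber S) (FlatCA.fiberMod p S N) :=
    inferInstanceAs (Module.Finite (p.Fiber S) ((p.Fiber S) ⊗[S] N))
  let K' : Submodule (p.Fiber S) (FlatCA.fiberMod p S N) :=
    { carrier := {X | ∃ c ∉ q, c • X = 0}
      zero_mem' := ⟨1, q.primeCompl.one_mem, smul_zero _⟩
      add_mem' := fun {X Y} ⟨c, hc, hX⟩ ⟨d, hd, hY⟩ => ⟨d * c, q.primeCompl.mul_mem hd hc, by
        rw [smul_add, mul_smul, hX, smul_zero, mul_comm, mul_smul, hY, smul_zero, add_zero]⟩
      smul_mem' := fun a X ⟨c, hc, hX⟩ => ⟨c, hc, by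
        rw [fiber_smul] at hX ⊢
        rw [smul_comm, hX, smul_zero]⟩ }
  obtain ⟨G, hG⟩ := IsNoetherian.noetherian K'
  have hmem : ∀ X : G, ∃ c ∉ q, c • (X : FlatCA.fiberMod p S N) = 0 := fun X =>
    (hG.le (Submodule.subset_span X.2) : (X : FlatCA.fiberMod p S N) ∈ K')
  choose c hc hcX using hmem
  obtain ⟨c₀, hc₀, hc₀K⟩ : ∃ c₀ ∉ q, ∀ X : FlatCA.fiberMod p S N,
      (∃ c ∉ q, c • X = 0) → c₀ • X = 0 := by
    refine ⟨∏ X, c X, prod_mem (S := q.primeCompl) fun X _ => hc X, fun X hX => ?_⟩
    have hX' : X ∈ K' := hX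
    rw [← hG] at hX'
    rw [fiber_smul]
    clear hX
    induction hX' using Submodule.span_induction with
    | mem Y hY =>
      rw [← fiber_smul, ← Finset.prod_erase_mul _ _ (Finset.mem_univ (⟨Y, hY⟩ : G)), mul_smul,
        hcX ⟨Y, hY⟩, smul_zero]
    | zero => rw [smul_zero]
    | add _ _ _ _ h h' => rw [smul_add, h, h', add_zero]
    | smul a _ _ h => rw [smul_comm, h, smul_zero]
  obtain ⟨n, π, hπ, hker⟩ := Algebra.FinitePresentation.out (R := R) (A := S)
  let P := MvPolynomial (Fin n) R
  let : Algebra P S := π.toRingHom.toAlgebra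
  have : IsScalarTower R P S := IsScalarTower.of_algebraMap_eq fun x => (π.commutes x).symm
  have : Module.FinitePresentation P S :=
    Module.finitePresentation_of_surjective (Algebra.linearMap P S) hπ hker
  let : Module P N := Module.compHom N π.toRingHom
  have : IsScalarTower P S N := IsScalarTower.of_algebraMap_smul fun _ _ => rfl
  have : IsScalarTower R P N := IsScalarTower.of_algebraMap_smul fun a x => by
    change π (algebraMap R _ a) • x = a • x
    rw [π.commutes, algebraMap_smul]
  have : Module.FinitePresentation P N := Module.FinitePresentation.trans P N S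
  let : Module Pᵐᵒᵖ N := Module.compHom N ((RingHom.id P).fromOpposite mul_comm)
  have : IsCentralScalar P N := ⟨fun _ _ => rfl⟩
  obtain ⟨R₀, _, _, S₀, _, _, _, _, _, _, N₀, _, _, _, _, _, _, f, hR₀, -, -, -, hpush, hf⟩ :=
    Groth.Agent.H02CA.FlatModel.exists_model (M := N) π hπ (fun _ _ => rfl) hker
  obtain ⟨w, hw⟩ := (Algebra.IsPushout.equiv R₀ R S₀ S).surjective c₀
  obtain ⟨T, hT⟩ := TensorProduct.exists_finset w
  have : IsNoetherianRing R₀ := Algebra.FiniteType.isNoetherianRing ℤ R₀
  let : Algebra (MvPolynomial T R₀) R :=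
    (MvPolynomial.aeval fun i : T => (i : R × S₀).1).toRingHom.toAlgebra
  have : IsScalarTower R₀ (MvPolynomial T R₀) R :=
    IsScalarTower.of_algebraMap_eq fun x => (AlgHom.commutes _ x).symm
  let : Module R₀ N := Module.compHom N (algebraMap R₀ R)
  have : IsScalarTower R₀ R N := IsScalarTower.of_algebraMap_smul fun _ _ => rfl
  have : IsScalarTower R₀ S₀ N := IsScalarTower.of_algebraMap_smul fun r x => by
    change algebraMap R₀ S₀ r • x = algebraMap R₀ R r • x
    rw [← algebraMap_smul S (algebraMap R₀ R r) x, ← algebraMap_smul S (algebraMap R₀ S₀ r) x,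
      ← IsScalarTower.algebraMap_apply, ← IsScalarTower.algebraMap_apply]
  let : Module (MvPolynomial T R₀) N := Module.compHom N (algebraMap (MvPolynomial T R₀) R)
  have : IsScalarTower (MvPolynomial T R₀) R N := IsScalarTower.of_algebraMap_smul fun _ _ => rfl
  have : IsScalarTower R₀ (MvPolynomial T R₀) N := IsScalarTower.of_algebraMap_smul fun r x => by
    change algebraMap (MvPolynomial T R₀) R (algebraMap R₀ (MvPolynomial T R₀) r) • x =
      algebraMap R₀ R r • x
    rw [← IsScalarTower.algebraMap_apply]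
  have : Algebra.IsPushout R₀ S₀ R S := hpush.symm
  have hb₀ : IsBaseChange R (f.restrictScalars R₀) :=
    Groth.Agent.H8Props.FlatAtBC.isBaseChange_restrictScalars (R := R₀) (R' := R) f hf
  let γ := (f.restrictScalars R₀).liftBaseChange (MvPolynomial T R₀)
  have hγ : IsBaseChange R γ := by
    refine IsBaseChange.of_comp (TensorProduct.isBaseChange R₀ N₀ (MvPolynomial T R₀)) ?_
    convert hb₀ using 1
    ext x
    simp [γ]
  obtain ⟨φ, hφ⟩ := exists_stage_endo (R := R) (S := S) (R₀ := R₀) (R₁ := MvPolynomial T R₀) f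
    (∑ i : T, MvPolynomial.X i ⊗ₜ[R₀] (i : R × S₀).2)
  have he : Algebra.IsPushout.equiv R₀ R S₀ S (LinearMap.rTensor S₀
      (IsScalarTower.toAlgHom R₀ (MvPolynomial T R₀) R).toLinearMap
        (∑ i : T, MvPolynomial.X i ⊗ₜ[R₀] (i : R × S₀).2)) = c₀ := by
    rw [← hw, hT, map_sum, ← Finset.sum_coe_sort T]
    congr 1
    refine Finset.sum_congr rfl fun i _ => ?_
    simp [RingHom.algebraMap_toAlgebra]
  exact mem_weakAss_of_model (R₁ := MvPolynomial T R₀) hγ M p q c₀ hc₀ hc₀K φ
    (fun x => by rw [← he]; exact hφ x) hq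

end Groth.Agent.H7Flat.WeakAssTensor
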