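import Groth.Agent.H7Flat.LocalizationFP
import Groth.Agent.H7Flat.WeakAssTensor
import Groth.Agent.H8Props.FlatLocus.Module
import Groth.Agent.H06EGA11.BaseChange

/-!
Finite modules flat at a prime: finitely presented models, and spreading out over rings with
finitely many weakly associated primes.
-/

set_option autoImplicit false
universe u

namespace Groth.Agent.H7Flat.FlatSpread

open TensorProduct FlatMor UnivInjCover ImpurityDescend WeakAssTensor

attribute [local instance] Algebra.TensorProduct.rightAlgebra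

set_option backward.isDefEq.respectTransparency false
set_option maxHeartbeats 1000000
set_option synthInstance.maxHeartbeats 400000

/-- A finite module flat at a prime has a finitely presented cover which is an isomorphism at the
prime and flat near it. -/
theorem exists_fp_cover {R S : Type u} [CommRing R] [CommRing S] [Algebra R S]
    [Algebra.FinitePresentation R S] (N : Type u) [AddCommGroup N] [Module S N] [Module R N]
    [IsScalarTower R S N] [Module.Finite S N] (q : Ideal S) [q.IsPrime]
    (hflat : FlatCA.FlatAt R q N) :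
    ∃ (N' : Type u) (_ : AddCommGroup N') (_ : Module S N') (_ : Module R N')
      (_ : IsScalarTower R S N') (_ : Module.FinitePresentation S N') (π : N' →ₗ[S] N),
      Function.Surjective π ∧ (∀ x, π x = 0 → ∃ t ∉ q, t • x = 0) ∧
        ∃ g ∉ q, Module.Flat R (LocalizedModule (Submonoid.powers g) N') := by
  classical
  obtain ⟨k, φ, hφ⟩ := Module.Finite.exists_fin' S N
  let f₀ := LocalizedModule.mkLinearMap q.primeCompl (Fin k → S)
  let φq := LocalizedModule.map q.primeCompl φ
  have hφq : Function.Surjective φq := LocalizedModule.map_surjective q.primeCompl φ hφ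
  have : Module.Flat R (LocalizedModule q.primeCompl N) := hflat
  have : Module.FinitePresentation (Localization.AtPrime q) (LocalizedModule q.primeCompl N) :=
    LocalizationFP.fp_of_flat_atPrime (R := R) q _
  obtain ⟨G, hG⟩ := Module.FinitePresentation.fg_ker φq hφq
  have hlift : ∀ y : G, ∃ w ∈ LinearMap.ker φ, ∃ t ∉ q, t • (y : LocalizedModule q.primeCompl (Fin k → S)) = f₀ w := by
    intro y
    obtain ⟨⟨w, t⟩, hwt⟩ := IsLocalizedModule.surj q.primeCompl f₀ (y : LocalizedModule q.primeCompl (Fin k → S))
    have h0 : φq (f₀ w) = 0 := by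
      rw [← show (t : S) • (y : LocalizedModule q.primeCompl (Fin k → S)) = f₀ w from hwt,
        LinearMap.map_smul_of_tower, show φq y = 0 from hG.le (Submodule.subset_span y.2), smul_zero]
    rw [show φq (f₀ w) = LocalizedModule.mk (φ w) 1 by
      change LocalizedModule.map q.primeCompl φ (LocalizedModule.mk w 1) = _
      rw [LocalizedModule.map_mk]] at h0
    obtain ⟨s, hs⟩ := LocalizedModule.mk_eq.mp (h0.trans (LocalizedModule.zero_mk 1).symm)
    simp only [one_smul, smul_zero] at hs
    refine ⟨(s : S) • w, by rw [LinearMap.mem_ker, map_smul]; exact hs, (s : S) * t,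
      q.primeCompl.mul_mem s.2 t.2, ?_⟩
    rw [mul_smul, map_smul, show (t : S) • (y : LocalizedModule q.primeCompl (Fin k → S)) = f₀ w from hwt]
  choose w hw t ht hwt using hlift
  let K₀ : Submodule S (Fin k → S) := Submodule.span S (Set.range w)
  have hK₀ : K₀ ≤ LinearMap.ker φ := Submodule.span_le.mpr (Set.range_subset_iff.mpr hw)
  have : Module.FinitePresentation S ((Fin k → S) ⧸ K₀) :=
    Module.finitePresentation_of_surjective K₀.mkQ (Submodule.mkQ_surjective _)
      (by rw [Submodule.ker_mkQ]; exact Submodule.fg_span (Set.finite_range w))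
  have hKq : ∀ x ∈ LinearMap.ker φ, ∃ s ∉ q, s • x ∈ K₀ := by
    intro x hx
    have h0 : φq (f₀ x) = 0 := by
      change LocalizedModule.map q.primeCompl φ (LocalizedModule.mk x 1) = _
      rw [LocalizedModule.map_mk, LinearMap.mem_ker.mp hx, LocalizedModule.zero_mk]
    have h1 : ∀ z ∈ Submodule.span (Localization.AtPrime q) (G : Set (LocalizedModule q.primeCompl (Fin k → S))),
        ∃ s ∉ q, ∃ v ∈ K₀, s • z = f₀ v := by
      intro z hz
      induction hz using Submodule.span_induction with
      | mem z hz => exact ⟨t ⟨z, hz⟩, ht _, w ⟨z, hz⟩, Submodule.subset_span ⟨_, rfl⟩, hwt _⟩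
      | zero => exact ⟨1, q.primeCompl.one_mem, 0, zero_mem _, by rw [smul_zero, map_zero]⟩
      | add a b _ _ ha hb =>
        obtain ⟨s, hs, v, hv, h⟩ := ha
        obtain ⟨s', hs', v', hv', h'⟩ := hb
        exact ⟨s' * s, q.primeCompl.mul_mem hs' hs, s' • v + s • v',
          add_mem (Submodule.smul_mem _ _ hv) (Submodule.smul_mem _ _ hv'), by
          rw [smul_add, mul_smul, h, mul_comm, mul_smul, h', map_add, map_smul, map_smul]⟩
      | smul c a _ ha =>
        obtain ⟨s, hs, v, hv, h⟩ := ha
        obtain ⟨⟨r, u⟩, hru⟩ := IsLocalization.surj q.primeCompl c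
        refine ⟨(u : S) * s, q.primeCompl.mul_mem u.2 hs, r • v, Submodule.smul_mem _ _ hv, ?_⟩
        rw [mul_smul, smul_comm s c, h, map_smul, ← algebraMap_smul (Localization.AtPrime q) (u : S),
          smul_smul, mul_comm, hru, algebraMap_smul]
    obtain ⟨s, hs, v, hv, h⟩ := h1 _ (hG.ge h0)
    rw [← map_smul] at h
    obtain ⟨⟨s', hs'⟩, h'⟩ := (IsLocalizedModule.eq_iff_exists q.primeCompl f₀).mp h
    exact ⟨s' * s, q.primeCompl.mul_mem hs' hs, by
      rw [mul_smul]; exact h' ▸ Submodule.smul_mem _ s' hv⟩
  let N' := (Fin k → S) ⧸ K₀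
  let π : N' →ₗ[S] N := K₀.liftQ φ hK₀
  have hπ : Function.Surjective π := fun y => by
    obtain ⟨x, rfl⟩ := hφ y
    exact ⟨Submodule.Quotient.mk x, rfl⟩
  have hπk : ∀ x, π x = 0 → ∃ t ∉ q, t • x = 0 := fun x hx => by
    obtain ⟨x, rfl⟩ := Submodule.Quotient.mk_surjective K₀ x
    obtain ⟨s, hs, hsx⟩ := hKq x hx
    exact ⟨s, hs, by rw [← Submodule.Quotient.mk_smul, Submodule.Quotient.mk_eq_zero]; exact hsx⟩
  have hflat' : Module.Flat R (LocalizedModule q.primeCompl N') := by
    have hbij : Function.Bijective (LocalizedModule.map q.primeCompl π) := by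
      refine ⟨(injective_iff_map_eq_zero _).mpr fun z hz => ?_,
        LocalizedModule.map_surjective q.primeCompl π hπ⟩
      induction z using LocalizedModule.induction_on with
      | h x s =>
        rw [LocalizedModule.map_mk] at hz
        obtain ⟨u, hu⟩ := LocalizedModule.mk_eq.mp (hz.trans (LocalizedModule.zero_mk s).symm)
        simp only [smul_zero] at hu
        obtain ⟨t, ht, htx⟩ := hπk ((u : S) • (s : S) • x) (by rw [map_smul, map_smul]; exact hu)
        refine (LocalizedModule.mk_eq.mpr ⟨⟨t * u * s, q.primeCompl.mul_mem (q.primeCompl.mul_mem ht u.2) s.2⟩, ?_⟩).trans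
          (LocalizedModule.zero_mk 1)
        simp only [smul_zero, one_smul]
        change (t * (u : S) * s) • x = 0
        rw [mul_smul, mul_smul]
        exact htx
    exact Module.Flat.of_linearEquiv ((LinearEquiv.ofBijective _ hbij).restrictScalars R)
  obtain ⟨_, ⟨g, rfl⟩, hgq, hopen⟩ := PrimeSpectrum.isTopologicalBasis_basic_opens.exists_subset_of_mem_open
    (a := (⟨q, ‹_›⟩ : PrimeSpectrum S))
    (show _ ∈ {Q : PrimeSpectrum S | Module.Flat R (LocalizedModule Q.asIdeal.primeCompl N')} from hflat')
    (H8Props.FlatLocus.isOpen_setOf_flat_localizedModule R S N')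
  refine ⟨N', inferInstance, inferInstance, inferInstance, inferInstance, this, π, hπ, hπk, g, hgq, ?_⟩
  refine H06EGA11.flat_localizedModule _ fun J x hx => ?_
  let An : Ideal S := LinearMap.ker (LinearMap.toSpanSingleton S (N' ⊗[R] J) x)
  have hrad : g ∈ An.radical := by
    rw [Ideal.radical_eq_sInf, Ideal.mem_sInf]
    rintro Q ⟨hAQ, hQ⟩
    by_contra hgQ
    have : Module.Flat R (LocalizedModule Q.primeCompl N') := hopen (a := ⟨Q, hQ⟩) hgQ
    obtain ⟨t, ht, htx⟩ := H06EGA11.exists_smul_eq_zero_of_flat Q.primeCompl J.subtype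
      Subtype.val_injective x hx
    exact ht (hAQ htx)
  obtain ⟨n, hn⟩ := hrad
  exact ⟨_, ⟨n, rfl⟩, hn⟩

/-- A finitely presented module flat near a principal open has finitely many weakly associated
primes there, if the base has finitely many. -/
theorem finite_weakAss {R S : Type u} [CommRing R] [CommRing S] [Algebra R S]
    [Algebra.FinitePresentation R S] (hR : (FlatCA.weakAss R R).Finite) (N : Type u) [AddCommGroup N]
    [Module S N] [Module R N] [IsScalarTower R S N] [Module.FinitePresentation S N] (g : S)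
    [Module.Flat R (LocalizedModule (Submonoid.powers g) N)] :
    {Q ∈ FlatCA.weakAss S N | g ∉ Q}.Finite := by
  classical
  let S' := Localization (Submonoid.powers g)
  let N' := LocalizedModule (Submonoid.powers g) N
  have : Algebra.FinitePresentation R S' :=
    have : Algebra.FinitePresentation S S' := IsLocalization.Away.finitePresentation g
    Algebra.FinitePresentation.trans R S S'
  have hprime : ∀ p ∈ FlatCA.weakAss R R, p.IsPrime := fun p ⟨_, hp⟩ => hp.1.1
  let F : ∀ p ∈ FlatCA.weakAss R R, Set (Ideal S) := fun p hp =>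
    haveI := hprime p hp
    (fun P : Ideal (p.Fiber S') => (P.comap (algebraMap S' (p.Fiber S'))).comap (algebraMap S S')) ''
      associatedPrimes (p.Fiber S') (FlatCA.fiberMod p S' N')
  refine (hR.biUnion' fun p hp => ?_ : (⋃ p, ⋃ hp : p ∈ FlatCA.weakAss R R, F p hp).Finite).subset ?_
  · have := hprime p hp
    have : IsNoetherianRing (p.Fiber S') := Algebra.FiniteType.isNoetherianRing p.ResidueField _
    have : Module.Finite (p.Fiber S') (FlatCA.fiberMod p S' N') :=
      inferInstanceAs (Module.Finite (p.Fiber S') ((p.Fiber S') ⊗[S'] N'))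
    exact (associatedPrimes.finite (p.Fiber S') (FlatCA.fiberMod p S' N')).image _
  rintro Q ⟨hQ, hgQ⟩
  have hQp : Q.IsPrime := by obtain ⟨_, hm⟩ := hQ; exact hm.1.1
  have hd : Disjoint (Submonoid.powers g : Set S) (Q : Set S) :=
    Set.disjoint_left.mpr fun x ⟨n, hn⟩ hx =>
      hgQ (hQp.mem_of_pow_mem n (by rw [show g ^ n = x from hn]; exact hx))
  have h1 : Q ∈ FlatCA.weakAss S N' :=
    (H02CA.mem_weakAss_localizedModule_iff (M := N) (Submonoid.powers g) hd).mpr hQ
  rw [H02CA.annEl_localization (Submonoid.powers g) S'] at h1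
  obtain ⟨Q', hQ', rfl⟩ := h1
  have : Q'.IsPrime := by obtain ⟨_, hm⟩ := hQ'; exact hm.1.1
  let p := Q'.comap (algebraMap R S')
  have : Q'.LiesOver p := ⟨rfl⟩
  have h2 : Q' ∈ FlatCA.weakAss S' (N' ⊗[R] R) :=
    H02CA.weakAss_mono (AlgebraTensorModule.rid R S' N').symm.toLinearMap
      (AlgebraTensorModule.rid R S' N').symm.injective hQ'
  simp only [Set.mem_iUnion]
  exact ⟨p, mem_weakAss_fst R p Q' h2, FlatCA.fiberIdeal p Q',
    fiberIdeal_mem_associatedPrimes_of_mem_weakAss R p Q' h2, by simp only [comap_fiberIdeal]⟩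

/-- Over a ring with finitely many weakly associated primes, a finite module flat at a prime is
flat and finitely presented near it. -/
theorem exists_flat_fp_away {R S : Type u} [CommRing R] [CommRing S] [Algebra R S]
    [Algebra.FinitePresentation R S] (hR : (FlatCA.weakAss R R).Finite)
    (N : Type u) [AddCommGroup N] [Module S N] [Module R N] [IsScalarTower R S N] [Module.Finite S N]
    (q : Ideal S) [q.IsPrime] (hflat : FlatCA.FlatAt R q N) :
    ∃ h ∉ q, Module.FinitePresentation (Localization.Away h) (LocalizedModule (Submonoid.powers h) N) ∧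
      Module.Flat R (LocalizedModule (Submonoid.powers h) N) := by
  classical
  obtain ⟨N', _, _, _, _, _, π, hπ, hπk, g, hgq, hg⟩ := exists_fp_cover N q hflat
  let s := {Q ∈ FlatCA.weakAss S N' | g ∉ Q}
  have hs : s.Finite := finite_weakAss hR N' g
  have hex : ∀ Q : Ideal S, ∃ a, a ∉ q ∧ (¬ Q ≤ q → a ∈ Q) := fun Q => by
    by_cases h : Q ≤ q
    · exact ⟨1, q.primeCompl.one_mem, fun h' => absurd h h'⟩
    · obtain ⟨a, haQ, haq⟩ := SetLike.not_le_iff_exists.mp h
      exact ⟨a, haq, fun _ => haQ⟩
  choose a haq haQ using hex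
  let h := g * ∏ Q ∈ hs.toFinset, a Q
  have hq : h ∉ q := q.primeCompl.mul_mem hgq (prod_mem fun Q _ => haq Q)
  have hker : ∀ x, π x = 0 → ∃ n : ℕ, h ^ n • x = 0 := by
    intro x hx
    obtain ⟨t, ht, htx⟩ := hπk x hx
    have hrad : h ∈ (Submodule.span S {x}).annihilator.radical := by
      rw [Ideal.radical_eq_sInf, Ideal.mem_sInf]
      rintro Q ⟨hAQ, hQ⟩
      obtain ⟨Q', hQ', hle⟩ := Ideal.exists_minimalPrimes_le hAQ
      refine hle ?_
      by_cases hgQ : g ∈ Q'
      · exact Q'.mul_mem_right _ hgQ
      refine Q'.mul_mem_left _ ?_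
      have hnle : ¬ Q' ≤ q := fun hle' =>
        ht (hle' (hQ'.1.2 ((Submodule.mem_annihilator_span_singleton x t).mpr htx)))
      have hmem : Q' ∈ hs.toFinset := hs.mem_toFinset.mpr ⟨⟨x, hQ'⟩, hgQ⟩
      exact Ideal.mem_of_dvd _ (Finset.dvd_prod_of_mem a hmem) (haQ Q' hnle)
    obtain ⟨n, hn⟩ := hrad
    exact ⟨n, (Submodule.mem_annihilator_span_singleton x _).mp hn⟩
  have hfl : Module.Flat R (LocalizedModule (Submonoid.powers h) N') := by
    refine H06EGA11.flat_localizedModule _ fun J x hx => ?_
    obtain ⟨_, ⟨n, rfl⟩, hn⟩ := H06EGA11.exists_smul_eq_zero_of_flat (Submonoid.powers g) J.subtype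
      Subtype.val_injective x hx
    refine ⟨_, ⟨n, rfl⟩, ?_⟩
    change (g * ∏ Q ∈ hs.toFinset, a Q) ^ n • x = 0
    rw [mul_pow, mul_comm, mul_smul]
    exact (congrArg _ hn).trans (smul_zero _)
  have hbij : Function.Bijective (LocalizedModule.map (Submonoid.powers h) π) := by
    refine ⟨(injective_iff_map_eq_zero _).mpr fun z hz => ?_,
      LocalizedModule.map_surjective (Submonoid.powers h) π hπ⟩
    induction z using LocalizedModule.induction_on with
    | h x u =>
      rw [LocalizedModule.map_mk] at hz
      obtain ⟨v, hv⟩ := LocalizedModule.mk_eq.mp (hz.trans (LocalizedModule.zero_mk u).symm)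
      simp only [smul_zero] at hv
      obtain ⟨n, hn⟩ := hker ((v : S) • (u : S) • x) (by rw [map_smul, map_smul]; exact hv)
      refine (LocalizedModule.mk_eq.mpr ⟨⟨h ^ n * v * u, mul_mem (mul_mem (Submonoid.mem_powers_iff _ _ |>.mpr ⟨n, rfl⟩) v.2) u.2⟩, ?_⟩).trans
        (LocalizedModule.zero_mk 1)
      simp only [smul_zero, one_smul]
      change (h ^ n * (v : S) * u) • x = 0
      rw [mul_smul, mul_smul]
      exact hn
  let e := LinearEquiv.ofBijective _ hbij
  exact ⟨h, hq, Module.FinitePresentation.of_equiv e, Module.Flat.of_linearEquiv (e.restrictScalars R).symm⟩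

/-- The flat locus is open over a ring with finitely many weakly associated primes. -/
theorem isOpen_flatLocus {R S : Type u} [CommRing R] [CommRing S] [Algebra R S]
    [Algebra.FinitePresentation R S] (hR : (FlatCA.weakAss R R).Finite)
    (N : Type u) [AddCommGroup N] [Module S N] [Module R N] [IsScalarTower R S N] [Module.Finite S N] :
    IsOpen {q : PrimeSpectrum S | FlatCA.FlatAt R q.asIdeal N} := by
  refine isOpen_iff_forall_mem_open.mpr fun q hq => ?_
  obtain ⟨h, hh, -, hfl⟩ := exists_flat_fp_away hR N q.asIdeal hq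
  exact ⟨PrimeSpectrum.basicOpen h, fun Q hQ => H06EGA11.flat_localizedModule_of_le (Submonoid.powers h)
    Q.asIdeal.primeCompl (Submonoid.powers_le.mpr hQ), PrimeSpectrum.isOpen_basicOpen, hh⟩

/-- A finite module flat over a domain, or over any ring with finitely many weakly associated primes,
is finitely presented. -/
theorem fp_of_flat {R S : Type u} [CommRing R] [CommRing S] [Algebra R S]
    [Algebra.FinitePresentation R S] (hR : (FlatCA.weakAss R R).Finite)
    (N : Type u) [AddCommGroup N] [Module S N] [Module R N] [IsScalarTower R S N] [Module.Finite S N]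
    [Module.Flat R N] : Module.FinitePresentation S N := by
  have hex : ∀ q : PrimeSpectrum S, ∃ h ∉ q.asIdeal,
      Module.FinitePresentation (Localization.Away h) (LocalizedModule (Submonoid.powers h) N) ∧
      Module.Flat R (LocalizedModule (Submonoid.powers h) N) := fun q =>
    exists_flat_fp_away hR N q.asIdeal (H06EGA11.flat_localizedModule _ fun J x hx =>
      ⟨1, one_mem _, by
        rw [one_smul]
        exact (injective_iff_map_eq_zero _).mp
          (Module.Flat.lTensor_preserves_injective_linearMap J.subtype J.injective_subtype) x hx⟩)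
  choose h hh hfp _ using hex
  refine Module.FinitePresentation.of_localizationSpan (Set.range h) ?_ ?_
  · by_contra hne
    obtain ⟨m, hm, hle⟩ := Ideal.exists_le_maximal _ hne
    exact hh ⟨m, hm.isPrime⟩ (hle (Ideal.subset_span ⟨_, rfl⟩))
  · rintro ⟨_, q, rfl⟩
    exact hfp q

/-- A domain has finitely many weakly associated primes. -/
theorem weakAss_finite_of_isDomain (R : Type u) [CommRing R] [IsDomain R] :
    (FlatCA.weakAss R R).Finite := by
  refine (Set.finite_singleton (⊥ : Ideal R)).subset ?_
  rintro p ⟨m, hm⟩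
  have hm0 : m ≠ 0 := fun h => hm.1.1.ne_top (top_le_iff.mp (hm.1.2.trans' (by
    rw [h, Submodule.span_zero_singleton, Submodule.annihilator_bot])))
  have hann : (Submodule.span R {m}).annihilator = ⊥ := by
    ext r
    rw [Submodule.mem_annihilator_span_singleton, smul_eq_mul, mul_eq_zero, Submodule.mem_bot]
    exact ⟨fun h => h.resolve_right hm0, Or.inl⟩
  exact le_bot_iff.mp (hm.2 ⟨Ideal.isPrime_bot, hann.le⟩ bot_le)

end Groth.Agent.H7Flat.FlatSpread
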