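import Groth.Agent.H7Flat.AssLocal
import Groth.Agent.H7Flat.FlatSpread
import Groth.Agent.H7Flat.WeakAssTensor

/-!
Weakly associated primes of `N ⊗ M` at a point where the finite module `N` is flat over the base.
-/

set_option autoImplicit false
universe u

namespace Groth.Agent.H7Flat.WeakAssFlatAt

open TensorProduct FlatMor

set_option backward.isDefEq.respectTransparency false
set_option maxHeartbeats 1000000
set_option synthInstance.maxHeartbeats 400000

/-- Tensoring preserves local isomorphisms, for surjections. -/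
theorem isLocIso_rTensor {R P N' N : Type u} [CommRing R] [CommRing P] [Algebra R P]
    [AddCommGroup N'] [Module P N'] [Module R N'] [IsScalarTower R P N'] [AddCommGroup N] [Module P N]
    [Module R N] [IsScalarTower R P N] (q : Ideal P) [q.IsPrime] (π : N' →ₗ[P] N)
    (hπ : Function.Surjective π) (hk : ∀ x, π x = 0 → ∃ c ∉ q, c • x = 0) (M : Type u) [AddCommGroup M]
    [Module R M] : AssLocal.IsLocIso q (AlgebraTensorModule.rTensor R M π) := by
  refine AssLocal.isLocIso_surjective q _ (LinearMap.rTensor_surjective M (g := π.restrictScalars R) hπ)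
    fun z hz => ?_
  obtain ⟨w, rfl⟩ := (rTensor_exact M (LinearMap.exact_subtype_ker_map (π.restrictScalars R)) hπ z).mp hz
  induction w using TensorProduct.induction_on with
  | zero => exact ⟨1, fun h => Ideal.IsPrime.ne_top ‹_› ((Ideal.eq_top_iff_one q).mpr h), by
      rw [map_zero, smul_zero]⟩
  | tmul k m =>
    obtain ⟨c, hc, h⟩ := hk k.1 k.2
    exact ⟨c, hc, by rw [LinearMap.rTensor_tmul, smul_tmul', Submodule.subtype_apply, h, zero_tmul]⟩
  | add a b ha hb =>
    have hz' : ∀ y, (π.restrictScalars R).rTensor M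
        ((LinearMap.ker (π.restrictScalars R)).subtype.rTensor M y) = 0 := fun y => by
      rw [← LinearMap.rTensor_comp_apply, LinearMap.comp_ker_subtype, LinearMap.rTensor_zero]
      rfl
    obtain ⟨c, hc, h⟩ := ha (hz' a)
    obtain ⟨c', hc', h'⟩ := hb (hz' b)
    refine ⟨c' * c, fun hh => (Ideal.IsPrime.mem_or_mem ‹_› hh).elim hc' hc, ?_⟩
    rw [map_add, smul_add, mul_smul, h, smul_zero, mul_comm, mul_smul, h', smul_zero, add_zero]

/-- The weakly associated primes of a tensor product at a point of flatness, for a finitely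
presented base algebra. -/
theorem mem_weakAss_tensor_iff_fp {R P : Type u} [CommRing R] [CommRing P] [Algebra R P]
    [Algebra.FinitePresentation R P] (N : Type u) [AddCommGroup N] [Module P N] [Module R N]
    [IsScalarTower R P N] [Module.Finite P N] (M : Type u) [AddCommGroup M] [Module R M]
    (p : Ideal R) [p.IsPrime] (q : Ideal P) [q.IsPrime] [q.LiesOver p] (hflat : FlatCA.FlatAt R q N) :
    q ∈ FlatCA.weakAss P (N ⊗[R] M) ↔ (p ∈ FlatCA.weakAss R M ∧ AssLocal.AssCond N p q) := by
  obtain ⟨N', _, _, _, _, _, π, hπ, hπk, g, hgq, hg⟩ := FlatSpread.exists_fp_cover N q hflat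
  let T := Submonoid.powers g
  let Pg := Localization T
  let Ng := LocalizedModule T N'
  let ι := LocalizedModule.mkLinearMap T N'
  have hT : ∀ t ∈ T, t ∉ q := Submonoid.powers_le.mpr (show g ∈ q.primeCompl from hgq)
  rw [← AssLocal.mem_weakAss_iff q _ (isLocIso_rTensor q π hπ hπk M),
    ← AssLocal.assCond_iff p q π (AssLocal.isLocIso_surjective q π hπ hπk),
    AssLocal.mem_weakAss_iff q _
      (AssLocal.isLocIso_localization q T hT (AlgebraTensorModule.rTensor R M ι)),
    AssLocal.assCond_iff p q ι (AssLocal.isLocIso_localization q T hT ι)]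
  have : Algebra.FinitePresentation P Pg := IsLocalization.Away.finitePresentation g
  have : Algebra.FinitePresentation R Pg := Algebra.FinitePresentation.trans R P Pg
  have hd : Disjoint (T : Set P) (q : Set P) := Set.disjoint_left.mpr fun t ht hq => hT t ht hq
  let Q : Ideal Pg := q.map (algebraMap P Pg)
  have : Q.IsPrime := IsLocalization.isPrime_of_isPrime_disjoint T Pg q ‹_› hd
  have hQ : Q.comap (algebraMap P Pg) = q := IsLocalization.under_map_of_isPrime_disjoint T Pg ‹_› hd
  have : Q.LiesOver p := ⟨by
    rw [Ideal.under, IsScalarTower.algebraMap_eq R P Pg, ← Ideal.comap_comap, hQ]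
    exact q.over_def p⟩
  have hsurj : ∀ s : Pg, ∃ u, IsUnit u ∧ ∃ x, u * s = algebraMap P Pg x := fun s => by
    obtain ⟨⟨x, t⟩, h⟩ := IsLocalization.surj T s
    exact ⟨_, IsLocalization.map_units Pg t, x, by rw [mul_comm]; exact h⟩
  rw [← hQ, ← AssLocal.mem_weakAss_comap_iff hsurj Q, ← AssLocal.assCond_comap_iff hsurj Ng p Q,
    ← AssLocal.assoc_iff Ng p Q]
  exact ⟨fun h => ⟨WeakAssTensor.mem_weakAss_fst M p Q h,
      UnivInjCover.fiberIdeal_mem_associatedPrimes_of_mem_weakAss M p Q h⟩,
    fun h => WeakAssTensor.mem_weakAss_tensor M p Q h.1 h.2⟩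

/-- The weakly associated primes of a tensor product at a point of flatness. -/
theorem mem_weakAss_tensor_iff {R S : Type u} [CommRing R] [CommRing S] [Algebra R S]
    [Algebra.FiniteType R S] (N : Type u) [AddCommGroup N] [Module S N] [Module R N]
    [IsScalarTower R S N] [Module.Finite S N] (M : Type u) [AddCommGroup M] [Module R M]
    (p : Ideal R) [p.IsPrime] (q : Ideal S) [q.IsPrime] [q.LiesOver p] (hflat : FlatCA.FlatAt R q N) :
    q ∈ FlatCA.weakAss S (N ⊗[R] M) ↔ (p ∈ FlatCA.weakAss R M ∧
      FlatCA.fiberIdeal p q ∈ associatedPrimes (p.Fiber S) (FlatCA.fiberMod p S N)) := by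
  obtain ⟨n, f, hf⟩ := Algebra.FiniteType.iff_quotient_mvPolynomial''.mp
    (inferInstance : Algebra.FiniteType R S)
  let P := MvPolynomial (Fin n) R
  let : Algebra P S := f.toRingHom.toAlgebra
  have : IsScalarTower R P S := IsScalarTower.of_algebraMap_eq fun r => (f.commutes r).symm
  let : Module P N := Module.compHom N f.toRingHom
  have : IsScalarTower P S N := IsScalarTower.of_algebraMap_smul fun _ _ => rfl
  have : IsScalarTower R P N := IsScalarTower.of_algebraMap_smul fun r x => by
    change f (algebraMap R P r) • x = r • x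
    rw [f.commutes, algebraMap_smul]
  have : Module.Finite P S := Module.Finite.of_surjective (Algebra.linearMap P S) hf
  have : Module.Finite P N := Module.Finite.trans S N
  have : IsScalarTower P S (N ⊗[R] M) := IsScalarTower.of_algebraMap_smul fun x z => by
    induction z using TensorProduct.induction_on with
    | zero => simp
    | tmul a b => rw [smul_tmul', smul_tmul']; rfl
    | add a b ha hb => simp only [smul_add, ha, hb]
  let q' := q.comap (algebraMap P S)
  have : q'.LiesOver p := ⟨by
    rw [Ideal.under, Ideal.comap_comap, ← IsScalarTower.algebraMap_eq]; exact q.over_def p⟩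
  have hsurj : ∀ s : S, ∃ u, IsUnit u ∧ ∃ x, u * s = algebraMap P S x := fun s =>
    ⟨1, isUnit_one, (hf s).choose, by rw [one_mul]; exact (hf s).choose_spec.symm⟩
  have hflat' : FlatCA.FlatAt R q' N := by
    refine H06EGA11.flat_localizedModule _ fun J z hz => ?_
    have : Module.Flat R (LocalizedModule q.primeCompl N) := hflat
    obtain ⟨t, ht, htz⟩ := H06EGA11.exists_smul_eq_zero_of_flat q.primeCompl J.subtype
      Subtype.val_injective z hz
    obtain ⟨x, rfl⟩ := hf t
    refine ⟨x, ht, ?_⟩
    rw [← htz]
    clear hz htz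
    induction z using TensorProduct.induction_on with
    | zero => rw [smul_zero, smul_zero]
    | tmul a b => rw [smul_tmul', smul_tmul']; rfl
    | add a b ha hb => rw [smul_add, smul_add, ha, hb]
  rw [AssLocal.mem_weakAss_comap_iff hsurj q, AssLocal.assoc_iff N p q,
    AssLocal.assCond_comap_iff hsurj N p q]
  exact mem_weakAss_tensor_iff_fp N M p q' hflat'

end Groth.Agent.H7Flat.WeakAssFlatAt
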