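import Groth.Prelude.Def_MoreMor
import Groth.Agent.H11QAff.Basic
import Groth.Agent.H7Lim.QuasiFiniteFactor

/-!
# Ind-quasi-affine morphisms
-/

set_option autoImplicit false
set_option backward.isDefEq.respectTransparency false
set_option linter.style.haveILetI false

universe u

open AlgebraicGeometry CategoryTheory Limits

namespace Groth.Agent.H7Flat

variable {X Y Z : Scheme.{u}}

theorem indQA_iff (f : X ⟶ Y) : MoreMor.IsIndQuasiAffineHom f ↔
    ∀ V : Y.Opens, IsAffineOpen V → ∀ U : X.Opens, IsCompact (U : Set X) → U ≤ f ⁻¹ᵁ V →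
      (U : Scheme.{u}).IsQuasiAffine := by
  constructor
  · intro h V hV U hU hle
    let U₀ : (f ⁻¹ᵁ V).toScheme.Opens := (f ⁻¹ᵁ V).ι ⁻¹ᵁ U
    have himg : (f ⁻¹ᵁ V).ι ''ᵁ U₀ = U := by
      ext z
      exact ⟨fun ⟨a, ha, e⟩ => e ▸ ha, fun hz => ⟨⟨z, hle hz⟩, hz, rfl⟩⟩
    have hc : IsCompact (U₀ : Set (f ⁻¹ᵁ V).toScheme) := by
      rw [(f ⁻¹ᵁ V).ι.isOpenEmbedding.isInducing.isCompact_iff]
      exact (congrArg (fun W : X.Opens => IsCompact (W : Set X)) himg).mpr hU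
    have := h V hV U₀ hc
    exact H11QAff.isQuasiAffine_of_iso ((X.isoOfEq himg.symm) ≪≫ ((f ⁻¹ᵁ V).ι.isoImage U₀).symm)
  · intro h V hV U₀ hU₀
    have := h V hV ((f ⁻¹ᵁ V).ι ''ᵁ U₀) (hU₀.image (f ⁻¹ᵁ V).ι.continuous)
      (by rintro _ ⟨a, -, rfl⟩; exact a.2)
    exact H11QAff.isQuasiAffine_of_iso ((f ⁻¹ᵁ V).ι.isoImage U₀)

/-- The open `U` as a morphism into an open containing its image. -/
theorem exists_lift (f : X ⟶ Y) {U : X.Opens} {V : Y.Opens} (h : U ≤ f ⁻¹ᵁ V) :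
    ∃ k : U.toScheme ⟶ V.toScheme, k ≫ V.ι = U.ι ≫ f :=
  ⟨IsOpenImmersion.lift V.ι (U.ι ≫ f) (by
    rintro _ ⟨z, rfl⟩; rw [Scheme.Opens.range_ι]; exact h z.2), IsOpenImmersion.lift_fac _ _ _⟩

theorem indQA_of_isSeparated (f : X ⟶ Y) [IsSeparated f] [LocallyQuasiFinite f] [LocallyOfFiniteType f] :
    MoreMor.IsIndQuasiAffineHom f := by
  rw [indQA_iff]
  intro V hV U hU hle
  obtain ⟨k, hk⟩ := exists_lift f hle
  have : IsAffine V.toScheme := hV
  have : CompactSpace U.toScheme := isCompact_iff_compactSpace.1 hU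
  have : IsSeparated (k ≫ V.ι) := by rw [hk]; infer_instance
  have : LocallyQuasiFinite (k ≫ V.ι) := by rw [hk]; infer_instance
  have : LocallyOfFiniteType (k ≫ V.ι) := by rw [hk]; infer_instance
  have : IsSeparated k := .of_comp k V.ι
  have : LocallyQuasiFinite k := .of_comp k V.ι
  have : LocallyOfFiniteType k := locallyOfFiniteType_of_comp k V.ι
  have : QuasiCompact k := (quasiCompact_iff_compactSpace k).2 inferInstance
  obtain ⟨T, j, π, hj, -, hπ, -⟩ := H7Lim.exists_openImmersion_finite k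
  have : IsAffine T := isAffine_of_isAffineHom π
  exact Scheme.IsQuasiAffine.of_isImmersion j

theorem indQA_of_isImmersion (f : X ⟶ Y) [IsImmersion f] : MoreMor.IsIndQuasiAffineHom f := by
  rw [indQA_iff]
  intro V hV U hU hle
  obtain ⟨k, hk⟩ := exists_lift f hle
  have : IsAffine V.toScheme := hV
  have : CompactSpace U.toScheme := isCompact_iff_compactSpace.1 hU
  have : IsImmersion (k ≫ V.ι) := by rw [hk]; infer_instance
  have : IsImmersion k := .of_comp k V.ι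
  exact Scheme.IsQuasiAffine.of_isImmersion k

theorem indQA_of_isQuasiAffineHom (f : X ⟶ Y) (hf : MoreMor.IsQuasiAffineHom f) :
    MoreMor.IsIndQuasiAffineHom f := by
  rw [indQA_iff]
  intro V hV U hU hle
  exact H11QAff.isQuasiAffine_open_of_le hle hU (hf.2 V hV)

theorem exists_compactOpen_between {T : Set X} (hT : IsCompact T) {W : X.Opens} (h : T ⊆ W) :
    ∃ U : X.Opens, IsCompact (U : Set X) ∧ T ⊆ U ∧ U ≤ W := by
  have : ∀ x : W, ∃ A : X.Opens, IsAffineOpen A ∧ x.1 ∈ A ∧ A ≤ W := fun x => by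
    obtain ⟨_, ⟨A, hA, rfl⟩, hxA, hAW⟩ := X.isBasis_affineOpens.exists_subset_of_mem_open x.2 W.2
    exact ⟨A, hA, hxA, hAW⟩
  choose A hA hxA hAW using this
  obtain ⟨t, ht⟩ := hT.elim_finite_subcover (fun x : W => (A x : Set X)) (fun x => (A x).2)
    fun x hx => Set.mem_iUnion.2 ⟨⟨x, h hx⟩, hxA _⟩
  refine ⟨⨆ x ∈ t, A x, ?_, ?_, iSup₂_le fun x _ => hAW x⟩
  · simp only [TopologicalSpace.Opens.coe_iSup]
    exact t.isCompact_biUnion fun x _ => (hA x).isCompact
  · simpa only [TopologicalSpace.Opens.coe_iSup] using ht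

theorem indQA_comp (f : X ⟶ Y) (g : Y ⟶ Z) (hf : MoreMor.IsIndQuasiAffineHom f)
    (hg : MoreMor.IsIndQuasiAffineHom g) : MoreMor.IsIndQuasiAffineHom (f ≫ g) := by
  rw [indQA_iff] at *
  intro W hW U hU hle
  obtain ⟨V', hV'c, hV', hV'W⟩ := exists_compactOpen_between (hU.image f.continuous) (W := g ⁻¹ᵁ W)
    (by rintro _ ⟨x, hx, rfl⟩; exact hle hx)
  have := hg W hW V' hV'c hV'W
  obtain ⟨k, hk⟩ := exists_lift f (U := U) (V := V') fun x hx => hV' ⟨x, hx, rfl⟩
  have : CompactSpace U.toScheme := isCompact_iff_compactSpace.1 hU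
  have : QuasiCompact k := .of_comp k (terminal.from _)
  refine H11QAff.isQuasiAffine_of_preimage k fun D hD => ?_
  have hc : IsCompact (U.ι ''ᵁ (k ⁻¹ᵁ D) : Set X) :=
    (k.isCompact_preimage hD.isCompact).image U.ι.continuous
  have := hf (V'.ι ''ᵁ D) (hD.image_of_isOpenImmersion V'.ι) (U.ι ''ᵁ (k ⁻¹ᵁ D)) hc (by
    rintro _ ⟨z, hz, rfl⟩
    exact ⟨k z, hz, congr($hk z)⟩)
  exact H11QAff.isQuasiAffine_of_iso (U.ι.isoImage (k ⁻¹ᵁ D))

theorem indQA_baseChange {X' Y' : Scheme.{u}} {f : X ⟶ Y} {f' : X' ⟶ Y'} {g' : X' ⟶ X} {g : Y' ⟶ Y}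
    (hc : IsPullback g' f' f g) (hf : MoreMor.IsIndQuasiAffineHom f) : MoreMor.IsIndQuasiAffineHom f' := by
  rw [indQA_iff] at *
  intro V' hV' U' hU' hle
  obtain ⟨k, hk⟩ := exists_lift f' hle
  have : IsAffine V'.toScheme := hV'
  have : CompactSpace U'.toScheme := isCompact_iff_compactSpace.1 hU'
  have : QuasiCompact k := (quasiCompact_iff_compactSpace k).2 inferInstance
  have hkqa : Mor2.IsQuasiAffine k := by
    refine H11QAff.isQuasiAffine_of_cover k fun v => ?_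
    obtain ⟨_, ⟨(V : Y.Opens), (hV : IsAffineOpen V), rfl⟩, hvV, -⟩ :=
      Y.isBasis_affineOpens.exists_subset_of_mem_open (Set.mem_univ (g v.1)) isOpen_univ
    obtain ⟨_, ⟨(D : V'.toScheme.Opens), (hD : IsAffineOpen D), rfl⟩, hvD, hDsub⟩ :=
      V'.toScheme.isBasis_affineOpens.exists_subset_of_mem_open
        (show v ∈ (V'.ι ≫ g) ⁻¹ᵁ V from hvV) ((V'.ι ≫ g) ⁻¹ᵁ V).2
    refine ⟨D, hD, hvD, ?_⟩
    let U₁' : U'.toScheme.Opens := k ⁻¹ᵁ D
    have hc₁ : IsCompact (U₁' : Set U'.toScheme) := k.isCompact_preimage hD.isCompact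
    obtain ⟨U₁, hU₁c, hU₁, hU₁V⟩ := exists_compactOpen_between (hc₁.image (U'.ι ≫ g').continuous)
      (W := f ⁻¹ᵁ V) (by
        rintro _ ⟨z, hz, rfl⟩
        show f ((U'.ι ≫ g') z) ∈ V
        rw [← Scheme.Hom.comp_apply, Category.assoc, hc.w, ← Category.assoc, ← hk, Category.assoc]
        exact hDsub hz)
    have := hf V hV U₁ hU₁c hU₁V
    obtain ⟨p, hp⟩ := exists_lift f hU₁V
    obtain ⟨q, hq⟩ := exists_lift (V'.ι ≫ g) (U := D) (V := V) hDsub
    have : IsAffine V.toScheme := hV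
    have : IsAffine D.toScheme := hD
    have : IsAffineHom (pullback.fst p q) := MorphismProperty.pullback_fst _ _ inferInstance
    have : (pullback p q).IsQuasiAffine := Scheme.IsQuasiAffine.of_isAffineHom (pullback.fst p q)
    obtain ⟨a, ha⟩ := exists_lift (U'.ι ≫ g') (U := U₁') (V := U₁) fun z hz => hU₁ ⟨z, hz, rfl⟩
    obtain ⟨b, hb⟩ := exists_lift k (U := U₁') (V := D) le_rfl
    have hab : a ≫ p = b ≫ q := by
      rw [← cancel_mono V.ι, Category.assoc, Category.assoc, hp, hq]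
      rw [reassoc_of% ha, reassoc_of% hb, reassoc_of% hk, hc.w]
    let ψ := pullback.lift a b hab
    let m : pullback p q ⟶ X' := hc.lift (pullback.fst p q ≫ U₁.ι) (pullback.snd p q ≫ D.ι ≫ V'.ι)
      (by rw [Category.assoc, ← hp, pullback.condition_assoc, hq]; simp only [Category.assoc])
    have hm : ψ ≫ m = U₁'.ι ≫ U'.ι := by
      apply hc.hom_ext
      · simp [ψ, m, ha]
      · simp [ψ, m, hk, reassoc_of% hb]
    have : IsImmersion (ψ ≫ m) := by rw [hm]; infer_instance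
    have : IsImmersion ψ := .of_comp ψ m
    have : CompactSpace U₁'.toScheme := isCompact_iff_compactSpace.1 hc₁
    exact Scheme.IsQuasiAffine.of_isImmersion ψ
  have := hkqa.2 ⊤ (isAffineOpen_top _)
  exact @H11QAff.isQuasiAffine_of_iso _ _ U'.toScheme.topIso.symm this

theorem indQA_of_comp (f : X ⟶ Y) (g : Y ⟶ Z) (h : MoreMor.IsIndQuasiAffineHom (f ≫ g)) :
    MoreMor.IsIndQuasiAffineHom f := by
  let G : X ⟶ pullback (f ≫ g) g := pullback.lift (𝟙 X) f (by simp)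
  have hG : G ≫ pullback.fst (f ≫ g) g = 𝟙 X := pullback.lift_fst _ _ _
  have : IsImmersion (G ≫ pullback.fst (f ≫ g) g) := by rw [hG]; infer_instance
  have : IsImmersion G := .of_comp G (pullback.fst (f ≫ g) g)
  have := indQA_comp G (pullback.snd (f ≫ g) g) (indQA_of_isImmersion G)
    (indQA_baseChange (IsPullback.of_hasPullback (f ≫ g) g) h)
  rwa [pullback.lift_snd] at this

end Groth.Agent.H7Flat
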