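import Groth.Agent.H7Flat.DevissageChain
import Mathlib.AlgebraicGeometry.Pullbacks

/-!
Spreading out the steps of a complete dévissage from a prime of the base.
-/

set_option autoImplicit false
universe u
open TensorProduct

namespace Groth.Agent.H7Flat.DevissageSpread

set_option backward.isDefEq.respectTransparency false
set_option maxHeartbeats 800000

/-- Geometrically irreducible fibres are stable under base change. -/
theorem geomIrred_baseChange {R R' B B' : Type u} [CommRing R] [CommRing R'] [CommRing B] [CommRing B']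
    [Algebra R R'] [Algebra R B] [Algebra R' B'] [Algebra B B'] [Algebra R B'] [IsScalarTower R R' B']
    [IsScalarTower R B B'] [Algebra.IsPushout R R' B B'] (h : FlatCA.GeomIrredFibres R B) :
    FlatCA.GeomIrredFibres R' B' := by
  open AlgebraicGeometry CategoryTheory in
  exact MorphismProperty.of_isPullback (P := @GeometricallyIrreducible)
    (isPullback_SpecMap_of_isPushout (CommRingCat.ofHom (algebraMap R B))
      (CommRingCat.ofHom (algebraMap R R')) (CommRingCat.ofHom (algebraMap B B'))
      (CommRingCat.ofHom (algebraMap R' B'))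
      ((CommRingCat.isPushout_iff_isPushout (R := R) (S := B) (R' := R') (S' := B')).mpr ‹_›).flip)
    h

/-- The cokernel of a map which is universally injective after localization into a module flat
after localization is flat after localization. -/
theorem flat_coker {R S F N : Type u} [CommRing R] [CommRing S] [Algebra R S] [AddCommGroup F] [Module S F]
    [Module R F] [IsScalarTower R S F] [AddCommGroup N] [Module S N] [Module R N] [IsScalarTower R S N]
    (T : Submonoid S) (α : F →ₗ[S] N) [Module.Flat R (LocalizedModule T N)]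
    (h : FiberBasis.Kills R T α) : Module.Flat R (LocalizedModule T (N ⧸ LinearMap.range α)) := by
  let u := (LocalizedModule.map T α).restrictScalars R
  let π := (LocalizedModule.map T (LinearMap.range α).mkQ).restrictScalars R
  have hex : Function.Exact u π :=
    LocalizedModule.map_exact T α _ (LinearMap.exact_map_mkQ_range α)
  have hπ : Function.Surjective π :=
    LocalizedModule.map_surjective T _ (LinearMap.range α).mkQ_surjective
  have hu := (FiberBasis.univInj_iff T α).mpr h
  rw [Module.Flat.iff_lTensor_injective']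
  intro I
  rw [injective_iff_map_eq_zero]
  intro z hz
  obtain ⟨w, rfl⟩ := LinearMap.rTensor_surjective I hπ z
  have h1 : π.rTensor R (I.subtype.lTensor _ w) = 0 := by
    rw [← LinearMap.comp_apply, LinearMap.rTensor_comp_lTensor, ← LinearMap.lTensor_comp_rTensor,
      LinearMap.comp_apply, hz]
  obtain ⟨y, hy⟩ := (rTensor_exact R hex hπ _).mp h1
  have h3 : (I.mkQ).lTensor _ y = 0 := by
    refine (LinearMap.lTensor_inj_iff_rTensor_inj (R ⧸ I) u).mp (hu _) ?_
    rw [map_zero, ← LinearMap.comp_apply, LinearMap.rTensor_comp_lTensor, ← LinearMap.lTensor_comp_rTensor,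
      LinearMap.comp_apply, hy, ← LinearMap.lTensor_comp_apply,
      show I.mkQ.comp I.subtype = 0 from LinearMap.ext fun x => (Submodule.Quotient.mk_eq_zero I).mpr x.2,
      LinearMap.lTensor_zero, LinearMap.zero_apply]
  obtain ⟨y', rfl⟩ := (lTensor_exact _ (LinearMap.exact_subtype_mkQ I) I.mkQ_surjective y).mp h3
  have h4 : w = u.rTensor I y' := by
    refine Module.Flat.lTensor_preserves_injective_linearMap (M := LocalizedModule T N)
      I.subtype I.subtype_injective ?_
    rw [← hy, ← LinearMap.comp_apply, LinearMap.rTensor_comp_lTensor, ← LinearMap.lTensor_comp_rTensor]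
    rfl
  rw [h4, ← LinearMap.rTensor_comp_apply, hex.linearMap_comp_eq_zero, LinearMap.rTensor_zero,
    LinearMap.zero_apply]

/-- Localizing further at a multiple keeps flatness. -/
theorem flat_powers_of_dvd {R B M : Type u} [CommRing R] [CommRing B] [Algebra R B] [AddCommGroup M]
    [Module B M] [Module R M] [IsScalarTower R B M] {f g : B} (hfg : f ∣ g)
    (h : Module.Flat R (LocalizedModule (Submonoid.powers f) M)) :
    Module.Flat R (LocalizedModule (Submonoid.powers g) M) :=
  (DevissageLoc.flat_away_iff g M).mpr fun q _ hq =>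
    (DevissageLoc.flat_away_iff f M).mp h q fun hf => hq (Ideal.mem_of_dvd _ hfg hf)

/-- One step of a dévissage spreads out to a neighbourhood of the prime of the base. -/
theorem exists_step {R B : Type u} [CommRing R] [CommRing B] [Algebra R B] [Algebra.Smooth R B]
    (hgi : FlatCA.GeomIrredFibres R B) (M : Type u) [AddCommGroup M] [Module B M] [Module R M]
    [IsScalarTower R B M] [Module.FinitePresentation B M] (rr : Ideal R) [rr.IsPrime]
    [(rr.map (algebraMap R B)).IsPrime] {r : ℕ} (α : (Fin r → B) →ₗ[B] M)
    (hα : Function.Bijective (α.baseChange (rr.map (algebraMap R B)).ResidueField)) (f : R) (hf : f ∉ rr)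
    (hM : Module.Flat R (LocalizedModule (Submonoid.powers (algebraMap R B f)) M)) :
    ∃ g : R, g ∉ rr ∧ f ∣ g ∧
      Function.Injective (LocalizedModule.map (Submonoid.powers (algebraMap R B g)) α) ∧
      Module.Flat R (LocalizedModule (Submonoid.powers (algebraMap R B g)) (M ⧸ LinearMap.range α)) := by
  classical
  let P := rr.map (algebraMap R B)
  have hgi' := DevissageChain.geomIntegralFibres hgi
  haveI : Module.Flat R B := inferInstance
  haveI : P.LiesOver rr := ⟨le_antisymm Ideal.le_comap_map fun x hx => by
    by_contra hxr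
    haveI : IsDomain (rr.Fiber B) := Groth.Agent.S1223.isDomain_fiber hgi' R B rr
    obtain ⟨⟨y, hy⟩, -⟩ : ∃ y : PrimeSpectrum (rr.Fiber B), True := ⟨⟨⊥, Ideal.isPrime_bot⟩, trivial⟩
    letI := Algebra.TensorProduct.rightAlgebra (R := R) (A := rr.ResidueField) (B := B)
    haveI := ImpurityStage.liesOver_comap_fiber rr y
    have hle : P ≤ y.comap (algebraMap B (rr.Fiber B)) :=
      Ideal.map_le_iff_le_comap.mpr (Ideal.LiesOver.over (p := rr)
        (P := y.comap (algebraMap B (rr.Fiber B)))).le
    exact hxr ((Ideal.LiesOver.over (p := rr) (P := y.comap (algebraMap B (rr.Fiber B)))).ge (hle hx))⟩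
  let T₀ := Algebra.algebraMapSubmonoid B rr.primeCompl
  have hover : P.comap (algebraMap R B) = rr := (Ideal.LiesOver.over (p := rr) (P := P)).symm
  have hfP : algebraMap R B f ∉ P := fun h => hf (hover ▸ Ideal.mem_comap.mpr h)
  have hMP : FlatCA.FlatAt R P M := (DevissageLoc.flat_away_iff _ M).mp hM P hfP
  have hk₀ : FiberBasis.Kills R T₀ α := by
    refine FiberBasis.kills_of_kills hgi' T₀ P.primeCompl (fun p hp _ _ hd => ?_) α
      (FiberBasis.kills_of_flatAt rr P α hα.1 hMP)
    refine Set.disjoint_left.mpr fun x hx h => hx (Ideal.map_mono (fun y hy => ?_) h)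
    by_contra hyr
    exact Set.disjoint_left.mp hd ⟨y, hyr, rfl⟩ (Ideal.mem_map_of_mem _ hy)
  haveI : Module.Flat R (LocalizedModule T₀ M) := by
    haveI := hM
    exact H06EGA11.flat_localizedModule_of_le _ _ (Submonoid.powers_le.mpr (show algebraMap R B f ∈ T₀ from ⟨f, hf, rfl⟩))
  have hC₀ := flat_coker T₀ α hk₀
  haveI : Module.FinitePresentation B (M ⧸ LinearMap.range α) :=
    Module.finitePresentation_of_surjective (LinearMap.range α).mkQ (LinearMap.range α).mkQ_surjective
      (by rw [Submodule.ker_mkQ, LinearMap.range_eq_map]; exact Module.Finite.fg_top.map α)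
  let U := {q : PrimeSpectrum B | Module.Flat R (LocalizedModule q.asIdeal.primeCompl (M ⧸ LinearMap.range α))}
  have hUo : IsOpen U := H8Props.FlatLocus.isOpen_setOf_flat_localizedModule R B _
  obtain ⟨I, hI⟩ := (PrimeSpectrum.isClosed_iff_zeroLocus_ideal _).mp hUo.isClosed_compl
  obtain ⟨g₁, hg₁, hg₁I⟩ : ∃ g₁ : R, g₁ ∉ rr ∧ algebraMap R B g₁ ∈ I := by
    by_contra! hno
    obtain ⟨Q, hQ, hIQ, hd⟩ := Ideal.exists_le_prime_disjoint I T₀ (Set.disjoint_left.mpr fun x hx hxT => by
      obtain ⟨y, hy, rfl⟩ := hxT; exact hno y hy hx)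
    have hmem : (⟨Q, hQ⟩ : PrimeSpectrum B) ∈ PrimeSpectrum.zeroLocus (I : Set B) := hIQ
    rw [← hI] at hmem
    haveI := hQ
    haveI := hC₀
    exact hmem (H06EGA11.flat_localizedModule_of_le T₀ Q.primeCompl fun x hx hxQ =>
      Set.disjoint_left.mp hd hxQ hx)
  let g₀ := algebraMap R B (f * g₁)
  haveI hCflat : Module.Flat R (LocalizedModule (Submonoid.powers g₀) (M ⧸ LinearMap.range α)) :=
    (DevissageLoc.flat_away_iff g₀ _).mpr fun Q hQ hg => by
      by_contra hQU
      have hmem : (⟨Q, hQ⟩ : PrimeSpectrum B) ∈ Uᶜ := hQU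
      rw [hI] at hmem
      exact hg (by rw [show g₀ = algebraMap R B f * algebraMap R B g₁ from map_mul _ _ _]
                   exact Ideal.mul_mem_left _ _ (hmem hg₁I))
  let Bg := Localization.Away g₀
  haveI : Algebra.FinitePresentation B Bg := IsLocalization.Away.finitePresentation g₀
  haveI : Algebra.FinitePresentation R Bg := Algebra.FinitePresentation.trans R B Bg
  haveI : Module.FinitePresentation Bg (LocalizedModule (Submonoid.powers g₀) M) :=
    Module.FinitePresentation.of_equiv (IsLocalizedModule.isBaseChange (Submonoid.powers g₀) Bg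
      (LocalizedModule.mkLinearMap (Submonoid.powers g₀) M)).equiv
  haveI : Module.FinitePresentation Bg (LocalizedModule (Submonoid.powers g₀) (M ⧸ LinearMap.range α)) :=
    Module.FinitePresentation.of_equiv (IsLocalizedModule.isBaseChange (Submonoid.powers g₀) Bg
      (LocalizedModule.mkLinearMap (Submonoid.powers g₀) (M ⧸ LinearMap.range α))).equiv
  let π := LocalizedModule.map (Submonoid.powers g₀) (LinearMap.range α).mkQ
  let v := LocalizedModule.map (Submonoid.powers g₀) α
  have hex : Function.Exact v π :=
    LocalizedModule.map_exact (Submonoid.powers g₀) α _ (LinearMap.exact_map_mkQ_range α)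
  have hfp : Module.FinitePresentation Bg (LinearMap.ker π) :=
    H06EGA11.finitePresentation_ker (A := R) π
      (LocalizedModule.map_surjective _ _ (LinearMap.range α).mkQ_surjective)
  haveI : Module.FinitePresentation Bg (LinearMap.range v) :=
    Module.FinitePresentation.of_equiv (LinearEquiv.ofEq _ _ (LinearMap.exact_iff.mp hex))
  haveI : Module.Finite Bg (LocalizedModule (Submonoid.powers g₀) (Fin r → B)) :=
    Module.Finite.equiv (IsLocalizedModule.isBaseChange (Submonoid.powers g₀) Bg
      (LocalizedModule.mkLinearMap (Submonoid.powers g₀) (Fin r → B))).equiv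
  have hfg : (LinearMap.ker v).FG := by
    rw [← LinearMap.ker_rangeRestrict]
    exact Module.FinitePresentation.fg_ker _ v.surjective_rangeRestrict
  obtain ⟨K, hK⟩ := hfg
  have h0 := (FiberBasis.injective_map_iff T₀ α).mp (FiberBasis.kills_injective T₀ α hk₀)
  have hgen : ∀ z ∈ K, ∃ c ∉ rr, algebraMap R B c • z = 0 := fun z hz => by
    have hv : v z = 0 := LinearMap.mem_ker.mp (hK ▸ Submodule.subset_span hz)
    induction z using LocalizedModule.induction_on with
    | _ m s =>
      rw [LocalizedModule.map_mk, ← LocalizedModule.zero_mk (1 : Submonoid.powers g₀), LocalizedModule.mk_eq] at hv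
      obtain ⟨⟨_, k, rfl⟩, hc⟩ := hv
      obtain ⟨_, ⟨d, hd, rfl⟩, hdm⟩ := h0 (g₀ ^ k • m) (by simpa [map_smul, Submonoid.smul_def] using hc)
      refine ⟨d * (f * g₁) ^ k, fun h => (Ideal.IsPrime.mem_or_mem inferInstance h).elim hd fun h =>
        (Ideal.IsPrime.mem_or_mem inferInstance (Ideal.IsPrime.mem_of_pow_mem inferInstance k h)).elim hf hg₁, ?_⟩
      rw [LocalizedModule.smul'_mk, map_mul, map_pow, mul_smul, show algebraMap R B d • g₀ ^ k • m = 0 from hdm,
        LocalizedModule.zero_mk]
  choose c hc hcz using hgen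
  let d := ∏ z ∈ K.attach, c z.1 z.2
  have hd : d ∉ rr := fun h => by
    obtain ⟨z, -, hz⟩ := Ideal.IsPrime.prod_mem_iff.mp h
    exact hc z.1 z.2 hz
  have hkill : ∀ z ∈ LinearMap.ker v, algebraMap R B d • z = 0 := fun z hz => by
    rw [← hK] at hz
    induction hz using Submodule.span_induction with
    | mem x hx =>
      obtain ⟨e, he⟩ := Finset.dvd_prod_of_mem (fun z : {z // z ∈ K} => c z.1 z.2) (Finset.mem_attach K ⟨x, hx⟩)
      rw [show d = c x hx * e from he, map_mul, mul_comm, mul_smul, hcz, smul_zero]
    | zero => rw [smul_zero]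
    | add _ _ _ _ ha hb => rw [smul_add, ha, hb, add_zero]
    | smul b x _ hx => rw [smul_comm, hx, smul_zero]
  refine ⟨f * g₁ * d, fun h => (Ideal.IsPrime.mem_or_mem inferInstance h).elim
    (fun h => (Ideal.IsPrime.mem_or_mem inferInstance h).elim hf hg₁) hd,
    ⟨g₁ * d, mul_assoc _ _ _⟩, (FiberBasis.injective_map_iff _ α).mpr fun x hx => ?_,
    flat_powers_of_dvd (map_dvd _ (dvd_mul_right _ d)) hCflat⟩
  have hz := hkill (LocalizedModule.mkLinearMap (Submonoid.powers g₀) (Fin r → B) x) (by
    rw [LinearMap.mem_ker, LocalizedModule.mkLinearMap_apply, LocalizedModule.map_mk, hx]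
    exact LocalizedModule.zero_mk 1)
  rw [← map_smul] at hz
  obtain ⟨⟨_, k, rfl⟩, hk'⟩ := (IsLocalizedModule.eq_zero_iff (Submonoid.powers g₀) _).mp hz
  refine ⟨algebraMap R B (f * g₁ * d) ^ (k + 1), ⟨k + 1, rfl⟩, ?_⟩
  rw [map_mul, show (algebraMap R B (f * g₁) * algebraMap R B d) ^ (k + 1) =
    (g₀ * algebraMap R B d ^ k) * (g₀ ^ k * algebraMap R B d) by ring, mul_smul,
    mul_smul (g₀ ^ k) _ x, show g₀ ^ k • algebraMap R B d • x = 0 from hk', smul_zero]

/-- The localization at an element of the base of a free module over an algebra. -/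
theorem exists_isLocalizedModule_pi {R B B' : Type u} [CommRing R] [CommRing B] [CommRing B'] [Algebra R B]
    [Algebra R B'] (T : Submonoid R) (ι : B →ₗ[R] B') [IsLocalizedModule T ι] (r : ℕ) :
    ∃ φ : (Fin r → B) →ₗ[R] (Fin r → B'), IsLocalizedModule T φ := by
  have h := IsLocalizedModule.of_linearEquiv T (Finsupp.mapRange.linearMap (α := Fin r) ι)
    (Finsupp.linearEquivFunOnFinite R B' (Fin r))
  have h' := IsLocalizedModule.of_linearEquiv_right T
    ((Finsupp.linearEquivFunOnFinite R B' (Fin r)).toLinearMap ∘ₗ Finsupp.mapRange.linearMap (α := Fin r) ι)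
    (Finsupp.linearEquivFunOnFinite R B (Fin r)).symm
  exact ⟨_, h'⟩

/-- A step of a dévissage after inverting an element of the base: the localized module is the product
of a free module over the localized smooth algebra and the next module. -/
theorem nonempty_equiv {R B M M' : Type u} [CommRing R] [CommRing B] [Algebra R B] [AddCommGroup M]
    [Module B M] [Module R M] [IsScalarTower R B M] [AddCommGroup M'] [Module R M'] {r : ℕ}
    (α : (Fin r → B) →ₗ[B] M) (π : M →ₗ[R] M') (hex : Function.Exact α π) (hπ : Function.Surjective π)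
    (f : R) (hinj : Function.Injective (LocalizedModule.map (Submonoid.powers (algebraMap R B f)) α))
    [Module.Projective (Localization.Away f) (LocalizedModule (Submonoid.powers f) M')] :
    Nonempty (LocalizedModule (Submonoid.powers f) M ≃ₗ[Localization.Away f]
      (Fin r → Localization (Algebra.algebraMapSubmonoid B (Submonoid.powers f))) ×
        LocalizedModule (Submonoid.powers f) M') := by
  let T := Submonoid.powers f
  let Rf := Localization.Away f
  let B' := Localization (Algebra.algebraMapSubmonoid B T)
  let α₀ := α.restrictScalars R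
  let u := LocalizedModule.map T α₀
  let v := LocalizedModule.map T π
  have hu : Function.Injective u := by
    refine (FiberBasis.injective_map_iff T α₀).mpr fun x hx => ?_
    obtain ⟨_, ⟨k, rfl⟩, hk⟩ := (FiberBasis.injective_map_iff _ α).mp hinj x hx
    exact ⟨f ^ k, ⟨k, rfl⟩, by rw [← algebraMap_smul B, map_pow]; exact hk⟩
  have hv : Function.Surjective v := LocalizedModule.map_surjective T π hπ
  have huv : Function.Exact u v := LocalizedModule.map_exact T α₀ π hex
  obtain ⟨s, hs⟩ := Module.projective_lifting_property v LinearMap.id hv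
  have hs' : ∀ x, v (s x) = x := fun x => LinearMap.congr_fun hs x
  haveI : IsLocalizedModule T (IsScalarTower.toAlgHom R B B').toLinearMap :=
    isLocalizedModule_iff_isLocalization.mpr inferInstance
  obtain ⟨φ, hφ⟩ := exists_isLocalizedModule_pi T (IsScalarTower.toAlgHom R B B').toLinearMap r
  haveI := hφ
  let e₀ := LinearEquiv.extendScalarsOfIsLocalization T Rf
    (IsLocalizedModule.iso T φ)
  let j := u.coprod s
  have hj : Function.Bijective j := by
    refine ⟨(injective_iff_map_eq_zero j).mpr fun x hx => ?_, fun y => ?_⟩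
    · obtain ⟨a, b⟩ := x
      have hb0 : b = 0 := by
        have := congrArg v hx
        simpa [j, hs', huv.apply_apply_eq_zero] using this
      subst hb0
      have : a = 0 := hu (by simpa [j] using hx)
      rw [this]; rfl
    · obtain ⟨a, ha⟩ := (huv (y - s (v y))).mp (by rw [map_sub, hs', sub_self])
      exact ⟨(a, v y), by simp [j, ha]⟩
  exact ⟨(LinearEquiv.ofBijective j hj).symm ≪≫ₗ e₀.prodCongr (LinearEquiv.refl _ _)⟩

end Groth.Agent.H7Flat.DevissageSpread
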