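import Groth.Prelude.Def_FlatCA
import Groth.Agent.H3CAlg.EtaleModel
import Groth.Agent.H9Hens.LocalHens
import Mathlib

/-!
Finitely many elements of the henselization of `A_p` come from an etale neighbourhood of `p` in `A`.
-/

set_option autoImplicit false
universe u

namespace Groth.Agent.H7Flat.EtaleNbhdHensel

open TensorProduct IsLocalRing

set_option backward.isDefEq.respectTransparency false
set_option maxHeartbeats 1000000
set_option synthInstance.maxHeartbeats 400000

variable {A : Type u} [CommRing A] (p : Ideal A) [p.IsPrime]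

/-- Elements outside `p`, ordered by divisibility. -/
def Idx : Type u := { u : A // u ∉ p }

instance : Preorder (Idx p) where
  le u v := u.1 ∣ v.1
  le_refl u := dvd_refl _
  le_trans _ _ _ h h' := h.trans h'

instance : IsDirected (Idx p) (· ≤ ·) :=
  ⟨fun u v => ⟨⟨u.1 * v.1, fun h => (Ideal.IsPrime.mem_or_mem inferInstance h).elim u.2 v.2⟩,
    dvd_mul_right _ _, dvd_mul_left _ _⟩⟩

instance : Nonempty (Idx p) :=
  ⟨⟨1, (Ideal.ne_top_iff_one p).mp (Ideal.IsPrime.ne_top inferInstance)⟩⟩

/-- An etale algebra over `A_p` comes from some `A_f`. -/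
theorem exists_etale_away (S : Type u) [CommRing S] [Algebra (Localization.AtPrime p) S]
    [Algebra A S] [IsScalarTower A (Localization.AtPrime p) S]
    [Algebra.Etale (Localization.AtPrime p) S] :
    ∃ (S₀ : Type u) (_ : CommRing S₀) (_ : Algebra A S₀) (_ : Algebra.Etale A S₀)
      (χ : S₀ →ₐ[A] S), ∀ y : S, ∃ c ∉ p, ∃ z : S₀, c • y = χ z := by
  let G : Idx p → Type u := fun u => Localization.Away u.1
  have hu : ∀ u : Idx p, IsUnit (algebraMap A (Localization.AtPrime p) u.1) := fun u =>
    IsLocalization.map_units (Localization.AtPrime p) (⟨u.1, u.2⟩ : p.primeCompl)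
  have huv : ∀ u v : Idx p, u ≤ v → IsUnit (algebraMap A (Localization.Away v.1) u.1) :=
    fun u v h => isUnit_of_dvd_unit (map_dvd _ h)
      (IsLocalization.Away.algebraMap_isUnit (S := Localization.Away v.1) v.1)
  let tf : ∀ u v : Idx p, u ≤ v → (G u →+* G v) := fun u v h =>
    IsLocalization.Away.lift (S := Localization.Away u.1) u.1 (huv u v h)
  let gg : ∀ u : Idx p, G u →+* Localization.AtPrime p := fun u =>
    IsLocalization.Away.lift (S := Localization.Away u.1) u.1 (hu u)
  have hg : ∀ u v (h : u ≤ v), (gg v).comp (tf u v h) = gg u := fun u v h =>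
    IsLocalization.ringHom_ext (Submonoid.powers u.1) (RingHom.ext fun a => by
      simp [gg, tf, G, IsLocalization.Away.lift_eq])
  have hsurj : ∀ x, ∃ u, ∃ y : G u, gg u y = x := by
    intro x
    obtain ⟨a, ⟨c, hc⟩, rfl⟩ := IsLocalization.exists_mk'_eq p.primeCompl x
    refine ⟨⟨c, hc⟩, IsLocalization.mk' (Localization.Away c) a
      (⟨c, Submonoid.mem_powers c⟩ : Submonoid.powers c), ?_⟩
    rw [IsLocalization.eq_mk'_iff_mul_eq, ← IsLocalization.Away.lift_eq (S := Localization.Away c) c
      (hu ⟨c, hc⟩) c, ← map_mul]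
    erw [IsLocalization.mk'_spec]
    exact IsLocalization.Away.lift_eq (S := Localization.Away c) c (hu ⟨c, hc⟩) a
  have hker : ∀ u (y : G u), gg u y = 0 → ∃ v, ∃ h : u ≤ v, tf u v h y = 0 := by
    intro u y hy
    obtain ⟨a, ⟨c, hc⟩, rfl⟩ := IsLocalization.exists_mk'_eq (Submonoid.powers u.1) y
    have ha : algebraMap A (Localization.AtPrime p) a = 0 := by
      rw [← IsLocalization.Away.lift_eq (S := Localization.Away u.1) u.1 (hu u) a,
        ← IsLocalization.mk'_spec (Localization.Away u.1) a (⟨c, hc⟩ : Submonoid.powers u.1),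
        map_mul]
      exact (congrArg (· * _) hy).trans (zero_mul _)
    obtain ⟨⟨w, hw⟩, hwa⟩ := (IsLocalization.map_eq_zero_iff p.primeCompl _ a).mp ha
    refine ⟨⟨u.1 * w, fun h => (Ideal.IsPrime.mem_or_mem inferInstance h).elim u.2 hw⟩,
      dvd_mul_right _ _, ?_⟩
    have h1 : IsUnit (algebraMap A (Localization.Away (u.1 * w)) w) :=
      isUnit_of_dvd_unit (map_dvd _ (dvd_mul_left w u.1))
        (IsLocalization.Away.algebraMap_isUnit (S := Localization.Away (u.1 * w)) (u.1 * w))
    have h2 : algebraMap A (Localization.Away (u.1 * w)) a = 0 := by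
      rw [← h1.mul_right_eq_zero, ← map_mul]
      simpa using congrArg (algebraMap A (Localization.Away (u.1 * w))) hwa
    have h3 : IsUnit (algebraMap A (Localization.Away u.1) c) :=
      IsLocalization.map_units (Localization.Away u.1) (⟨c, hc⟩ : Submonoid.powers u.1)
    apply (h3.map (tf u _ (dvd_mul_right _ _))).mul_left_eq_zero.mp
    rw [← map_mul]
    erw [IsLocalization.mk'_spec, IsLocalization.Away.lift_eq]
    exact h2
  obtain ⟨u, Bi, _, _, hBi, ⟨e⟩⟩ := Groth.Agent.H3CAlg.exists_etale_stage tf gg hg hsurj hker S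
  letI : Algebra (G u) (Localization.AtPrime p) := (gg u).toAlgebra
  letI : Algebra A (G u) := inferInstanceAs (Algebra A (Localization.Away u.1))
  haveI : IsScalarTower A (G u) (Localization.AtPrime p) := IsScalarTower.of_algebraMap_eq fun a =>
    (IsLocalization.Away.lift_eq (S := Localization.Away u.1) u.1 (hu u) a).symm
  letI : Algebra A Bi := ((algebraMap (G u) Bi).comp (algebraMap A (G u))).toAlgebra
  haveI : IsScalarTower A (G u) Bi := IsScalarTower.of_algebraMap_eq fun _ => rfl
  haveI : Algebra.Etale A (G u) :=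
    Algebra.Etale.of_isLocalizationAway (A := Localization.Away u.1) u.1
  haveI : Algebra.Etale A Bi := Algebra.Etale.comp A (G u) Bi
  let inc : Bi →ₐ[A] Localization.AtPrime p ⊗[G u] Bi :=
    (Algebra.TensorProduct.includeRight : Bi →ₐ[G u] Localization.AtPrime p ⊗[G u] Bi).restrictScalars A
  let χ : Bi →ₐ[A] S := (e.symm.toAlgHom.restrictScalars A).comp inc
  refine ⟨Bi, inferInstance, inferInstance, inferInstance, χ, fun y => ?_⟩
  obtain ⟨w, rfl⟩ := e.symm.surjective y
  induction w using TensorProduct.induction_on with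
  | zero =>
    exact ⟨1, (Ideal.ne_top_iff_one p).mp (Ideal.IsPrime.ne_top inferInstance), 0, by simp⟩
  | tmul x b =>
    obtain ⟨a, ⟨c, hc⟩, rfl⟩ := IsLocalization.exists_mk'_eq p.primeCompl x
    refine ⟨c, hc, a • b, ?_⟩
    rw [map_smul]
    change c • e.symm _ = a • e.symm ((1 : Localization.AtPrime p) ⊗ₜ[G u] b)
    rw [← algebraMap_smul (Localization.AtPrime p) c, ← algebraMap_smul (Localization.AtPrime p) a,
      ← map_smul, ← map_smul, smul_tmul', smul_tmul', smul_eq_mul, smul_eq_mul, mul_one,
      IsLocalization.mk'_spec'_mk]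
  | add w₁ w₂ h₁ h₂ =>
    obtain ⟨c₁, hc₁, z₁, hz₁⟩ := h₁
    obtain ⟨c₂, hc₂, z₂, hz₂⟩ := h₂
    refine ⟨c₁ * c₂, fun h => (Ideal.IsPrime.mem_or_mem inferInstance h).elim hc₁ hc₂,
      c₂ • z₁ + c₁ • z₂, ?_⟩
    rw [map_add, map_add, map_smul, map_smul, smul_add, ← hz₁, ← hz₂, smul_smul, smul_smul,
      mul_comm c₂ c₁]

/-- Finitely many elements of a henselization of `A_p` lie in the image of an etale neighbourhood
of `p`, whose point is the preimage of the maximal ideal. -/
theorem exists_etaleNhd_hitting (H : Type u) [CommRing H] [IsLocalRing H] [Algebra A H]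
    [Algebra (Localization.AtPrime p) H] [IsScalarTower A (Localization.AtPrime p) H]
    [IsLocalHom (algebraMap (Localization.AtPrime p) H)]
    [Hensel.IsHenselization (Localization.AtPrime p) H] (s : Finset H) :
    ∃ (G : Type u) (_ : CommRing G) (_ : Algebra A G) (ψ : G →ₐ[A] H),
      (∀ x ∈ s, x ∈ Set.range ψ) ∧ FlatCA.IsEtaleNhd A G p ((maximalIdeal H).comap ψ) := by
  classical
  obtain ⟨π, hπ⟩ := Groth.Agent.H9Hens.exists_isPtColim_of_isHenselization
    (R := Localization.AtPrime p) H
  obtain ⟨S, _, _, _, φ, y, hy⟩ := hπ.exists_rep_finset s id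
  letI : Algebra A S :=
    ((algebraMap (Localization.AtPrime p) S).comp (algebraMap A (Localization.AtPrime p))).toAlgebra
  haveI : IsScalarTower A (Localization.AtPrime p) S := IsScalarTower.of_algebraMap_eq fun _ => rfl
  obtain ⟨S₀, _, _, _, χ, hχ⟩ := exists_etale_away p S
  choose c hc z hz using hχ
  let C : A := ∏ x ∈ s, c (y x)
  have hC : C ∉ p := fun h => by
    obtain ⟨x, -, hx⟩ := Ideal.IsPrime.prod_mem_iff.mp h
    exact hc _ hx
  let ψ₀ : S₀ →ₐ[A] H := (φ.restrictScalars A).comp χ
  have hCu : IsUnit (algebraMap A H C) := by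
    rw [IsScalarTower.algebraMap_apply A (Localization.AtPrime p) H]
    exact (IsLocalization.map_units (Localization.AtPrime p) (⟨C, hC⟩ : p.primeCompl)).map _
  have hψC : IsUnit (ψ₀ (algebraMap A S₀ C)) := by rwa [ψ₀.commutes]
  let G := Localization.Away (algebraMap A S₀ C)
  haveI : Algebra.Etale S₀ G := Algebra.Etale.of_isLocalizationAway (algebraMap A S₀ C)
  haveI : Algebra.Etale A G := Algebra.Etale.comp A S₀ G
  let ψ : G →ₐ[A] H :=
    { IsLocalization.Away.lift (S := G) (algebraMap A S₀ C) (g := ψ₀.toRingHom) hψC with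
      commutes' := fun a => by
        change IsLocalization.Away.lift (S := G) (algebraMap A S₀ C) (g := ψ₀.toRingHom) hψC
          (algebraMap A G a) = _
        rw [IsScalarTower.algebraMap_apply A S₀ G, IsLocalization.Away.lift_eq]
        exact ψ₀.commutes a }
  have hψ : ∀ w, ψ (algebraMap S₀ G w) = ψ₀ w := fun w =>
    IsLocalization.Away.lift_eq (S := G) (algebraMap A S₀ C) (g := ψ₀.toRingHom) hψC w
  refine ⟨G, inferInstance, inferInstance, ψ, fun x hx => ?_, inferInstance, ?_⟩
  · obtain ⟨v, hv⟩ := Finset.dvd_prod_of_mem (fun x => c (y x)) hx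
    have hCG : IsUnit (algebraMap A G C) := by
      rw [IsScalarTower.algebraMap_apply A S₀ G]
      exact IsLocalization.Away.algebraMap_isUnit _
    refine ⟨hCG.unit⁻¹ * algebraMap S₀ G (v • z (y x)), hCu.mul_left_cancel ?_⟩
    rw [← ψ.commutes C, ← map_mul, ← mul_assoc, IsUnit.mul_val_inv, one_mul, hψ, map_smul,
      show ψ₀ (z (y x)) = φ (χ (z (y x))) from rfl, ← hz, show φ (c (y x) • y x) =
        c (y x) • φ (y x) from map_smul (φ.restrictScalars A) (c (y x)) (y x), hy x hx, smul_smul,
      mul_comm v, ← hv, Algebra.smul_def, ψ.commutes]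
    rfl
  · let t : Ideal G := (maximalIdeal H).comap ψ
    have htp : t.LiesOver p := ⟨by
      rw [Ideal.under]
      change p = ((maximalIdeal H).comap ψ.toRingHom).comap (algebraMap A G)
      rw [Ideal.comap_comap, AlgHom.toRingHom_eq_coe, AlgHom.comp_algebraMap,
        IsScalarTower.algebraMap_eq A (Localization.AtPrime p) H, ← Ideal.comap_comap,
        IsLocalRing.maximalIdeal_comap]
      exact (IsLocalization.AtPrime.under_maximalIdeal (Localization.AtPrime p) p).symm⟩
    refine ⟨htp, RingHom.injective _, fun k => ?_⟩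
    let rf := Ideal.ResidueField.mapₐ p t (Algebra.ofId A G) htp.over
    have hG : ∀ g : G, ∃ k', rf k' = algebraMap G t.ResidueField g := by
      intro g
      have hπs : Function.Surjective π := fun r => by
        obtain ⟨r, rfl⟩ := IsLocalRing.residue_surjective r
        exact ⟨algebraMap _ H r, π.commutes r⟩
      haveI := RingHom.ker_isMaximal_of_surjective π.toRingHom hπs
      have hker : RingHom.ker π.toRingHom = maximalIdeal H := IsLocalRing.eq_maximalIdeal inferInstance
      obtain ⟨r, hr⟩ := IsLocalRing.residue_surjective (π (ψ g))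
      obtain ⟨a, ⟨w, hw⟩, rfl⟩ := IsLocalization.exists_mk'_eq p.primeCompl r
      have hmem : g * algebraMap A G w - algebraMap A G a ∈ t := by
        change ψ (g * algebraMap A G w - algebraMap A G a) ∈ maximalIdeal H
        rw [← hker, RingHom.mem_ker, map_sub, map_mul, ψ.commutes, ψ.commutes]
        change π (ψ g * algebraMap A H w - algebraMap A H a) = 0
        rw [IsScalarTower.algebraMap_apply A (Localization.AtPrime p) H,
          IsScalarTower.algebraMap_apply A (Localization.AtPrime p) H, map_sub, map_mul,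
          π.commutes, π.commutes, ← hr]
        change residue _ _ * residue _ _ - residue _ _ = 0
        rw [← map_mul, IsLocalization.mk'_spec, sub_self]
      have hw0 : algebraMap A p.ResidueField w ≠ 0 :=
        mt Ideal.algebraMap_residueField_eq_zero.mp hw
      refine ⟨algebraMap A p.ResidueField a / algebraMap A p.ResidueField w, ?_⟩
      rw [map_div₀, rf.commutes, rf.commutes, div_eq_iff]
      · rw [IsScalarTower.algebraMap_apply A G t.ResidueField,
          IsScalarTower.algebraMap_apply A G t.ResidueField, ← map_mul, eq_comm, ← sub_eq_zero,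
          ← map_sub, Ideal.algebraMap_residueField_eq_zero]
        exact hmem
      · rw [← rf.commutes, ne_eq, map_eq_zero]
        exact hw0
    obtain ⟨g, h, -, rfl⟩ := IsFractionRing.div_surjective (G ⧸ t) k
    obtain ⟨g, rfl⟩ := Ideal.Quotient.mk_surjective g
    obtain ⟨h, rfl⟩ := Ideal.Quotient.mk_surjective h
    obtain ⟨k₁, hk₁⟩ := hG g
    obtain ⟨k₂, hk₂⟩ := hG h
    refine ⟨k₁ / k₂, ?_⟩
    rw [map_div₀, hk₁, hk₂]
    rfl

end Groth.Agent.H7Flat.EtaleNbhdHensel
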