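import Groth.Agent.H13AlgSp.DegreeStrata
import Groth.Agent.H18Et.FEtRestrictGamma
import Groth.Agent.H7Weight.Constructible
import Groth.Agent.H24Algz.NisCover

/-!
# Degrees of the fibres of separated flat locally quasi-finite morphisms

The rank of the ring of functions on a fibre over a field-valued point, and its comparison with
`H13AlgSp.Degree.deg` on quasi-compact open pieces.
-/

set_option autoImplicit false
set_option backward.isDefEq.respectTransparency false
set_option linter.style.haveILetI false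

universe u

open CategoryTheory CategoryTheory.Limits AlgebraicGeometry TopologicalSpace
open Groth.Agent.H13AlgSp.Degree

namespace Groth.Agent.H7Flat.FibreDegree

variable {K : Type u} [Field K] {A : Scheme.{u}}

/-- The dimension of the global functions of a scheme over a field. -/
noncomputable def rk (b : A ⟶ Spec (CommRingCat.of K)) : Cardinal.{u} :=
  letI := ((Scheme.ΓSpecIso (CommRingCat.of K)).inv ≫ b.appTop).hom.toAlgebra
  Module.rank K (Γ(A, ⊤) : Type u)

theorem rk_le_of_surjective {A' : Scheme.{u}} (b : A ⟶ Spec (CommRingCat.of K))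
    (b' : A' ⟶ Spec (CommRingCat.of K)) (r : A' ⟶ A) (h : r ≫ b = b') (hr : Function.Surjective r.appTop) :
    rk b' ≤ rk b := by
  subst h
  letI := ((Scheme.ΓSpecIso (CommRingCat.of K)).inv ≫ b.appTop).hom.toAlgebra
  letI := ((Scheme.ΓSpecIso (CommRingCat.of K)).inv ≫ (r ≫ b).appTop).hom.toAlgebra
  exact LinearMap.rank_le_of_surjective
    ({ r.appTop.hom with commutes' := fun _ => rfl } : Γ(A, ⊤) →ₐ[K] Γ(A', ⊤)).toLinearMap hr

theorem rk_eq_of_iso {A' : Scheme.{u}} (b : A ⟶ Spec (CommRingCat.of K))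
    (b' : A' ⟶ Spec (CommRingCat.of K)) (r : A' ⟶ A) [IsIso r] (h : r ≫ b = b') : rk b' = rk b :=
  le_antisymm (rk_le_of_surjective b b' r h (ConcreteCategory.bijective_of_isIso r.appTop).2)
    (rk_le_of_surjective b' b (inv r) (by rw [← h, IsIso.inv_hom_id_assoc])
      (ConcreteCategory.bijective_of_isIso (inv r).appTop).2)

theorem surjective_appTop_of_isClosed (O : A.Opens) (hO : IsClosed (O : Set A)) :
    Function.Surjective O.ι.appTop := by
  intro a
  let a' : Γ(A, O) := O.topIso.hom a
  let U : Bool → A.Opens := fun b => if b then O else ⟨(O : Set A)ᶜ, hO.isOpen_compl⟩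
  let sf : ∀ b, Γ(A, U b) := fun b => match b with
    | true => a'
    | false => 0
  have hcov : (⊤ : A.Opens) ≤ ⨆ b, U b := fun x _ => by
    by_cases hx : x ∈ O
    · exact Opens.mem_iSup.mpr ⟨true, hx⟩
    · exact Opens.mem_iSup.mpr ⟨false, hx⟩
  have hcomp : TopCat.Presheaf.IsCompatible A.sheaf.obj U sf := by
    intro i j
    by_cases hij : i = j
    · subst hij; rfl
    · have hbot : U i ⊓ U j = ⊥ := by
        refine Opens.ext (Set.eq_empty_iff_forall_notMem.mpr fun x hx => ?_)
        rcases i <;> rcases j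
        all_goals first
          | exact hij rfl
          | exact hx.1 hx.2
          | exact hx.2 hx.1
      exact (show Subsingleton Γ(A, U i ⊓ U j) by rw [hbot]; infer_instance).elim _ _
  obtain ⟨e, he, -⟩ := A.sheaf.existsUnique_gluing' U ⊤ (fun b => homOfLE le_top) hcov sf hcomp
  refine ⟨e, ?_⟩
  apply (ConcreteCategory.bijective_of_isIso O.topIso.hom).1
  refine Eq.trans ?_ (he true)
  simp only [Scheme.Opens.topIso_hom, Scheme.Opens.ι_appTop, ← ConcreteCategory.comp_apply,
    ← Functor.map_comp]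
  rfl

/-- A scheme with `d` clopen points has at least `d` linearly independent functions. -/
theorem card_le_rk (b : A ⟶ Spec (CommRingCat.of K)) {ι : Type u} [Fintype ι] (x : ι → A)
    (hinj : Function.Injective x) (hx : ∀ i, IsClopen ({x i} : Set A)) :
    (Fintype.card ι : Cardinal.{u}) ≤ rk b := by
  letI := ((Scheme.ΓSpecIso (CommRingCat.of K)).inv ≫ b.appTop).hom.toAlgebra
  choose e he heW using fun i => H18Et.FEtRestrictGamma.exists_idempotent_of_isClopen {x i} (hx i)
  have hne : ∀ i, e i ≠ 0 := fun i h => by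
    have := (heW i).symm ▸ (Set.mem_singleton (x i))
    rw [h, Scheme.basicOpen_zero] at this
    exact this
  have hmul : ∀ i j, i ≠ j → e i * e j = 0 := fun i j hij => by
    have hidem : IsIdempotentElem (e i * e j) := by
      show e i * e j * (e i * e j) = e i * e j
      rw [mul_mul_mul_comm, he, he]
    refine TopCat.Presheaf.section_ext A.sheaf ⊤ _ 0 fun y _ => ?_
    refine Eq.trans ?_ (map_zero (A.presheaf.germ ⊤ y trivial).hom).symm
    rcases IsLocalRing.isUnit_or_isUnit_one_sub_self (A.presheaf.germ ⊤ y trivial (e i * e j)) with hu | hu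
    · exfalso
      have hy : y ∈ A.basicOpen (e i * e j) := (A.mem_basicOpen_top _ y).2 hu
      rw [Scheme.basicOpen_mul] at hy
      have h1 : y ∈ (A.basicOpen (e i) : Set A) := hy.1
      have h2 : y ∈ (A.basicOpen (e j) : Set A) := hy.2
      rw [heW] at h1 h2
      exact hij (hinj (h1.symm.trans h2))
    · refine hu.mul_right_cancel ?_
      rw [zero_mul, mul_sub, mul_one]
      exact sub_eq_zero.2 (hidem.map (A.presheaf.germ ⊤ y trivial).hom).eq.symm
  have hli : LinearIndependent K e := by
    rw [Fintype.linearIndependent_iff]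
    intro c hc j
    have h1 := congrArg (· * e j) hc
    simp only [Finset.sum_mul, zero_mul, smul_mul_assoc] at h1
    rw [Finset.sum_eq_single j (fun i _ hij => by rw [hmul i j hij, smul_zero]) (by simp), he] at h1
    exact (smul_eq_zero.1 h1).resolve_right (hne j)
  show _ ≤ Module.rank K Γ(A, ⊤)
  simpa using hli.cardinal_le_rank

/-- For a finite scheme over a field the dimension is the rank of the morphism. -/
theorem rk_eq_finrank (b : A ⟶ Spec (CommRingCat.of K)) [IsFinite b] (x : Spec (CommRingCat.of K)) :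
    rk b = (b.finrank x : Cardinal.{u}) := by
  haveI : IsAffine A := isAffine_of_isAffineHom b
  obtain ⟨φ, hφ⟩ := Spec.map_surjective (A.isoSpec.inv ≫ b)
  rw [← rk_eq_of_iso b (Spec.map φ) A.isoSpec.inv hφ.symm,
    ← Scheme.Hom.finrank_comp_left_of_isIso A.isoSpec.inv b, ← hφ]
  have hf : φ.hom.Finite := by
    have h : IsFinite (Spec.map φ) := by rw [hφ]; infer_instance
    exact (IsFinite.SpecMap_iff φ).1 h
  letI := φ.hom.toAlgebra
  haveI : Module.Finite K Γ(A, ⊤) := hf
  have hφ' : Spec.map φ = Spec.map (CommRingCat.ofHom (algebraMap K Γ(A, ⊤))) := rfl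
  rw [hφ', Scheme.Hom.finrank_SpecMap_algebraMap,
    congrFun (Module.rankAtStalk_eq_finrank_of_free (R := K) (M := Γ(A, ⊤))) x, Pi.natCast_apply]
  show _ = ((Module.finrank K Γ(A, ⊤) : ℕ) : Cardinal.{u})
  rw [Module.finrank_eq_rank]
  letI := ((Scheme.ΓSpecIso (CommRingCat.of K)).inv ≫
    (Spec.map (CommRingCat.ofHom (algebraMap K Γ(A, ⊤)))).appTop).hom.toAlgebra
  refine (LinearEquiv.rank_eq
    (AlgEquiv.ofRingEquiv (f := (Scheme.ΓSpecIso Γ(A, ⊤)).commRingCatIsoToRingEquiv) fun r => ?_).toLinearEquiv)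
  refine (ConcreteCategory.congr_hom (Scheme.ΓSpecIso_naturality (CommRingCat.ofHom (algebraMap K Γ(A, ⊤))))
    ((Scheme.ΓSpecIso (CommRingCat.of K)).inv r)).trans ?_
  show (algebraMap K Γ(A, ⊤)) ((Scheme.ΓSpecIso (CommRingCat.of K)).hom ((Scheme.ΓSpecIso (CommRingCat.of K)).inv r)) = _
  rw [← ConcreteCategory.comp_apply, Iso.inv_hom_id]
  rfl

variable {W T : Scheme.{u}} (f : W ⟶ T)

/-- An open of the source with finite fibres over the base. -/
def Good (O : W.Opens) : Prop := ∀ t : T, ((O.ι ≫ f) ⁻¹' {t}).Finite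

/-- Finitely many points of a fibre lie in an open with finite fibres. -/
theorem exists_good [LocallyQuasiFinite f] (F : Set W) (hF : F.Finite) (t : T) (hFt : ∀ x ∈ F, f x = t) :
    ∃ O : W.Opens, F ⊆ O ∧ Good f O := by
  classical
  obtain ⟨V, hV, htV, -⟩ := exists_isAffineOpen_mem_and_subset (U := (⊤ : T.Opens)) (x := t) trivial
  have h : ∀ x : F, ∃ A : W.Opens, IsAffineOpen A ∧ x.1 ∈ A ∧ A ≤ f ⁻¹ᵁ V := fun x => by
    obtain ⟨A, hA, hxA, hAV⟩ := exists_isAffineOpen_mem_and_subset (U := f ⁻¹ᵁ V) (x := x.1)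
      (show f x.1 ∈ V by rw [hFt _ x.2]; exact htV)
    exact ⟨A, hA, hxA, hAV⟩
  choose A hA hxA hAV using h
  haveI := hF.to_subtype
  let O : W.Opens := ⨆ x : F, A x
  have hOV : O ≤ f ⁻¹ᵁ V := iSup_le hAV
  refine ⟨O, fun x hx => Opens.mem_iSup.2 ⟨⟨x, hx⟩, hxA _⟩, fun t' => ?_⟩
  haveI : CompactSpace O.toScheme := isCompact_iff_compactSpace.1 (by
    show IsCompact ((⨆ x : F, A x : W.Opens) : Set W)
    rw [Opens.coe_iSup]
    exact isCompact_iUnion fun x => (hA x).isCompact)
  let e := f.resLE V O hOV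
  haveI : IsAffine V.toScheme := hV
  haveI : QuasiCompact e := (quasiCompact_iff_compactSpace e).2 inferInstance
  haveI : LocallyQuasiFinite e := by
    haveI : LocallyQuasiFinite (e ≫ V.ι) := by rw [Scheme.Hom.resLE_comp_ι]; infer_instance
    exact LocallyQuasiFinite.of_comp e V.ι
  refine ((e.finite_preimage (s := V.ι ⁻¹' {t'}) ?_)).subset fun z hz => ?_
  · exact (Set.finite_singleton t').preimage V.ι.isOpenEmbedding.injective.injOn
  · show V.ι (e z) = t'
    rw [← Scheme.Hom.comp_apply, Scheme.Hom.resLE_comp_ι]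
    exact hz

variable {K : Type u} [Field K] (g : Spec (CommRingCat.of K) ⟶ T)

/-- The dimension of the functions of a good piece of a fibre is its degree. -/
theorem rk_piece [Flat f] [LocallyQuasiFinite f] [LocallyOfFiniteType f] {O : W.Opens} (hO : Good f O)
    (x : Spec (CommRingCat.of K)) :
    rk ((pullback.fst f g ⁻¹ᵁ O).ι ≫ pullback.snd f g) = (deg (O.ι ≫ f) (g x) : Cardinal.{u}) := by
  have sq : IsPullback (pullback.fst f g ∣_ O) ((pullback.fst f g ⁻¹ᵁ O).ι ≫ pullback.snd f g) (O.ι ≫ f) g :=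
    (isPullback_morphismRestrict (pullback.fst f g) O).paste_vert (IsPullback.of_hasPullback f g)
  have hfib := isFinite_fiber (O.ι ≫ f) (g x) (hO _)
  let b := (pullback.fst f g ⁻¹ᵁ O).ι ≫ pullback.snd f g
  haveI : Flat b := MorphismProperty.of_isPullback sq inferInstance
  haveI : LocallyQuasiFinite b := MorphismProperty.of_isPullback sq inferInstance
  haveI : LocallyOfFiniteType b := MorphismProperty.of_isPullback sq inferInstance
  haveI : IsFinite (b.fiberToSpecResidueField x) :=
    MorphismProperty.of_isPullback (isPullback_fiberToSpecResidueField_of_isPullback sq x) hfib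
  haveI : IsFinite b := by
    haveI : Finite (b ⁻¹' {x} : Set _) := by
      haveI : CompactSpace (b.fiber x) := QuasiCompact.compactSpace_of_compactSpace (b.fiberToSpecResidueField x)
      haveI : Finite (b.fiber x) := by
        have := (b.fiberToSpecResidueField x).finite_preimage (s := Set.univ) Set.finite_univ
        exact Set.finite_univ_iff.1 (by simpa using this)
      exact Finite.of_equiv _ (b.fiberHomeo x).toEquiv
    haveI : CompactSpace (pullback.fst f g ⁻¹ᵁ O).toScheme := by
      haveI : Finite (pullback.fst f g ⁻¹ᵁ O).toScheme := Set.finite_univ_iff.1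
        ((Set.toFinite (b ⁻¹' {x})).subset fun z _ => Subsingleton.elim _ _)
      exact Finite.compactSpace
    haveI : QuasiCompact b := (quasiCompact_iff_compactSpace b).2 inferInstance
    exact .of_locallyQuasiFinite _
  rw [rk_eq_finrank b x, ← deg_eq_finrank b x, deg_baseChange (O.ι ≫ f) sq x hfib]

/-- The dimension of the functions on a fibre is at least `d` iff some good piece has degree at least `d`. -/
theorem natCast_le_rk_iff [Flat f] [LocallyQuasiFinite f] [LocallyOfFiniteType f]
    (x : Spec (CommRingCat.of K)) (d : ℕ) :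
    (d : Cardinal.{u}) ≤ rk (pullback.snd f g) ↔ ∃ O : W.Opens, Good f O ∧ d ≤ deg (O.ι ≫ f) (g x) := by
  classical
  have hdisc : DiscreteTopology (pullback f g : Scheme.{u}) := by
    have h := (pullback.snd f g).isDiscrete_preimage_singleton x
    rw [show (pullback.snd f g ⁻¹' {x} : Set _) = Set.univ from
      Set.eq_univ_of_forall fun z => Subsingleton.elim _ _] at h
    exact isDiscrete_univ_iff.1 h
  constructor
  · intro h
    by_cases hfin : (f ⁻¹' {g x}).Finite
    · obtain ⟨O, hFO, hO⟩ := exists_good f _ hfin (g x) fun _ hz => hz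
      refine ⟨O, hO, ?_⟩
      have htop : pullback.fst f g ⁻¹ᵁ O = ⊤ := by
        refine top_le_iff.1 fun z _ => hFO ?_
        show f (pullback.fst f g z) = g x
        rw [← Scheme.Hom.comp_apply, pullback.condition, Scheme.Hom.comp_apply]
        exact congrArg _ (Subsingleton.elim _ _)
      haveI : IsIso (pullback.fst f g ⁻¹ᵁ O).ι := by
        rw [htop]; exact inferInstanceAs (IsIso (Scheme.topIso (pullback f g)).hom)
      rw [← rk_eq_of_iso (pullback.snd f g) _ (pullback.fst f g ⁻¹ᵁ O).ι rfl, rk_piece f g hO x] at h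
      exact_mod_cast h
    · obtain ⟨F, hFsub, hFcard⟩ := Set.Infinite.exists_subset_card_eq hfin d
      obtain ⟨O, hFO, hO⟩ := exists_good f (F : Set W) F.finite_toSet (g x) fun z hz => hFsub hz
      refine ⟨O, hO, ?_⟩
      haveI : DiscreteTopology (pullback.fst f g ⁻¹ᵁ O).toScheme :=
        (pullback.fst f g ⁻¹ᵁ O).ι.isEmbedding.discreteTopology
      have hlift : ∀ z : F, ∃ p : (pullback.fst f g ⁻¹ᵁ O).toScheme, pullback.fst f g p.1 = z.1 := fun z => by
        obtain ⟨p, hp, -⟩ := Scheme.Pullback.exists_preimage_pullback z.1 x (hFsub z.2)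
        exact ⟨⟨p, show pullback.fst f g p ∈ O from hp ▸ hFO z.2⟩, hp⟩
      choose p hp using hlift
      have hcard := card_le_rk ((pullback.fst f g ⁻¹ᵁ O).ι ≫ pullback.snd f g) p
        (fun a b h => Subtype.ext (by rw [← hp a, ← hp b, h]))
        (fun z => isClopen_discrete _)
      rw [rk_piece f g hO x, Fintype.card_coe, hFcard] at hcard
      exact_mod_cast hcard
  · rintro ⟨O, hO, hd⟩
    refine le_trans ?_ (rk_le_of_surjective (pullback.snd f g) _ (pullback.fst f g ⁻¹ᵁ O).ι rfl
      (surjective_appTop_of_isClosed _ (isClosed_discrete _)))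
    rw [rk_piece f g hO x]
    exact_mod_cast hd

theorem finite_of_rk_le [Flat f] [LocallyQuasiFinite f] [LocallyOfFiniteType f] (t : T) (n : ℕ)
    (h : rk (pullback.snd f (T.fromSpecResidueField t)) ≤ (n : Cardinal.{u})) : (f ⁻¹' {t}).Finite := by
  classical
  by_contra hinf
  obtain ⟨F, hFsub, hFcard⟩ := Set.Infinite.exists_subset_card_eq hinf (n + 1)
  let g := T.fromSpecResidueField t
  have hdisc : DiscreteTopology (pullback f g : Scheme.{u}) := by
    have h := (pullback.snd f g).isDiscrete_preimage_singleton (IsLocalRing.closedPoint _)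
    rw [show (pullback.snd f g ⁻¹' {IsLocalRing.closedPoint (T.residueField t)} : Set _) = Set.univ from
      Set.eq_univ_of_forall fun z => Subsingleton.elim _ _] at h
    exact isDiscrete_univ_iff.1 h
  have hlift : ∀ z : F, ∃ p : (pullback f g : Scheme.{u}), pullback.fst f g p = z.1 := fun z => by
    obtain ⟨p, hp, -⟩ := Scheme.Pullback.exists_preimage_pullback z.1 (IsLocalRing.closedPoint (T.residueField t))
      ((hFsub z.2).trans (Scheme.fromSpecResidueField_apply t _).symm)
    exact ⟨p, hp⟩
  choose p hp using hlift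
  have hcard := (card_le_rk (K := T.residueField t) (pullback.snd f g) p
    (fun a b h => Subtype.ext (by rw [← hp a, ← hp b, h])) (fun z => isClopen_discrete _)).trans h
  rw [Fintype.card_coe, hFcard, Nat.cast_le] at hcard
  omega

/-- Near each point the degree is constant on a constructible set. -/
theorem exists_constructible_deg_const [Flat f] [LocallyOfFinitePresentation f] [IsSeparated f]
    [LocallyQuasiFinite f] [QuasiCompact f] [CompactSpace T] [QuasiSeparatedSpace T] (t : T) :
    ∃ E : Set T, Topology.IsConstructible E ∧ t ∈ E ∧ ∀ y ∈ E, deg f y = deg f t := by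
  have hfin : ∀ t : T, (f ⁻¹' {t}).Finite := fun t => f.finite_preimage_singleton t
  obtain ⟨V, g, hg, v, O, hgv, hO, hall⟩ := exists_etale_all f t (hfin t)
  haveI := hg
  haveI := hO
  let f' := pullback.snd f g
  have hff : ∀ v' : V, IsFinite (f'.fiberToSpecResidueField v') := fun v' =>
    MorphismProperty.of_isPullback
      (isPullback_fiberToSpecResidueField_of_isPullback (IsPullback.of_hasPullback f g) v')
      (isFinite_fiber f _ (hfin _))
  have hbc : ∀ v' : V, deg f' v' = deg f (g v') := fun v' =>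
    deg_baseChange f (IsPullback.of_hasPullback f g) v' (isFinite_fiber f _ (hfin _))
  have hv : (O.ι ≫ f').finrank v = deg f t := by
    rw [((finrank_open_le f' O v (hff v)).2).2 hall, hbc, hgv]
  haveI : LocallyOfFinitePresentation f' := MorphismProperty.pullback_snd _ _ inferInstance
  haveI : QuasiCompact f' := MorphismProperty.pullback_snd _ _ inferInstance
  haveI : IsSeparated f' := MorphismProperty.pullback_snd _ _ inferInstance
  obtain ⟨V₁, hV₁, hvV₁, hV₁sub⟩ := exists_isAffineOpen_mem_and_subset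
    (U := ⟨_, (Scheme.Hom.isLocallyConstant_finrank (O.ι ≫ f')).isOpen_fiber (deg f t)⟩) (x := v) hv
  haveI : IsAffine V₁.toScheme := hV₁
  let f₁ := f' ∣_ V₁
  haveI : LocallyOfFinitePresentation f₁ := IsZariskiLocalAtTarget.restrict (P := @LocallyOfFinitePresentation) inferInstance V₁
  haveI : QuasiCompact f₁ := IsZariskiLocalAtTarget.restrict (P := @QuasiCompact) inferInstance V₁
  haveI : IsSeparated f₁ := IsZariskiLocalAtTarget.restrict (P := @IsSeparated) inferInstance V₁
  haveI : CompactSpace (f' ⁻¹ᵁ V₁).toScheme := QuasiCompact.compactSpace_of_compactSpace f₁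
  haveI : QuasiSeparatedSpace (f' ⁻¹ᵁ V₁).toScheme := quasiSeparatedSpace_of_quasiSeparated f₁
  let O₁ : (f' ⁻¹ᵁ V₁).toScheme.Opens := (f' ⁻¹ᵁ V₁).ι ⁻¹ᵁ O
  have hO₁ : IsCompact (O₁ : Set (f' ⁻¹ᵁ V₁).toScheme) := by
    rw [(f' ⁻¹ᵁ V₁).ι.isOpenEmbedding.isInducing.isCompact_iff]
    have h1 := ((O.ι ≫ f').isCompact_preimage (U := V₁) hV₁.isCompact).image O.ι.continuous
    convert! h1 using 1
    ext y
    constructor
    · rintro ⟨z, hz, rfl⟩
      exact ⟨⟨z.1, hz⟩, z.2, rfl⟩
    · rintro ⟨z, hz, rfl⟩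
      exact ⟨⟨z.1, hz⟩, z.2, rfl⟩
  let E₁ : Set V₁.toScheme := (f₁ '' (O₁ : Set (f' ⁻¹ᵁ V₁).toScheme)ᶜ)ᶜ
  have hE₁ : Topology.IsConstructible E₁ :=
    (f₁.isConstructible_image ((hO₁.isConstructible O₁.2).compl)).compl
  let g₁ := V₁.ι ≫ g
  haveI : QuasiCompact g₁ := quasiCompact_of_compactSpace g₁
  refine ⟨g₁ '' E₁, g₁.isConstructible_image hE₁, ⟨⟨v, hvV₁⟩, ?_, hgv⟩, ?_⟩
  · rintro ⟨z, hz, hzv⟩
    exact hz (hall z.1 ((morphismRestrict_base_coe f' V₁ z).symm.trans (congrArg Subtype.val hzv)))
  · rintro _ ⟨v', hv', rfl⟩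
    have hall' : ∀ z, f' z = v'.1 → z ∈ O := fun z hz => by
      by_contra hzO
      exact hv' ⟨⟨z, show f' z ∈ V₁ from hz ▸ v'.2⟩, hzO,
        Subtype.ext ((morphismRestrict_base_coe f' V₁ _).trans hz)⟩
    show deg f (g v'.1) = deg f t
    rw [← hbc, ← ((finrank_open_le f' O v'.1 (hff v'.1)).2).2 hall']
    exact hV₁sub v'.2

/-- The levels of the degree are retrocompact. -/
theorem isRetrocompact_deg_eq [Flat f] [LocallyOfFinitePresentation f] [IsSeparated f]
    [LocallyQuasiFinite f] [QuasiCompact f] (r : ℕ) : IsRetrocompact {t : T | deg f t = r} := by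
  intro U hUc hUo
  obtain ⟨S, hS, hSeq⟩ := isCompact_iff_finite_and_eq_biUnion_affineOpens.1
    (show IsCompact ((⟨U, hUo⟩ : T.Opens) : Set T) from hUc)
  have hU : U = ⋃ V ∈ S, ((V : T.Opens) : Set T) := by
    have := congrArg (fun O : T.Opens => (O : Set T)) hSeq
    simpa using this
  rw [hU, Set.inter_iUnion₂]
  refine hS.isCompact_biUnion fun V _ => ?_
  haveI : IsAffine V.1.toScheme := V.2
  let f₁ := f ∣_ V.1
  haveI : Flat f₁ := IsZariskiLocalAtTarget.restrict (P := @Flat) inferInstance V.1
  haveI : LocallyOfFinitePresentation f₁ := IsZariskiLocalAtTarget.restrict (P := @LocallyOfFinitePresentation) inferInstance V.1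
  haveI : QuasiCompact f₁ := IsZariskiLocalAtTarget.restrict (P := @QuasiCompact) inferInstance V.1
  haveI : IsSeparated f₁ := IsZariskiLocalAtTarget.restrict (P := @IsSeparated) inferInstance V.1
  haveI : LocallyQuasiFinite f₁ := MorphismProperty.of_isPullback (isPullback_morphismRestrict f V.1).flip inferInstance
  have hdeg : ∀ v : V.1, deg f₁ v = deg f v.1 := fun v =>
    deg_baseChange f (isPullback_morphismRestrict f V.1).flip v (isFinite_fiber f _ (f.finite_preimage_singleton _))
  have hc := (H7Weight.levels_of_locally_const (T := V.1.toScheme) (deg f₁)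
    (exists_constructible_deg_const f₁)).2 r
  have hcpt := (H24Algz.isCompact_of_isConstructible hc).image V.1.ι.continuous
  convert! hcpt using 1
  ext t
  constructor
  · rintro ⟨ht, htV⟩
    exact ⟨⟨t, htV⟩, (hdeg _).trans ht, rfl⟩
  · rintro ⟨v, hv, rfl⟩
    exact ⟨(hdeg v).symm.trans hv, v.2⟩

end Groth.Agent.H7Flat.FibreDegree
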