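import Groth.Agent.H7Flat.PushoutPairs
import Mathlib.AlgebraicGeometry.Morphisms.Integral
import Mathlib.RingTheory.Artinian.Module
import Mathlib.RingTheory.Artinian.Ring
import Mathlib.RingTheory.IntegralClosure.Algebra.Basic
import Mathlib.RingTheory.Ideal.GoingUp
import Mathlib.RingTheory.TensorProduct.Basic

/-!
# Existence of adapted pairs of affine opens for a closed immersion and an integral morphism
-/

set_option autoImplicit false
set_option backward.isDefEq.respectTransparency false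
set_option linter.style.haveILetI false

universe u

open CategoryTheory AlgebraicGeometry Limits TopologicalSpace Opposite
open scoped TensorProduct

namespace Groth.Agent.H7Flat

/-- An ideal generating the unit ideal in an integral algebra over a field contains an element mapping to a
unit. -/
theorem exists_mem_isUnit_map {k M C : Type*} [Field k] [CommRing M] [Algebra k M] [Algebra.IsIntegral k M]
    [CommRing C] (φ : C →+* M) (K : Ideal C) (hK : K.map φ = ⊤) : ∃ c ∈ K, IsUnit (φ c) := by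
  classical
  obtain ⟨G, hG⟩ : ∃ G : Finset C, ↑G ⊆ (K : Set C) ∧ (Ideal.span (φ '' ↑G)) = ⊤ := by
    have h1 : (1 : M) ∈ Submodule.span M (φ '' (K : Set C)) := by
      show (1 : M) ∈ Ideal.span (φ '' (K : Set C))
      rw [show Ideal.span (φ '' (K : Set C)) = K.map φ from rfl, hK]; trivial
    obtain ⟨T, hT, h1T⟩ := Submodule.mem_span_finite_of_mem_span h1
    choose g hg hgT using fun t : T => hT t.2
    refine ⟨Finset.univ.image g, ?_, (Ideal.eq_top_iff_one _).2 (Submodule.span_mono ?_ h1T)⟩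
    · simp only [Finset.coe_image, Finset.coe_univ, Set.image_univ]
      rintro _ ⟨t, rfl⟩; exact hg t
    · intro t ht
      exact ⟨g ⟨t, ht⟩, by simp, hgT ⟨t, ht⟩⟩
  let S : Subalgebra k M := Algebra.adjoin k (φ '' ↑G)
  haveI : Module.Finite k S := by
    refine (Module.Finite.iff_fg (N := Subalgebra.toSubmodule S)).2 ?_
    exact fg_adjoin_of_finite (G.finite_toSet.image _) fun x _ => Algebra.IsIntegral.isIntegral x
  haveI : IsArtinianRing S := IsArtinianRing.of_finite k S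
  haveI : Algebra.IsIntegral S M :=
    ⟨fun x => IsIntegral.tower_top (R := k) (Algebra.IsIntegral.isIntegral x)⟩
  let C₀ : Subring C := Subring.closure ↑G
  have hmem : ∀ c : C₀, φ c ∈ S := by
    rintro ⟨c, hc⟩
    have : C₀ ≤ S.toSubring.comap φ :=
      Subring.closure_le.2 fun g hg => Algebra.subset_adjoin ⟨g, hg, rfl⟩
    exact this hc
  let ψ : C₀ →+* S := (φ.comp C₀.subtype).codRestrict S hmem
  let J : Ideal C₀ := Ideal.span ((↑) ⁻¹' (G : Set C))
  have hJK : ∀ c ∈ J, (c : C) ∈ K := fun c hc => by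
    have : J ≤ K.comap C₀.subtype := Ideal.span_le.2 fun g hg => hG.1 hg
    exact this hc
  haveI : Finite (MaximalSpectrum S) := inferInstance
  have hbad : ∀ m : MaximalSpectrum S, ¬ J ≤ m.asIdeal.comap ψ := by
    intro m hle
    haveI := m.isMaximal.isPrime
    obtain ⟨Q, hQP, hQ⟩ := Ideal.exists_ideal_over_prime_of_isIntegral (R := S) (S := M) m.asIdeal
      (⊥ : Ideal M) (by
        intro x hx
        have : x = 0 := Subtype.ext (by simpa using hx)
        rw [this]; exact zero_mem _)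
    obtain ⟨hQprime, hQc⟩ := hQ
    refine hQprime.ne_top (top_le_iff.1 (hG.2.ge.trans (Ideal.span_le.2 ?_)))
    rintro _ ⟨g, hg, rfl⟩
    have hgm : ψ ⟨g, Subring.subset_closure hg⟩ ∈ m.asIdeal := hle (Ideal.subset_span hg)
    rw [← hQc] at hgm
    exact hgm
  haveI := Fintype.ofFinite (MaximalSpectrum S)
  obtain ⟨c, hcJ, hc⟩ : ∃ c ∈ J, ∀ m : MaximalSpectrum S, c ∉ m.asIdeal.comap ψ := by
    by_contra hne
    push Not at hne
    rcases isEmpty_or_nonempty (MaximalSpectrum S) with he | ⟨⟨m₀⟩⟩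
    · obtain ⟨m, -⟩ := hne 0 (zero_mem _)
      exact he.false m
    let I : MaximalSpectrum S → Ideal C₀ := fun m => m.asIdeal.comap ψ
    have hsub : (J : Set C₀) ⊆ ⋃ m ∈ (↑(Finset.univ : Finset (MaximalSpectrum S)) : Set (MaximalSpectrum S)), (I m : Set C₀) :=
      fun c hc => by
        obtain ⟨m, hm⟩ := hne c hc
        exact Set.mem_iUnion₂.2 ⟨m, Finset.mem_coe.2 (Finset.mem_univ m), hm⟩
    obtain ⟨m, -, hm⟩ := (Ideal.subset_union_prime m₀ m₀ (fun m _ _ _ => by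
      haveI := m.isMaximal.isPrime; exact Ideal.IsPrime.comap ψ)).1 hsub
    exact hbad m hm
  refine ⟨c, hJK c hcJ, ?_⟩
  have : IsUnit (ψ c) := by
    by_contra hu
    obtain ⟨m, hm, hmc⟩ := exists_max_ideal_of_mem_nonunits (show ψ c ∈ nonunits S from hu)
    exact hc ⟨m, hm⟩ hmc
  exact this.map S.val

/-- Ring level shrinking: a fibre of `B → C₁` lies in a basic open of `C` inside `Spec C₁`. -/
theorem exists_mem_avoid_fibre {B C C₁ : Type u} [CommRing B] [CommRing C] [CommRing C₁] (g : B →+* C₁)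
    (hg : g.IsIntegral) (f : C →+* C₁) (K : Ideal C) (hK : K.map f = ⊤) (P : PrimeSpectrum B) :
    ∃ c ∈ K, ∃ b, b ∉ P.asIdeal ∧ PrimeSpectrum.basicOpen (g b) ≤ PrimeSpectrum.basicOpen (f c) := by
  letI := g.toAlgebra
  haveI : Algebra.IsIntegral B C₁ := ⟨hg⟩
  let kP := P.asIdeal.ResidueField
  let M := kP ⊗[B] C₁
  haveI : Algebra.IsIntegral kP M := inferInstance
  let ι : C₁ →+* M := (Algebra.TensorProduct.includeRight (R := B) (A := kP) (B := C₁)).toRingHom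
  obtain ⟨c, hc, hunit⟩ := exists_mem_isUnit_map (k := kP) (ι.comp f) K
    (by rw [← Ideal.map_map, hK, Ideal.map_top])
  refine ⟨c, hc, ?_⟩
  have hnot : P ∉ PrimeSpectrum.comap g '' PrimeSpectrum.zeroLocus {f c} := by
    rintro ⟨Q, hQ, rfl⟩
    have hQc : f c ∈ Q.asIdeal := hQ rfl
    let τ : kP →ₐ[B] Q.asIdeal.ResidueField :=
      Ideal.ResidueField.mapₐ _ Q.asIdeal (Algebra.ofId B C₁) rfl
    let σ : M →ₐ[B] Q.asIdeal.ResidueField :=
      Algebra.TensorProduct.lift τ (IsScalarTower.toAlgHom B C₁ _) fun _ _ => Commute.all _ _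
    have h0 : σ (ι (f c)) = 0 := by
      show σ (Algebra.TensorProduct.includeRight (f c)) = 0
      rw [Algebra.TensorProduct.includeRight_apply, Algebra.TensorProduct.lift_tmul, map_one, one_mul]
      exact Ideal.algebraMap_residueField_eq_zero.2 hQc
    have := hunit.map σ.toRingHom
    rw [show σ.toRingHom ((ι.comp f) c) = 0 from h0] at this
    exact not_isUnit_zero this
  have hclosed : IsClosed (PrimeSpectrum.comap g '' PrimeSpectrum.zeroLocus {f c}) :=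
    PrimeSpectrum.isClosedMap_comap_of_isIntegral g hg _ (PrimeSpectrum.isClosed_zeroLocus _)
  obtain ⟨_, ⟨b, rfl⟩, hb, hbsub⟩ :=
    PrimeSpectrum.isTopologicalBasis_basic_opens.exists_subset_of_mem_open
      (show P ∈ (PrimeSpectrum.comap g '' PrimeSpectrum.zeroLocus {f c})ᶜ from hnot) hclosed.isOpen_compl
  refine ⟨b, hb, fun Q hQ hQc => hbsub (show b ∉ (PrimeSpectrum.comap g Q).asIdeal from hQ) ⟨Q, ?_, rfl⟩⟩
  exact Set.singleton_subset_iff.2 hQc

variable {X Y Z : Scheme.{u}} (i : Z ⟶ X) (j : Z ⟶ Y) [IsClosedImmersion i] [IsIntegralHom j]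

/-- Adapted pairs exist around every point of `Y`. -/
theorem exists_adapted_pair (h : ∀ y : Y, ∃ U : X.Opens, IsAffineOpen U ∧ j ⁻¹' {y} ⊆ i ⁻¹' (U : Set X))
    (y : Y) : ∃ π : AP i j, y ∈ π.V := by
  obtain ⟨U₀, hU₀, hsub⟩ := h y
  let W₀ : Z.Opens := i ⁻¹ᵁ U₀
  have hW₀ : IsAffineOpen W₀ := hU₀.preimage i
  have hclosed : IsClosed (j '' (W₀ : Set Z)ᶜ) := j.isClosedMap _ W₀.2.isClosed_compl
  obtain ⟨V₁, hV₁, hyV₁, hV₁sub⟩ := exists_isAffineOpen_mem_and_subset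
    (U := ⟨(j '' (W₀ : Set Z)ᶜ)ᶜ, hclosed.isOpen_compl⟩) (x := y)
    (by rintro ⟨z, hz, hzy⟩; exact hz (hsub hzy))
  let W₁ : Z.Opens := j ⁻¹ᵁ V₁
  have hW₁ : IsAffineOpen W₁ := hV₁.preimage j
  have hle : W₁ ≤ W₀ := fun z hz => by
    by_contra hzn
    exact hV₁sub hz ⟨z, hzn, rfl⟩
  let f : Γ(Z, W₀) →+* Γ(Z, W₁) := (Z.presheaf.map (homOfLE hle).op).hom
  let g : Γ(Y, V₁) →+* Γ(Z, W₁) := (j.app V₁).hom
  obtain ⟨K, hK⟩ := (PrimeSpectrum.isClosed_iff_zeroLocus_ideal _).1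
    (hW₀.fromSpec ⁻¹ᵁ W₁).2.isClosed_compl
  have hKf : K.map f = ⊤ := by
    by_contra hne
    obtain ⟨m, hm, hle'⟩ := Ideal.exists_le_maximal _ hne
    let Q : PrimeSpectrum Γ(Z, W₁) := ⟨m, hm.isPrime⟩
    have h1 : hW₀.fromSpec (PrimeSpectrum.comap f Q) ∈ W₁ := by
      rw [show hW₀.fromSpec (PrimeSpectrum.comap f Q) = hW₁.fromSpec Q from
        congrArg (fun m : Spec _ ⟶ Z => m Q) (hW₀.map_fromSpec hW₁ (homOfLE hle).op)]
      exact hW₁.range_fromSpec.le ⟨Q, rfl⟩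
    have h2 : PrimeSpectrum.comap f Q ∈ PrimeSpectrum.zeroLocus (K : Set Γ(Z, W₀)) :=
      fun x hx => hle' (Ideal.mem_map_of_mem f hx)
    exact (hK.ge h2 : _) h1
  obtain ⟨c, hc, b, hb, hbc⟩ := exists_mem_avoid_fibre g (j.isIntegral_app V₁ hV₁) f K hKf
    (hV₁.primeIdealOf ⟨y, hyV₁⟩)
  -- the open `D(c)` of `W₀` lies in `W₁`
  have hcW : Z.basicOpen c ≤ W₁ := fun z hz => by
    obtain ⟨P, rfl⟩ := hW₀.range_fromSpec.ge (Z.basicOpen_le c hz : z ∈ W₀)
    have hP : P ∈ hW₀.fromSpec ⁻¹ᵁ Z.basicOpen c := hz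
    rw [hW₀.fromSpec_preimage_basicOpen] at hP
    by_contra hn
    exact hP ((hK.le hn : P ∈ PrimeSpectrum.zeroLocus (K : Set Γ(Z, W₀))) hc)
  have hjb : j ⁻¹ᵁ Y.basicOpen b ≤ Z.basicOpen c := by
    rw [Scheme.preimage_basicOpen]
    intro z hz
    obtain ⟨Q, rfl⟩ := hW₁.range_fromSpec.ge (Z.basicOpen_le _ hz : z ∈ W₁)
    have hQ : Q ∈ hW₁.fromSpec ⁻¹ᵁ Z.basicOpen (g b) := hz
    rw [hW₁.fromSpec_preimage_basicOpen] at hQ
    have h3 : Q ∈ hW₁.fromSpec ⁻¹ᵁ Z.basicOpen (f c) := by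
      rw [hW₁.fromSpec_preimage_basicOpen]; exact hbc hQ
    have h4 : hW₁.fromSpec Q ∈ Z.basicOpen (Z.presheaf.map (homOfLE hle).op c) := h3
    rw [Scheme.basicOpen_res] at h4
    exact h4.2
  -- rewrite `j^* b` on `D(c)` as a fraction
  letI := (Z.presheaf.map (homOfLE (Z.basicOpen_le c)).op).hom.toAlgebra
  haveI : IsLocalization.Away c Γ(Z, Z.basicOpen c) := hW₀.isLocalization_of_eq_basicOpen _ _ rfl
  let s : Γ(Z, Z.basicOpen c) := Z.presheaf.map (homOfLE hcW).op (g b)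
  obtain ⟨n, d, hd⟩ := IsLocalization.Away.surj c s
  have hcd : Z.basicOpen (c * d) = j ⁻¹ᵁ Y.basicOpen b := by
    have h1 : Z.basicOpen s = Z.basicOpen c ⊓ j ⁻¹ᵁ Y.basicOpen b := by
      rw [Scheme.preimage_basicOpen]; exact Scheme.basicOpen_res Z _ _
    have hu : IsUnit (algebraMap Γ(Z, W₀) Γ(Z, Z.basicOpen c) c ^ n) :=
      (IsLocalization.Away.algebraMap_isUnit c).pow n
    have h2 : Z.basicOpen (algebraMap Γ(Z, W₀) Γ(Z, Z.basicOpen c) d) = Z.basicOpen s := by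
      rw [← hd, Scheme.basicOpen_mul, Scheme.basicOpen_of_isUnit Z hu]
      exact inf_eq_left.2 (Z.basicOpen_le s)
    have h3 : Z.basicOpen (algebraMap Γ(Z, W₀) Γ(Z, Z.basicOpen c) d) = Z.basicOpen c ⊓ Z.basicOpen d :=
      Scheme.basicOpen_res Z _ _
    rw [Scheme.basicOpen_mul, ← h3, h2, h1, inf_eq_right.2 hjb]
  obtain ⟨a, ha⟩ := i.app_surjective U₀ hU₀ (c * d)
  refine ⟨⟨X.basicOpen a, Y.basicOpen b, hU₀.basicOpen a, hV₁.basicOpen b, ?_⟩, ?_⟩
  · rw [Scheme.preimage_basicOpen, ha]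
    exact hcd
  · have : hV₁.primeIdealOf ⟨y, hyV₁⟩ ∈ hV₁.fromSpec ⁻¹ᵁ Y.basicOpen b := by
      rw [hV₁.fromSpec_preimage_basicOpen]; exact hb
    rw [show (y : Y) = hV₁.fromSpec (hV₁.primeIdealOf ⟨y, hyV₁⟩) from (hV₁.fromSpec_primeIdealOf ⟨y, hyV₁⟩).symm]
    exact this

end Groth.Agent.H7Flat
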