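import Groth.Agent.H7Flat.PushoutGlobal
import Mathlib.RingTheory.Artinian.Module
import Mathlib.RingTheory.IntegralClosure.Algebra.Basic

/-!
# Cartesianness and integrality of glued pushouts, and existence of adapted pairs
-/

set_option autoImplicit false
set_option backward.isDefEq.respectTransparency false
set_option backward.defeqAttrib.useBackward true
set_option linter.style.haveILetI false

universe u

open CategoryTheory AlgebraicGeometry Limits TopologicalSpace Opposite

namespace Groth.Agent.H7Flat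

variable {X Y Z : Scheme.{u}} {i : Z ⟶ X} {j : Z ⟶ Y} [IsClosedImmersion i]

/-- Ring level: maps out of `A'` and `B` agreeing on `R` kill the kernel of `A' → A`. -/
theorem RingSq.ker_le {R A' B A S : Type u} [CommRing R] [CommRing A'] [CommRing B] [CommRing A] [CommRing S]
    {pa : R →+* A'} {pb : R →+* B} {p : A' →+* A} {q : B →+* A} (h : RingSq pa pb p q)
    (u : A' →+* S) (v : B →+* S) (huv : u.comp pa = v.comp pb) : RingHom.ker p ≤ RingHom.ker u := by
  intro x hx
  obtain ⟨z, hz1, hz2⟩ := h.exists_lift x 0 (by rw [map_zero]; exact hx)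
  have := RingHom.congr_fun huv z
  rw [RingHom.comp_apply, RingHom.comp_apply, hz1, hz2, map_zero] at this
  exact this

variable (hcov : ∀ y : Y, ∃ π : AP i j, y ∈ π.V)
include hcov

theorem exists_local_lift {T : Scheme.{u}} (k : T ⟶ X) (l : T ⟶ Y) (w : k ≫ inX hcov = l ≫ inY hcov)
    (π : AP i j) (O : T.Opens) (hO : IsAffineOpen O) (hk : O ≤ k ⁻¹ᵁ π.U) :
    ∃ m : Spec Γ(T, O) ⟶ Z, m ≫ i = hO.fromSpec ≫ k := by
  have hrk : Set.range (hO.fromSpec ≫ k) ⊆ Set.range π.hU.fromSpec := by
    rintro _ ⟨s, rfl⟩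
    exact π.hU.range_fromSpec.ge (hk (hO.range_fromSpec.le ⟨s, rfl⟩))
  have hrl : Set.range (hO.fromSpec ≫ l) ⊆ Set.range π.hV.fromSpec := by
    rintro _ ⟨s, rfl⟩
    have h1 : k (hO.fromSpec s) ∈ π.hU.fromSpec.opensRange := hrk ⟨s, rfl⟩
    rw [← inX_preimage hcov π] at h1
    have h2 : inY hcov (l (hO.fromSpec s)) ∈ (chart i j π).opensRange := by
      rw [← Scheme.Hom.comp_apply, ← w]; exact h1
    exact (inY_preimage hcov π).le h2
  let k' := IsOpenImmersion.lift π.hU.fromSpec (hO.fromSpec ≫ k) hrk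
  let l' := IsOpenImmersion.lift π.hV.fromSpec (hO.fromSpec ≫ l) hrl
  have hkl : k' ≫ sm π.pa = l' ≫ sm π.pb := by
    rw [← cancel_mono (chart i j π), Category.assoc, Category.assoc, ← fromSpec_inX hcov,
      ← fromSpec_inY hcov, IsOpenImmersion.lift_fac_assoc, IsOpenImmersion.lift_fac_assoc, Category.assoc,
      Category.assoc, w]
  obtain ⟨u, hu⟩ := Spec.homEquiv.symm.surjective k'
  obtain ⟨v, hv⟩ := Spec.homEquiv.symm.surjective l'
  replace hu : Spec.map u = k' := hu
  replace hv : Spec.map v = l' := hv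
  have huv : u.hom.comp π.pa = v.hom.comp π.pb := by
    have : CommRingCat.ofHom π.pa ≫ u = CommRingCat.ofHom π.pb ≫ v := by
      apply Spec.map_injective
      rw [Spec.map_comp, Spec.map_comp, hu, hv]
      exact hkl
    exact congrArg CommRingCat.Hom.hom this
  let w' := π.p.liftOfSurjective π.ringSq.surj ⟨u.hom, π.ringSq.ker_le u.hom v.hom huv⟩
  refine ⟨sm w' ≫ π.hW.fromSpec, ?_⟩
  rw [Category.assoc, ← π.fromSpec_p, ← Category.assoc, ← sm_comp,
    show w'.comp π.p = u.hom from RingHom.liftOfRightInverse_comp _ _ _ _]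
  rw [show sm u.hom = k' from hu, IsOpenImmersion.lift_fac]

theorem inY_mono : Mono (inY hcov) := by
  haveI := inY_isClosedImmersion hcov
  infer_instance

theorem glued_isPullback : IsPullback i j (inX hcov) (inY hcov) := by
  haveI := inY_mono hcov
  have key : ∀ s : PullbackCone (inX hcov) (inY hcov), ∃ m : s.pt ⟶ Z, m ≫ i = s.fst ∧ m ≫ j = s.snd := by
    intro s
    let I := { O : s.pt.affineOpens // ∃ π : AP i j, (O : s.pt.Opens) ≤ s.fst ⁻¹ᵁ π.U }
    let 𝒰 : s.pt.OpenCover :=
      { I₀ := I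
        X := fun O => Spec Γ(s.pt, O.1.1)
        f := fun O => O.1.2.fromSpec
        mem₀ := by
          rw [Scheme.presieve₀_mem_precoverage_iff]
          refine ⟨fun t => ?_, fun O => inferInstance⟩
          obtain ⟨π, hπ⟩ := AP.exists_mem_U hcov (s.fst t)
          obtain ⟨O, hO, htO, hle⟩ :=
            exists_isAffineOpen_mem_and_subset (U := s.fst ⁻¹ᵁ π.U) (show t ∈ s.fst ⁻¹ᵁ π.U from hπ)
          exact ⟨⟨⟨O, hO⟩, π, hle⟩, hO.range_fromSpec.ge htO⟩ }
    choose m hm using fun O : I => exists_local_lift hcov s.fst s.snd s.condition O.2.choose O.1.1 O.1.2 O.2.choose_spec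
    have compat : ∀ a b, pullback.fst (𝒰.f a) (𝒰.f b) ≫ m a = pullback.snd (𝒰.f a) (𝒰.f b) ≫ m b := by
      intro a b
      rw [← cancel_mono i, Category.assoc, Category.assoc, hm, hm]
      exact pullback.condition_assoc _
    have hi : 𝒰.glueMorphisms m compat ≫ i = s.fst :=
      𝒰.hom_ext _ _ fun a => by rw [𝒰.ι_glueMorphisms_assoc]; exact hm a
    refine ⟨𝒰.glueMorphisms m compat, hi, ?_⟩
    rw [← cancel_mono (inY hcov), Category.assoc, ← inX_comm hcov, ← Category.assoc, hi, s.condition]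
  exact ⟨⟨inX_comm hcov⟩, ⟨PullbackCone.IsLimit.mk _ (fun s => (key s).choose)
    (fun s => (key s).choose_spec.1) (fun s => (key s).choose_spec.2)
    (fun s m h1 h2 => by rw [← cancel_mono i, h1, (key s).choose_spec.1])⟩⟩

theorem inX_isIntegralHom [IsIntegralHom j] : IsIntegralHom (inX hcov) :=
  inX_property hcov @IsIntegralHom fun π => IsIntegralHom.SpecMap_iff.2 fun x => by
    show π.pa.IsIntegralElem x
    have hq : π.q.IsIntegral := by
      have h1 := j.isIntegral_app π.V π.hV
      show (j.appLE π.V π.W π.W_le).hom.IsIntegral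
      rw [Scheme.Hom.appLE, CommRingCat.hom_comp]
      refine RingHom.IsIntegral.trans _ _ h1 (RingHom.isIntegral_of_surjective _ ?_)
      intro z
      refine ⟨Z.presheaf.map (homOfLE π.hUV.ge).op z, ?_⟩
      rw [← CommRingCat.comp_apply, ← Functor.map_comp]
      exact (congrArg (fun m => Z.presheaf.map m z) (Subsingleton.elim _ (𝟙 (op π.W)))).trans (by simp)
    obtain ⟨P, hPm, hP⟩ := hq (π.p x)
    obtain ⟨P', hP', hdeg, hP'm⟩ := Polynomial.lifts_and_natDegree_eq_and_monic
      ((Polynomial.mem_lifts P).2 ((Polynomial.map_surjective _ π.ringSq.snd_surjective) P)) hPm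
    set Q := Polynomial.X * P' with hQ
    have hQx : π.p (Q.eval₂ π.pa x) = 0 := by
      rw [Polynomial.hom_eval₂, hQ, Polynomial.eval₂_mul, show π.p.comp π.pa = π.q.comp π.pb from
        RingHom.ext π.ringSq.comm, ← Polynomial.eval₂_map π.pb π.q _ (p := P'), hP', hP, mul_zero]
    obtain ⟨z, hz1, -⟩ := π.ringSq.exists_lift (Q.eval₂ π.pa x) 0 (by rw [hQx, map_zero])
    rcases subsingleton_or_nontrivial π.R with hR | hR
    · refine ⟨Polynomial.X, Polynomial.monic_X, ?_⟩
      have h10 : (1 : Γ(X, π.U)) = 0 := by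
        rw [← map_one π.pa, Subsingleton.elim (1 : π.R) 0, map_zero]
      exact eq_zero_of_zero_eq_one h10.symm _
    have hQm : Q.Monic := Polynomial.monic_X.mul hP'm
    have hdegQ : 0 < Q.degree := by
      rw [Polynomial.Monic.degree_mul hP'm, Polynomial.degree_X]
      rcases eq_or_ne P' 0 with h0 | h0
      · exact absurd h0 hP'm.ne_zero
      · rw [Polynomial.degree_eq_natDegree h0]
        exact_mod_cast (show 0 < 1 + P'.natDegree by omega)
    refine ⟨Q - Polynomial.C z, hQm.sub_of_left (lt_of_le_of_lt Polynomial.degree_C_le hdegQ), ?_⟩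
    rw [Polynomial.eval₂_sub, Polynomial.eval₂_C, hz1, sub_self]

end Groth.Agent.H7Flat
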