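import Groth.Agent.H7Flat.GenericGeomReduced
import Groth.Agent.H7Flat.GenericGeomNotReduced
import Groth.Agent.H7Lim.Topology
import Groth.Agent.H8Props.FlatApproxAffine
import Groth.Agent.H28Top.Noeth
import Mathlib.RingTheory.Spectrum.Prime.ConstructibleSet

/-!
# Constructibility of the locus of geometrically reduced fibres
-/

set_option autoImplicit false
set_option backward.isDefEq.respectTransparency false
set_option linter.style.haveILetI false

universe u

open CategoryTheory Limits AlgebraicGeometry TopologicalSpace Topology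

namespace Groth.Agent.H7Flat.GeomReduced

/-- Geometric reducedness of a fibre in terms of field valued points. -/
theorem geometricallyReduced_fiber_iff {X Y : Scheme.{u}} (f : X ⟶ Y) (y : Y) :
    GeometricallyReduced (f.fiberToSpecResidueField y) ↔
      ∀ (K : Type u) [Field K] (a : Spec (CommRingCat.of K) ⟶ Y),
        a (IsLocalRing.closedPoint K) = y → IsReduced (pullback f a) := by
  constructor
  · intro h K _ a ha
    obtain ⟨⟨z, θ⟩, rfl⟩ := (Scheme.SpecToEquivOfField K Y).symm.surjective a
    have ha' : (Spec.map θ ≫ Y.fromSpecResidueField z) (IsLocalRing.closedPoint K) = y := ha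
    rw [Scheme.Hom.comp_apply, Scheme.fromSpecResidueField_apply] at ha'
    subst ha'
    haveI : IsReduced (pullback (pullback.snd f (Y.fromSpecResidueField z)) (Spec.map θ)) :=
      GeometricallyReduced.geometrically_isReduced (f := f.fiberToSpecResidueField z) (Spec.map θ) _ _ (IsPullback.of_hasPullback _ _)
    exact isReduced_of_isOpenImmersion
      (pullbackLeftPullbackSndIso f (Y.fromSpecResidueField z) (Spec.map θ)).inv
  · intro h
    refine ⟨geometrically_iff_of_isClosedUnderIsomorphisms.2 fun K _ b => ?_⟩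
    haveI : IsReduced (pullback f (b ≫ Y.fromSpecResidueField y)) := h K _ (by
      rw [Scheme.Hom.comp_apply, Scheme.fromSpecResidueField_apply])
    exact isReduced_of_isOpenImmersion
      (pullbackLeftPullbackSndIso f (Y.fromSpecResidueField y) b).hom

/-- Geometric reducedness of fibres is local on the source. -/
theorem geometricallyReduced_fiber_cover {X Y : Scheme.{u}} (f : X ⟶ Y) (y : Y) {ι : Type*}
    (W : ι → Scheme.{u}) (j : ∀ i, W i ⟶ X) [∀ i, IsOpenImmersion (j i)]
    (hcov : ∀ x : X, f x = y → ∃ i, x ∈ Set.range (j i)) :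
    GeometricallyReduced (f.fiberToSpecResidueField y) ↔
      ∀ i, GeometricallyReduced ((j i ≫ f).fiberToSpecResidueField y) := by
  simp only [geometricallyReduced_fiber_iff]
  constructor
  · intro h i K _ a ha
    haveI := h K a ha
    exact isReduced_of_isOpenImmersion (pullback.map (j i ≫ f) a f a (j i) (𝟙 _) (𝟙 _) (by simp) (by simp))
  · intro h K _ a ha
    haveI : ∀ z : ↥(pullback f a), _root_.IsReduced ((pullback f a).presheaf.stalk z) := fun z => by
      have hz : f (pullback.fst f a z) = y := by
        rw [← Scheme.Hom.comp_apply, pullback.condition, Scheme.Hom.comp_apply]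
        rw [← ha]
        exact congrArg a (Subsingleton.elim (α := PrimeSpectrum K) _ _)
      obtain ⟨i, hi⟩ := hcov _ hz
      haveI := h i K a ha
      let m := pullback.map (j i ≫ f) a f a (j i) (𝟙 _) (𝟙 _) (by simp) (by simp)
      haveI : IsOpenImmersion m := inferInstance
      obtain ⟨w, rfl⟩ : z ∈ Set.range m := by
        rw [Scheme.Pullback.range_map]
        refine ⟨hi, ?_⟩
        simp
      exact isReduced_of_injective (asIso (m.stalkMap w)).commRingCatIsoToRingEquiv.toRingHom
        (asIso (m.stalkMap w)).commRingCatIsoToRingEquiv.injective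
    exact isReduced_of_isReduced_stalk _

theorem geometricallyReduced_fiber_baseChange {X Y X' Y' : Scheme.{u}} {f : X ⟶ Y} {g : Y' ⟶ Y}
    {f' : X' ⟶ Y'} {g' : X' ⟶ X} (hc : IsPullback g' f' f g) (y' : Y') :
    GeometricallyReduced (f'.fiberToSpecResidueField y') ↔
      GeometricallyReduced (f.fiberToSpecResidueField (g y')) := by
  rw [GeometricallyReduced.eq_geometrically]
  exact H8Props.GeometricDescent.fiber_iff H8Props.GeometricDescent.descends_isReduced f g f' g' hc y'

theorem isConstructible_noetherian {X S : Scheme.{u}} [IsAffine S] [IsLocallyNoetherian S]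
    (f : X ⟶ S) [LocallyOfFiniteType f] [QuasiCompact f] :
    IsConstructible {s : S | GeometricallyReduced (f.fiberToSpecResidueField s)} := by
  haveI : IsNoetherian S := ⟨⟩
  refine H28Top.isConstructible_of_forall_irreducible fun Y hY hirr hdense => ?_
  let I := Scheme.IdealSheafData.vanishingIdeal (X := S) ⟨Y, hY⟩
  let i := I.subschemeι
  have hi : Set.range i = Y := by
    rw [Scheme.IdealSheafData.range_subschemeι, Scheme.IdealSheafData.coe_support_vanishingIdeal]
    rfl
  haveI : IrreducibleSpace I.subscheme := by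
    haveI : IrreducibleSpace (Set.range i) := Subtype.irreducibleSpace (hi.symm ▸ hirr)
    rw [irreducibleSpace_def, Set.top_eq_univ, ← Set.range_eq_univ.2 i.isEmbedding.toHomeomorph.symm.surjective, ← Set.image_univ]
    exact (IrreducibleSpace.isIrreducible_univ _).image _ i.isEmbedding.toHomeomorph.symm.continuous.continuousOn
  let f' := pullback.snd f i
  have hc := IsPullback.of_hasPullback f i
  by_cases h : GeometricallyReduced (f'.fiberToSpecResidueField (genericPoint I.subscheme))
  · obtain ⟨W, ⟨z₀, hz₀⟩, hW⟩ := GenericFibre.exists_opens_geometricallyReduced f' h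
    obtain ⟨U, hU, hUW⟩ := i.isEmbedding.isInducing.isOpen_iff.1 W.2
    refine ⟨U, hU, ⟨i z₀, hUW.ge hz₀, hi.le ⟨z₀, rfl⟩⟩, ?_⟩
    rintro _ ⟨hyU, hyY⟩
    obtain ⟨z, rfl⟩ := hi.ge hyY
    refine (geometricallyReduced_fiber_baseChange hc z).1 ?_
    have hz : z ∈ W := hUW.le hyU
    exact (geometricallyReduced_fiber_baseChange (isPullback_morphismRestrict f' W).flip ⟨z, hz⟩).1
      inferInstance
  · exfalso
    obtain ⟨O, ⟨z₀, hz₀⟩, hO⟩ := GenericFibre.exists_opens_not_geometricallyReduced f' h
    obtain ⟨U, hU, hUO⟩ := i.isEmbedding.isInducing.isOpen_iff.1 O.2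
    obtain ⟨y, hyU, hyE, hyY⟩ := mem_closure_iff.1 (hdense (hi.le ⟨z₀, rfl⟩)) U hU (hUO.ge hz₀)
    obtain ⟨z, rfl⟩ := hi.ge hyY
    exact hO z (hUO.le hyU) ((geometricallyReduced_fiber_baseChange hc z).2 hyE)

theorem isConstructible_spec {R A : Type u} [CommRing R] [CommRing A] [Algebra R A]
    [Algebra.FinitePresentation R A] :
    IsConstructible {s : Spec (CommRingCat.of R) |
      GeometricallyReduced ((Spec.map (CommRingCat.ofHom (algebraMap R A))).fiberToSpecResidueField s)} := by
  obtain ⟨R₀, A₀, _, _, _, _, g', hR, hA, hsq⟩ := H8Props.FlatApprox.exists_isPullback_spec_fp R A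
  haveI : IsNoetherianRing R₀ := Algebra.FiniteType.isNoetherianRing ℤ R₀
  haveI : IsNoetherianRing (CommRingCat.of R₀) := ‹IsNoetherianRing R₀›
  let f₀ := Spec.map (CommRingCat.ofHom (algebraMap R₀ A₀))
  haveI : LocallyOfFiniteType f₀ := (HasRingHomProperty.Spec_iff (P := @LocallyOfFiniteType)).mpr
    (RingHom.finiteType_algebraMap.mpr inferInstance)
  let g := Spec.map (CommRingCat.ofHom (algebraMap R₀ R))
  have h := Scheme.Hom.isConstructible_preimage g (isConstructible_noetherian f₀)
  convert! h using 1
  ext s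
  exact geometricallyReduced_fiber_baseChange hsq s

/-- For a finitely presented morphism the geometrically reduced fibres form a locally constructible set. -/
theorem isLocallyConstructible_geometricallyReduced {X S : Scheme.{u}} (f : X ⟶ S)
    [LocallyOfFinitePresentation f] [QuasiCompact f] :
    IsLocallyConstructible {s : S | GeometricallyReduced (f.fiberToSpecResidueField s)} := by
  refine IsLocallyConstructible.of_isOpenCover (U := fun U : S.affineOpens => U.1) (iSup_affineOpens_eq_top S)
    fun U => ?_
  have hU := U.2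
  suffices h : IsConstructible (hU.fromSpec ⁻¹' {s : S | GeometricallyReduced (f.fiberToSpecResidueField s)}) by
    convert! H7Lim.isLocallyConstructible_preimage h.isLocallyConstructible hU.isoSpec.hom using 1
    ext z
    show _ ↔ GeometricallyReduced (f.fiberToSpecResidueField (hU.fromSpec (hU.isoSpec.hom z)))
    rw [← Scheme.Hom.comp_apply, IsAffineOpen.isoSpec_hom_fromSpec]
    rfl
  obtain ⟨s, hs, hcov⟩ := isCompact_and_isOpen_iff_finite_and_eq_biUnion_affineOpens.mp
    ⟨QuasiCompact.isCompact_preimage (f := f) _ U.1.2 hU.isCompact, (f ⁻¹ᵁ U.1).2⟩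
  have hle : ∀ V : s, V.1.1 ≤ f ⁻¹ᵁ U.1 := fun V x hx => hcov.ge (Set.mem_biUnion V.2 hx)
  let φ : ∀ V : s, Spec Γ(X, V.1.1) ⟶ Spec Γ(S, U.1) := fun V => Spec.map (f.appLE U.1 V.1.1 (hle V))
  have hsq : ∀ V, φ V ≫ hU.fromSpec = V.1.2.fromSpec ≫ f := fun V =>
    IsAffineOpen.SpecMap_appLE_fromSpec f hU V.1.2 (hle V)
  have e : hU.fromSpec ⁻¹' {s : S | GeometricallyReduced (f.fiberToSpecResidueField s)} =
      ⋂ V : s, {p | GeometricallyReduced ((φ V).fiberToSpecResidueField p)} := by
    ext p
    simp only [Set.mem_preimage, Set.mem_iInter]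
    refine (geometricallyReduced_fiber_cover f _ (fun V : s => Spec Γ(X, V.1.1)) (fun V => V.1.2.fromSpec)
      fun x hx => ?_).trans (forall_congr' fun V => ?_)
    · obtain ⟨V, hV, hxV⟩ := Set.mem_iUnion₂.1 (hcov.le (show x ∈ f ⁻¹ᵁ U.1 by
        show f x ∈ U.1
        rw [hx]; exact hU.range_fromSpec.le ⟨p, rfl⟩))
      exact ⟨⟨V, hV⟩, V.2.range_fromSpec.ge hxV⟩
    · refine (geometricallyReduced_fiber_baseChange (g' := 𝟙 _) (f' := φ V) (g := hU.fromSpec) ?_ p).symm
      rw [← hsq]
      refine ⟨⟨by simp⟩, ⟨PullbackCone.IsLimit.mk _ (fun c => c.fst) (fun c => by simp) (fun c => ?_) (fun c m h1 h2 => by simpa using h1)⟩⟩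
      rw [← cancel_mono hU.fromSpec, Category.assoc]
      exact c.condition
  rw [e]
  haveI : Finite s := hs
  refine (IsLocallyConstructible.iInter fun V => ?_).isConstructible
  letI := (f.appLE U.1 V.1.1 (hle V)).hom.toAlgebra
  haveI : Algebra.FinitePresentation Γ(S, U.1) Γ(X, V.1.1) := f.finitePresentation_appLE hU V.1.2 (hle V)
  exact (isConstructible_spec (R := Γ(S, U.1)) (A := Γ(X, V.1.1))).isLocallyConstructible

end Groth.Agent.H7Flat.GeomReduced
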