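import Groth.Agent.H8Props.FibreCriterionLocal
import Mathlib.AlgebraicGeometry.Morphisms.UniversallyOpen
import Mathlib.RingTheory.DiscreteValuationRing.Basic
import Mathlib.RingTheory.LocalProperties.Submodule

/-!
# Connectedness of the generic fibre over a DVR
-/

set_option autoImplicit false
set_option backward.isDefEq.respectTransparency false
set_option linter.style.haveILetI false

universe u

open AlgebraicGeometry CategoryTheory TopologicalSpace IsLocalRing

namespace Groth.Agent.H7Flat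

variable {R : Type u} [CommRing R] [IsDomain R] [IsDiscreteValuationRing R] {X : Scheme.{u}}

/-- An idempotent of `A[1/t]` comes from `A` when `t` is regular and `A/tA` is reduced. -/
theorem exists_idempotent_lift {A : Type u} [CommRing A] (t : A) (ht : ∀ a : A, t * a = 0 → a = 0)
    (hred : ∀ a : A, t ∣ a * a → t ∣ a) (e : Localization.Away t) (he : IsIdempotentElem e) :
    ∃ a : A, IsIdempotentElem a ∧ algebraMap A (Localization.Away t) a = e := by
  obtain ⟨n, a, hn⟩ := IsLocalization.Away.surj t e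
  have hinj : Function.Injective (algebraMap A (Localization.Away t)) := by
    rw [injective_iff_map_eq_zero]
    intro b hb
    obtain ⟨⟨_, k, rfl⟩, hk⟩ := (IsLocalization.map_eq_zero_iff (Submonoid.powers t) _ b).1 hb
    induction k generalizing b with
    | zero => simpa using hk
    | succ k ih =>
      refine ih b hb (ht _ ?_)
      simpa [pow_succ', mul_assoc] using hk
  have hsq : a * a = t ^ n * a := hinj (by
    simp only [map_mul, map_pow]
    rw [← hn]
    calc (e * algebraMap A _ t ^ n) * (e * algebraMap A _ t ^ n)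
        = (e * e) * algebraMap A _ t ^ n * algebraMap A _ t ^ n := by ring
      _ = _ := by rw [he.eq]; ring)
  induction n generalizing a with
  | zero => exact ⟨a, by simpa [IsIdempotentElem] using hsq, by simpa using hn.symm⟩
  | succ n ih =>
    obtain ⟨b, rfl⟩ := hred a ⟨t ^ n * a, by rw [hsq]; ring⟩
    have hn' : e * algebraMap A (Localization.Away t) t ^ n = algebraMap A _ b := by
      refine (IsLocalization.Away.algebraMap_isUnit (S := Localization.Away t) t).mul_left_cancel ?_
      rw [← map_mul, ← hn]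
      ring
    refine ih b hn' (sub_eq_zero.1 (ht _ (ht _ ?_)))
    linear_combination hsq

theorem connectedSpace_fiber_generic (f : X ⟶ Spec (CommRingCat.of R)) [Flat f] [ConnectedSpace X]
    (hred : IsReduced (f.fiber (closedPoint R))) :
    ConnectedSpace ↑(f.fiber (⟨⊥, Ideal.isPrime_bot⟩ : PrimeSpectrum R)) := by
  obtain ⟨ϖ, hϖ⟩ := IsDiscreteValuationRing.exists_irreducible R
  obtain ⟨-, P₀, -, hP⟩ := (IsDiscreteValuationRing.iff_pid_with_one_nonzero_prime R).1 inferInstance
  let η : Spec (CommRingCat.of R) := (⟨⊥, Ideal.isPrime_bot⟩ : PrimeSpectrum R)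
  let G : Set X := f ⁻¹' {η}
  have hspec : ∀ p : Spec (CommRingCat.of R), η ⤳ p := fun p =>
    (PrimeSpectrum.le_iff_specializes (⟨⊥, Ideal.isPrime_bot⟩ : PrimeSpectrum R) p).1
      (show (⊥ : Ideal R) ≤ _ from bot_le)
  have hη : ∀ p : Spec (CommRingCat.of R), p = η ↔ ϖ ∉ p.asIdeal := fun p => by
    refine ⟨fun h => by rw [h]; simpa [η] using hϖ.ne_zero, fun h => ?_⟩
    by_contra hne
    have h0 : p.asIdeal ≠ ⊥ := fun h0 => hne (PrimeSpectrum.ext h0)
    have h1 : p.asIdeal = maximalIdeal R :=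
      (hP p.asIdeal ⟨h0, p.2⟩).trans (hP _ ⟨IsDiscreteValuationRing.not_a_field R, inferInstance⟩).symm
    exact h (h1 ▸ (IsLocalRing.mem_maximalIdeal _).2 hϖ.not_isUnit)
  have hgen : ∀ x : X, ∃ x' : X, x' ∈ G ∧ x' ⤳ x := fun x => by
    obtain ⟨x', hx', e⟩ := Flat.generalizingMap f (hspec (f x))
    exact ⟨x', e, hx'⟩
  -- separation of the closures of complementary clopen subsets of the generic fibre
  have key : ∀ W : Set X, W ⊆ G → (∃ O : Set X, IsOpen O ∧ W = O ∩ G) →
      (∃ O : Set X, IsOpen O ∧ G \ W = O ∩ G) → Disjoint (closure W) (closure (G \ W)) := by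
    intro W hWG hWo hWo'
    rw [Set.disjoint_left]
    intro z hz₁ hz₂
    obtain ⟨U, hU, hzU, -⟩ := exists_isAffineOpen_mem_and_subset (U := (⊤ : X.Opens)) (x := z) trivial
    haveI := hU.isOpenImmersion_fromSpec
    let φ : R →+* Γ(X, U) := ((Scheme.ΓSpecIso (CommRingCat.of R)).inv ≫ f.appLE ⊤ U le_top).hom
    let t : Γ(X, U) := φ ϖ
    letI : Algebra R Γ(X, U) := φ.toAlgebra
    have hfp : ∀ p : PrimeSpectrum Γ(X, U), f (hU.fromSpec p) =
        (⟨p.asIdeal.comap φ, Ideal.IsPrime.comap φ⟩ : PrimeSpectrum R) := fun p => by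
      have e : hU.fromSpec ≫ f = Spec.map (CommRingCat.ofHom φ) := by
        rw [← IsAffineOpen.SpecMap_appLE_fromSpec f (isAffineOpen_top _) hU le_top,
          IsAffineOpen.fromSpec_top, Scheme.isoSpec_Spec_inv, ← Spec.map_comp]
        rfl
      rw [← Scheme.Hom.comp_apply, e]
      rfl
    have hG : ∀ p : PrimeSpectrum Γ(X, U), hU.fromSpec p ∈ G ↔ t ∉ p.asIdeal := fun p => by
      show f (hU.fromSpec p) = η ↔ _
      rw [hη, hfp]
      rfl
    haveI : Module.Flat R Γ(X, U) := by
      have h1 := HasRingHomProperty.appLE @Flat f ‹_› ⟨⊤, isAffineOpen_top _⟩ ⟨U, hU⟩ le_top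
      exact (RingHom.Flat.of_bijective (f := (Scheme.ΓSpecIso (CommRingCat.of R)).inv.hom)
        (ConcreteCategory.bijective_of_isIso (Scheme.ΓSpecIso (CommRingCat.of R)).inv)).comp h1
    have ht : ∀ a : Γ(X, U), t * a = 0 → a = 0 := fun a ha => by
      have h1 : IsSMulRegular Γ(X, U) ϖ := by
        have := (IsSMulRegular.of_ne_zero hϖ.ne_zero : IsSMulRegular R ϖ)
        exact this.lTensor Γ(X, U) |> fun h => (TensorProduct.rid R Γ(X, U)).isSMulRegular_congr ϖ |>.1 h
      exact h1.right_eq_zero_of_smul (by rw [Algebra.smul_def]; exact ha)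
    have hdiv : ∀ a : Γ(X, U), t ∣ a * a → t ∣ a := fun a ha => by
      rw [← Ideal.mem_span_singleton] at ha ⊢
      refine Ideal.mem_of_localization_maximal fun P hPm => ?_
      by_cases htP : t ∈ P
      swap
      · rw [Ideal.map_span, Set.image_singleton, Ideal.eq_top_of_isUnit_mem _
          (Ideal.mem_span_singleton_self _) (IsLocalization.map_units _ (⟨t, htP⟩ : P.primeCompl))]
        trivial
      let x := hU.fromSpec (⟨P, hPm.isPrime⟩ : PrimeSpectrum Γ(X, U))
      have hxU : x ∈ U := hU.range_fromSpec.le ⟨_, rfl⟩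
      have hpx : hU.primeIdealOf ⟨x, hxU⟩ = (⟨P, hPm.isPrime⟩ : PrimeSpectrum Γ(X, U)) :=
        hU.fromSpec.isOpenEmbedding.injective (hU.fromSpec_primeIdealOf ⟨x, hxU⟩)
      have hfx : f x = closedPoint R := by
        rw [hfp]
        refine PrimeSpectrum.ext ((hP _ ⟨fun h0 => hϖ.ne_zero ?_, Ideal.IsPrime.comap φ⟩).trans
          (hP _ ⟨IsDiscreteValuationRing.not_a_field R, inferInstance⟩).symm)
        have : ϖ ∈ P.comap φ := htP
        exact Ideal.mem_bot.1 (h0 ▸ this)
      obtain ⟨w, hw⟩ := (f.range_fiberι (closedPoint R)).ge (show x ∈ f ⁻¹' {closedPoint R} from hfx)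
      letI := TopCat.Presheaf.algebra_section_stalk X.presheaf (⟨x, hxU⟩ : U)
      haveI : IsLocalization.AtPrime (X.presheaf.stalk x) P := by
        have := hU.isLocalization_stalk ⟨x, hxU⟩
        rwa [hpx] at this
      have hker := H8Props.FibreCriterion.ker_toFibre_of_eq f x _ hfx w hw
      have hm : (maximalIdeal ((Spec (CommRingCat.of R)).presheaf.stalk (f x))).map (f.stalkMap x).hom =
          (Ideal.span {t}).map (algebraMap Γ(X, U) (X.presheaf.stalk x)) := by
        let θ := (Scheme.ΓSpecIso (CommRingCat.of R)).inv ≫ (Spec (CommRingCat.of R)).presheaf.germ ⊤ (f x) trivial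
        haveI : IsLocalRing ((Spec (CommRingCat.of R)).presheaf.stalk (f x)) := inferInstance
        have hθ : (maximalIdeal R).map θ.hom = maximalIdeal ((Spec (CommRingCat.of R)).presheaf.stalk (f x)) := by
          letI := (θ.hom).toAlgebra
          haveI : IsLocalization.AtPrime ((Spec (CommRingCat.of R)).presheaf.stalk (f x)) (f x).asIdeal :=
            StructureSheaf.IsLocalization.to_stalk R (f x)
          have := IsLocalization.AtPrime.map_eq_maximalIdeal (f x).asIdeal ((Spec (CommRingCat.of R)).presheaf.stalk (f x))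
          rwa [show (f x).asIdeal = maximalIdeal R by rw [hfx]; rfl] at this
        rw [← hθ, Ideal.map_map, hϖ.maximalIdeal_eq, Ideal.map_span, Ideal.map_span, Set.image_singleton,
          Set.image_singleton]
        congr 2
        simp [θ, t, φ, Scheme.Hom.appLE, Scheme.Hom.germ_stalkMap_apply]
        exact (TopCat.Presheaf.germ_res_apply X.presheaf (homOfLE le_top) x hxU _).symm
      have h1 : algebraMap Γ(X, U) (X.presheaf.stalk x) a ∈ (Ideal.span {t}).map (algebraMap _ _) := by
        rw [← hm, ← hker, RingHom.mem_ker]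
        have h2 := Ideal.mem_map_of_mem (algebraMap Γ(X, U) (X.presheaf.stalk x)) ha
        rw [← hm, ← hker, RingHom.mem_ker, map_mul, map_mul] at h2
        exact (IsNilpotent.eq_zero (x := _) ⟨2, by rw [pow_two]; exact h2⟩)
      let E := IsLocalization.algEquiv P.primeCompl (X.presheaf.stalk x) (Localization.AtPrime P)
      have := Ideal.mem_map_of_mem E.toRingEquiv.toRingHom h1
      rw [Ideal.map_map] at this
      convert this using 2
      · exact (RingHom.ext fun r => (E.commutes r).symm)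
      · exact (E.commutes a).symm
    -- the idempotent
    let T := Localization.Away t
    let c : PrimeSpectrum T → X := fun q => hU.fromSpec (PrimeSpectrum.comap (algebraMap Γ(X, U) T) q)
    have hc : Continuous c := hU.fromSpec.continuous.comp (PrimeSpectrum.continuous_comap _)
    have hcG : ∀ q, c q ∈ G := fun q => (hG _).2 fun h => q.2.ne_top
      (Ideal.eq_top_of_isUnit_mem _ h (IsLocalization.Away.algebraMap_isUnit t))
    obtain ⟨O, hO, hOW⟩ := hWo
    obtain ⟨O', hO', hOW'⟩ := hWo'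
    have hclopen : IsClopen (c ⁻¹' W) := by
      refine ⟨⟨?_⟩, ?_⟩
      · convert hO'.preimage hc using 1
        ext q
        simp only [Set.mem_compl_iff, Set.mem_preimage]
        exact ⟨fun h => (hOW'.le ⟨hcG q, h⟩).1, fun h => (hOW'.ge ⟨h, hcG q⟩).2⟩
      · convert hO.preimage hc using 1
        ext q
        exact ⟨fun h => (hOW.le h).1, fun h => hOW.ge ⟨h, hcG q⟩⟩
    obtain ⟨e, he, hWe⟩ := PrimeSpectrum.isClopen_iff.1 hclopen
    obtain ⟨a, ha, hae⟩ := exists_idempotent_lift t ht hdiv e he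
    have hWa : ∀ p : PrimeSpectrum Γ(X, U), t ∉ p.asIdeal → (hU.fromSpec p ∈ W ↔ a ∉ p.asIdeal) := by
      intro p hp
      obtain ⟨q, rfl⟩ : p ∈ Set.range (PrimeSpectrum.comap (algebraMap Γ(X, U) T)) := by
        rw [PrimeSpectrum.localization_away_comap_range T t]; exact hp
      have := Set.ext_iff.1 hWe q
      simp only [Set.mem_preimage, c, SetLike.mem_coe, PrimeSpectrum.mem_basicOpen] at this
      rw [this, ← hae]
      rfl
    let p₀ := hU.primeIdealOf ⟨z, hzU⟩
    rcases Classical.em (a ∈ p₀.asIdeal) with h | h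
    · have ho : IsOpen (hU.fromSpec '' (PrimeSpectrum.basicOpen (1 - a) : Set (PrimeSpectrum Γ(X, U)))) :=
        hU.fromSpec.isOpenEmbedding.isOpenMap _ (PrimeSpectrum.basicOpen (1 - a)).2
      obtain ⟨_, ⟨p, hp, rfl⟩, hpW⟩ := mem_closure_iff.1 hz₁ _ ho ⟨p₀, fun h' => p₀.2.ne_top
        ((Ideal.eq_top_iff_one _).2 (by simpa using add_mem h' h)), hU.fromSpec_primeIdealOf _⟩
      refine (hWa p ((hG p).1 (hWG hpW))).1 hpW ((p.2.mem_or_mem ?_).resolve_right hp)
      rw [mul_sub, mul_one, ha.eq, sub_self]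
      exact zero_mem _
    · have ho : IsOpen (hU.fromSpec '' (PrimeSpectrum.basicOpen a : Set (PrimeSpectrum Γ(X, U)))) :=
        hU.fromSpec.isOpenEmbedding.isOpenMap _ (PrimeSpectrum.basicOpen a).2
      obtain ⟨_, ⟨p, hp, rfl⟩, hpW⟩ := mem_closure_iff.1 hz₂ _ ho ⟨p₀, h, hU.fromSpec_primeIdealOf _⟩
      exact hpW.2 ((hWa p ((hG p).1 hpW.1)).2 hp)
  -- conclusion
  suffices hconn : _root_.IsConnected G by
    haveI : ConnectedSpace (f ⁻¹' {η} : Set X) := isConnected_iff_connectedSpace.1 hconn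
    exact (f.fiberHomeo η).symm.surjective.connectedSpace (f.fiberHomeo η).symm.continuous
  obtain ⟨x₀⟩ := (inferInstance : Nonempty X)
  obtain ⟨x₁, hx₁, -⟩ := hgen x₀
  refine ⟨⟨x₁, hx₁⟩, fun O O' hO hO' hcov hne hne' => ?_⟩
  by_contra hempty
  have hdiff : G \ (O ∩ G) = O' ∩ G := by
    ext x
    refine ⟨fun ⟨hx, hx'⟩ => ⟨(hcov hx).resolve_left fun h => hx' ⟨h, hx⟩, hx⟩,
      fun ⟨hx', hx⟩ => ⟨hx, fun h => hempty ⟨x, hx, h.1, hx'⟩⟩⟩
  have hdisj := key (O ∩ G) Set.inter_subset_right ⟨O, hO, rfl⟩ ⟨O', hO', hdiff⟩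
  have hun : closure (O ∩ G) ∪ closure (G \ (O ∩ G)) = Set.univ := by
    rw [← closure_union, Set.union_sdiff_cancel Set.inter_subset_right, Set.eq_univ_iff_forall]
    intro x
    obtain ⟨x', hx', hs⟩ := hgen x
    exact closure_mono (Set.singleton_subset_iff.2 hx') (specializes_iff_mem_closure.1 hs)
  have hcl : IsClopen (closure (O ∩ G)) := by
    refine ⟨isClosed_closure, ?_⟩
    rw [← isClosed_compl_iff]
    convert isClosed_closure (s := G \ (O ∩ G)) using 1
    exact (IsCompl.of_eq hdisj.eq_bot hun).compl_eq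
  obtain ⟨a, ha, haO⟩ := hne
  obtain ⟨b, hb, hbO⟩ := hne'
  rcases isClopen_iff.1 hcl with h | h
  · exact Set.notMem_empty a (h ▸ subset_closure ⟨haO, ha⟩)
  · exact Set.disjoint_left.1 hdisj (h ▸ Set.mem_univ b) (subset_closure (hdiff.ge ⟨hbO, hb⟩))

end Groth.Agent.H7Flat
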