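import Groth.Agent.H06Mod.StalkBaseChange
import Groth.Agent.H06EGA9.FlatFibreBC

/-! Descent of flatness at a point along a base change which is flat at the point below. -/

set_option autoImplicit false
set_option linter.style.haveILetI false
set_option backward.isDefEq.respectTransparency false

universe u

open CategoryTheory CategoryTheory.Limits AlgebraicGeometry TensorProduct

namespace Groth.Agent.H7Flat

open Groth.Agent.H06Mod

attribute [local instance] stalkAlgebra Algebra.TensorProduct.rightAlgebra

variable {X Y Y' : Scheme.{u}} (f : X ⟶ Y) (g : Y' ⟶ Y)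

/-- Flatness at a point descends along a base change which is flat at the point below. -/
theorem isFlatOverAt_of_baseChange (F : X.Modules) (x' : ↑(pullback f g))
    (hg : (g.stalkMap ((pullback.snd f g).base x')).hom.Flat)
    (h : FlatMod.IsFlatOverAt (pullback.snd f g) ((Scheme.Modules.pullback (pullback.fst f g)).obj F) x') :
    FlatMod.IsFlatOverAt f F ((pullback.fst f g).base x') := by
  let x := (pullback.fst f g).base x'
  let y' := (pullback.snd f g).base x'
  have hy : g.base y' = f.base x := by
    show g.base ((pullback.snd f g).base x') = f.base ((pullback.fst f g).base x')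
    rw [← Scheme.Hom.comp_apply, ← Scheme.Hom.comp_apply, pullback.condition]
  let β : Y.presheaf.stalk (f.base x) ⟶ Y'.presheaf.stalk y' :=
    Y.presheaf.stalkSpecializes (specializes_of_eq hy) ≫ g.stalkMap y'
  letI : Algebra (Y.presheaf.stalk (f.base x)) (Y'.presheaf.stalk y') := β.hom.toAlgebra
  letI : Algebra (Y.presheaf.stalk (f.base x)) (X.presheaf.stalk x) := stalkAlgebra f x
  letI : Algebra (X.presheaf.stalk x) ((pullback f g).presheaf.stalk x') :=
    stalkAlgebra (pullback.fst f g) x'
  letI : Algebra (Y'.presheaf.stalk y') ((pullback f g).presheaf.stalk x') :=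
    stalkAlgebra (pullback.snd f g) x'
  letI : Algebra (Y.presheaf.stalk (f.base x)) ((pullback f g).presheaf.stalk x') :=
    (f.stalkMap x ≫ (pullback.fst f g).stalkMap x').hom.toAlgebra
  haveI : IsScalarTower (Y.presheaf.stalk (f.base x)) (X.presheaf.stalk x)
      ((pullback f g).presheaf.stalk x') := .of_algebraMap_eq fun _ => rfl
  have hb : Spec.map β ≫ Y.fromSpecStalk (f.base x) = Y'.fromSpecStalk y' ≫ g := by
    rw [Spec.map_comp, Category.assoc, Scheme.SpecMap_stalkSpecializes_fromSpecStalk,
      Scheme.SpecMap_stalkMap_fromSpecStalk]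
  have ha : Spec.map (f.stalkMap x) ≫ Y.fromSpecStalk (f.base x) = X.fromSpecStalk x ≫ f :=
    Scheme.SpecMap_stalkMap_fromSpecStalk f
  have hβflat : β.hom.Flat := by
    haveI := H06EGA9.isIso_stalkSpecializes_of_eq (Y := Y) hy
    simp only [β, CommRingCat.hom_comp]
    exact RingHom.Flat.comp (RingHom.Flat.of_bijective (ConcreteCategory.bijective_of_isIso _)) hg
  clear_value β
  have hcomm : β ≫ (pullback.snd f g).stalkMap x' = f.stalkMap x ≫ (pullback.fst f g).stalkMap x' := by
    apply Spec.map_injective
    rw [← cancel_mono (Y.fromSpecStalk (f.base x)), Spec.map_comp, Spec.map_comp, Category.assoc,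
      Category.assoc, hb, ha, ← Category.assoc, ← Category.assoc,
      Scheme.SpecMap_stalkMap_fromSpecStalk, Scheme.SpecMap_stalkMap_fromSpecStalk, Category.assoc,
      Category.assoc, pullback.condition]
  haveI : IsScalarTower (Y.presheaf.stalk (f.base x)) (Y'.presheaf.stalk y')
      ((pullback f g).presheaf.stalk x') :=
    .of_algebraMap_eq fun r => congr($(congrArg CommRingCat.Hom.hom hcomm) r).symm
  have hflat := flat_tensorLift (Y.presheaf.stalk (f.base x)) (X.presheaf.stalk x)
    (Y'.presheaf.stalk y') ((pullback f g).presheaf.stalk x') f g (X.fromSpecStalk x)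
    (Y.fromSpecStalk (f.base x)) (Y'.fromSpecStalk y') ha hb ((pullback f g).fromSpecStalk x')
    (Scheme.SpecMap_stalkMap_fromSpecStalk _) (Scheme.SpecMap_stalkMap_fromSpecStalk _)
  haveI : Module.Flat (Y.presheaf.stalk (f.base x)) (Y'.presheaf.stalk y') := hβflat
  haveI hCA : Module.Flat (X.presheaf.stalk x) ((pullback f g).presheaf.stalk x') := by
    have h1 : (Algebra.TensorProduct.includeLeftRingHom :
        X.presheaf.stalk x →+* X.presheaf.stalk x ⊗[Y.presheaf.stalk (f.base x)] Y'.presheaf.stalk y').Flat :=
      RingHom.flat_algebraMap_iff.mpr inferInstance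
    have h2 := h1.comp hflat
    have h3 : (tensorLift (Y.presheaf.stalk (f.base x)) (X.presheaf.stalk x) (Y'.presheaf.stalk y')
        ((pullback f g).presheaf.stalk x')).toRingHom.comp Algebra.TensorProduct.includeLeftRingHom =
        algebraMap (X.presheaf.stalk x) ((pullback f g).presheaf.stalk x') :=
      RingHom.ext fun r => by simp [tensorLift]
    rw [h3] at h2
    exact h2
  haveI : IsLocalHom (algebraMap (X.presheaf.stalk x) ((pullback f g).presheaf.stalk x')) :=
    inferInstanceAs (IsLocalHom ((pullback.fst f g).stalkMap x').hom)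
  haveI : Module.FaithfullyFlat (X.presheaf.stalk x) ((pullback f g).presheaf.stalk x') :=
    Module.FaithfullyFlat.of_flat_of_isLocalHom
  letI := FlatMod.moduleStalkOver f F x
  haveI : IsScalarTower (Y.presheaf.stalk (f.base x)) (X.presheaf.stalk x) (F.presheaf.stalk x) :=
    .of_algebraMap_smul fun _ _ => rfl
  letI m1 : Module (Y'.presheaf.stalk y')
      (((Scheme.Modules.pullback (pullback.fst f g)).obj F).presheaf.stalk x') :=
    FlatMod.moduleStalkOver (pullback.snd f g) _ x'
  let e : ((pullback f g).presheaf.stalk x' ⊗[X.presheaf.stalk x] F.presheaf.stalk x)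
      ≃ₗ[Y'.presheaf.stalk y'] ((Scheme.Modules.pullback (pullback.fst f g)).obj F).presheaf.stalk x' :=
    { (pullStalkEquiv (pullback.fst f g) F x').toAddEquiv with
      map_smul' := fun r t => by
        show pullStalkEquiv (pullback.fst f g) F x' (r • t) =
          ((pullback.snd f g).stalkMap x').hom r • pullStalkEquiv (pullback.fst f g) F x' t
        rw [← algebraMap_smul ((pullback f g).presheaf.stalk x') r t, map_smul]
        rfl }
  haveI : Module.Flat (Y'.presheaf.stalk y')
      (((Scheme.Modules.pullback (pullback.fst f g)).obj F).presheaf.stalk x') := h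
  haveI : Module.Flat (Y'.presheaf.stalk y')
      ((pullback f g).presheaf.stalk x' ⊗[X.presheaf.stalk x] F.presheaf.stalk x) :=
    Module.Flat.of_linearEquiv e
  haveI : Module.Flat (Y.presheaf.stalk (f.base x))
      ((pullback f g).presheaf.stalk x' ⊗[X.presheaf.stalk x] F.presheaf.stalk x) :=
    Module.Flat.trans (Y.presheaf.stalk (f.base x)) (Y'.presheaf.stalk y') _
  show Module.Flat (Y.presheaf.stalk (f.base x)) (F.presheaf.stalk x)
  exact flat_tensor_iff.mp this

/-- Flatness at a point descends along a cartesian square whose base map is flat at the point below. -/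
theorem isFlatOverAt_of_isPullback_flatAt {X' : Scheme.{u}} {f' : X' ⟶ Y'} {g' : X' ⟶ X}
    (hc : IsPullback g' f' f g) (F : X.Modules) (x' : X') (hg : (g.stalkMap (f' x')).hom.Flat)
    (h : FlatMod.IsFlatOverAt f' ((Scheme.Modules.pullback g').obj F) x') :
    FlatMod.IsFlatOverAt f F (g' x') := by
  obtain ⟨e, he1, he2⟩ : ∃ e : X' ≅ pullback f g,
      e.hom ≫ pullback.fst f g = g' ∧ e.hom ≫ pullback.snd f g = f' :=
    ⟨hc.isoPullback, hc.isoPullback_hom_fst, hc.isoPullback_hom_snd⟩
  subst he1; subst he2
  rw [← H06EGA9.isFlatOverAt_congr_iso (e.hom ≫ pullback.snd f g)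
    ((Scheme.Modules.pullbackComp e.hom (pullback.fst f g)).app F) x'] at h
  exact isFlatOverAt_of_baseChange f g F (e.hom x') hg
    ((isFlatOverAt_pullback_iff e.hom (pullback.snd f g) _ x').1 h)

end Groth.Agent.H7Flat
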