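import Mathlib.RingTheory.ZariskisMainTheorem
import Mathlib.RingTheory.NoetherNormalization
import Mathlib.RingTheory.IntegralClosure.GoingDown
import Mathlib.RingTheory.Polynomial.IsIntegral
import Mathlib.RingTheory.Valuation.LocalSubring
import Mathlib.RingTheory.AlgebraicIndependent.Transcendental
import Mathlib.Algebra.MvPolynomial.Funext
import Mathlib.Algebra.MvPolynomial.Equiv
import Mathlib.RingTheory.Jacobson.Ring
import Mathlib.RingTheory.Artinian.Module
import Mathlib.RingTheory.Artinian.Ring
import Mathlib.RingTheory.Algebraic.Integral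

/-!
# Closed points of a generic fibre specializing to a given point
-/

set_option autoImplicit false
set_option linter.style.haveILetI false

universe u

open Polynomial IsLocalRing

namespace Groth.Agent.H7Flat

theorem isIntegrallyClosed_mvPolynomial_fin (R : Type u) [CommRing R] [IsDomain R] [IsIntegrallyClosed R] :
    ∀ d : ℕ, IsIntegrallyClosed (MvPolynomial (Fin d) R)
  | 0 => IsIntegrallyClosed.of_equiv (MvPolynomial.isEmptyAlgEquiv R (Fin 0)).toRingEquiv.symm
  | d + 1 => by
      haveI := isIntegrallyClosed_mvPolynomial_fin R d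
      exact IsIntegrallyClosed.of_equiv (MvPolynomial.finSuccEquiv R d).toRingEquiv.symm

variable (O₀ : Type u) [CommRing O₀] [IsDomain O₀] [ValuationRing O₀] [IsIntegrallyClosed O₀]

/-- Over an integrally closed local domain which is not a field, a point `M` of the special fibre of a
finitely generated domain containing the base is a specialization of a point `P` avoiding `u`, lying
over the zero ideal, with algebraic residue extension. -/
theorem exists_prime_le_of_local (hnf : maximalIdeal O₀ ≠ ⊥) {A' : Type u} [CommRing A'] [IsDomain A']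
    [Algebra O₀ A'] [FaithfulSMul O₀ A'] [Algebra.FiniteType O₀ A'] (M : Ideal A') [M.IsMaximal]
    (hM : (maximalIdeal O₀).map (algebraMap O₀ A') ≤ M) (u : A') (hu : u ≠ 0) :
    ∃ P : Ideal A', P.IsPrime ∧ P ≤ M ∧ u ∉ P ∧ P.comap (algebraMap O₀ A') = ⊥ ∧
      ∀ a : A', IsAlgebraic O₀ (Ideal.Quotient.mk P a) := by
  classical
  set m := maximalIdeal O₀ with hm
  let k := O₀ ⧸ m
  letI : Field k := Ideal.Quotient.field m
  set mA := m.map (algebraMap O₀ A') with hmA
  let S₀ := A' ⧸ mA
  letI : Algebra k S₀ := (Ideal.quotientMap mA (algebraMap O₀ A') Ideal.le_comap_map).toAlgebra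
  haveI : IsScalarTower O₀ k S₀ := IsScalarTower.of_algebraMap_eq fun x => rfl
  haveI : Algebra.FiniteType O₀ S₀ :=
    Algebra.FiniteType.of_surjective (Ideal.Quotient.mkₐ O₀ mA) (Ideal.Quotient.mkₐ_surjective _ _)
  haveI : Algebra.FiniteType k S₀ := Algebra.FiniteType.of_restrictScalars_finiteType O₀ k S₀
  haveI : Nontrivial S₀ :=
    Ideal.Quotient.nontrivial_iff.2 fun h => (inferInstance : M.IsMaximal).ne_top (top_le_iff.1 (h ▸ hM))
  obtain ⟨d, g, hginj, hgfin⟩ := exists_finite_inj_algHom_of_fg k S₀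
  -- move the point to the origin
  let τ : S₀ →+* A' ⧸ M := Ideal.Quotient.factor hM
  letI : Field (A' ⧸ M) := Ideal.Quotient.field M
  letI : Algebra k (A' ⧸ M) := (τ.comp (algebraMap k S₀)).toAlgebra
  haveI : IsScalarTower O₀ k (A' ⧸ M) := IsScalarTower.of_algebraMap_eq fun x => rfl
  haveI : Algebra.FiniteType O₀ (A' ⧸ M) :=
    Algebra.FiniteType.of_surjective (Ideal.Quotient.mkₐ O₀ M) (Ideal.Quotient.mkₐ_surjective _ _)
  haveI : Algebra.FiniteType k (A' ⧸ M) := Algebra.FiniteType.of_restrictScalars_finiteType O₀ k _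
  haveI : Module.Finite k (A' ⧸ M) := finite_of_finite_type_of_isJacobsonRing k (A' ⧸ M)
  let φ : Fin d → k[X] := fun i => minpoly k (τ (g (MvPolynomial.X i)))
  have hint : ∀ i, IsIntegral k (τ (g (MvPolynomial.X i))) := fun i => IsIntegral.of_finite k _
  let e : MvPolynomial (Fin d) k →ₐ[k] MvPolynomial (Fin d) k :=
    MvPolynomial.aeval fun i => Polynomial.aeval (MvPolynomial.X i : MvPolynomial (Fin d) k) (φ i)
  have he_inj : Function.Injective e :=
    (MvPolynomial.algebraicIndependent_X (Fin d) k).polynomial_aeval_of_transcendental fun i =>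
      Polynomial.transcendental (φ i) (minpoly.natDegree_pos (hint i)).ne'
        (by rw [(minpoly.monic (hint i)).leadingCoeff]; exact one_mem _)
  have he_fin : e.toRingHom.Finite := by
    refine RingHom.IsIntegral.to_finite ?_ ?_
    · intro p
      induction p using MvPolynomial.induction_on with
      | C a =>
        rw [show MvPolynomial.C a = e.toRingHom (MvPolynomial.C a) from (e.commutes a).symm]
        exact RingHom.isIntegralElem_map _
      | add p q hp hq => exact hp.add _ hq
      | mul_X p i hp =>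
        refine hp.mul _ ?_
        refine ⟨(φ i).map (algebraMap k _) - Polynomial.C (MvPolynomial.X i), ?_, ?_⟩
        · refine ((minpoly.monic (hint i)).map _).sub_of_left ?_
          refine lt_of_le_of_lt Polynomial.degree_C_le ?_
          rw [(minpoly.monic (hint i)).degree_map]
          exact minpoly.degree_pos (hint i)
        · rw [Polynomial.eval₂_sub, Polynomial.eval₂_C, Polynomial.eval₂_map]
          rw [show e.toRingHom.comp (algebraMap k _) = algebraMap k _ from e.comp_algebraMap]
          show Polynomial.aeval (MvPolynomial.X i) (φ i) - e (MvPolynomial.X i) = 0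
          rw [MvPolynomial.aeval_X, sub_self]
    · exact RingHom.FiniteType.of_comp_finiteType (f := algebraMap k (MvPolynomial (Fin d) k)) (by
        rw [show e.toRingHom.comp (algebraMap k _) = algebraMap k _ from e.comp_algebraMap]
        exact RingHom.finiteType_algebraMap.2 inferInstance)
  let g' : MvPolynomial (Fin d) k →ₐ[k] S₀ := g.comp e
  have hg'inj : Function.Injective g' := hginj.comp he_inj
  have hg'fin : g'.toRingHom.Finite := RingHom.Finite.comp hgfin he_fin
  have hg'X : ∀ i, τ (g' (MvPolynomial.X i)) = 0 := by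
    intro i
    show τ (g (e (MvPolynomial.X i))) = 0
    rw [MvPolynomial.aeval_X]
    let τk : S₀ →ₐ[k] A' ⧸ M := { τ with commutes' := fun c => rfl }
    show τk (g (Polynomial.aeval (MvPolynomial.X i) (φ i))) = 0
    rw [← Polynomial.aeval_algHom_apply, ← Polynomial.aeval_algHom_apply]
    exact minpoly.aeval k _
  choose G hG using fun i => Ideal.Quotient.mk_surjective (g' (MvPolynomial.X i))
  let B := MvPolynomial (Fin d) O₀
  let ψ : B →ₐ[O₀] A' := MvPolynomial.aeval G
  have hred : (Ideal.Quotient.mk mA).comp ψ.toRingHom =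
      g'.toRingHom.comp (MvPolynomial.map (Ideal.Quotient.mk m)) := by
    refine MvPolynomial.ringHom_ext (fun c => ?_) fun i => ?_
    · show Ideal.Quotient.mk mA (ψ (MvPolynomial.C c)) = g' (MvPolynomial.map _ (MvPolynomial.C c))
      rw [MvPolynomial.map_C, show (MvPolynomial.C c : B) = algebraMap O₀ B c from rfl, ψ.commutes,
        show (MvPolynomial.C ((Ideal.Quotient.mk m) c) : MvPolynomial (Fin d) k) =
          algebraMap k (MvPolynomial (Fin d) k) (Ideal.Quotient.mk m c) from rfl, g'.commutes]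
      rfl
    · show Ideal.Quotient.mk mA (ψ (MvPolynomial.X i)) = g' (MvPolynomial.map _ (MvPolynomial.X i))
      rw [MvPolynomial.map_X, MvPolynomial.aeval_X, hG]
  have hψ : Function.Injective ψ := by
    rw [injective_iff_map_eq_zero]
    intro P hP
    by_contra hP0
    obtain ⟨i₀, hi₀, hmin⟩ : ∃ i₀ ∈ P.support, ∀ i ∈ P.support,
        MvPolynomial.coeff i₀ P ∣ MvPolynomial.coeff i P := by
      have key : ∀ s : Finset (Fin d →₀ ℕ), s.Nonempty → ∃ i₀ ∈ s, ∀ i ∈ s,
          MvPolynomial.coeff i₀ P ∣ MvPolynomial.coeff i P := by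
        intro s hs
        induction hs using Finset.Nonempty.cons_induction with
        | singleton a => exact ⟨a, by simp, by simp⟩
        | cons a s ha hs ih =>
          obtain ⟨i₀, hi₀, hmin⟩ := ih
          rcases ValuationRing.dvd_total (MvPolynomial.coeff a P) (MvPolynomial.coeff i₀ P) with h | h
          · exact ⟨a, by simp, fun i hi => by
              rcases Finset.mem_cons.1 hi with rfl | hi
              · exact dvd_rfl
              · exact h.trans (hmin i hi)⟩
          · exact ⟨i₀, Finset.mem_cons.2 (Or.inr hi₀), fun i hi => by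
              rcases Finset.mem_cons.1 hi with rfl | hi
              · exact h
              · exact hmin i hi⟩
      exact key _ (MvPolynomial.support_nonempty.2 hP0)
    set c := MvPolynomial.coeff i₀ P with hc
    have hc0 : c ≠ 0 := MvPolynomial.mem_support_iff.1 hi₀
    obtain ⟨P₁, hP₁⟩ : MvPolynomial.C c ∣ P := (MvPolynomial.C_dvd_iff_dvd_coeff c P).2 fun i => by
      by_cases hi : i ∈ P.support
      · exact hmin i hi
      · rw [MvPolynomial.notMem_support_iff.1 hi]; exact dvd_zero _
    have h1 : ψ P₁ = 0 := by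
      rw [hP₁, map_mul, show (MvPolynomial.C c : B) = algebraMap O₀ B c from rfl, ψ.commutes] at hP
      exact (mul_eq_zero.1 hP).resolve_left
        ((map_ne_zero_iff _ (FaithfulSMul.algebraMap_injective O₀ A')).2 hc0)
    have h2 : MvPolynomial.map (Ideal.Quotient.mk m) P₁ = 0 := by
      apply hg'inj
      rw [map_zero]
      have := RingHom.congr_fun hred P₁
      rw [RingHom.comp_apply] at this
      exact this.symm.trans ((congrArg _ h1).trans (map_zero _))
    have h3 : MvPolynomial.coeff i₀ P₁ = 1 :=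
      mul_left_cancel₀ hc0 (by rw [mul_one, ← MvPolynomial.coeff_C_mul, ← hP₁])
    have h4 := congrArg (MvPolynomial.coeff i₀) h2
    rw [MvPolynomial.coeff_map, h3, map_one, MvPolynomial.coeff_zero] at h4
    exact one_ne_zero h4
  letI : Algebra B A' := ψ.toRingHom.toAlgebra
  haveI : IsScalarTower O₀ B A' := IsScalarTower.of_algebraMap_eq fun x => (ψ.commutes x).symm
  haveI : FaithfulSMul B A' := (faithfulSMul_iff_algebraMap_injective B A').2 hψ
  haveI : Algebra.FiniteType B A' := Algebra.FiniteType.of_restrictScalars_finiteType O₀ B A'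
  let e0 : B →+* O₀ ⧸ m := (Ideal.Quotient.mk m).comp MvPolynomial.constantCoeff
  have he0 : Function.Surjective e0 :=
    Ideal.Quotient.mk_surjective.comp fun c => ⟨MvPolynomial.C c, MvPolynomial.constantCoeff_C _ c⟩
  let N : Ideal B := RingHom.ker e0
  haveI hN : N.IsMaximal := RingHom.ker_isMaximal_of_surjective e0 he0
  have hGM : ∀ i, G i ∈ M := fun i => by
    have h1 : τ (Ideal.Quotient.mk mA (G i)) = 0 := by rw [hG]; exact hg'X i
    exact Ideal.Quotient.eq_zero_iff_mem.1 h1
  have hMN : M.comap (algebraMap B A') = N := by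
    symm
    refine hN.eq_of_le (Ideal.comap_ne_top _ (inferInstance : M.IsMaximal).ne_top) fun P hP => ?_
    show ψ P ∈ M
    have h1 : Ideal.Quotient.mk M (ψ P) = Ideal.Quotient.mk M (algebraMap O₀ A' (MvPolynomial.constantCoeff P)) := by
      have : (Ideal.Quotient.mk M).comp ψ.toRingHom =
          (Ideal.Quotient.mk M).comp ((algebraMap O₀ A').comp MvPolynomial.constantCoeff) := by
        refine MvPolynomial.ringHom_ext (fun c => ?_) fun i => ?_
        · show Ideal.Quotient.mk M (MvPolynomial.aeval G (MvPolynomial.C c)) = _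
          rw [MvPolynomial.aeval_C, RingHom.comp_apply, RingHom.comp_apply, MvPolynomial.constantCoeff_C]
        · show Ideal.Quotient.mk M (MvPolynomial.aeval G (MvPolynomial.X i)) = _
          rw [MvPolynomial.aeval_X, RingHom.comp_apply, RingHom.comp_apply, MvPolynomial.constantCoeff_X,
            map_zero, map_zero, Ideal.Quotient.eq_zero_iff_mem.2 (hGM i)]
      exact RingHom.congr_fun this P
    rw [← Ideal.Quotient.eq_zero_iff_mem, h1, Ideal.Quotient.eq_zero_iff_mem]
    exact hM (Ideal.mem_map_of_mem _ (Ideal.Quotient.eq_zero_iff_mem.1 hP))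
  -- quasi-finiteness at `M`
  haveI : Algebra.QuasiFiniteAt B M := by
    let J := N.map (algebraMap B A')
    have hmJ : mA ≤ J := by
      rw [hmA, Ideal.map_le_iff_le_comap]
      intro c hc
      have : algebraMap O₀ B c ∈ N := by
        show e0 (MvPolynomial.C c) = 0
        show Ideal.Quotient.mk m (MvPolynomial.constantCoeff (MvPolynomial.C c)) = 0
        rw [MvPolynomial.constantCoeff_C]; exact Ideal.Quotient.eq_zero_iff_mem.2 hc
      show algebraMap O₀ A' c ∈ J
      rw [IsScalarTower.algebraMap_apply O₀ B A']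
      exact Ideal.mem_map_of_mem _ this
    let χ : S₀ →+* A' ⧸ J := Ideal.Quotient.factor hmJ
    letI : Algebra k (A' ⧸ J) := (χ.comp (algebraMap k S₀)).toAlgebra
    have hχ : ∀ (p : MvPolynomial (Fin d) k) (s : S₀),
        χ (g' p * s) = algebraMap k (A' ⧸ J) (MvPolynomial.constantCoeff p) * χ s := by
      intro p s
      rw [map_mul]
      congr 1
      induction p using MvPolynomial.induction_on with
      | C a =>
        rw [MvPolynomial.constantCoeff_C,
          show g' (MvPolynomial.C a) = algebraMap k S₀ a from g'.commutes a]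
        rfl
      | add p q hp hq => rw [map_add, map_add, hp, hq, map_add, map_add]
      | mul_X p i _ =>
        rw [map_mul, map_mul, map_mul, MvPolynomial.constantCoeff_X, mul_zero, map_zero]
        refine mul_eq_zero_of_right _ ?_
        rw [← hG]
        show Ideal.Quotient.mk J (G i) = 0
        rw [Ideal.Quotient.eq_zero_iff_mem,
          show G i = algebraMap B A' (MvPolynomial.X i) from (MvPolynomial.aeval_X G i).symm]
        refine Ideal.mem_map_of_mem _ ?_
        show Ideal.Quotient.mk m (MvPolynomial.constantCoeff (MvPolynomial.X i)) = 0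
        rw [MvPolynomial.constantCoeff_X, map_zero]
    haveI : Module.Finite k (A' ⧸ J) := by
      algebraize [g'.toRingHom]
      haveI : Module.Finite (MvPolynomial (Fin d) k) S₀ := hg'fin
      obtain ⟨T, hT⟩ := (inferInstance : Module.Finite (MvPolynomial (Fin d) k) S₀)
      refine ⟨⟨T.image χ, top_le_iff.1 fun x hxt => ?_⟩⟩
      clear hxt
      obtain ⟨s, rfl⟩ := Ideal.Quotient.factor_surjective hmJ x
      show χ s ∈ _
      have hs : s ∈ Submodule.span (MvPolynomial (Fin d) k) (T : Set S₀) := hT ▸ Submodule.mem_top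
      induction hs using Submodule.span_induction with
      | mem y hy => exact Submodule.subset_span (Finset.mem_coe.2 (Finset.mem_image_of_mem χ hy))
      | zero => rw [map_zero]; exact zero_mem _
      | add y z _ _ hy hz => rw [map_add]; exact add_mem hy hz
      | smul p y _ hy =>
        rw [Algebra.smul_def]
        show χ (g' p * y) ∈ _
        rw [hχ, ← Algebra.smul_def]
        exact Submodule.smul_mem _ _ hy
    haveI : IsArtinianRing (A' ⧸ J) := IsArtinianRing.of_finite k _
    let Mpt : PrimeSpectrum A' := ⟨M, inferInstance⟩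
    refine Algebra.QuasiFiniteAt.of_isOpen_singleton_fiber Mpt ?_
    let F := PrimeSpectrum.comap (algebraMap B A') ⁻¹' {Mpt.comap (algebraMap B A')}
    have hFJ : ∀ Q : F, J ≤ Q.1.asIdeal := fun Q => by
      rw [Ideal.map_le_iff_le_comap, ← hMN]
      exact (congrArg PrimeSpectrum.asIdeal Q.2).ge
    haveI : Finite F := Finite.of_injective
      (fun Q : F => (⟨Q.1.asIdeal.map (Ideal.Quotient.mk J), Ideal.map_isPrime_of_surjective
        Ideal.Quotient.mk_surjective (by rw [Ideal.mk_ker]; exact hFJ Q)⟩ : PrimeSpectrum (A' ⧸ J))) (by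
      intro Q Q' h
      have := congrArg (fun P : PrimeSpectrum (A' ⧸ J) => P.asIdeal.comap (Ideal.Quotient.mk J)) h
      simp only [Ideal.comap_map_mk (hFJ Q), Ideal.comap_map_mk (hFJ Q')] at this
      exact Subtype.ext (PrimeSpectrum.ext this))
    haveI : T1Space F := ⟨fun Q => by
      have hmax : Q.1.asIdeal.IsMaximal := by
        haveI : (Q.1.asIdeal.map (Ideal.Quotient.mk J)).IsPrime := Ideal.map_isPrime_of_surjective
          Ideal.Quotient.mk_surjective (by rw [Ideal.mk_ker]; exact hFJ Q)
        haveI := IsArtinianRing.isMaximal_of_isPrime (Q.1.asIdeal.map (Ideal.Quotient.mk J))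
        rw [← Ideal.comap_map_mk (hFJ Q)]
        exact Ideal.comap_isMaximal_of_surjective _ Ideal.Quotient.mk_surjective
      have : IsClosed ({Q.1} : Set (PrimeSpectrum A')) :=
        (PrimeSpectrum.isClosed_singleton_iff_isMaximal _).2 hmax
      convert this.preimage (continuous_subtype_val : Continuous (Subtype.val : F → _)) using 1
      ext Q'; simp [Subtype.ext_iff]⟩
    exact isOpen_discrete _
  obtain ⟨r, hrM, hrint, hr⟩ := Algebra.zariskisMainProperty_iff.1
    (Algebra.ZariskisMainProperty.of_finiteType (R := B) M)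
  let C := integralClosure B A'
  haveI : IsIntegrallyClosed B := isIntegrallyClosed_mvPolynomial_fin O₀ d
  haveI : FaithfulSMul B C := (faithfulSMul_iff_algebraMap_injective B C).2 fun x y h =>
    hψ (congrArg Subtype.val h)
  -- a nonzero element of `B` in the ideal of `u`
  obtain ⟨n, hn⟩ := hr u
  let a : C := ⟨r ^ n * u, hn⟩
  have ha0 : a ≠ 0 := fun h => mul_ne_zero
    (pow_ne_zero n fun h0 => hrM ((show r = 0 from h0).symm ▸ zero_mem M)) hu (congrArg Subtype.val h)
  obtain ⟨h, hh, hh0⟩ := (Submodule.ne_bot_iff _).1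
    (Ideal.comap_ne_bot_of_integral_mem (R := B) (I := Ideal.span {a}) ha0
      (Ideal.mem_span_singleton_self a) (Algebra.IsIntegral.isIntegral a))
  -- a point of the base avoiding it
  obtain ⟨π₀, hπ₀m, hπ₀0⟩ := (Submodule.ne_bot_iff _).1 hnf
  have hinf : (m : Set O₀).Infinite := by
    refine Set.infinite_of_injective_forall_mem (f := fun j : ℕ => π₀ ^ (j + 1)) ?_
      fun j => Ideal.pow_mem_of_mem _ hπ₀m _ (Nat.succ_pos j)
    have key : ∀ i j : ℕ, i < j → π₀ ^ (i + 1) ≠ π₀ ^ (j + 1) := fun i j hlt h => by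
      have h1 : π₀ ^ (i + 1) * 1 = π₀ ^ (i + 1) * π₀ ^ (j - i) := by
        rw [mul_one, ← pow_add, show i + 1 + (j - i) = j + 1 by omega]; exact h
      have h2 := mul_left_cancel₀ (pow_ne_zero _ hπ₀0) h1
      exact ((IsLocalRing.mem_maximalIdeal _).1 hπ₀m)
        ((isUnit_pow_iff (show j - i ≠ 0 by omega)).1 (h2 ▸ isUnit_one))
    intro i j hij
    rcases lt_trichotomy i j with hl | he | hl
    · exact absurd hij (key i j hl)
    · exact he
    · exact absurd hij.symm (key j i hl)
  obtain ⟨t, ht, hth⟩ : ∃ t : Fin d → O₀, (∀ i, t i ∈ m) ∧ MvPolynomial.eval t h ≠ 0 := by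
    by_contra hne
    push Not at hne
    refine hh0 (MvPolynomial.funext_set (fun _ => (m : Set O₀)) (fun _ => hinf) fun t ht => ?_)
    rw [map_zero]
    exact hne t fun i => ht i trivial
  let q : Ideal B := RingHom.ker (MvPolynomial.eval t)
  have hqN : q ≤ N := fun P hP => by
    show Ideal.Quotient.mk m (MvPolynomial.constantCoeff P) = 0
    have : (Ideal.Quotient.mk m).comp (MvPolynomial.eval t) = e0 := by
      refine MvPolynomial.ringHom_ext (fun c => ?_) fun i => ?_
      · simp [e0]
      · simp [e0, Ideal.Quotient.eq_zero_iff_mem.2 (ht i)]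
    have h2 := RingHom.congr_fun this P
    rw [RingHom.comp_apply, show MvPolynomial.eval t P = 0 from hP, map_zero] at h2
    exact h2.symm
  haveI : q.IsPrime := RingHom.ker_isPrime _
  let MC : Ideal C := M.comap (algebraMap C A')
  haveI : MC.IsPrime := Ideal.IsPrime.comap _
  haveI : MC.LiesOver N := ⟨hMN.symm⟩
  obtain ⟨p₁, hp₁le, hp₁, hp₁q⟩ := Ideal.exists_ideal_le_liesOver_of_le (p := q) (q := N) MC hqN
  have hr' : ∀ x : A', ∃ n, IsIntegral B (r ^ n * x) := hr
  let rC : C := ⟨r, hrint⟩
  have hrp : rC ∉ p₁ := fun hh => hrM (hp₁le hh : rC ∈ MC)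
  have hraise : ∀ {x : A'} {n : ℕ} (hx : IsIntegral B (r ^ n * x)), (⟨_, hx⟩ : C) ∈ p₁ → ∀ j,
      ∃ hx' : IsIntegral B (r ^ (j + n) * x), (⟨_, hx'⟩ : C) ∈ p₁ := by
    intro x n hx hm' j
    have e1 : r ^ (j + n) * x = r ^ j * (r ^ n * x) := by rw [pow_add, mul_assoc]
    have hx' : IsIntegral B (r ^ (j + n) * x) := e1 ▸ (hrint.pow j).mul hx
    refine ⟨hx', ?_⟩
    have : (⟨_, hx'⟩ : C) = rC ^ j * ⟨_, hx⟩ := Subtype.ext (by simpa [rC] using e1)
    rw [this]; exact Ideal.mul_mem_left _ _ hm'
  let P : Ideal A' :=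
    { carrier := {x | ∃ (n : ℕ) (hx : IsIntegral B (r ^ n * x)), (⟨_, hx⟩ : C) ∈ p₁}
      zero_mem' := by
        refine ⟨0, by rw [mul_zero]; exact isIntegral_zero, ?_⟩
        refine (congrArg (· ∈ p₁) (Subtype.ext ?_ : _ = (0 : C))).mpr p₁.zero_mem
        exact mul_zero _
      add_mem' := by
        rintro x y ⟨n₁, h₁, m₁⟩ ⟨n₂, h₂, m₂⟩
        obtain ⟨h₁', m₁'⟩ := hraise h₁ m₁ n₂
        obtain ⟨h₂', m₂'⟩ := hraise h₂ m₂ n₁
        rw [show n₁ + n₂ = n₂ + n₁ from Nat.add_comm _ _] at h₂'
        refine ⟨n₂ + n₁, by rw [mul_add]; exact h₁'.add h₂', ?_⟩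
        have h3 := add_mem m₁' m₂'
        convert h3 using 1
        exact Subtype.ext (by push_cast; rw [show n₁ + n₂ = n₂ + n₁ from Nat.add_comm _ _, mul_add])
      smul_mem' := by
        rintro c x ⟨n₁, h₁, m₁⟩
        obtain ⟨n₂, h₂⟩ := hr' c
        have e1 : r ^ (n₂ + n₁) * (c • x) = (r ^ n₂ * c) * (r ^ n₁ * x) := by rw [smul_eq_mul]; ring
        refine ⟨n₂ + n₁, e1 ▸ h₂.mul h₁, ?_⟩
        convert Ideal.mul_mem_left p₁ ⟨_, h₂⟩ m₁ using 1
        exact Subtype.ext e1 }
  have hmemP : ∀ x : C, (x : A') ∈ P → x ∈ p₁ := by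
    rintro x ⟨n₁, h₁, m₁⟩
    have : (⟨_, h₁⟩ : C) = rC ^ n₁ * x := Subtype.ext (by simp [rC])
    rw [this] at m₁
    exact ((inferInstance : p₁.IsPrime).mem_or_mem m₁).resolve_left
      fun hh => hrp (Ideal.IsPrime.mem_of_pow_mem inferInstance _ hh)
  haveI hP : P.IsPrime := by
    refine ⟨fun htop => ?_, fun {x y} hxy => ?_⟩
    · exact (inferInstance : p₁.IsPrime).ne_top ((Ideal.eq_top_iff_one _).2
        (hmemP 1 (htop ▸ Submodule.mem_top)))
    · obtain ⟨n₁, h₁⟩ := hr' x
      obtain ⟨n₂, h₂⟩ := hr' y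
      have h3 : (⟨_, h₁⟩ : C) * ⟨_, h₂⟩ ∈ p₁ := by
        refine hmemP _ ?_
        show r ^ n₁ * x * (r ^ n₂ * y) ∈ P
        rw [show r ^ n₁ * x * (r ^ n₂ * y) = r ^ n₁ * r ^ n₂ * (x * y) by ring]
        exact P.mul_mem_left _ hxy
      rcases (inferInstance : p₁.IsPrime).mem_or_mem h3 with h4 | h4
      · exact Or.inl ⟨n₁, h₁, h4⟩
      · exact Or.inr ⟨n₂, h₂, h4⟩
  have hPq : P.comap (algebraMap B A') = q := by
    rw [hp₁q.over]
    ext x
    refine ⟨fun hx => hmemP (algebraMap B C x) hx, fun hx => ⟨0, ?_, ?_⟩⟩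
    · simpa using isIntegral_algebraMap
    · convert (show algebraMap B C x ∈ p₁ from hx) using 1
      exact Subtype.ext (by simp)
  refine ⟨P, hP, ?_, ?_, ?_, ?_⟩
  · rintro x ⟨n₁, h₁, m₁⟩
    have : r ^ n₁ * x ∈ M := hp₁le m₁
    exact ((inferInstance : M.IsMaximal).isPrime.mem_or_mem this).resolve_left
      fun hh => hrM (Ideal.IsPrime.mem_of_pow_mem inferInstance _ hh)
  · intro huP
    have haP : a ∈ p₁ := hmemP a (P.mul_mem_left _ huP)
    have : h ∈ q := by
      rw [hp₁q.over]
      exact ((Ideal.span_singleton_le_iff_mem _).2 haP) hh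
    exact hth this
  · refine (Submodule.eq_bot_iff _).2 fun c hc => ?_
    have : algebraMap O₀ B c ∈ q := by
      rw [← hPq, Ideal.mem_comap, ← IsScalarTower.algebraMap_apply]; exact hc
    have h5 : MvPolynomial.eval t (MvPolynomial.C c) = 0 := this
    rwa [MvPolynomial.eval_C] at h5
  · have hint' : ∀ c : C, IsIntegral O₀ (Ideal.Quotient.mk P (c : A')) := by
      intro c
      obtain ⟨F, hFm, hF⟩ := (c.2 : IsIntegral B (c : A'))
      refine ⟨F.map (MvPolynomial.eval t), hFm.map _, ?_⟩
      rw [Polynomial.eval₂_map]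
      have e : (algebraMap O₀ (A' ⧸ P)).comp (MvPolynomial.eval t) =
          (Ideal.Quotient.mk P).comp (algebraMap B A') := by
        refine RingHom.ext fun x => ?_
        have hx : Ideal.Quotient.mk P (algebraMap B A' (x - algebraMap O₀ B (MvPolynomial.eval t x))) = 0 := by
          refine Ideal.Quotient.eq_zero_iff_mem.2 ?_
          show (x - algebraMap O₀ B (MvPolynomial.eval t x)) ∈ P.comap (algebraMap B A')
          rw [hPq]
          show MvPolynomial.eval t (x - MvPolynomial.C (MvPolynomial.eval t x)) = 0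
          rw [map_sub, MvPolynomial.eval_C, sub_self]
        rw [map_sub, map_sub, sub_eq_zero, ← IsScalarTower.algebraMap_apply] at hx
        exact hx.symm
      rw [e, ← Polynomial.hom_eval₂, hF, map_zero]
    intro x
    obtain ⟨n₁, h₁⟩ := hr' x
    refine IsAlgebraic.of_mul (y := Ideal.Quotient.mk P (r ^ n₁)) ?_ ?_ ?_
    · refine mem_nonZeroDivisors_of_ne_zero fun h0 => hrp ?_
      exact hmemP rC (hP.mem_of_pow_mem _ (Ideal.Quotient.eq_zero_iff_mem.1 h0))
    · rw [map_pow]; exact ((hint' rC).pow n₁).isAlgebraic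
    · rw [← map_mul]; exact (hint' ⟨_, h₁⟩).isAlgebraic

end Groth.Agent.H7Flat
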