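import Mathlib.RingTheory.LocalRing.ResidueField.Ideal
import Mathlib.RingTheory.Spectrum.Prime.Topology
import Mathlib.LinearAlgebra.TensorProduct.Basic
import Mathlib.RingTheory.TensorProduct.Basic
import Mathlib.RingTheory.Flat.Basic
import Mathlib.RingTheory.TensorProduct.Free
import Mathlib.Algebra.MvPolynomial.Eval

/-!
# Universal openness can be tested on polynomial base changes: the algebra
-/

set_option autoImplicit false
set_option backward.isDefEq.respectTransparency false

universe u

open TensorProduct PrimeSpectrum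

namespace Groth.Agent.H7Flat

/-- Two field extensions have a common field extension. -/
theorem exists_common_extension (K E F : Type u) [Field K] [Field E] [Field F] [Algebra K E] [Algebra K F] :
    ∃ (Ω : Type u) (_ : Field Ω) (β : E →+* Ω) (δ : F →+* Ω),
      ∀ k, β (algebraMap K E k) = δ (algebraMap K F k) := by
  haveI : Nontrivial (E ⊗[K] F) := (Algebra.TensorProduct.includeRight_injective (R := K) (A := E) (B := F)
    (algebraMap K E).injective).nontrivial
  obtain ⟨m, hm⟩ := Ideal.exists_maximal (E ⊗[K] F)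
  exact ⟨(E ⊗[K] F) ⧸ m, Ideal.Quotient.field m,
    (Ideal.Quotient.mk m).comp Algebra.TensorProduct.includeLeftRingHom,
    (Ideal.Quotient.mk m).comp Algebra.TensorProduct.includeRight.toRingHom,
    fun k => congrArg (Ideal.Quotient.mk m) ((Algebra.TensorProduct.includeRight (R := K) (A := E) (B := F)).commutes k).symm⟩

/-- If all `Spec C[X_1..X_n] → Spec A[X_1..X_n]` are open then `Spec (B ⊗ C) → Spec B` is open. -/
theorem isOpenMap_comap_baseChange {A C : Type u} [CommRing A] [CommRing C] [Algebra A C]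
    (H : ∀ n : ℕ, IsOpenMap (PrimeSpectrum.comap (MvPolynomial.map (σ := ULift.{u} (Fin n)) (algebraMap A C))))
    (B : Type u) [CommRing B] [Algebra A B] :
    IsOpenMap (PrimeSpectrum.comap (algebraMap B (B ⊗[A] C))) := by
  rw [PrimeSpectrum.isTopologicalBasis_basic_opens.isOpenMap_iff]
  rintro _ ⟨z, rfl⟩
  obtain ⟨n, b, c, rfl⟩ : ∃ (n : ℕ) (b : Fin n → B) (c : Fin n → C), z = ∑ i, b i ⊗ₜ[A] c i := by
    obtain ⟨S, hS⟩ := TensorProduct.exists_finset z
    refine ⟨Fintype.card S, fun i => ((Fintype.equivFin S).symm i).1.1,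
      fun i => ((Fintype.equivFin S).symm i).1.2, ?_⟩
    rw [hS, ← Finset.sum_coe_sort]
    exact (Equiv.sum_comp (Fintype.equivFin S).symm (fun s : S => s.1.1 ⊗ₜ[A] s.1.2)).symm
  let σ := ULift.{u} (Fin n)
  let φ : MvPolynomial σ A →+* MvPolynomial σ C := MvPolynomial.map (algebraMap A C)
  let ψ : MvPolynomial σ A →+* B := MvPolynomial.eval₂Hom (algebraMap A B) (fun i => b i.down)
  let g : MvPolynomial σ C →+* B ⊗[A] C :=
    MvPolynomial.eval₂Hom Algebra.TensorProduct.includeRight.toRingHom (fun i => b i.down ⊗ₜ 1)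
  let z' : MvPolynomial σ C := ∑ i : Fin n, MvPolynomial.X (ULift.up i) * MvPolynomial.C (c i)
  have hgz : g z' = ∑ i, b i ⊗ₜ[A] c i := by
    simp only [z', g, map_sum, map_mul, MvPolynomial.coe_eval₂Hom, MvPolynomial.eval₂_X]
    refine Finset.sum_congr rfl fun i _ => ?_
    rw [MvPolynomial.eval₂_C]
    simp
  have hgφ : g.comp φ = (algebraMap B (B ⊗[A] C)).comp ψ := by
    refine MvPolynomial.ringHom_ext (fun a => ?_) (fun i => ?_)
    · simp [g, φ, ψ]
    · simp [g, φ, ψ]
  have himg : PrimeSpectrum.comap (algebraMap B (B ⊗[A] C)) '' (basicOpen (∑ i, b i ⊗ₜ[A] c i) : Set _) =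
      PrimeSpectrum.comap ψ ⁻¹' (PrimeSpectrum.comap φ '' (basicOpen z' : Set _)) := by
    ext q
    constructor
    · rintro ⟨s, hs, rfl⟩
      refine ⟨PrimeSpectrum.comap g s, ?_, ?_⟩
      · show g z' ∉ s.asIdeal
        rw [hgz]; exact hs
      · ext x
        show g (φ x) ∈ s.asIdeal ↔ algebraMap B (B ⊗[A] C) (ψ x) ∈ s.asIdeal
        rw [show g (φ x) = algebraMap B (B ⊗[A] C) (ψ x) from RingHom.congr_fun hgφ x]
    · rintro ⟨w, hw, hwq⟩
      let p := PrimeSpectrum.comap ψ q
      have hpw : p.asIdeal = w.asIdeal.comap φ := congrArg PrimeSpectrum.asIdeal hwq.symm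
      letI : Algebra p.asIdeal.ResidueField q.asIdeal.ResidueField :=
        (Ideal.ResidueField.map p.asIdeal q.asIdeal ψ rfl).toAlgebra
      letI : Algebra p.asIdeal.ResidueField w.asIdeal.ResidueField :=
        (Ideal.ResidueField.map p.asIdeal w.asIdeal φ hpw).toAlgebra
      obtain ⟨Ω, _, β₀, δ₀, hcomm⟩ :=
        exists_common_extension p.asIdeal.ResidueField q.asIdeal.ResidueField w.asIdeal.ResidueField
      let β : B →+* Ω := β₀.comp (algebraMap B _)
      let δ : MvPolynomial σ C →+* Ω := δ₀.comp (algebraMap _ _)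
      have hβδ : ∀ x, β (ψ x) = δ (φ x) := by
        intro x
        simp only [β, δ, RingHom.comp_apply]
        have h1 : algebraMap B q.asIdeal.ResidueField (ψ x) =
            algebraMap p.asIdeal.ResidueField q.asIdeal.ResidueField (algebraMap _ _ x) :=
          (Ideal.ResidueField.map_algebraMap p.asIdeal q.asIdeal ψ rfl x).symm
        have h2 : algebraMap (MvPolynomial σ C) w.asIdeal.ResidueField (φ x) =
            algebraMap p.asIdeal.ResidueField w.asIdeal.ResidueField (algebraMap _ _ x) :=
          (Ideal.ResidueField.map_algebraMap p.asIdeal w.asIdeal φ hpw x).symm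
        rw [h1, h2]
        exact hcomm _
      letI : Algebra A (Ω) := (β.comp (algebraMap A B)).toAlgebra
      let h : B ⊗[A] C →ₐ[A] Ω := Algebra.TensorProduct.lift ⟨β, fun a => rfl⟩
        ⟨δ.comp MvPolynomial.C, fun a => by
          have h3 := hβδ (MvPolynomial.C a)
          simp only [ψ, φ, MvPolynomial.eval₂Hom_C, MvPolynomial.map_C] at h3
          exact h3.symm⟩ (fun _ _ => Commute.all _ _)
      refine ⟨⟨RingHom.ker h.toRingHom, RingHom.ker_isPrime _⟩, ?_, ?_⟩
      · show h (∑ i, b i ⊗ₜ[A] c i) ≠ 0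
        have hz : h (∑ i, b i ⊗ₜ[A] c i) = δ z' := by
          simp only [z', map_sum, map_mul, h, Algebra.TensorProduct.lift_tmul]
          refine Finset.sum_congr rfl fun i _ => ?_
          have h3 := hβδ (MvPolynomial.X (ULift.up i))
          simp only [ψ, φ, MvPolynomial.eval₂Hom_X', MvPolynomial.map_X] at h3
          show β (b i) * δ (MvPolynomial.C (c i)) = _
          rw [h3]
        rw [hz]
        intro h0
        apply hw
        rw [← Ideal.algebraMap_residueField_eq_zero]
        exact δ₀.injective (h0.trans (map_zero δ₀).symm)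
      · ext x
        show h (algebraMap B (B ⊗[A] C) x) = 0 ↔ x ∈ q.asIdeal
        rw [show h (algebraMap B (B ⊗[A] C) x) = β₀ (algebraMap B _ x) by
          simp [h, Algebra.TensorProduct.algebraMap_apply, β], map_eq_zero_iff β₀ β₀.injective,
          Ideal.algebraMap_residueField_eq_zero]
  show IsOpen (PrimeSpectrum.comap (algebraMap B (B ⊗[A] C)) '' (basicOpen (∑ i, b i ⊗ₜ[A] c i) : Set _))
  rw [himg]
  exact (H n _ (basicOpen z').isOpen).preimage (PrimeSpectrum.continuous_comap ψ)

end Groth.Agent.H7Flat
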