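import Groth.Agent.H7Flat.FibreDimGeneric
import Mathlib.RingTheory.Valuation.LocalSubring
import Mathlib.RingTheory.Flat.TorsionFree
import Mathlib.AlgebraicGeometry.Morphisms.Flat
import Mathlib.AlgebraicGeometry.FunctionField

/-!
# Fibre dimensions of flat morphisms under generization (via valuation rings)
-/

set_option autoImplicit false
set_option backward.isDefEq.respectTransparency false
set_option linter.style.haveILetI false

universe u

open CategoryTheory Limits AlgebraicGeometry TopologicalSpace Groth.Agent.H8Props.FieldDim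

namespace Groth.Agent.H7Flat

theorem exists_dvd_all {R ι : Type*} [CommRing R] (hdvd : ∀ a b : R, a ∣ b ∨ b ∣ a) (c : ι → R)
    (s : Finset ι) (hs : s.Nonempty) : ∃ i ∈ s, ∀ j ∈ s, c i ∣ c j := by
  classical
  induction hs using Finset.Nonempty.cons_induction with
  | singleton a => exact ⟨a, by simp, by simp⟩
  | cons a s ha hs ih =>
    obtain ⟨i, hi, hij⟩ := ih
    rcases hdvd (c i) (c a) with h | h
    · refine ⟨i, Finset.mem_cons_of_mem hi, fun j hj => ?_⟩
      rcases Finset.mem_cons.1 hj with rfl | hj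
      · exact h
      · exact hij j hj
    · refine ⟨a, Finset.mem_cons_self _ _, fun j hj => ?_⟩
      rcases Finset.mem_cons.1 hj with rfl | hj
      · exact dvd_rfl
      · exact h.trans (hij j hj)

/-- Over a valuation ring, independence at a prime lifts to the generic fibre of a torsion free algebra. -/
theorem exists_prime_generic_indep {R A : Type u} [CommRing R] [IsDomain R] [CommRing A] [Algebra R A]
    (hdvd : ∀ a b : R, a ∣ b ∨ b ∣ a) (htf : ∀ (r : R) (a : A), r ≠ 0 → algebraMap R A r * a = 0 → a = 0)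
    (Q : Ideal A) [Q.IsPrime] (P : Ideal R) [P.IsPrime] {n : ℕ} (w : Fin n → A)
    (hind : ∀ G : MvPolynomial (Fin n) R, MvPolynomial.aeval w G ∈ Q → ∀ m, MvPolynomial.coeff m G ∈ P) :
    ∃ q : PrimeSpectrum A, ∀ G : MvPolynomial (Fin n) R, MvPolynomial.aeval w G ∈ q.asIdeal → G = 0 := by
  classical
  let M : Submonoid A := (nonZeroDivisors (MvPolynomial (Fin n) R)).map
    (MvPolynomial.aeval w : MvPolynomial (Fin n) R →ₐ[R] A) ⊔ Q.primeCompl
  have h0 : (0 : A) ∉ M := by
    intro h
    obtain ⟨_, ⟨G, hG, rfl⟩, s, hs, hGs⟩ := Submonoid.mem_sup.1 h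
    have hG0 : G ≠ 0 := nonZeroDivisors.ne_zero hG
    have hsupp : G.support.Nonempty := MvPolynomial.support_nonempty.2 hG0
    obtain ⟨i, hi, hdiv⟩ := exists_dvd_all hdvd (fun m => MvPolynomial.coeff m G) G.support hsupp
    have hci : MvPolynomial.coeff i G ≠ 0 := MvPolynomial.mem_support_iff.1 hi
    choose! d hd using hdiv
    let G' : MvPolynomial (Fin n) R := ∑ m ∈ G.support, MvPolynomial.monomial m (d m)
    have hGG' : G = MvPolynomial.C (MvPolynomial.coeff i G) * G' := by
      conv_lhs => rw [G.as_sum]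
      rw [Finset.mul_sum]
      refine Finset.sum_congr rfl fun m hm => ?_
      rw [MvPolynomial.C_mul_monomial, ← hd m hm]
    have hG'i : MvPolynomial.coeff i G' = 1 := by
      have h1 := congrArg (MvPolynomial.coeff i) hGG'
      rw [MvPolynomial.coeff_C_mul] at h1
      exact (mul_right_eq_self₀.1 h1.symm).resolve_right hci
    have h2 : MvPolynomial.aeval w G' * s = 0 := by
      refine htf _ _ hci ?_
      rw [← mul_assoc, ← MvPolynomial.aeval_C (R := R) w, ← map_mul, ← hGG']
      exact hGs
    have h3 : MvPolynomial.aeval w G' ∈ Q :=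
      ((‹Q.IsPrime›).mem_or_mem (h2 ▸ Q.zero_mem : MvPolynomial.aeval w G' * s ∈ Q)).resolve_right hs
    exact (‹P.IsPrime›).one_notMem (hG'i ▸ hind G' h3 i)
  obtain ⟨q, hq, -, hqM⟩ := Ideal.exists_le_prime_disjoint (⊥ : Ideal A) M
    (Set.disjoint_left.2 fun a ha haM => h0 (by rwa [show a = 0 from ha] at haM))
  refine ⟨⟨q, hq⟩, fun G hG => by_contra fun hG0 => ?_⟩
  exact Set.disjoint_left.1 hqM hG
    ((le_sup_left : _ ≤ M) ⟨G, mem_nonZeroDivisors_of_ne_zero hG0, rfl⟩)

variable {X : Scheme.{u}}

/-- Flat over a valuation ring: the special fibre dimension is at most the generic one. -/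
theorem dim_closed_le_dim_generic {R : Type u} [CommRing R] [IsDomain R] [ValuationRing R]
    (f : X ⟶ Spec (CommRingCat.of R)) [LocallyOfFiniteType f] [Flat f] :
    topologicalKrullDim (f.fiber (IsLocalRing.closedPoint R)) ≤
      topologicalKrullDim (f.fiber (genericPoint (Spec (CommRingCat.of R)))) := by
  rw [dim_eq_iSup_cdim]
  refine iSup_le fun u => ?_
  obtain ⟨s, hs, hs'⟩ := exists_trdeg_fiber f u
  rw [hs]
  let S := Spec (CommRingCat.of R)
  let x := f.fiberι (IsLocalRing.closedPoint R) u
  have hx : f x = IsLocalRing.closedPoint R := (f.range_fiberι _).subset (Set.mem_range_self u)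
  obtain ⟨V, hV, hxV, -⟩ := exists_isAffineOpen_mem_and_subset (Set.mem_univ x) (U := (⊤ : X.Opens))
  have hU : IsAffineOpen (⊤ : S.Opens) := isAffineOpen_top S
  have hle : V ≤ f ⁻¹ᵁ (⊤ : S.Opens) := fun _ _ => trivial
  obtain ⟨w, hw⟩ := exists_indep_of_trdeg f hU hV hle x hxV s hs'
  letI := (f.appLE ⊤ V hle).hom.toAlgebra
  haveI : Module.Flat Γ(S, ⊤) Γ(X, V) := f.flat_appLE hU hV hle
  let e : R ≃+* Γ(S, ⊤) := (Scheme.ΓSpecIso (CommRingCat.of R)).symm.commRingCatIsoToRingEquiv
  have hdvd : ∀ a b : Γ(S, ⊤), a ∣ b ∨ b ∣ a := fun a b => by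
    obtain ⟨a, rfl⟩ := e.surjective a
    obtain ⟨b, rfl⟩ := e.surjective b
    exact (ValuationRing.dvd_total a b).imp (map_dvd e) (map_dvd e)
  obtain ⟨q, hq⟩ := exists_prime_generic_indep hdvd
    (fun r a hr h => (IsSMulRegular.of_flat (S := Γ(X, V)) (x := r) (isRegular_of_ne_zero hr).left)
      (show algebraMap Γ(S, ⊤) Γ(X, V) r * a = algebraMap Γ(S, ⊤) Γ(X, V) r * 0 by rw [mul_zero]; exact h))
    (evKer V x hxV) (evKer ⊤ (f x) (hle hxV)) w hw
  have hgen : evKer (⊤ : S.Opens) (genericPoint S) trivial = ⊥ := by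
    rw [eq_bot_iff]
    intro r hr
    obtain ⟨r, rfl⟩ := e.surjective r
    replace hr : S.evaluation ⊤ (genericPoint S) trivial (e r) = 0 := hr
    rw [S.evaluation_eq_zero_iff_notMem_basicOpen] at hr
    rw [Ideal.mem_bot, map_eq_zero_iff _ e.injective]
    by_contra hr0
    refine hr ?_
    show genericPoint S ∈ (Spec (CommRingCat.of R)).basicOpen ((Scheme.ΓSpecIso (CommRingCat.of R)).inv r)
    rw [basicOpen_eq_of_affine, genericPoint_eq_bot_of_affine]
    exact hr0
  refine le_dim_fiber_of_indep f hU hV hle (y := genericPoint S) trivial q (fun r => ?_) s w (fun G hG m => ?_)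
  · rw [hgen, Ideal.mem_bot]
    refine ⟨fun h => ?_, fun h => by rw [h, map_zero]; exact zero_mem _⟩
    refine MvPolynomial.C_eq_zero.1 (hq (MvPolynomial.C r) ?_)
    rw [MvPolynomial.aeval_C]
    exact h
  · rw [hq G hG, MvPolynomial.coeff_zero]
    exact zero_mem _

/-- A specialisation is realised by a valuation ring. -/
theorem exists_spec_valuationRing {S : Scheme.{u}} {y' y : S} (h : y' ⤳ y) :
    ∃ (R : Type u) (_ : CommRing R) (_ : IsDomain R) (_ : ValuationRing R) (g : Spec (CommRingCat.of R) ⟶ S),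
      g (IsLocalRing.closedPoint R) = y ∧ g (genericPoint (Spec (CommRingCat.of R))) = y' := by
  let φ : S.presheaf.stalk y ⟶ S.residueField y' := S.presheaf.stalkSpecializes h ≫ S.residue y'
  obtain ⟨A, hA, hAloc⟩ := IsLocalRing.exists_factor_valuationRing φ.hom
  let ρ : S.presheaf.stalk y ⟶ .of A := CommRingCat.ofHom (φ.hom.codRestrict _ hA)
  refine ⟨A, inferInstance, inferInstance, inferInstance, Spec.map ρ ≫ S.fromSpecStalk y, ?_, ?_⟩
  · rw [Scheme.Hom.comp_apply]
    haveI := hAloc
    rw [show (Spec.map ρ) (IsLocalRing.closedPoint A) = IsLocalRing.closedPoint _ from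
      IsLocalRing.comap_closedPoint (S := A) (φ.hom.codRestrict A.toSubring hA)]
    exact Scheme.fromSpecStalk_closedPoint
  · have w : Spec.map (CommRingCat.ofHom (algebraMap A (S.residueField y'))) ≫ Spec.map ρ ≫ S.fromSpecStalk y =
        S.fromSpecResidueField y' := by
      rw [Scheme.fromSpecResidueField, ← Scheme.SpecMap_stalkSpecializes_fromSpecStalk h]
      simp_rw [← Spec.map_comp_assoc]
      rfl
    have hgen : Spec.map (CommRingCat.ofHom (algebraMap A (S.residueField y'))) (IsLocalRing.closedPoint _) =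
        genericPoint (Spec (CommRingCat.of A)) := by
      rw [genericPoint_eq_bot_of_affine]
      refine PrimeSpectrum.ext ?_
      show Ideal.comap (algebraMap A (S.residueField y')) (IsLocalRing.maximalIdeal _) = ⊥
      rw [IsLocalRing.maximalIdeal_eq_bot, ← RingHom.ker_eq_comap_bot]
      exact (RingHom.injective_iff_ker_eq_bot _).1 Subtype.val_injective
    rw [← hgen, ← Scheme.Hom.comp_apply, w]
    exact Scheme.fromSpecResidueField_apply ..

/-- For a flat morphism the fibre dimension does not drop under generization of the base point. -/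
theorem dim_fiber_le_of_specializes {S : Scheme.{u}} (f : X ⟶ S) [LocallyOfFiniteType f] [Flat f] {y' y : S}
    (h : y' ⤳ y) : topologicalKrullDim (f.fiber y) ≤ topologicalKrullDim (f.fiber y') := by
  obtain ⟨R, _, _, _, g, hg₁, hg₂⟩ := exists_spec_valuationRing h
  subst hg₁ hg₂
  have hc := IsPullback.of_hasPullback f g
  rw [← dim_fiber_baseChange f hc, ← dim_fiber_baseChange f hc]
  exact dim_closed_le_dim_generic (pullback.snd f g)

end Groth.Agent.H7Flat
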