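import Groth.Agent.H7Flat.GenericFibreScheme
import Mathlib.Topology.Connected.TotallyDisconnected
import Mathlib.Topology.GDelta.Basic
import Mathlib.Topology.Separation.Connected
import Mathlib.Topology.Irreducible

/-!
# Fibres near the generic point: nowhere dense sets and components
-/

set_option autoImplicit false
set_option backward.isDefEq.respectTransparency false
set_option linter.style.haveILetI false

universe u

open CategoryTheory AlgebraicGeometry TopologicalSpace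

namespace Groth.Agent.H7Flat.GenericFibre

set_option linter.unusedSectionVars false

variable {X Y : Scheme.{u}} (f : X ⟶ Y) [LocallyOfFiniteType f] [QuasiCompact f] [IrreducibleSpace Y]

theorem fiberι_apply (y : Y) (z : f.fiber y) : f (f.fiberι y z) = y := by
  have : f.fiberι y z ∈ Set.range (f.fiberι y) := ⟨z, rfl⟩
  rwa [f.range_fiberι] at this

theorem exists_fiberι_eq (x : X) : ∃ z : f.fiber (f x), f.fiberι (f x) z = x := by
  have : x ∈ Set.range (f.fiberι (f x)) := by rw [f.range_fiberι]; rfl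
  exact this

theorem exists_fiberι_eq' {y : Y} (x : X) (h : f x = y) : ∃ z : f.fiber y, f.fiberι y z = x := by
  subst h; exact exists_fiberι_eq f x

omit [LocallyOfFiniteType f] in
theorem exists_affine_cover {V : Y.Opens} (hV : IsAffineOpen V) :
    ∃ G : Set X.affineOpens, G.Finite ∧ (∀ W ∈ G, (W : X.affineOpens).1 ≤ f ⁻¹ᵁ V) ∧
      ∀ x, f x ∈ V → ∃ W ∈ G, x ∈ (W : X.affineOpens).1 := by
  obtain ⟨G, hG, hGeq⟩ := (isCompact_iff_finite_and_eq_biUnion_affineOpens (X := X)).1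
    (f.isCompact_preimage hV.isCompact)
  refine ⟨G, hG, fun W hW y hy => ?_, fun x hx => ?_⟩
  · rw [hGeq]
    exact Opens.mem_iSup.2 ⟨W, Opens.mem_iSup.2 ⟨hW, hy⟩⟩
  · have hx' : x ∈ f ⁻¹ᵁ V := hx
    rw [hGeq] at hx'
    obtain ⟨W, hW⟩ := Opens.mem_iSup.1 hx'
    obtain ⟨h, hxW⟩ := Opens.mem_iSup.1 hW
    exact ⟨W, h, hxW⟩

omit [QuasiCompact f] [LocallyOfFiniteType f] in
theorem exists_nhd_of_finite {ι : Type*} {G : Set ι} (hG : G.Finite) {V : Y.Opens} (hη : genericPoint Y ∈ V)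
    (D : ι → Y.Opens) (hD : ∀ i ∈ G, genericPoint Y ∈ D i) :
    ∃ V' : Y.Opens, genericPoint Y ∈ V' ∧ V' ≤ V ∧ ∀ i ∈ G, V' ≤ D i := by
  let V' : Y.Opens := ⟨(V : Set Y) ∩ ⋂ i ∈ G, (D i : Set Y), V.2.inter (hG.isOpen_biInter fun i _ => (D i).2)⟩
  exact ⟨V', ⟨hη, Set.mem_iInter₂.2 hD⟩, fun y hy => hy.1, fun i hi y hy => Set.mem_iInter₂.1 hy.2 i hi⟩

/-- A closed set nowhere dense in the generic fibre is nowhere dense in nearby fibres. -/
theorem exists_opens_isNowhereDense (Z : Set X) (hZ : IsClosed Z)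
    (h : IsNowhereDense (f.fiberι (genericPoint Y) ⁻¹' Z)) :
    ∃ V : Y.Opens, genericPoint Y ∈ V ∧ ∀ y ∈ V, IsNowhereDense (f.fiberι y ⁻¹' Z) := by
  obtain ⟨V, hV, hη, -⟩ := exists_isAffineOpen_mem_and_subset (U := (⊤ : Y.Opens)) (x := genericPoint Y) trivial
  obtain ⟨G, hG, hGle, hGcov⟩ := exists_affine_cover f hV
  have hh : ∀ x, f x = genericPoint Y → ∀ O : Set X, IsOpen O → x ∈ O →
      ∃ x' ∈ O, f x' = genericPoint Y ∧ x' ∉ Z := by
    intro x hx O hO hxO
    by_contra hcon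
    push Not at hcon
    obtain ⟨z, hz⟩ := exists_fiberι_eq' f x hx
    have : z ∈ interior (closure (f.fiberι (genericPoint Y) ⁻¹' Z)) := by
      refine interior_maximal (fun w hw => subset_closure ?_) (hO.preimage (f.fiberι _).continuous)
        (show f.fiberι _ z ∈ O by rw [hz]; exact hxO)
      exact hcon _ hw (fiberι_apply f _ w)
    rw [h] at this
    exact this
  choose! t ht using fun W (hW : W ∈ G) =>
    exists_basicOpen_nowhereDense f hV hη W.2 (hGle W hW) Z hZ fun x _ hx => hh x hx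
  obtain ⟨V', hη', hV'V, hV'⟩ := exists_nhd_of_finite hG hη (fun W => Y.basicOpen (t W)) fun W hW => (ht W hW).1
  refine ⟨V', hη', fun y hy => ?_⟩
  rw [(hZ.preimage (f.fiberι y).continuous).isNowhereDense_iff, Set.eq_empty_iff_forall_notMem]
  intro z hz
  obtain ⟨O, hO, hOeq⟩ := (f.fiberι y).isEmbedding.isInducing.isOpen_iff.1
    (isOpen_interior (s := f.fiberι y ⁻¹' Z))
  have hfz : f (f.fiberι y z) = y := fiberι_apply f y z
  obtain ⟨W, hW, hzW⟩ := hGcov (f.fiberι y z) (by rw [hfz]; exact hV'V hy)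
  obtain ⟨x', hx', hx'y, hx'Z⟩ := (ht W hW).2 _ hzW
    (show z ∈ f.fiberι y ⁻¹' Z from interior_subset hz) (by rw [hfz]; exact hV' W hW hy)
  obtain ⟨z', hz'⟩ := exists_fiberι_eq' f x' (hx'y.trans hfz)
  have h1 : f.fiberι y z ∈ O := hOeq.ge hz
  have h2 : z' ∈ interior (f.fiberι y ⁻¹' Z) := by
    rw [← hOeq]
    show f.fiberι y z' ∈ O
    rw [hz']
    exact hx'.mem_open hO h1
  exact hx'Z (hz' ▸ (interior_subset h2 : z' ∈ f.fiberι y ⁻¹' Z))

/-- Labelled affines near the generic fibre give disjoint nonempty opens in nearby fibres. -/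
theorem exists_opens_labelled {ι κ : Type*} [Finite ι] {V : Y.Opens} (hV : IsAffineOpen V)
    (hη : genericPoint Y ∈ V) (W : ι → X.affineOpens) (hWV : ∀ i, (W i).1 ≤ f ⁻¹ᵁ V) (lab : ι → κ)
    (hne : ∀ i, ∃ x ∈ (W i).1, f x = genericPoint Y)
    (hlab : ∀ i j x, x ∈ (W i).1 → x ∈ (W j).1 → f x = genericPoint Y → lab i = lab j) :
    ∃ V' : Y.Opens, genericPoint Y ∈ V' ∧ V' ≤ V ∧
      (∀ i, ∀ y ∈ V', ∃ x ∈ (W i).1, f x = y) ∧
      (∀ i j x, x ∈ (W i).1 → x ∈ (W j).1 → f x ∈ V' → lab i = lab j) := by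
  choose t ht1 ht2 ht3 using fun i => exists_basicOpen_generization f hV hη (W i).2 (hWV i)
  obtain ⟨V', hη', hV'V, hV'⟩ := exists_nhd_of_finite Set.finite_univ hη (fun i => Y.basicOpen (t i))
    fun i _ => ht1 i
  refine ⟨V', hη', hV'V, fun i y hy => ht3 i (hne i) y (hV' i trivial hy), fun i j x hi hj hx => ?_⟩
  obtain ⟨x', hx'i, hsp, hx'⟩ := ht2 i x hi (hV' i trivial hx)
  exact hlab i j x' hx'i (hsp.mem_open (W j).1.2 hj) hx'

/-- At least as many irreducible components in nearby fibres. -/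
theorem exists_opens_le_encard_irreducibleComponents (n : ℕ)
    (h : (irreducibleComponents (f.fiber (genericPoint Y))).encard = n) :
    ∃ V : Y.Opens, genericPoint Y ∈ V ∧ ∀ y ∈ V, (n : ℕ∞) ≤ (irreducibleComponents (f.fiber y)).encard := by
  obtain ⟨V, hV, hη, -⟩ := exists_isAffineOpen_mem_and_subset (U := (⊤ : Y.Opens)) (x := genericPoint Y) trivial
  set η := genericPoint Y
  have hfin : (irreducibleComponents (f.fiber η)).Finite := Set.finite_of_encard_eq_coe h
  haveI := hfin.to_subtype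
  have key : ∀ C : irreducibleComponents (f.fiber η), ∃ W : X.affineOpens, (W.1 ≤ f ⁻¹ᵁ V) ∧
      (∃ x ∈ W.1, f x = η) ∧ ∀ z, f.fiberι η z ∈ W.1 → ∀ D : irreducibleComponents (f.fiber η), z ∈ D.1 → D = C := by
    intro C
    let U := ⋃ D ∈ irreducibleComponents (f.fiber η) \ {C.1}, D
    have hUc : IsClosed U :=
      (hfin.sdiff).isClosed_biUnion fun D hD => isClosed_of_mem_irreducibleComponents D hD.1
    obtain ⟨z, hzC, hzU⟩ : ∃ z ∈ C.1, z ∉ U := by
      by_contra hcon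
      push Not at hcon
      obtain ⟨D, hD, hCD⟩ := isIrreducible_iff_sUnion_isClosed.1 C.2.1
        (hfin.sdiff (t := {C.1})).toFinset (fun D hD => isClosed_of_mem_irreducibleComponents D
          ((hfin.sdiff (t := {C.1})).mem_toFinset.1 hD).1) (fun z hz => by
          obtain ⟨D, hD, hzD⟩ := Set.mem_iUnion₂.1 (hcon z hz)
          exact Set.mem_sUnion.2 ⟨D, by simpa using hD, hzD⟩)
      have hD' := (hfin.sdiff (t := {C.1})).mem_toFinset.1 hD
      exact hD'.2 (le_antisymm (C.2.2 hD'.1.1 hCD) hCD)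
    obtain ⟨O, hO, hOeq⟩ := (f.fiberι η).isEmbedding.isInducing.isOpen_iff.1 hUc.isOpen_compl
    obtain ⟨W, hW, hzW, hWO⟩ := exists_isAffineOpen_mem_and_subset
      (U := (⟨O, hO⟩ : X.Opens) ⊓ f ⁻¹ᵁ V) (x := f.fiberι η z)
      ⟨hOeq.ge hzU, show f (f.fiberι η z) ∈ V by rw [fiberι_apply]; exact hη⟩
    refine ⟨⟨W, hW⟩, fun x hx => (hWO hx).2, ⟨_, hzW, fiberι_apply f η z⟩, fun w hw D hwD => ?_⟩
    by_contra hne
    have hwU : w ∈ Uᶜ := hOeq.le (hWO hw).1
    exact hwU (Set.mem_biUnion ⟨D.2, fun he => hne (Subtype.ext he)⟩ hwD)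
  choose W hWV hne huniq using key
  obtain ⟨V', hη', -, hsurj, hdisj⟩ := exists_opens_labelled f hV hη W hWV id hne fun C D x hC hD hx => by
    obtain ⟨z, hz⟩ := exists_fiberι_eq' f x hx
    obtain ⟨E, hE, hzE⟩ : ∃ E ∈ irreducibleComponents (f.fiber η), z ∈ E :=
      ⟨irreducibleComponent z, irreducibleComponent_mem_irreducibleComponents z, mem_irreducibleComponent⟩
    exact (huniq C z (hz ▸ hC) ⟨E, hE⟩ hzE).symm.trans (huniq D z (hz ▸ hD) ⟨E, hE⟩ hzE)
  refine ⟨V', hη', fun y hy => ?_⟩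
  choose x hxW hxy using fun C => hsurj C y hy
  choose z hz using fun C => exists_fiberι_eq' f (x C) (hxy C)
  rw [← h, ← ENat.card_coe_set_eq, ← ENat.card_coe_set_eq]
  refine ENat.card_le_card_of_injective
    (f := fun C => (⟨irreducibleComponent (z C), irreducibleComponent_mem_irreducibleComponents _⟩ :
      irreducibleComponents (f.fiber y))) fun C D he => ?_
  have he' : irreducibleComponent (z C) = irreducibleComponent (z D) := congrArg Subtype.val he
  obtain ⟨w, -, hwC, hwD⟩ := (isIrreducible_irreducibleComponent (x := z C)).2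
    (f.fiberι y ⁻¹' ((W C).1 : Set X)) (f.fiberι y ⁻¹' ((W D).1 : Set X))
    ((W C).1.2.preimage (f.fiberι y).continuous) ((W D).1.2.preimage (f.fiberι y).continuous)
    ⟨z C, mem_irreducibleComponent, show f.fiberι y (z C) ∈ (W C).1 by rw [hz]; exact hxW C⟩
    ⟨z D, he' ▸ mem_irreducibleComponent, show f.fiberι y (z D) ∈ (W D).1 by rw [hz]; exact hxW D⟩
  exact hdisj C D _ hwC hwD (by rw [fiberι_apply]; exact hy)

/-- At least as many connected components in nearby fibres. -/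
theorem exists_opens_le_card_connectedComponents (n : ℕ)
    (h : ENat.card (_root_.ConnectedComponents (f.fiber (genericPoint Y))) = n) :
    ∃ V : Y.Opens, genericPoint Y ∈ V ∧
      ∀ y ∈ V, (n : ℕ∞) ≤ ENat.card (_root_.ConnectedComponents (f.fiber y)) := by
  obtain ⟨V, hV, hη, -⟩ := exists_isAffineOpen_mem_and_subset (U := (⊤ : Y.Opens)) (x := genericPoint Y) trivial
  set η := genericPoint Y
  haveI : Finite (_root_.ConnectedComponents (f.fiber η)) := ENat.card_lt_top.1 (h ▸ ENat.natCast_lt_top n)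
  haveI : DiscreteTopology (_root_.ConnectedComponents (f.fiber η)) := inferInstance
  have key : ∀ z : f.fiber η, ∃ W : X.affineOpens, W.1 ≤ f ⁻¹ᵁ V ∧ f.fiberι η z ∈ W.1 ∧
      ∀ w, f.fiberι η w ∈ W.1 → ConnectedComponents.mk w = ConnectedComponents.mk z := by
    intro z
    obtain ⟨O, hO, hOeq⟩ := (f.fiberι η).isEmbedding.isInducing.isOpen_iff.1
      ((isOpen_discrete {ConnectedComponents.mk z}).preimage ConnectedComponents.continuous_coe)
    obtain ⟨W, hW, hzW, hWO⟩ := exists_isAffineOpen_mem_and_subset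
      (U := (⟨O, hO⟩ : X.Opens) ⊓ f ⁻¹ᵁ V) (x := f.fiberι η z)
      ⟨hOeq.ge rfl, show f (f.fiberι η z) ∈ V by rw [fiberι_apply]; exact hη⟩
    exact ⟨⟨W, hW⟩, fun x hx => (hWO hx).2, hzW, fun w hw => hOeq.le (hWO hw).1⟩
  choose W hWV hzW hmk using key
  haveI : CompactSpace (f.fiber η) := inferInstance
  obtain ⟨F, hF⟩ := isCompact_univ.elim_finite_subcover (fun z => f.fiberι η ⁻¹' ((W z).1 : Set X))
    (fun z => (W z).1.2.preimage (f.fiberι η).continuous) fun z _ => Set.mem_iUnion.2 ⟨z, hzW z⟩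
  obtain ⟨V₁, hη₁, hV₁V, hsurj, hdisj⟩ := exists_opens_labelled f hV hη (fun z : F => W z.1) (fun z => hWV z.1)
    (fun z => ConnectedComponents.mk z.1) (fun z => ⟨_, hzW z.1, fiberι_apply f η z.1⟩) fun i j x hi hj hx => by
      obtain ⟨w, hw⟩ := exists_fiberι_eq' f x hx
      exact (hmk i.1 w (hw ▸ hi)).symm.trans (hmk j.1 w (hw ▸ hj))
  let Z : Set X := (⋃ z : F, ((W z.1).1 : Set X))ᶜ
  have hZ : IsClosed Z := (isOpen_iUnion fun z : F => (W z.1).1.2).isClosed_compl
  obtain ⟨G, hG, hGle, hGcov⟩ := exists_affine_cover f hV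
  choose! t ht using fun U (hU : U ∈ G) => exists_basicOpen_disjoint f hV hη U.2 (hGle U hU) Z hZ
    fun x _ hxZ hx => by
      obtain ⟨w, hw⟩ := exists_fiberι_eq' f x hx
      obtain ⟨z, hz, hwz⟩ := Set.mem_iUnion₂.1 (hF (Set.mem_univ w))
      exact hxZ (Set.mem_iUnion.2 ⟨⟨z, hz⟩, hw ▸ hwz⟩)
  obtain ⟨V₂, hη₂, -, hV₂⟩ := exists_nhd_of_finite hG hη (fun U => Y.basicOpen (t U)) fun U hU => (ht U hU).1
  refine ⟨V₁ ⊓ V₂, ⟨hη₁, hη₂⟩, fun y hy => ?_⟩
  have hcov : ∀ w : f.fiber y, ∃ z : F, f.fiberι y w ∈ (W z.1).1 := by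
    intro w
    obtain ⟨U, hU, hwU⟩ := hGcov (f.fiberι y w) (by rw [fiberι_apply]; exact hV₁V hy.1)
    by_contra hcon
    exact (ht U hU).2 _ hwU (fun hw => hcon (Set.mem_iUnion.1 hw)) (by rw [fiberι_apply]; exact hV₂ U hU hy.2)
  choose g hg using hcov
  let lab : f.fiber y → _root_.ConnectedComponents (f.fiber η) := fun w => ConnectedComponents.mk (g w).1
  have hlab : ∀ w (z : F), f.fiberι y w ∈ (W z.1).1 → lab w = ConnectedComponents.mk z.1 := fun w z hw =>
    hdisj (g w) z _ (hg w) hw (by rw [fiberι_apply]; exact hy.1)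
  have hcont : Continuous lab := by
    rw [continuous_discrete_rng]
    intro c
    rw [isOpen_iff_forall_mem_open]
    intro w hw
    refine ⟨f.fiberι y ⁻¹' ((W (g w).1).1 : Set X), fun w' hw' => ?_,
      (W (g w).1).1.2.preimage (f.fiberι y).continuous, hg w⟩
    show lab w' ∈ ({c} : Set _)
    rw [hlab w' (g w) hw']
    exact hw
  rw [← h]
  have hs : Function.Surjective hcont.connectedComponentsLift := by
    intro c
    obtain ⟨z₀, rfl⟩ := ConnectedComponents.surjective_coe c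
    obtain ⟨z, hz, hz₀⟩ := Set.mem_iUnion₂.1 (hF (Set.mem_univ z₀))
    obtain ⟨x, hxW, hxy⟩ := hsurj ⟨z, hz⟩ y hy.1
    obtain ⟨w, hw⟩ := exists_fiberι_eq' f x hxy
    refine ⟨ConnectedComponents.mk w, ?_⟩
    rw [hcont.connectedComponentsLift_apply_coe, hlab w ⟨z, hz⟩ (hw ▸ hxW)]
    exact (hmk z z₀ hz₀).symm
  exact ENat.card_le_card_of_injective (Function.injective_surjInv hs)

end Groth.Agent.H7Flat.GenericFibre
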