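import Groth.Agent.H7Flat.GenericFibreDense
import Groth.Agent.H7Flat.GenericFibreComponents
import Groth.Agent.H7Flat.GenericFlatness
import Groth.Agent.H17.LocusBC
import Groth.Agent.H13AlgSp.EtaleLocally
import Groth.Agent.H8Props.GeometricDescent
import Groth.Agent.H8Props.Reduced
import Groth.Agent.H12AlgSp.LocPCancel
import Groth.Prelude.Def_FDesc

/-!
# Geometrically reduced fibres near the generic point
-/

set_option autoImplicit false
set_option backward.isDefEq.respectTransparency false
set_option linter.style.haveILetI false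

universe u

open CategoryTheory CategoryTheory.Limits AlgebraicGeometry

namespace Groth.Agent.H7Flat.GenericFibre

theorem isLocallyNoetherian_of_field {K : Type u} [Field K] {X : Scheme.{u}}
    (f : X ⟶ Spec (CommRingCat.of K)) [LocallyOfFiniteType f] : IsLocallyNoetherian X :=
  LocallyOfFiniteType.isLocallyNoetherian f

/-- The smooth locus of a geometrically reduced scheme over a field is dense. -/
theorem dense_smoothLocus_of_geometricallyReduced {k : Type u} [Field k] {X : Scheme.{u}}
    (f : X ⟶ Spec (CommRingCat.of k)) [LocallyOfFinitePresentation f] [GeometricallyReduced f] :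
    Dense (f.smoothLocus : Set X) := by
  let K := AlgebraicClosure k
  let b := Spec.map (CommRingCat.ofHom (algebraMap k K))
  have : Surjective b := ⟨fun x => ⟨IsLocalRing.closedPoint _, Subsingleton.elim _ _⟩⟩
  haveI : Flat b := by
    rw [HasRingHomProperty.Spec_iff (P := @Flat)]
    exact RingHom.flat_algebraMap_iff.2 inferInstance
  haveI : IsReduced (pullback f b) :=
    GeometricallyReduced.geometrically_isReduced b _ _ (IsPullback.of_hasPullback f b)
  haveI : Surjective (pullback.fst f b) := MorphismProperty.pullback_fst f b ‹_›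
  haveI : LocallyOfFinitePresentation (pullback.snd f b) := inferInstance
  have hd : Dense ((pullback.snd f b).smoothLocus : Set ↥(pullback f b)) :=
    (pullback.snd f b).dense_smoothLocus_of_perfectField
  rw [dense_iff_inter_open]
  rintro O hO ⟨x, hx⟩
  obtain ⟨x', rfl⟩ := (pullback.fst f b).surjective x
  obtain ⟨z, hzO, hz⟩ := dense_iff_inter_open.1 hd _ (hO.preimage (pullback.fst f b).continuous) ⟨x', hx⟩
  exact ⟨pullback.fst f b z, hzO,
    H17.LocusBC.mem_smoothLocus_of_flat_baseChange (IsPullback.of_hasPullback f b) z hz⟩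

/-- An open subscheme containing the generic fibre's smooth part gives geometrically reduced fibres. -/
theorem exists_opens_geometricallyReduced_of_flat {X Y : Scheme.{u}} (f : X ⟶ Y) [IrreducibleSpace Y]
    [LocallyOfFinitePresentation f] [QuasiCompact f] [Flat f]
    (h : GeometricallyReduced (f.fiberToSpecResidueField (genericPoint Y))) :
    ∃ V : Y.Opens, genericPoint Y ∈ V ∧ ∀ y ∈ V, GeometricallyReduced (f.fiberToSpecResidueField y) := by
  haveI := h
  haveI : ∀ y : Y, LocallyOfFinitePresentation (f.fiberToSpecResidueField y) :=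
    fun y => MorphismProperty.pullback_snd (P := @LocallyOfFinitePresentation) _ _ inferInstance
  set η := genericPoint Y
  haveI : IsReduced (f.fiber η) := GeometricallyReduced.geometrically_isReduced (f := f.fiberToSpecResidueField η)
    (𝟙 _) (𝟙 _) (f.fiberToSpecResidueField η) IsPullback.of_id_fst
  have hd := dense_smoothLocus_of_geometricallyReduced (k := Y.residueField η) (f.fiberToSpecResidueField η)
  haveI : IsDominant (f.fiberι η ⁻¹ᵁ f.smoothLocus).ι := ⟨by
    rw [DenseRange, Scheme.Opens.range_ι]
    refine hd.mono fun z hz => ?_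
    show f.fiberι η z ∈ f.smoothLocus
    have hfz : f (f.fiberι η z) = η := fiberι_apply f η z
    refine H17.LocusBC.mem_smoothLocus_of_flat_of_fiber f _ (Flat.stalkMap f _) ?_
    have key : ∀ y : Y, y = η → ∀ w : f.fiber y, f.fiberι y w = f.fiberι η z →
        w ∈ (f.fiberToSpecResidueField y).smoothLocus := by
      rintro y rfl w hw
      obtain rfl := (f.fiberι η).isEmbedding.injective hw
      exact hz
    exact key _ hfz _ (f.fiberι_asFiber _)⟩
  obtain ⟨V, hV, hdom⟩ := exists_opens_schemeTheoreticallyDominant f f.smoothLocus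
    (IsSchemeTheoreticallyDominant.of_isDominant _)
  refine ⟨V, hV, fun y hy => ⟨fun K _ b Z fst snd sq => ?_⟩⟩
  haveI := hdom y hy
  let O : (f.fiber y).Opens := f.fiberι y ⁻¹ᵁ f.smoothLocus
  haveI : IsLocallyNoetherian (f.fiber y) :=
    isLocallyNoetherian_of_field (K := Y.residueField y) (f.fiberToSpecResidueField y)
  haveI : Flat b := by
    obtain ⟨φ, rfl⟩ := Spec.map_surjective b
    rw [HasRingHomProperty.Spec_iff (P := @Flat)]
    letI := φ.hom.toAlgebra
    exact (show Module.Flat (Y.residueField y) K from inferInstance)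
  haveI : Flat fst := MorphismProperty.of_isPullback sq.flip ‹_›
  haveI : Smooth (O.ι ≫ f.fiberToSpecResidueField y) := by
    have h1 : IsPullback ((O.ι ≫ f.fiberToSpecResidueField y)) (f.fiberι y ∣_ f.smoothLocus)
        (Y.fromSpecResidueField y) (f.smoothLocus.ι ≫ f) :=
      ((isPullback_morphismRestrict (f.fiberι y) f.smoothLocus).paste_vert
        (IsPullback.of_hasPullback f (Y.fromSpecResidueField y))).flip
    exact MorphismProperty.of_isPullback h1.flip (H17.LocusBC.smooth_restrict_smoothLocus f)
  haveI : Smooth (pullback.snd O.ι fst ≫ snd) :=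
    MorphismProperty.of_isPullback ((IsPullback.of_hasPullback O.ι fst).paste_vert sq) ‹_›
  haveI : IsReduced (pullback O.ι fst) := H13AlgSp.isReduced_of_smooth_mor (pullback.snd O.ι fst ≫ snd)
  exact IsSchemeTheoreticallyDominant.isReduced (pullback.snd O.ι fst)

/-- Geometric reducedness spreads from the generic fibre. -/
theorem exists_opens_geometricallyReduced {X Y : Scheme.{u}} (f : X ⟶ Y) [IrreducibleSpace Y]
    [LocallyOfFiniteType f] [QuasiCompact f]
    (h : GeometricallyReduced (f.fiberToSpecResidueField (genericPoint Y))) :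
    ∃ V : Y.Opens, (V : Set Y).Nonempty ∧ GeometricallyReduced (f ∣_ V) := by
  let i := Y.nilradical.subschemeι
  haveI : IsReduced Y.nilradical.subscheme := H8Props.isReduced_nilradical_subscheme Y
  have hsurj : Function.Surjective i := by
    rw [← Set.range_eq_univ, Scheme.IdealSheafData.range_subschemeι, Scheme.support_nilradical]
    rfl
  have hh : IsHomeomorph i.base :=
    (isHomeomorph_iff_isEmbedding_surjective).2 ⟨i.isClosedEmbedding.isEmbedding, hsurj⟩
  haveI : Nonempty Y.nilradical.subscheme :=
    ⟨(hsurj (genericPoint Y)).choose⟩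
  haveI : IrreducibleSpace Y.nilradical.subscheme := hh.homeomorph.isOpenEmbedding.irreducibleSpace
  let f₁ := pullback.snd f i
  obtain ⟨W, hWd, hWf, hWp⟩ := exists_dense_flatLFP f₁
  haveI : Nonempty (W : Set Y.nilradical.subscheme) := hWd.nonempty.to_subtype
  haveI : Nonempty W.toScheme := hWd.nonempty.to_subtype
  haveI : IrreducibleSpace W.toScheme := W.ι.isOpenEmbedding.irreducibleSpace
  have hη : i (W.ι (genericPoint W.toScheme)) = genericPoint Y := by
    rw [AlgebraicGeometry.genericPoint_eq_of_isOpenImmersion]
    exact (IsGenericPoint.eq ((genericPoint_spec Y.nilradical.subscheme).image i.continuous)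
      (by rw [Set.image_univ, hsurj.range_eq, closure_univ]; exact genericPoint_spec Y))
  have hcomp : IsPullback ((f₁ ⁻¹ᵁ W).ι ≫ pullback.fst f i) (f₁ ∣_ W) f (W.ι ≫ i) :=
    (isPullback_morphismRestrict f₁ W).flip.paste_horiz (IsPullback.of_hasPullback f i)
  have hiff : ∀ w : W.toScheme, GeometricallyReduced ((f₁ ∣_ W).fiberToSpecResidueField w) ↔
      GeometricallyReduced (f.fiberToSpecResidueField (i (W.ι w))) := fun w => by
    rw [GeometricallyReduced.eq_geometrically]
    exact H8Props.GeometricDescent.fiber_iff H8Props.GeometricDescent.descends_isReduced f (W.ι ≫ i)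
      (f₁ ∣_ W) _ hcomp w
  obtain ⟨V, hV, hgood⟩ := exists_opens_geometricallyReduced_of_flat (f₁ ∣_ W) ((hiff _).2 (hη.symm ▸ h))
  let O : Y.Opens := ⟨i '' (W.ι '' V), hh.isOpenMap _ (W.ι.isOpenEmbedding.isOpenMap _ V.2)⟩
  refine ⟨O, ⟨_, _, ⟨_, hV, rfl⟩, rfl⟩, ?_⟩
  rw [GeometricallyReduced.eq_geometrically, geometrically_iff_forall_fiberToSpecResidueField]
  rintro ⟨y, -, ⟨w, hw, rfl⟩, rfl⟩
  refine (H8Props.GeometricDescent.fiber_iff H8Props.GeometricDescent.descends_isReduced f O.ι (f ∣_ O) _
    (isPullback_morphismRestrict f O).flip _).2 ?_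
  rw [← GeometricallyReduced.eq_geometrically]
  exact (hiff w).1 (hgood w hw)

end Groth.Agent.H7Flat.GenericFibre
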