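import Groth.Agent.H7Flat.GenericFibre
import Mathlib.AlgebraicGeometry.Morphisms.FiniteType
import Mathlib.AlgebraicGeometry.Fiber

/-!
# Fibres near the generic point: affine charts
-/

set_option autoImplicit false
set_option backward.isDefEq.respectTransparency false
set_option linter.style.haveILetI false

universe u

open CategoryTheory AlgebraicGeometry TopologicalSpace
open scoped TensorProduct

namespace Groth.Agent.H7Flat.GenericFibre

variable {R A : Type u} [CommRing R] [CommRing A] [Algebra R A]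

/-- If no prime containing `J` lies over the generic point, some nonzero `r` is in all of them. -/
theorem exists_forall_mem [IsDomain R] (J : Ideal A)
    (h : ∀ q : PrimeSpectrum A, J ≤ q.asIdeal → q.asIdeal.comap (algebraMap R A) ≠ ⊥) :
    ∃ r : R, r ≠ 0 ∧ ∀ q : PrimeSpectrum A, J ≤ q.asIdeal → algebraMap R A r ∈ q.asIdeal := by
  by_contra hcon
  push Not at hcon
  obtain ⟨Q, hQ, hJQ, hdisj⟩ := Ideal.exists_le_prime_disjoint J ((nonZeroDivisors R).map (algebraMap R A)) (by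
    rw [Set.disjoint_left]
    rintro z hz ⟨r, hr, rfl⟩
    obtain ⟨q, hJq, hrq⟩ := hcon r (nonZeroDivisors.ne_zero hr)
    exact hrq (hJq hz))
  refine h ⟨Q, hQ⟩ hJQ (eq_bot_iff.2 fun r hr => Ideal.mem_bot.2 ?_)
  by_contra hne
  exact Set.disjoint_left.1 hdisj hr ⟨r, mem_nonZeroDivisors_of_ne_zero hne, rfl⟩

/-- In a Noetherian generic fibre a nowhere dense closed set misses the maximal points. -/
theorem exists_notMem_of_interior [IsDomain R] [Algebra.FiniteType R A] (J : Ideal A)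
    (h : ∀ q : PrimeSpectrum A, q.asIdeal.comap (algebraMap R A) = ⊥ → ∀ a : A, a ∉ q.asIdeal →
      ∃ q₂ : PrimeSpectrum A, a ∉ q₂.asIdeal ∧ q₂.asIdeal.comap (algebraMap R A) = ⊥ ∧ ¬ J ≤ q₂.asIdeal)
    (q : PrimeSpectrum A) (hq : q.asIdeal.comap (algebraMap R A) = ⊥) :
    ∃ q' : PrimeSpectrum A, q'.asIdeal ≤ q.asIdeal ∧ q'.asIdeal.comap (algebraMap R A) = ⊥ ∧ ¬ J ≤ q'.asIdeal := by
  classical
  let K := FractionRing R
  haveI : IsNoetherianRing (K ⊗[R] A) := Algebra.FiniteType.isNoetherianRing K _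
  let incl := (Algebra.TensorProduct.includeRight : A →ₐ[R] K ⊗[R] A).toRingHom
  have hfib : ∀ p : PrimeSpectrum A, p.asIdeal.comap (algebraMap R A) = ⊥ →
      ∃ Q : PrimeSpectrum (K ⊗[R] A), Q.asIdeal.comap incl = p.asIdeal := by
    intro p hp
    let lK : K →ₐ[R] p.asIdeal.ResidueField := IsLocalization.liftAlgHom (M := nonZeroDivisors R)
      (f := Algebra.ofId R p.asIdeal.ResidueField) fun r => by
        refine Ne.isUnit fun h => nonZeroDivisors.ne_zero r.2 ?_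
        have h1 : algebraMap A p.asIdeal.ResidueField (algebraMap R A r) = 0 := by
          rw [← IsScalarTower.algebraMap_apply]; exact h
        have h2 : algebraMap R A (r : R) ∈ p.asIdeal :=
          (Ideal.algebraMap_residueField_eq_zero (I := p.asIdeal)).1 h1
        rwa [← Ideal.mem_comap, hp, Ideal.mem_bot] at h2
    let χ : K ⊗[R] A →ₐ[R] p.asIdeal.ResidueField :=
      Algebra.TensorProduct.lift lK (IsScalarTower.toAlgHom R A p.asIdeal.ResidueField) fun _ _ => Commute.all _ _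
    refine ⟨⟨RingHom.ker χ.toRingHom, RingHom.ker_isPrime _⟩, ?_⟩
    ext a
    show χ (1 ⊗ₜ a) = 0 ↔ a ∈ p.asIdeal
    simp [χ, Ideal.algebraMap_residueField_eq_zero]
  have hover : ∀ (Q : Ideal (K ⊗[R] A)), Q.IsPrime → (Q.comap incl).comap (algebraMap R A) = ⊥ := by
    intro Q hQ
    rw [eq_bot_iff]
    intro r hr
    by_contra hne
    have hu : IsUnit (algebraMap R (K ⊗[R] A) r) := by
      rw [IsScalarTower.algebraMap_apply R K (K ⊗[R] A)]
      refine (Ne.isUnit ?_).map _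
      intro h
      exact hne ((IsFractionRing.injective R K) (h.trans (map_zero _).symm))
    refine hQ.ne_top (Ideal.eq_top_of_isUnit_mem _ ?_ hu)
    have h1 : incl (algebraMap R A r) ∈ Q := hr
    rwa [show incl (algebraMap R A r) = algebraMap R (K ⊗[R] A) r from
      (Algebra.TensorProduct.includeRight : A →ₐ[R] K ⊗[R] A).commutes r] at h1
  obtain ⟨Q, hQ⟩ := hfib q hq
  obtain ⟨Qm, hQm, hQmle⟩ := Ideal.exists_minimalPrimes_le (I := (⊥ : Ideal (K ⊗[R] A))) (J := Q.asIdeal) bot_le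
  haveI := hQm.1.1
  refine ⟨⟨Qm.comap incl, inferInstance⟩, (Ideal.comap_mono hQmle).trans hQ.le, hover Qm inferInstance, ?_⟩
  intro hJ
  let S := ((minimalPrimes.finite_of_isNoetherianRing (K ⊗[R] A)).sdiff (t := {Qm})).toFinset
  have hS : ∀ P ∈ S, ∃ a : A, a ∈ P.comap incl ∧ a ∉ Qm.comap incl := by
    intro P hP
    simp only [S, Set.Finite.mem_toFinset, Set.mem_sdiff, Set.mem_singleton_iff] at hP
    by_contra hcon
    push Not at hcon
    haveI := hP.1.1.1
    obtain ⟨Q', hQ'⟩ := hfib ⟨Qm.comap incl, inferInstance⟩ (hover Qm inferInstance)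
    have hloc : ∀ z : K ⊗[R] A, ∃ (a : A) (r : R), r ≠ 0 ∧ algebraMap R (K ⊗[R] A) r * z = incl a := by
      intro z
      induction z with
      | zero => exact ⟨0, 1, one_ne_zero, by simp⟩
      | tmul c a =>
        obtain ⟨⟨n, d⟩, hd⟩ := IsLocalization.surj (nonZeroDivisors R) c
        refine ⟨n • a, d, nonZeroDivisors.ne_zero d.2, ?_⟩
        rw [Algebra.TensorProduct.algebraMap_apply, Algebra.TensorProduct.tmul_mul_tmul, one_mul, mul_comm, hd]
        show _ = (1 : K) ⊗ₜ[R] (n • a)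
        rw [TensorProduct.tmul_smul, TensorProduct.smul_tmul', Algebra.smul_def, mul_one]
      | add x y hx hy =>
        obtain ⟨a, r, hr, hx⟩ := hx
        obtain ⟨b, s, hs, hy⟩ := hy
        refine ⟨s • a + r • b, r * s, mul_ne_zero hr hs, ?_⟩
        rw [map_add]
        show _ = (Algebra.TensorProduct.includeRight : A →ₐ[R] K ⊗[R] A) (s • a) +
          (Algebra.TensorProduct.includeRight : A →ₐ[R] K ⊗[R] A) (r • b)
        rw [map_smul, map_smul, Algebra.smul_def, Algebra.smul_def]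
        change _ = algebraMap R _ s * incl a + algebraMap R _ r * incl b
        rw [← hx, ← hy, map_mul]
        ring
    have hle : P ≤ Qm := by
      intro z hz
      obtain ⟨a, r, hr, har⟩ := hloc z
      have h1 : incl a ∈ P := har ▸ Ideal.mul_mem_left _ _ hz
      have h2 : incl a ∈ Qm := hcon a h1
      rw [← har] at h2
      refine (hQm.1.1.mem_or_mem h2).resolve_left fun h3 => hQm.1.1.ne_top (Ideal.eq_top_of_isUnit_mem _ h3 ?_)
      rw [IsScalarTower.algebraMap_apply R K (K ⊗[R] A)]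
      exact ((Ne.isUnit fun h4 => hr ((IsFractionRing.injective R K) (h4.trans (map_zero _).symm)))).map _
    exact hP.2 (le_antisymm hle (hQm.2 ⟨hP.1.1.1, bot_le⟩ hle))
  choose! a ha hna using hS
  haveI : (Qm.comap incl).IsPrime := inferInstance
  obtain ⟨q₂, hq₂a, hq₂, hJq₂⟩ := h ⟨Qm.comap incl, inferInstance⟩ (hover Qm inferInstance) (∏ P ∈ S, a P)
    (fun hc => by
      obtain ⟨P, hP, hP'⟩ := (‹(Qm.comap incl).IsPrime›).prod_mem_iff.1 hc
      exact hna P hP hP')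
  obtain ⟨Q₂, hQ₂⟩ := hfib q₂ hq₂
  obtain ⟨P, hP, hPle⟩ := Ideal.exists_minimalPrimes_le (I := (⊥ : Ideal (K ⊗[R] A))) (J := Q₂.asIdeal) bot_le
  by_cases hPQ : P = Qm
  · subst hPQ
    exact hJq₂ (hJ.trans ((Ideal.comap_mono hPle).trans hQ₂.le))
  · refine hq₂a (hQ₂.le ?_)
    have hPS : P ∈ S := by
      simp only [S, Set.Finite.mem_toFinset, Set.mem_sdiff, Set.mem_singleton_iff]
      exact ⟨hP, hPQ⟩
    exact hPle (by
      show incl (∏ P ∈ S, a P) ∈ P
      rw [map_prod]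
      exact Ideal.prod_mem _ hPS (ha P hPS))

section Scheme

variable {X Y : Scheme.{u}} (f : X ⟶ Y) [LocallyOfFiniteType f]

open scoped Classical in
/-- Data: the base chart `V` at the generic point and an affine `W` over it, as algebras over a domain. -/
theorem exists_chart [IrreducibleSpace Y] {V : Y.Opens} (hV : IsAffineOpen V) (hη : genericPoint Y ∈ V)
    {W : X.Opens} (hW : IsAffineOpen W) (hWV : W ≤ f ⁻¹ᵁ V) :
    ∃ (R A : Type u) (_ : CommRing R) (_ : IsDomain R) (_ : CommRing A) (_ : Algebra R A)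
      (_ : Algebra.FiniteType R A) (π : Γ(Y, V) →+* R) (_ : Function.Surjective π)
      (φ : PrimeSpectrum A → X) (ψ : PrimeSpectrum R → Y),
      (∀ q, f (φ q) = ψ (PrimeSpectrum.comap (algebraMap R A) q)) ∧
      Set.range φ = W ∧ Topology.IsInducing φ ∧ Set.range ψ = V ∧ Function.Injective ψ ∧
      ψ ⟨⊥, Ideal.isPrime_bot⟩ = genericPoint Y ∧
      (∀ t p, ψ p ∈ Y.basicOpen t ↔ π t ∉ p.asIdeal) := by
  let p₀ := (hV.primeIdealOf ⟨genericPoint Y, hη⟩).asIdeal
  have hp₀ : ∀ p : PrimeSpectrum Γ(Y, V), p₀ ≤ p.asIdeal := by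
    intro p
    have h : genericPoint Y ⤳ hV.fromSpec p := (genericPoint_spec Y).specializes trivial
    have h' : hV.fromSpec (hV.primeIdealOf ⟨genericPoint Y, hη⟩) ⤳ hV.fromSpec p := by
      rw [hV.fromSpec_primeIdealOf]; exact h
    exact (PrimeSpectrum.le_iff_specializes _ p).2 (hV.fromSpec.isOpenEmbedding.isInducing.specializes_iff.1 h')
  let N := p₀.map (f.appLE V W hWV).hom
  letI : Algebra Γ(Y, V) Γ(X, W) := (f.appLE V W hWV).hom.toAlgebra
  haveI : Algebra.FiniteType Γ(Y, V) Γ(X, W) := f.finiteType_appLE hV hW hWV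
  letI : Algebra (Γ(Y, V) ⧸ p₀) (Γ(X, W) ⧸ N) :=
    (Ideal.quotientMap N (f.appLE V W hWV).hom Ideal.le_comap_map).toAlgebra
  haveI : Algebra.FiniteType (Γ(Y, V) ⧸ p₀) (Γ(X, W) ⧸ N) := by
    have h1 : ((Ideal.quotientMap N (f.appLE V W hWV).hom Ideal.le_comap_map).comp (Ideal.Quotient.mk p₀)).FiniteType := by
      rw [Ideal.quotientMap_comp_mk]
      exact (RingHom.FiniteType.of_surjective _ Ideal.Quotient.mk_surjective).comp (f.finiteType_appLE hV hW hWV)
    exact h1.of_comp_finiteType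
  have hN : ∀ q : PrimeSpectrum Γ(X, W), N ≤ q.asIdeal := fun q =>
    Ideal.map_le_iff_le_comap.2 (hp₀ (PrimeSpectrum.comap (f.appLE V W hWV).hom q))
  have hbijN : Set.range (PrimeSpectrum.comap (Ideal.Quotient.mk N)) = Set.univ := by
    rw [range_comap_of_surjective _ _ Ideal.Quotient.mk_surjective, Ideal.mk_ker]
    exact Set.eq_univ_of_forall hN
  have hbij : Set.range (PrimeSpectrum.comap (Ideal.Quotient.mk p₀)) = Set.univ := by
    rw [range_comap_of_surjective _ _ Ideal.Quotient.mk_surjective, Ideal.mk_ker]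
    exact Set.eq_univ_of_forall hp₀
  refine ⟨Γ(Y, V) ⧸ p₀, Γ(X, W) ⧸ N, inferInstance, inferInstance, inferInstance, inferInstance, inferInstance,
    Ideal.Quotient.mk p₀, Ideal.Quotient.mk_surjective,
    fun q => hW.fromSpec (PrimeSpectrum.comap (Ideal.Quotient.mk N) q),
    fun p => hV.fromSpec (PrimeSpectrum.comap (Ideal.Quotient.mk p₀) p), ?_, ?_, ?_, ?_, ?_, ?_, ?_⟩
  · intro q
    have hcomm := IsAffineOpen.SpecMap_appLE_fromSpec f hV hW hWV
    refine (congr($hcomm (PrimeSpectrum.comap (Ideal.Quotient.mk N) q))).symm.trans ?_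
    show hV.fromSpec _ = hV.fromSpec _
    refine congrArg _ ?_
    apply PrimeSpectrum.ext
    ext r
    rfl
  · show Set.range (hW.fromSpec ∘ PrimeSpectrum.comap (Ideal.Quotient.mk N)) = _
    rw [Set.range_comp, hbijN, Set.image_univ, hW.range_fromSpec]
  · exact hW.fromSpec.isOpenEmbedding.isInducing.comp
      (PrimeSpectrum.comap_isInducing_of_surjective _ _ Ideal.Quotient.mk_surjective)
  · show Set.range (hV.fromSpec ∘ PrimeSpectrum.comap (Ideal.Quotient.mk p₀)) = _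
    rw [Set.range_comp, hbij, Set.image_univ, hV.range_fromSpec]
  · exact hV.fromSpec.isOpenEmbedding.injective.comp
      (PrimeSpectrum.comap_injective_of_surjective _ Ideal.Quotient.mk_surjective)
  · refine Eq.trans ?_ (hV.fromSpec_primeIdealOf ⟨genericPoint Y, hη⟩)
    show hV.fromSpec _ = hV.fromSpec _
    refine congrArg _ ?_
    apply PrimeSpectrum.ext
    show Ideal.comap (Ideal.Quotient.mk p₀) ⊥ = p₀
    rw [← RingHom.ker_eq_comap_bot, Ideal.mk_ker]
  · intro t p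
    show PrimeSpectrum.comap (Ideal.Quotient.mk p₀) p ∈ hV.fromSpec ⁻¹ᵁ Y.basicOpen t ↔ _
    rw [hV.fromSpec_preimage_basicOpen]
    rfl

variable [IrreducibleSpace Y] {V : Y.Opens} (hV : IsAffineOpen V) (hη : genericPoint Y ∈ V)
  {W : X.Opens} (hW : IsAffineOpen W) (hWV : W ≤ f ⁻¹ᵁ V)
include hV hη hW hWV

/-- A closed set missing the generic fibre misses nearby fibres. -/
theorem exists_basicOpen_disjoint (Z : Set X) (hZ : IsClosed Z) (h : ∀ x ∈ W, x ∈ Z → f x ≠ genericPoint Y) :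
    ∃ t : Γ(Y, V), genericPoint Y ∈ Y.basicOpen t ∧ ∀ x ∈ W, x ∈ Z → f x ∉ Y.basicOpen t := by
  obtain ⟨R, A, _, _, _, _, _, π, hπ, φ, ψ, hcomm, hφ, hind, -, hψ, hψη, hmem⟩ := exists_chart f hV hη hW hWV
  let J := PrimeSpectrum.vanishingIdeal (φ ⁻¹' Z)
  have hJ : ∀ q : PrimeSpectrum A, J ≤ q.asIdeal ↔ φ q ∈ Z := by
    intro q
    have : q ∈ PrimeSpectrum.zeroLocus (J : Set A) ↔ q ∈ φ ⁻¹' Z := by
      rw [PrimeSpectrum.zeroLocus_vanishingIdeal_eq_closure, (hZ.preimage hind.continuous).closure_eq]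
    exact this
  obtain ⟨r, hr, hrJ⟩ := exists_forall_mem (R := R) J fun q hq hq0 => by
    refine h (φ q) (hφ.le ⟨q, rfl⟩) ((hJ q).1 hq) ?_
    rw [hcomm, ← hψη]
    exact congrArg ψ (PrimeSpectrum.ext hq0)
  obtain ⟨t, rfl⟩ := hπ r
  refine ⟨t, ?_, fun x hx hxZ => ?_⟩
  · rw [← hψη, hmem]
    simpa using hr
  · obtain ⟨q, rfl⟩ := hφ.ge hx
    rw [hcomm, hmem, not_not]
    exact hrJ q ((hJ q).2 hxZ)

/-- Over a neighbourhood of the generic point points generise to the generic fibre, and fibres are nonempty. -/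
theorem exists_basicOpen_generization :
    ∃ t : Γ(Y, V), genericPoint Y ∈ Y.basicOpen t ∧
      (∀ x ∈ W, f x ∈ Y.basicOpen t → ∃ x' ∈ W, x' ⤳ x ∧ f x' = genericPoint Y) ∧
      ((∃ x ∈ W, f x = genericPoint Y) → ∀ y ∈ Y.basicOpen t, ∃ x ∈ W, f x = y) := by
  obtain ⟨R, A, _, _, _, _, _, π, hπ, φ, ψ, hcomm, hφ, hind, hψV, hψ, hψη, hmem⟩ := exists_chart f hV hη hW hWV
  obtain ⟨r, hr, hrg⟩ := exists_generization_surjective (R := R) (A := A)
  obtain ⟨t, rfl⟩ := hπ r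
  obtain ⟨h1, h2⟩ := hrg _ dvd_rfl hr
  refine ⟨t, ?_, fun x hx hxt => ?_, fun ⟨x, hx, hxη⟩ y hy => ?_⟩
  · rw [← hψη, hmem]
    simpa using hr
  · obtain ⟨q, rfl⟩ := hφ.ge hx
    rw [hcomm, hmem] at hxt
    obtain ⟨q', hle, hq'⟩ := h1 q hxt
    refine ⟨φ q', hφ.le ⟨q', rfl⟩, ((PrimeSpectrum.le_iff_specializes q' q).1 hle).map hind.continuous, ?_⟩
    rw [hcomm, ← hψη]
    exact congrArg ψ (PrimeSpectrum.ext hq')
  · obtain ⟨q, rfl⟩ := hφ.ge hx
    obtain ⟨p, rfl⟩ := hψV.ge (Y.basicOpen_le t hy)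
    rw [hmem] at hy
    rw [hcomm, ← hψη] at hxη
    obtain ⟨q', hq'⟩ := h2 ⟨q, congrArg PrimeSpectrum.asIdeal (hψ hxη)⟩ p hy
    exact ⟨φ q', hφ.le ⟨q', rfl⟩, (hcomm q').trans (congrArg ψ (PrimeSpectrum.ext hq'))⟩

/-- A closed set nowhere dense in the generic fibre is nowhere dense in nearby fibres. -/
theorem exists_basicOpen_nowhereDense (Z : Set X) (hZ : IsClosed Z)
    (h : ∀ x ∈ W, f x = genericPoint Y → ∀ O : Set X, IsOpen O → x ∈ O →
      ∃ x' ∈ O, f x' = genericPoint Y ∧ x' ∉ Z) :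
    ∃ t : Γ(Y, V), genericPoint Y ∈ Y.basicOpen t ∧
      ∀ x ∈ W, x ∈ Z → f x ∈ Y.basicOpen t → ∃ x', x' ⤳ x ∧ f x' = f x ∧ x' ∉ Z := by
  obtain ⟨R, A, _, _, _, _, _, π, hπ, φ, ψ, hcomm, hφ, hind, -, hψ, hψη, hmem⟩ := exists_chart f hV hη hW hWV
  let J := PrimeSpectrum.vanishingIdeal (φ ⁻¹' Z)
  have hJ : ∀ q : PrimeSpectrum A, J ≤ q.asIdeal ↔ φ q ∈ Z := by
    intro q
    have : q ∈ PrimeSpectrum.zeroLocus (J : Set A) ↔ q ∈ φ ⁻¹' Z := by
      rw [PrimeSpectrum.zeroLocus_vanishingIdeal_eq_closure, (hZ.preimage hind.continuous).closure_eq]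
    exact this
  obtain ⟨r, hr, hrg⟩ := exists_nowhereDense (R := R) J (exists_notMem_of_interior J fun q hq a ha => by
    obtain ⟨O, hO, hOa⟩ := hind.isOpen_iff.1 (PrimeSpectrum.basicOpen a).isOpen
    have hW' : φ q ∈ W := hφ.le ⟨q, rfl⟩
    have hqη : f (φ q) = genericPoint Y := by
      rw [hcomm, ← hψη]; exact congrArg ψ (PrimeSpectrum.ext hq)
    obtain ⟨x', ⟨hx'O, hx'W⟩, hx'η, hx'Z⟩ := h (φ q) hW' hqη (O ∩ W) (hO.inter W.isOpen)
      ⟨hOa.ge (show a ∉ q.asIdeal from ha), hW'⟩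
    obtain ⟨q₂, rfl⟩ := hφ.ge hx'W
    refine ⟨q₂, (hOa.le hx'O : q₂ ∈ PrimeSpectrum.basicOpen a), ?_, fun hle => hx'Z ((hJ q₂).1 hle)⟩
    rw [hcomm, ← hψη] at hx'η
    exact congrArg PrimeSpectrum.asIdeal (hψ hx'η))
  obtain ⟨t, rfl⟩ := hπ r
  refine ⟨t, ?_, fun x hx hxZ hxt => ?_⟩
  · rw [← hψη, hmem]
    simpa using hr
  · obtain ⟨q, rfl⟩ := hφ.ge hx
    rw [hcomm, hmem] at hxt
    obtain ⟨q₂, hle, heq, hJq₂⟩ := hrg _ dvd_rfl hr q hxt ((hJ q).2 hxZ)
    refine ⟨φ q₂, ((PrimeSpectrum.le_iff_specializes q₂ q).1 hle).map hind.continuous, ?_,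
      fun hz => hJq₂ ((hJ q₂).2 hz)⟩
    rw [hcomm, hcomm]
    exact congrArg ψ (PrimeSpectrum.ext heq)

end Scheme

end Groth.Agent.H7Flat.GenericFibre
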