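import Groth.Agent.H11Val.Dominating
import Mathlib.RingTheory.Nakayama
import Mathlib.RingTheory.FiniteStability
import Mathlib.RingTheory.TensorProduct.Maps
import Mathlib.RingTheory.Flat.Basic
import Mathlib.LinearAlgebra.TensorProduct.Basis
import Mathlib.RingTheory.LocalRing.ResidueField.Ideal

/-!
# Geometric reducedness and generization: algebra

A flat algebra of finite type over a Noetherian ring with geometrically reduced fibre at `p`: the
fibres at generizations are geometrically reduced at the points generizing those over `p`.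
-/

set_option autoImplicit false
set_option linter.style.haveILetI false

universe u

open TensorProduct

namespace Groth.Agent.H7Flat.GeomReduced

/-- The case of a rational point over a discrete valuation ring. -/
theorem exists_annihilator_dvr {R A : Type u} [CommRing R] [CommRing A] [Algebra R A]
    [Algebra.FiniteType R A] [Module.Flat R A] {F : Type u} [Field F] [Algebra R F]
    (W : ValuationSubring F) [IsDiscreteValuationRing W] (hRW : ∀ r, algebraMap R F r ∈ W)
    (p : Ideal R) (hp : ∀ r, r ∈ p ↔ W.valuation (algebraMap R F r) < 1)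
    (χ : A →ₐ[R] F) (hχ : ∀ a, χ a ∈ W)
    (hgeo : ∀ (K : Type u) [Field K] [Algebra R K], RingHom.ker (algebraMap R K) = p →
      IsReduced (K ⊗[R] A))
    (ν : F ⊗[R] A) (hν : IsNilpotent ν) :
    ∃ s : F ⊗[R] A, s * ν = 0 ∧
      Algebra.TensorProduct.lift (AlgHom.id R F) χ (fun _ _ => .all _ _) s ≠ 0 := by
  letI : Algebra R W := ((algebraMap R F).codRestrict W.toSubring hRW).toAlgebra
  let i : W →ₐ[R] F := { W.subtype with commutes' := fun _ => rfl }
  let χ' : A →ₐ[R] W :=
    { χ.toRingHom.codRestrict W.toSubring hχ with commutes' := fun r => Subtype.ext (χ.commutes r) }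
  let ι : W ⊗[R] A →ₐ[R] F ⊗[R] A := Algebra.TensorProduct.map i (AlgHom.id R A)
  have hι : Function.Injective ι :=
    Module.Flat.rTensor_preserves_injective_linearMap (M := A) i.toLinearMap Subtype.val_injective
  let εW : W ⊗[R] A →ₐ[R] W := Algebra.TensorProduct.lift (AlgHom.id R W) χ' (fun _ _ => .all _ _)
  let εF : F ⊗[R] A →ₐ[R] F := Algebra.TensorProduct.lift (AlgHom.id R F) χ (fun _ _ => .all _ _)
  have hεF : εF.comp ι = i.comp εW := by
    refine Algebra.TensorProduct.ext' fun w a => ?_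
    simp [εF, εW, ι, i, χ']
  haveI : IsNoetherianRing (W ⊗[R] A) := Algebra.FiniteType.isNoetherianRing W _
  obtain ⟨π, hπ⟩ := IsDiscreteValuationRing.exists_irreducible W
  -- clear denominators
  obtain ⟨c, hc, t, ht⟩ : ∃ (c : W), c ≠ 0 ∧ ∃ t : W ⊗[R] A, ι t = ((c : F) ⊗ₜ[R] (1 : A)) * ν := by
    clear hν
    induction ν using TensorProduct.induction_on with
    | zero => exact ⟨1, one_ne_zero, 0, by simp⟩
    | tmul x a =>
      obtain ⟨n, d, hd, rfl⟩ := IsFractionRing.div_surjective (A := W) x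
      refine ⟨d, nonZeroDivisors.ne_zero hd, n ⊗ₜ a, ?_⟩
      have hd0 : (d : F) ≠ 0 := fun h => nonZeroDivisors.ne_zero hd (Subtype.ext h)
      show (n : F) ⊗ₜ[R] a = _
      rw [Algebra.TensorProduct.tmul_mul_tmul, one_mul]
      congr 1
      show (n : F) = (d : F) * ((n : F) / (d : F))
      field_simp
    | add x y hx hy =>
      obtain ⟨c, hc, t, ht⟩ := hx
      obtain ⟨d, hd, u, hu⟩ := hy
      refine ⟨c * d, mul_ne_zero hc hd, (d ⊗ₜ 1) * t + (c ⊗ₜ 1) * u, ?_⟩
      rw [map_add, map_mul, map_mul, ht, hu]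
      simp only [ι, i, Algebra.TensorProduct.map_tmul, map_one, mul_add, ← mul_assoc,
        Algebra.TensorProduct.tmul_mul_tmul, mul_one]
      show ((d : F) * (c : F)) ⊗ₜ[R] (1 : A) * x + ((c : F) * (d : F)) ⊗ₜ[R] (1 : A) * y =
        ((c : F) * (d : F)) ⊗ₜ[R] (1 : A) * x + ((c : F) * (d : F)) ⊗ₜ[R] (1 : A) * y
      rw [mul_comm (d : F) (c : F)]
  have htnil : IsNilpotent t := by
    obtain ⟨n, hn⟩ := hν
    refine ⟨n, hι ?_⟩
    rw [map_pow, ht, mul_pow, hn, mul_zero, map_zero]
  let P : Ideal (W ⊗[R] A) := Ideal.span {π ⊗ₜ 1}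
  have hle : nilradical (W ⊗[R] A) ≤ P • nilradical (W ⊗[R] A) := by
    intro x hx
    let k := IsLocalRing.ResidueField W
    have hk : RingHom.ker (algebraMap R k) = p := by
      ext r
      rw [RingHom.mem_ker, hp, IsScalarTower.algebraMap_apply R W k, IsLocalRing.ResidueField.algebraMap_eq,
        IsLocalRing.residue_eq_zero_iff, W.valuation_lt_one_iff]
      rfl
    haveI := hgeo k hk
    let q : W ⊗[R] A →ₐ[R] k ⊗[R] A :=
      Algebra.TensorProduct.map (IsScalarTower.toAlgHom R W k) (AlgHom.id R A)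
    have hqx : q x = 0 := IsNilpotent.eq_zero ((mem_nilradical.1 hx).map q)
    have hker : RingHom.ker q.toRingHom ≤ P := by
      have h1 := Algebra.TensorProduct.rTensor_ker (R := R) (S := R) (C := A)
        (IsScalarTower.toAlgHom R W k) IsLocalRing.residue_surjective
      intro y hy
      have hy' : y ∈ RingHom.ker q := hy
      rw [show RingHom.ker q = _ from h1] at hy'
      refine Ideal.map_le_iff_le_comap.2 ?_ hy'
      intro w hw
      have hw' : w ∈ IsLocalRing.maximalIdeal W := by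
        rw [← IsLocalRing.residue_eq_zero_iff]; exact hw
      rw [hπ.maximalIdeal_eq, Ideal.mem_span_singleton] at hw'
      obtain ⟨v, rfl⟩ := hw'
      refine Ideal.mem_span_singleton.2 ⟨v ⊗ₜ 1, ?_⟩
      simp
    obtain ⟨y, rfl⟩ := Ideal.mem_span_singleton.1 (hker hqx)
    refine Submodule.smul_mem_smul (Ideal.mem_span_singleton_self _) (mem_nilradical.2 ?_)
    obtain ⟨n, hn⟩ := mem_nilradical.1 hx
    refine ⟨n, hι ?_⟩
    have h := congrArg ι hn
    rw [mul_pow, map_mul, map_zero] at h
    rw [map_zero]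
    refine (IsUnit.mul_right_eq_zero ?_).1 h
    rw [map_pow]
    refine IsUnit.pow n ?_
    show IsUnit ((π : F) ⊗ₜ[R] (1 : A))
    exact (isUnit_iff_ne_zero.2 fun h0 => hπ.ne_zero (Subtype.ext h0)).map
      (Algebra.TensorProduct.includeLeftRingHom (R := R) (A := F) (B := A))
  obtain ⟨r, hr, hrn⟩ := Submodule.exists_sub_one_mem_and_smul_eq_zero_of_fg_of_le_smul P
    (nilradical (W ⊗[R] A)) (IsNoetherian.noetherian _) hle
  refine ⟨ι r, ?_, ?_⟩
  · have h := congrArg ι (hrn t (mem_nilradical.2 htnil))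
    rw [smul_eq_mul, map_mul, map_zero, ht, ← mul_assoc, mul_comm (ι r), mul_assoc] at h
    exact (IsUnit.mul_right_eq_zero ((isUnit_iff_ne_zero.2 fun h0 => hc (Subtype.ext h0)).map
      (Algebra.TensorProduct.includeLeftRingHom (R := R) (A := F) (B := A)))).1 h
  · show εF (ι r) ≠ 0
    rw [← AlgHom.comp_apply, hεF, AlgHom.comp_apply]
    intro h0
    have h1 : εW r = 0 := Subtype.ext h0
    obtain ⟨y, hy⟩ := Ideal.mem_span_singleton.1 hr
    have h2 := congrArg εW hy
    rw [map_sub, h1, map_one, zero_sub, map_mul] at h2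
    refine hπ.not_isUnit ?_
    refine IsUnit.of_mul_eq_one (-εW y) ?_
    rw [show εW (π ⊗ₜ 1) = π by simp [εW]] at h2
    rw [mul_neg, ← h2, neg_neg]

/-- Descent of annihilators along an extension of fields. -/
theorem exists_annihilator_descend {L F B : Type u} [Field L] [Field F] [Algebra L F] [CommRing B]
    [Algebra L B] (χ : B →ₐ[L] F) (b : B) (s : F ⊗[L] B) (hs : s * ((1 : F) ⊗ₜ b) = 0)
    (hχ : Algebra.TensorProduct.lift (AlgHom.id L F) χ (fun _ _ => .all _ _) s ≠ 0) :
    ∃ s₀ : B, χ s₀ ≠ 0 ∧ s₀ * b = 0 := by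
  let bs := Module.Basis.ofVectorSpace L F
  obtain ⟨c, rfl⟩ := TensorProduct.eq_repr_basis_left bs s
  rw [Finsupp.sum] at hs hχ
  by_contra hcon
  push Not at hcon
  refine hχ ?_
  have h0 : ∀ i, c i * b = 0 := fun i => by
    have h1 : ∑ j ∈ c.support, bs j ⊗ₜ[L] (c j * b) = 0 := by
      rw [← hs, Finset.sum_mul]
      exact Finset.sum_congr rfl fun j _ => by rw [Algebra.TensorProduct.tmul_mul_tmul, mul_one]
    have h2 := TensorProduct.sum_tmul_basis_left_eq_zero bs (c.mapRange (· * b) (zero_mul b)) (by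
      rw [Finsupp.sum_mapRange_index (fun j => by rw [TensorProduct.tmul_zero])]
      exact h1)
    exact DFunLike.congr_fun h2 i
  rw [map_sum]
  refine Finset.sum_eq_zero fun i _ => ?_
  rw [Algebra.TensorProduct.lift_tmul]
  by_contra hne
  exact hcon (c i) (fun h => hne (by rw [h, mul_zero])) (h0 i)

/-- Finitely many field elements suffice for an element of a base change. -/
theorem exists_finset_mem_range {R A K : Type u} [CommRing R] [CommRing A] [Algebra R A] [Field K]
    [Algebra R K] (ν : K ⊗[R] A) :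
    ∃ S : Finset K, ∀ (L : Type u) [Field L] [Algebra R L] (i : L →ₐ[R] K), (S : Set K) ⊆ Set.range i →
      ν ∈ Set.range (Algebra.TensorProduct.map i (AlgHom.id R A)) := by
  classical
  induction ν using TensorProduct.induction_on with
  | zero => exact ⟨∅, fun L _ _ i _ => ⟨0, map_zero _⟩⟩
  | tmul x a =>
    refine ⟨{x}, fun L _ _ i h => ?_⟩
    obtain ⟨l, rfl⟩ := h (Finset.mem_coe.2 (Finset.mem_singleton_self x))
    exact ⟨l ⊗ₜ a, rfl⟩
  | add x y hx hy =>
    obtain ⟨S, hS⟩ := hx
    obtain ⟨T, hT⟩ := hy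
    refine ⟨S ∪ T, fun L _ _ i h => ?_⟩
    rw [Finset.coe_union, Set.union_subset_iff] at h
    obtain ⟨x', hx'⟩ := hS L i h.1
    obtain ⟨y', hy'⟩ := hT L i h.2
    exact ⟨x' + y', by rw [map_add, hx', hy']⟩

/-- Geometric reducedness passes to generizations. -/
theorem exists_annihilator_of_generization {R A : Type u} [CommRing R] [IsNoetherianRing R]
    [CommRing A] [Algebra R A] [Algebra.FiniteType R A] [Module.Flat R A]
    (q : Ideal A) [q.IsPrime]
    (hgeo : ∀ (K : Type u) [Field K] [Algebra R K],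
      RingHom.ker (algebraMap R K) = q.comap (algebraMap R A) → IsReduced (K ⊗[R] A))
    {K : Type u} [Field K] [Algebra R K] (Q : Ideal (K ⊗[R] A)) [Q.IsPrime]
    (hQ : Q.comap (Algebra.TensorProduct.includeRight : A →ₐ[R] K ⊗[R] A).toRingHom ≤ q)
    (ν : K ⊗[R] A) (hν : IsNilpotent ν) : ∃ s, s ∉ Q ∧ s * ν = 0 := by
  classical
  by_cases hker : RingHom.ker (algebraMap R K) = q.comap (algebraMap R A)
  · haveI := hgeo K hker
    exact ⟨1, fun h => (Ideal.IsPrime.ne_top ‹_›) ((Ideal.eq_top_iff_one _).2 h), by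
      rw [hν.eq_zero, mul_zero]⟩
  obtain ⟨S, hS⟩ := exists_finset_mem_range ν
  let L := Subfield.closure (Set.range (algebraMap R K) ∪ S)
  letI : Algebra R L :=
    ((algebraMap R K).codRestrict L.toSubring fun r => Subfield.subset_closure (Or.inl ⟨r, rfl⟩)).toAlgebra
  let iL : L →ₐ[R] K := { L.subtype with commutes' := fun _ => rfl }
  obtain ⟨ν₀, hν₀⟩ := hS L iL fun x hx => ⟨⟨x, Subfield.subset_closure (Or.inr hx)⟩, rfl⟩
  let j : L ⊗[R] A →ₐ[R] K ⊗[R] A := Algebra.TensorProduct.map iL (AlgHom.id R A)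
  have hj : Function.Injective j :=
    Module.Flat.rTensor_preserves_injective_linearMap (M := A) iL.toLinearMap Subtype.val_injective
  have hν₀nil : IsNilpotent ν₀ := by
    obtain ⟨n, hn⟩ := hν
    exact ⟨n, hj (by rw [map_pow, hν₀, hn, map_zero])⟩
  let Q₀ : Ideal (L ⊗[R] A) := Q.comap j.toRingHom
  haveI : Q₀.IsPrime := inferInstance
  let F := Q₀.ResidueField
  let ψ : L ⊗[R] A →ₐ[R] F := IsScalarTower.toAlgHom R (L ⊗[R] A) F
  let χ : A →ₐ[R] F := ψ.comp Algebra.TensorProduct.includeRight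
  have hχker : ∀ a : A, χ a = 0 → a ∈ q := fun a ha => by
    refine hQ ?_
    have h1 : (1 : L) ⊗ₜ[R] a ∈ Q₀ := (Ideal.algebraMap_residueField_eq_zero).1 ha
    show (1 : K) ⊗ₜ[R] a ∈ Q
    simpa [Q₀, j] using h1
  let J : Ideal A := RingHom.ker χ.toRingHom
  haveI : J.IsPrime := RingHom.ker_isPrime _
  letI : Algebra (A ⧸ J) F := (RingHom.kerLift χ.toRingHom).toAlgebra
  haveI : IsNoetherianRing A := Algebra.FiniteType.isNoetherianRing R A
  have hJq : J ≤ q := fun a ha => hχker a ha
  haveI : (q.map (Ideal.Quotient.mk J)).IsPrime :=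
    Ideal.map_isPrime_of_surjective Ideal.Quotient.mk_surjective (by rwa [Ideal.mk_ker])
  have hne : q.map (Ideal.Quotient.mk J) ≠ ⊥ := by
    intro hbot
    refine hker ?_
    ext r
    rw [RingHom.mem_ker, Ideal.mem_comap]
    have hi : χ (algebraMap R A r) = 0 ↔ algebraMap R K r = 0 := by
      rw [χ.commutes, IsScalarTower.algebraMap_apply R L F,
        map_eq_zero_iff _ (algebraMap L F).injective]
      exact ⟨fun h => congrArg Subtype.val h, fun h => Subtype.ext h⟩
    refine ⟨fun h => hJq (hi.2 h), fun h => hi.1 ?_⟩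
    exact (Submodule.eq_bot_iff _).1 hbot _ (Ideal.mem_map_of_mem _ h) |> Ideal.Quotient.eq_zero_iff_mem.1
  let S' : Finset F := S.attach.image fun x => ψ (⟨x.1, Subfield.subset_closure (Or.inr x.2)⟩ ⊗ₜ 1)
  have hgen : Subfield.closure (Set.range (algebraMap (A ⧸ J) F) ∪ S') = ⊤ := by
    let M := Subfield.closure (Set.range (algebraMap (A ⧸ J) F) ∪ S')
    have hA : ∀ a : A, χ a ∈ M := fun a => Subfield.subset_closure (Or.inl ⟨Ideal.Quotient.mk J a, rfl⟩)
    let φ : L →+* F := algebraMap L F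
    have hLsub : ∀ l : L, φ l ∈ M := by
      rintro ⟨x, hx⟩
      induction hx using Subfield.closure_induction with
      | mem y hy =>
        rcases hy with ⟨r, rfl⟩ | hy
        · have : χ (algebraMap R A r) ∈ M := hA _
          rw [χ.commutes, IsScalarTower.algebraMap_apply R L F] at this
          exact this
        · refine Subfield.subset_closure (Or.inr ?_)
          exact Finset.mem_coe.2 (Finset.mem_image.2 ⟨⟨y, hy⟩, Finset.mem_attach _ _, rfl⟩)
      | one => exact (map_one φ).symm ▸ one_mem M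
      | add y z hy hz iy iz =>
        have e : φ ⟨y + z, add_mem hy hz⟩ = φ ⟨y, hy⟩ + φ ⟨z, hz⟩ := by rw [← map_add]; rfl
        exact e ▸ add_mem iy iz
      | neg y hy iy =>
        have e : φ ⟨-y, neg_mem hy⟩ = -φ ⟨y, hy⟩ := by rw [← map_neg]; rfl
        exact e ▸ neg_mem iy
      | inv y hy iy =>
        have e : φ ⟨y⁻¹, inv_mem hy⟩ = (φ ⟨y, hy⟩)⁻¹ := by rw [← map_inv₀]; rfl
        exact e ▸ inv_mem iy
      | mul y z hy hz iy iz =>
        have e : φ ⟨y * z, mul_mem hy hz⟩ = φ ⟨y, hy⟩ * φ ⟨z, hz⟩ := by rw [← map_mul]; rfl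
        exact e ▸ mul_mem iy iz
    have hmem : ∀ z : L ⊗[R] A, ψ z ∈ M := fun z => by
      induction z using TensorProduct.induction_on with
      | zero => rw [map_zero]; exact zero_mem _
      | add y z hy hz => rw [map_add]; exact add_mem hy hz
      | tmul l a =>
        have e : ψ (l ⊗ₜ a) = φ l * χ a := by
          rw [show l ⊗ₜ[R] a = (l ⊗ₜ[R] (1 : A)) * ((1 : L) ⊗ₜ[R] a) by simp, map_mul]
          rfl
        rw [e]
        exact mul_mem (hLsub l) (hA a)
    refine top_unique fun x _ => ?_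
    obtain ⟨n, d, -, rfl⟩ := IsFractionRing.div_surjective (A := (L ⊗[R] A) ⧸ Q₀) x
    obtain ⟨n, rfl⟩ := Ideal.Quotient.mk_surjective n
    obtain ⟨d, rfl⟩ := Ideal.Quotient.mk_surjective d
    exact div_mem (hmem n) (hmem d)
  obtain ⟨W, hW, hWA⟩ := H11Val.exists_dvr_center (A := A ⧸ J) F (RingHom.kerLift_injective _) S' hgen
    (q.map (Ideal.Quotient.mk J)) hne
  haveI := hW
  have hmemq : ∀ a, W.valuation (χ a) < 1 ↔ a ∈ q := fun a => by
    refine ((hWA (Ideal.Quotient.mk J a)).2).symm.trans ?_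
    rw [← Ideal.mem_comap, Ideal.comap_map_of_surjective _ Ideal.Quotient.mk_surjective,
      ← RingHom.ker_eq_comap_bot, Ideal.mk_ker, sup_eq_left.2 hJq]
  obtain ⟨s, hs, hsε⟩ := exists_annihilator_dvr (A := A) W
    (fun r => by rw [← χ.commutes]; exact (hWA (Ideal.Quotient.mk J _)).1)
    (q.comap (algebraMap R A)) (fun r => by rw [← χ.commutes]; exact (hmemq _).symm) χ
    (fun a => (hWA (Ideal.Quotient.mk J a)).1) hgeo
    (Algebra.TensorProduct.map (IsScalarTower.toAlgHom R L F) (AlgHom.id R A) ν₀) (hν₀nil.map _)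
  let e := Algebra.TensorProduct.cancelBaseChange R L F F A
  have he : e ((1 : F) ⊗ₜ[L] ν₀) =
      Algebra.TensorProduct.map (IsScalarTower.toAlgHom R L F) (AlgHom.id R A) ν₀ := by
    clear hν₀ hν₀nil hs
    induction ν₀ using TensorProduct.induction_on with
    | zero => simp
    | tmul l a =>
      rw [Algebra.TensorProduct.cancelBaseChange_tmul, Algebra.TensorProduct.map_tmul,
        Algebra.smul_def, mul_one]
      rfl
    | add y z hy hz => rw [TensorProduct.tmul_add, map_add, map_add, hy, hz]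
  obtain ⟨s', rfl⟩ := e.surjective s
  let ψL : L ⊗[R] A →ₐ[L] F := IsScalarTower.toAlgHom L (L ⊗[R] A) F
  obtain ⟨s₀, hs₀, hs₀ν⟩ := exists_annihilator_descend (L := L) (F := F) ψL ν₀ s'
    (e.injective (by rw [map_mul, he, hs, map_zero])) (by
      convert hsε using 1
      clear hs hsε
      induction s' using TensorProduct.induction_on with
      | zero => simp
      | tmul f z =>
        induction z using TensorProduct.induction_on with
        | zero => simp
        | tmul l a =>
          rw [Algebra.TensorProduct.cancelBaseChange_tmul, Algebra.TensorProduct.lift_tmul,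
            Algebra.TensorProduct.lift_tmul]
          show f * ψ (l ⊗ₜ a) = (l • f) * χ a
          rw [show l ⊗ₜ[R] a = (l ⊗ₜ[R] (1 : A)) * ((1 : L) ⊗ₜ[R] a) by simp, map_mul, Algebra.smul_def,
            ← mul_assoc, mul_comm f]
          rfl
        | add y z hy hz => rw [TensorProduct.tmul_add, map_add, map_add, map_add, hy, hz]
      | add y z hy hz => rw [map_add, map_add, map_add, hy, hz])
  refine ⟨j s₀, fun h => hs₀ ((Ideal.algebraMap_residueField_eq_zero).2 (show s₀ ∈ Q₀ from h)), ?_⟩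
  rw [← hν₀, ← map_mul, hs₀ν, map_zero]

end Groth.Agent.H7Flat.GeomReduced
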