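import Groth.Agent.H7Flat.GeomReducedConstructible
import Groth.Agent.H7Flat.GeomReducedGenerization
import Groth.Agent.H13Flat.Algebra

/-!
# Geometrically reduced fibres of a proper flat morphism form an open set
-/

set_option autoImplicit false
set_option backward.isDefEq.respectTransparency false
set_option linter.style.haveILetI false

universe u

open CategoryTheory Limits AlgebraicGeometry TopologicalSpace Topology
open scoped TensorProduct

namespace Groth.Agent.H7Flat.GeomReduced

/-- A local ring of a ring is reduced when nilpotents are killed off the prime. -/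
theorem isReduced_localization_of_forall {B : Type u} [CommRing B] (Q : Ideal B) [Q.IsPrime]
    (S : Type u) [CommRing S] [Algebra B S] [IsLocalization.AtPrime S Q]
    (h : ∀ ν : B, IsNilpotent ν → ∃ s, s ∉ Q ∧ s * ν = 0) : _root_.IsReduced S := by
  refine ⟨fun x hx => ?_⟩
  obtain ⟨⟨b, d⟩, hbd⟩ := IsLocalization.surj Q.primeCompl x
  obtain ⟨n, hn⟩ := hx
  have h1 : algebraMap B S (b ^ n) = 0 := by rw [map_pow, ← hbd, mul_pow, hn, zero_mul]
  obtain ⟨m, hm⟩ := (IsLocalization.map_eq_zero_iff Q.primeCompl S _).1 h1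
  have hnil : IsNilpotent ((m : B) * b) := ⟨n + 1, by
    rw [show ((m : B) * b) ^ (n + 1) = (m : B) ^ n * b * ((m : B) * b ^ n) by ring, hm, mul_zero]⟩
  obtain ⟨s, hs, hsb⟩ := h _ hnil
  have h2 : algebraMap B S b = 0 :=
    (IsLocalization.map_eq_zero_iff Q.primeCompl S _).2
      ⟨⟨s * m, Q.primeCompl.mul_mem hs m.2⟩, by rw [← hsb]; ring⟩
  rw [h2] at hbd
  exact (IsUnit.mul_left_eq_zero (IsLocalization.map_units S d)).1 hbd

/-- The chart of a base change to a field. -/
theorem exists_chart {X Y : Scheme.{u}} (f : X ⟶ Y) {U : Y.Opens} (hU : IsAffineOpen U)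
    {W : X.Opens} (hW : IsAffineOpen W) (e : W ≤ f ⁻¹ᵁ U) (K : Type u) [Field K]
    [Algebra Γ(Y, U) K] :
    letI := (f.appLE U W e).hom.toAlgebra
    ∃ j : Spec (CommRingCat.of (K ⊗[Γ(Y, U)] Γ(X, W))) ⟶
        pullback f (Spec.map (CommRingCat.ofHom (algebraMap Γ(Y, U) K)) ≫ hU.fromSpec),
      IsOpenImmersion j ∧
      Set.range j = pullback.fst f (Spec.map (CommRingCat.ofHom (algebraMap Γ(Y, U) K)) ≫ hU.fromSpec) ⁻¹' (W : Set X) ∧
      ∀ Q, pullback.fst f (Spec.map (CommRingCat.ofHom (algebraMap Γ(Y, U) K)) ≫ hU.fromSpec) (j Q) =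
        hW.fromSpec (PrimeSpectrum.comap (Algebra.TensorProduct.includeRight :
          Γ(X, W) →ₐ[Γ(Y, U)] K ⊗[Γ(Y, U)] Γ(X, W)).toRingHom Q) := by
  letI := (f.appLE U W e).hom.toAlgebra
  let a := Spec.map (CommRingCat.ofHom (algebraMap Γ(Y, U) K))
  let g₁ := Spec.map (CommRingCat.ofHom (algebraMap Γ(Y, U) Γ(X, W)))
  let m : pullback g₁ a ⟶ pullback f (a ≫ hU.fromSpec) :=
    pullback.map g₁ a f (a ≫ hU.fromSpec) hW.fromSpec (𝟙 _) hU.fromSpec
      (IsAffineOpen.SpecMap_appLE_fromSpec f hU hW e) (Category.id_comp _).symm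
  let i := (pullbackSpecIso Γ(Y, U) K Γ(X, W)).symm ≪≫ pullbackSymmetry a g₁
  refine ⟨i.hom ≫ m, inferInstance, ?_, fun Q => ?_⟩
  · rw [Scheme.Hom.comp_base, TopCat.coe_comp, Set.range_comp,
      Set.range_eq_univ.2 i.hom.surjective, Set.image_univ]
    refine (Scheme.Pullback.range_map ..).trans ?_
    ext z
    constructor
    · rintro ⟨h1, -⟩
      exact hW.range_fromSpec.le h1
    · exact fun h1 => ⟨hW.range_fromSpec.ge h1, _, rfl⟩
  · rw [← Scheme.Hom.comp_apply, Category.assoc, pullback.lift_fst, Iso.trans_hom, Iso.symm_hom,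
      Category.assoc, pullbackSymmetry_hom_comp_fst_assoc, pullbackSpecIso_inv_snd_assoc]
    rfl

/-- Base change through a model over a smaller ring. -/
theorem exists_baseChange_equiv {R₀ R A A₀ : Type u} [CommRing R₀] [CommRing R] [Algebra R₀ R]
    [CommRing A₀] [Algebra R₀ A₀] [CommRing A] [Algebra R A] (ε : R ⊗[R₀] A₀ ≃ₐ[R] A)
    (M : Type u) [Field M] [Algebra R M] [Algebra R₀ M] [IsScalarTower R₀ R M] :
    ∃ E : M ⊗[R₀] A₀ ≃ₐ[M] M ⊗[R] A,
      ∀ a, E ((1 : M) ⊗ₜ[R₀] a) = (1 : M) ⊗ₜ[R] ε ((1 : R) ⊗ₜ[R₀] a) :=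
  ⟨(Algebra.TensorProduct.cancelBaseChange R₀ R M M A₀).symm.trans
    (Algebra.TensorProduct.congr AlgEquiv.refl ε), fun a => by simp⟩

/-- Geometric reducedness of fibres passes to generizations for proper flat morphisms. -/
theorem stableUnderGeneralization {X Y : Scheme.{u}} (f : X ⟶ Y) [Flat f] [IsProper f]
    [LocallyOfFinitePresentation f] :
    StableUnderGeneralization {y : Y | GeometricallyReduced (f.fiberToSpecResidueField y)} := by
  intro y y' hyy' hy
  refine (geometricallyReduced_fiber_iff f y').2 fun K _ a ha => ?_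
  haveI : ∀ z : ↥(pullback f a), _root_.IsReduced ((pullback f a).presheaf.stalk z) := fun z => by
    have hfz : f (pullback.fst f a z) = y' := by
      rw [← Scheme.Hom.comp_apply, pullback.condition, Scheme.Hom.comp_apply, ← ha]
      exact congrArg a (Subsingleton.elim (α := PrimeSpectrum K) _ _)
    obtain ⟨x, hx, rfl⟩ : ∃ x, pullback.fst f a z ⤳ x ∧ f x = y := by
      obtain ⟨x, hx, hfx⟩ := (f.isClosedMap _ (isClosed_closure (s := {pullback.fst f a z}))).closure_subset_iff.2
        (Set.singleton_subset_iff.2 ⟨_, subset_closure rfl, hfz⟩) (specializes_iff_mem_closure.1 hyy')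
      exact ⟨x, specializes_iff_mem_closure.2 hx, hfx⟩
    obtain ⟨U, hU, hxU, -⟩ := exists_isAffineOpen_mem_and_subset (U := (⊤ : Y.Opens)) (x := f x) trivial
    obtain ⟨W, hW, hxW, hWU⟩ := exists_isAffineOpen_mem_and_subset (U := f ⁻¹ᵁ U) (x := x) hxU
    have e : W ≤ f ⁻¹ᵁ U := hWU
    obtain ⟨α, rfl⟩ : ∃ α : Γ(Y, U) ⟶ CommRingCat.of K, Spec.map α ≫ hU.fromSpec = a := by
      obtain ⟨α, hα⟩ := Spec.map_surjective (IsOpenImmersion.lift hU.fromSpec a (by
        rintro _ ⟨w, rfl⟩
        rw [hU.range_fromSpec, Subsingleton.elim (α := PrimeSpectrum K) w (IsLocalRing.closedPoint K), ha]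
        exact hyy'.mem_open U.2 hxU))
      exact ⟨α, by rw [hα, IsOpenImmersion.lift_fac]⟩
    letI := α.hom.toAlgebra
    letI := (f.appLE U W e).hom.toAlgebra
    obtain ⟨j, hj, hjr, hjQ⟩ := exists_chart f hU hW e K
    obtain ⟨Q, rfl⟩ : z ∈ Set.range j := hjr.ge (hx.mem_open W.2 hxW)
    haveI := hj
    suffices h : _root_.IsReduced
        ((Spec (CommRingCat.of (K ⊗[Γ(Y, U)] Γ(X, W)))).presheaf.stalk Q) from
      isReduced_of_injective (asIso (j.stalkMap Q)).commRingCatIsoToRingEquiv.toRingHom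
        (asIso (j.stalkMap Q)).commRingCatIsoToRingEquiv.injective
    let B := CommRingCat.of (K ⊗[Γ(Y, U)] Γ(X, W))
    letI : Algebra B ((Spec B).presheaf.stalk Q) := StructureSheaf.stalkAlgebra B Q
    haveI : IsLocalization.AtPrime ((Spec B).presheaf.stalk Q) (Q : PrimeSpectrum B).asIdeal :=
      StructureSheaf.IsLocalization.to_stalk B Q
    refine isReduced_localization_of_forall (Q : PrimeSpectrum B).asIdeal _ fun ν hν => ?_
    haveI : Algebra.FinitePresentation Γ(Y, U) Γ(X, W) := f.finitePresentation_appLE hU hW e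
    haveI : Module.Flat Γ(Y, U) Γ(X, W) := (HasRingHomProperty.appLE @Flat f ‹_› ⟨U, hU⟩ ⟨W, hW⟩ e :)
    obtain ⟨R₀, hR₀, A₀, _, _, hfp, hflat, ⟨ε⟩⟩ := H13Flat.exists_flat_stage Γ(Y, U) Γ(X, W)
    haveI : IsNoetherianRing R₀ := by
      haveI := R₀.fg_iff_finiteType.1 hR₀
      exact Algebra.FiniteType.isNoetherianRing ℤ R₀
    obtain ⟨EK, hEK⟩ := exists_baseChange_equiv ε K
    let g₀ : A₀ →ₐ[R₀] Γ(X, W) :=
      (ε.toAlgHom.restrictScalars R₀).comp Algebra.TensorProduct.includeRight
    let qx := hW.primeIdealOf ⟨x, hxW⟩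
    obtain ⟨s, hs, hsν⟩ := exists_annihilator_of_generization (R := R₀) (A := A₀)
      (qx.asIdeal.comap g₀.toRingHom) (K := K) (fun L _ _ hL => by
        let p := (hU.primeIdealOf ⟨f x, hxU⟩).asIdeal
        have hp : qx.asIdeal.comap (algebraMap Γ(Y, U) Γ(X, W)) = p := by
          refine congrArg PrimeSpectrum.asIdeal (hU.fromSpec.isOpenEmbedding.injective
            (a₁ := Spec.map (f.appLE U W e) qx) ?_)
          rw [← Scheme.Hom.comp_apply, IsAffineOpen.SpecMap_appLE_fromSpec f hU hW e,
            Scheme.Hom.comp_apply, hW.fromSpec_primeIdealOf, hU.fromSpec_primeIdealOf]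
        haveI : p.IsPrime := (hU.primeIdealOf ⟨f x, hxU⟩).isPrime
        have hp₀ : RingHom.ker (algebraMap R₀ L) = p.comap (algebraMap R₀ Γ(Y, U)) := by
          rw [hL, ← hp, Ideal.comap_comap, Ideal.comap_comap]
          congr 1
          exact RingHom.ext fun r => (g₀.commutes r).trans (IsScalarTower.algebraMap_apply R₀ Γ(Y, U) Γ(X, W) r)
        let p₀ := p.comap (algebraMap R₀ Γ(Y, U))
        let φ : p₀.ResidueField →+* L := Ideal.ResidueField.lift p₀ (algebraMap R₀ L) hp₀.ge
          (fun r hr => isUnit_iff_ne_zero.2 fun h0 => hr (hp₀.le h0))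
        let ψ : p₀.ResidueField →+* p.ResidueField :=
          Ideal.ResidueField.map p₀ p (algebraMap R₀ Γ(Y, U)) rfl
        obtain ⟨M, _, aL, bP, hab⟩ := H8Props.GeometricDescent.exists_compositum φ ψ
        letI : Algebra Γ(Y, U) M := (bP.comp (algebraMap Γ(Y, U) p.ResidueField)).toAlgebra
        letI : Algebra R₀ M := ((algebraMap Γ(Y, U) M).comp (algebraMap R₀ Γ(Y, U))).toAlgebra
        haveI : IsScalarTower R₀ Γ(Y, U) M := IsScalarTower.of_algebraMap_eq fun _ => rfl
        let i : L →ₐ[R₀] M :=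
          { aL with
            commutes' := fun r => by
              have h := RingHom.congr_fun hab (algebraMap R₀ p₀.ResidueField r)
              rw [RingHom.comp_apply, RingHom.comp_apply] at h
              show aL (algebraMap R₀ L r) = bP (algebraMap Γ(Y, U) p.ResidueField (algebraMap R₀ Γ(Y, U) r))
              convert h using 2
              · exact (Ideal.ResidueField.lift_algebraMap _ _ _ _ r).symm
              · exact (Ideal.ResidueField.map_algebraMap ..).symm }
        haveI : IsReduced (pullback f (Spec.map (CommRingCat.ofHom (algebraMap Γ(Y, U) M)) ≫ hU.fromSpec)) :=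
          (geometricallyReduced_fiber_iff f (f x)).1 hy M _ (by
            rw [Scheme.Hom.comp_apply]
            have hm : Spec.map (CommRingCat.ofHom (algebraMap Γ(Y, U) M)) (IsLocalRing.closedPoint M) =
                hU.primeIdealOf ⟨f x, hxU⟩ := by
              refine PrimeSpectrum.ext ?_
              show (IsLocalRing.maximalIdeal M).comap (bP.comp (algebraMap Γ(Y, U) p.ResidueField)) = p
              rw [← Ideal.comap_comap, (Ideal.eq_bot_or_top _).resolve_right (IsLocalRing.maximalIdeal.isMaximal M).ne_top,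
                ← RingHom.ker_eq_comap_bot, (RingHom.injective_iff_ker_eq_bot _).1 bP.injective,
                ← RingHom.ker_eq_comap_bot, Ideal.ker_algebraMap_residueField]
            exact (congrArg (fun t => hU.fromSpec t) hm).trans (hU.fromSpec_primeIdealOf _))
        obtain ⟨j', hj', -, -⟩ := exists_chart f hU hW e M
        haveI := hj'
        haveI : _root_.IsReduced (M ⊗[Γ(Y, U)] Γ(X, W)) :=
          (affine_isReduced_iff _).1 (isReduced_of_isOpenImmersion j')
        haveI : _root_.IsReduced (M ⊗[R₀] A₀) := isReduced_of_injective (exists_baseChange_equiv ε M).choose.toRingEquiv.toRingHom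
            (exists_baseChange_equiv ε M).choose.injective
        exact isReduced_of_injective (Algebra.TensorProduct.map i (AlgHom.id R₀ A₀)).toRingHom
          (Module.Flat.rTensor_preserves_injective_linearMap (M := A₀) i.toLinearMap aL.injective))
      ((Q : PrimeSpectrum B).asIdeal.comap EK.toRingEquiv.toRingHom) (by
        intro a ha
        have ha' : EK ((1 : K) ⊗ₜ a) ∈ (Q : PrimeSpectrum B).asIdeal := ha
        rw [hEK] at ha'
        have hsp : (PrimeSpectrum.comap (Algebra.TensorProduct.includeRight :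
            Γ(X, W) →ₐ[Γ(Y, U)] K ⊗[Γ(Y, U)] Γ(X, W)).toRingHom Q) ⤳ qx := by
          refine hW.fromSpec.isEmbedding.specializes_iff.1 ?_
          rw [← hjQ, hW.fromSpec_primeIdealOf]
          exact hx
        exact (PrimeSpectrum.le_iff_specializes _ _).2 hsp ha')
      (EK.symm ν) (hν.map _)
    refine ⟨EK s, hs, ?_⟩
    rw [← EK.apply_symm_apply ν, ← map_mul, hsν, map_zero]
  exact isReduced_of_isReduced_stalk _

/-- The geometrically reduced fibres of a proper flat morphism of finite presentation form an open set. -/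
theorem isOpen_geometricallyReduced {X Y : Scheme.{u}} (f : X ⟶ Y) [Flat f] [IsProper f]
    [LocallyOfFinitePresentation f] :
    IsOpen {y : Y | GeometricallyReduced (f.fiberToSpecResidueField y)} := by
  refine isOpen_iff_forall_mem_open.2 fun s hs => ?_
  obtain ⟨U, hU, hsU, -⟩ := exists_isAffineOpen_mem_and_subset (Set.mem_univ s) (U := (⊤ : Y.Opens))
  let E := {y : Y | GeometricallyReduced (f.fiberToSpecResidueField y)}
  have h1 : IsConstructible (hU.fromSpec ⁻¹' E) :=
    ((isLocallyConstructible_geometricallyReduced f).preimage_of_isOpenEmbedding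
      hU.fromSpec.isOpenEmbedding).isConstructible
  have h2 : StableUnderGeneralization (hU.fromSpec ⁻¹' E) :=
    fun a b hab ha => stableUnderGeneralization f (hab.map hU.fromSpec.continuous) ha
  refine ⟨hU.fromSpec '' (hU.fromSpec ⁻¹' E), Set.image_preimage_subset _ _,
    hU.fromSpec.isOpenEmbedding.isOpenMap _ (PrimeSpectrum.isOpen_of_stableUnderGeneralization_of_isConstructible h2 h1), ?_⟩
  obtain ⟨p, rfl⟩ := hU.range_fromSpec.ge hsU
  exact ⟨p, hs, rfl⟩

end Groth.Agent.H7Flat.GeomReduced
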