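import Groth.Agent.H7Flat.PushoutPairs
import Mathlib.AlgebraicGeometry.Morphisms.Integral
import Mathlib.CategoryTheory.Category.Preorder

/-!
# Gluing pushouts along closed immersions from adapted pairs
-/

set_option autoImplicit false
set_option backward.isDefEq.respectTransparency false
set_option backward.defeqAttrib.useBackward true
set_option linter.style.haveILetI false

universe u

open CategoryTheory AlgebraicGeometry Limits TopologicalSpace Opposite

namespace Groth.Agent.H7Flat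

/-- Two morphisms agreeing on open immersions covering the source agree. -/
theorem hom_ext_local {A B : Scheme.{u}} {f g : A ⟶ B}
    (h : ∀ x : A, ∃ (C : Scheme.{u}) (α : C ⟶ A), IsOpenImmersion α ∧ x ∈ Set.range α ∧ α ≫ f = α ≫ g) :
    f = g := by
  refine Scheme.hom_ext_of_forall _ _ fun x => ?_
  obtain ⟨C, α, hα, hx, he⟩ := h x
  refine ⟨α.opensRange, hx, ?_⟩
  rw [← cancel_epi α.isoOpensRange.hom]
  simpa using he

/-- Gluing along a directed family of open immersions. -/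
theorem exists_glue {S T : Scheme.{u}} {I : Type u} (C : I → Scheme.{u}) (f : ∀ a, C a ⟶ S)
    [∀ a, IsOpenImmersion (f a)] (g : ∀ a, C a ⟶ T) (hsurj : ∀ x, ∃ a, x ∈ Set.range (f a))
    (dir : ∀ a b x, x ∈ Set.range (f a) → x ∈ Set.range (f b) → ∃ (c : I) (u : C c ⟶ C a) (v : C c ⟶ C b),
      u ≫ f a = f c ∧ v ≫ f b = f c ∧ u ≫ g a = g c ∧ v ≫ g b = g c ∧ x ∈ Set.range (f c)) :
    ∃ m : S ⟶ T, ∀ a, f a ≫ m = g a := by
  let 𝒰 : S.OpenCover :=
    { I₀ := I
      X := C
      f := f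
      mem₀ := by
        rw [Scheme.presieve₀_mem_precoverage_iff]
        exact ⟨hsurj, inferInstance⟩ }
  have compat : ∀ a b, pullback.fst (f a) (f b) ≫ g a = pullback.snd (f a) (f b) ≫ g b := by
    intro a b
    refine hom_ext_local fun x => ?_
    obtain ⟨c, u, v, hu, hv, hgu, hgv, y, hy⟩ :=
      dir a b ((pullback.fst (f a) (f b) ≫ f a) x) ⟨_, rfl⟩
        (by rw [pullback.condition]; exact ⟨_, rfl⟩)
    let α := pullback.lift u v (hu.trans hv.symm)
    haveI h1 : IsOpenImmersion (α ≫ pullback.fst (f a) (f b) ≫ f a) := by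
      rw [pullback.lift_fst_assoc, hu]; infer_instance
    haveI : IsOpenImmersion α := IsOpenImmersion.of_comp α (pullback.fst (f a) (f b) ≫ f a)
    refine ⟨C c, α, inferInstance, ⟨y, ?_⟩, ?_⟩
    · apply (pullback.fst (f a) (f b) ≫ f a).isOpenEmbedding.injective
      rw [← hy, ← Scheme.Hom.comp_apply, pullback.lift_fst_assoc, hu]
    · rw [pullback.lift_fst_assoc, pullback.lift_snd_assoc, hgu, hgv]
  exact ⟨𝒰.glueMorphisms g compat, fun a => 𝒰.ι_glueMorphisms g compat a⟩

variable {X Y Z : Scheme.{u}} (i : Z ⟶ X) (j : Z ⟶ Y) [IsClosedImmersion i]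

/-- The diagram of the charts. -/
noncomputable def chartFunctor : AP i j ⥤ Scheme.{u} where
  obj π := Spec (CommRingCat.of π.R)
  map h := sm (AP.res (leOfHom h))
  map_id π := by
    refine (congrArg sm (AP.res_refl π)).trans ?_
    exact Spec.map_id _
  map_comp h h' := (AP.sm_res_comp (leOfHom h) (leOfHom h')).symm

instance instIsOpenImmersionChartFunctor {π π' : AP i j} (h : π' ⟶ π) :
    IsOpenImmersion ((chartFunctor i j).map h) :=
  AP.isOpenImmersion_res (leOfHom h)

instance instIsLocallyDirectedChartFunctor : (chartFunctor i j ⋙ Scheme.forget).IsLocallyDirected where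
  cond {π₁ π₂ π} f₁ f₂ r₁ r₂ heq := by
    change sm (AP.res (leOfHom f₁)) r₁ = sm (AP.res (leOfHom f₂)) r₂ at heq
    obtain ⟨e₁, he₁, hle₁⟩ := AP.exists_basic_le (leOfHom f₁) r₁
    obtain ⟨e₂, he₂, hle₂⟩ := AP.exists_basic_le (leOfHom f₂) r₂
    have hle : ∀ {π' : AP i j} (d : π.R), (d = e₁ ∨ d = e₂) → π.basic d ≤ π' → π.basic (e₁ * e₂) ≤ π' := by
      intro π' d hd hd'
      refine le_trans ⟨?_, ?_⟩ hd'
      · show X.basicOpen (π.pa (e₁ * e₂)) ≤ X.basicOpen (π.pa d)
        rw [map_mul, Scheme.basicOpen_mul]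
        rcases hd with rfl | rfl
        · exact inf_le_left
        · exact inf_le_right
      · show Y.basicOpen (π.pb (e₁ * e₂)) ≤ Y.basicOpen (π.pb d)
        rw [map_mul, Scheme.basicOpen_mul]
        rcases hd with rfl | rfl
        · exact inf_le_left
        · exact inf_le_right
    have h₁ := hle e₁ (Or.inl rfl) hle₁
    have h₂ := hle e₂ (Or.inr rfl) hle₂
    obtain ⟨r₀, hr₀⟩ : sm (AP.res (leOfHom f₁)) r₁ ∈
        Set.range (sm (AP.res (π.basic_le (e₁ * e₂)))) := by
      rw [AP.range_res_basic, PrimeSpectrum.basicOpen_mul]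
      exact ⟨he₁, heq ▸ he₂⟩
    refine ⟨π.basic (e₁ * e₂), homOfLE h₁, homOfLE h₂, r₀, ?_, ?_⟩
    · show sm (AP.res h₁) r₀ = r₁
      haveI := AP.isOpenImmersion_res (leOfHom f₁)
      apply (sm (AP.res (leOfHom f₁))).isOpenEmbedding.injective
      rw [← hr₀, ← Scheme.Hom.comp_apply, AP.sm_res_comp]
    · show sm (AP.res h₂) r₀ = r₂
      haveI := AP.isOpenImmersion_res (leOfHom f₂)
      apply (sm (AP.res (leOfHom f₂))).isOpenEmbedding.injective
      rw [← heq, ← hr₀, ← Scheme.Hom.comp_apply, AP.sm_res_comp]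

/-- The glued pushout. -/
noncomputable def glued : Scheme.{u} := colimit (chartFunctor i j)

/-- The charts of the glued pushout. -/
noncomputable def chart (π : AP i j) : Spec (CommRingCat.of π.R) ⟶ glued i j :=
  colimit.ι (chartFunctor i j) π

instance (π : AP i j) : IsOpenImmersion (chart i j π) :=
  inferInstanceAs (IsOpenImmersion (colimit.ι (chartFunctor i j) π))

theorem chart_res {π π' : AP i j} (h : π ≤ π') : sm (AP.res h) ≫ chart i j π' = chart i j π :=
  colimit.w (chartFunctor i j) (homOfLE h)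

theorem chart_jointly_surjective (x : glued i j) : ∃ π r, chart i j π r = x :=
  Scheme.IsLocallyDirected.ι_jointly_surjective (chartFunctor i j) x

theorem chart_eq_iff {π π' : AP i j} {r : PrimeSpectrum π.R} {r' : PrimeSpectrum π'.R} :
    chart i j π r = chart i j π' r' ↔
      ∃ (π₀ : AP i j) (h : π₀ ≤ π) (h' : π₀ ≤ π') (r₀ : PrimeSpectrum π₀.R),
        sm (AP.res h) r₀ = r ∧ sm (AP.res h') r₀ = r' := by
  refine (Scheme.IsLocallyDirected.ι_eq_ι_iff (chartFunctor i j)).trans ⟨?_, ?_⟩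
  · rintro ⟨k, fi, fj, x, hx⟩; exact ⟨k, leOfHom fi, leOfHom fj, x, hx⟩
  · rintro ⟨k, fi, fj, x, hx⟩; exact ⟨k, homOfLE fi, homOfLE fj, x, hx⟩

variable {i j}

/-- The point in a chart on the `X`-side lies in the preimage of an inner pair. -/
theorem AP.mem_U_of_chart_eq {π π' : AP i j} {α : PrimeSpectrum Γ(X, π'.U)} {r : PrimeSpectrum π.R}
    (h : chart i j π' (PrimeSpectrum.comap π'.pa α) = chart i j π r) : π'.hU.fromSpec α ∈ π.U := by
  obtain ⟨π₀, h', h₀, r₀, hr', -⟩ := (chart_eq_iff i j).1 h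
  obtain ⟨e, he, hle⟩ := AP.exists_basic_le h' r₀
  rw [hr'] at he
  refine (hle.trans h₀).1 ?_
  have : α ∈ PrimeSpectrum.basicOpen (π'.pa e) := he
  rwa [← π'.hU.fromSpec_preimage_basicOpen] at this

/-- The point in a chart on the `Y`-side lies in the preimage of an inner pair. -/
theorem AP.mem_V_of_chart_eq {π π' : AP i j} {β : PrimeSpectrum Γ(Y, π'.V)} {r : PrimeSpectrum π.R}
    (h : chart i j π' (PrimeSpectrum.comap π'.pb β) = chart i j π r) : π'.hV.fromSpec β ∈ π.V := by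
  obtain ⟨π₀, h', h₀, r₀, hr', -⟩ := (chart_eq_iff i j).1 h
  obtain ⟨e, he, hle⟩ := AP.exists_basic_le h' r₀
  rw [hr'] at he
  refine (hle.trans h₀).2 ?_
  have : β ∈ PrimeSpectrum.basicOpen (π'.pb e) := he
  rwa [← π'.hV.fromSpec_preimage_basicOpen] at this

theorem AP.exists_mem_U (hcov : ∀ y : Y, ∃ π : AP i j, y ∈ π.V) (x : X) : ∃ π : AP i j, x ∈ π.U := by
  by_cases hx : x ∈ Set.range i
  · obtain ⟨z, rfl⟩ := hx
    obtain ⟨π, hπ⟩ := hcov (j z)
    exact ⟨π, (π.hUV.ge hπ : z ∈ i ⁻¹ᵁ π.U)⟩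
  · obtain ⟨U, hU, hxU, hle⟩ := exists_isAffineOpen_mem_and_subset
      (U := ⟨(Set.range i)ᶜ, i.isClosedEmbedding.isClosed_range.isOpen_compl⟩) hx
    refine ⟨⟨U, ⊥, hU, isAffineOpen_bot Y, ?_⟩, hxU⟩
    ext z
    exact ⟨fun hz => absurd ⟨z, rfl⟩ (hle hz), fun hz => hz.elim⟩

theorem AP.exists_le_le_U (π π' : AP i j) {x : X} (hx : x ∈ π.U) (hx' : x ∈ π'.U) :
    ∃ π₀ : AP i j, π₀ ≤ π ∧ π₀ ≤ π' ∧ x ∈ π₀.U := by
  obtain ⟨α, rfl⟩ := π.hU.range_fromSpec.ge hx
  obtain ⟨e, he, hU, hV⟩ := π.exists_basic_of_opens π'.U π'.V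
    (fun z _ => iff_of_eq (congrArg (z ∈ ·) π'.hUV)) (PrimeSpectrum.comap π.pa α) (Or.inl ⟨α, hx', rfl⟩)
  refine ⟨π.basic e, π.basic_le e, ⟨hU, hV⟩, ?_⟩
  have : α ∈ PrimeSpectrum.basicOpen (π.pa e) := he
  rwa [← π.hU.fromSpec_preimage_basicOpen] at this

theorem AP.exists_le_le_V (π π' : AP i j) {y : Y} (hy : y ∈ π.V) (hy' : y ∈ π'.V) :
    ∃ π₀ : AP i j, π₀ ≤ π ∧ π₀ ≤ π' ∧ y ∈ π₀.V := by
  obtain ⟨β, rfl⟩ := π.hV.range_fromSpec.ge hy
  obtain ⟨e, he, hU, hV⟩ := π.exists_basic_of_opens π'.U π'.V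
    (fun z _ => iff_of_eq (congrArg (z ∈ ·) π'.hUV)) (PrimeSpectrum.comap π.pb β) (Or.inr ⟨β, hy', rfl⟩)
  refine ⟨π.basic e, π.basic_le e, ⟨hU, hV⟩, ?_⟩
  have : β ∈ PrimeSpectrum.basicOpen (π.pb e) := he
  rwa [← π.hV.fromSpec_preimage_basicOpen] at this

variable (hcov : ∀ y : Y, ∃ π : AP i j, y ∈ π.V)
include hcov

theorem exists_glueX {T : Scheme.{u}} (g : ∀ π : AP i j, Spec Γ(X, π.U) ⟶ T)
    (hg : ∀ (π π' : AP i j) (h : π ≤ π'), sm (AP.resX h) ≫ g π' = g π) :
    ∃ m : X ⟶ T, ∀ π : AP i j, π.hU.fromSpec ≫ m = g π := by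
  refine exists_glue _ _ g (fun x => ?_) (fun π π' x hx hx' => ?_)
  · obtain ⟨π, hπ⟩ := AP.exists_mem_U hcov x
    exact ⟨π, π.hU.range_fromSpec.ge hπ⟩
  · obtain ⟨π₀, h, h', hx₀⟩ := AP.exists_le_le_U π π' (π.hU.range_fromSpec.le hx) (π'.hU.range_fromSpec.le hx')
    exact ⟨π₀, sm (AP.resX h), sm (AP.resX h'), AP.fromSpec_resX h, AP.fromSpec_resX h',
      hg _ _ h, hg _ _ h', π₀.hU.range_fromSpec.ge hx₀⟩

omit [IsClosedImmersion i] in
theorem exists_glueY [IsClosedImmersion i] {T : Scheme.{u}} (g : ∀ π : AP i j, Spec Γ(Y, π.V) ⟶ T)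
    (hg : ∀ (π π' : AP i j) (h : π ≤ π'), sm (AP.resY h) ≫ g π' = g π) :
    ∃ m : Y ⟶ T, ∀ π : AP i j, π.hV.fromSpec ≫ m = g π := by
  refine exists_glue _ _ g (fun y => ?_) (fun π π' y hy hy' => ?_)
  · obtain ⟨π, hπ⟩ := hcov y
    exact ⟨π, π.hV.range_fromSpec.ge hπ⟩
  · obtain ⟨π₀, h, h', hy₀⟩ := AP.exists_le_le_V π π' (π.hV.range_fromSpec.le hy) (π'.hV.range_fromSpec.le hy')
    exact ⟨π₀, sm (AP.resY h), sm (AP.resY h'), AP.fromSpec_resY h, AP.fromSpec_resY h',
      hg _ _ h, hg _ _ h', π₀.hV.range_fromSpec.ge hy₀⟩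

/-- The map from `X` to the glued pushout. -/
noncomputable def inX : X ⟶ glued i j :=
  (exists_glueX hcov (fun π => sm π.pa ≫ chart i j π) fun π π' h => by
    rw [← Category.assoc, ← sm_comp, ← AP.pa_res h, sm_comp, Category.assoc, chart_res]).choose

/-- The map from `Y` to the glued pushout. -/
noncomputable def inY : Y ⟶ glued i j :=
  (exists_glueY hcov (fun π => sm π.pb ≫ chart i j π) fun π π' h => by
    rw [← Category.assoc, ← sm_comp, ← AP.pb_res h, sm_comp, Category.assoc, chart_res]).choose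

theorem fromSpec_inX (π : AP i j) : π.hU.fromSpec ≫ inX hcov = sm π.pa ≫ chart i j π :=
  (exists_glueX hcov (fun π => sm π.pa ≫ chart i j π) fun π π' h => by
    rw [← Category.assoc, ← sm_comp, ← AP.pa_res h, sm_comp, Category.assoc, chart_res]).choose_spec π

theorem fromSpec_inY (π : AP i j) : π.hV.fromSpec ≫ inY hcov = sm π.pb ≫ chart i j π :=
  (exists_glueY hcov (fun π => sm π.pb ≫ chart i j π) fun π π' h => by
    rw [← Category.assoc, ← sm_comp, ← AP.pb_res h, sm_comp, Category.assoc, chart_res]).choose_spec π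

theorem inX_comm : i ≫ inX hcov = j ≫ inY hcov := by
  refine hom_ext_local fun z => ?_
  obtain ⟨π, hπ⟩ := hcov (j z)
  refine ⟨_, π.hW.fromSpec, inferInstance, π.hW.range_fromSpec.ge (π.hUV.ge hπ), ?_⟩
  rw [← Category.assoc, ← π.fromSpec_p, ← Category.assoc, ← π.fromSpec_q, Category.assoc, Category.assoc,
    fromSpec_inX, fromSpec_inY, ← Category.assoc, ← Category.assoc, ← sm_comp, ← sm_comp]
  congr 2
  exact RingHom.ext π.ringSq.comm

omit hcov in
/-- The morphism out of the glued pushout induced by two compatible morphisms. -/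
theorem exists_glued_desc {T : Scheme.{u}} (g : X ⟶ T) (g' : Y ⟶ T) (w : i ≫ g = j ≫ g') :
    ∃ φ : glued i j ⟶ T, ∀ π : AP i j, sm π.pa ≫ chart i j π ≫ φ = π.hU.fromSpec ≫ g ∧
      sm π.pb ≫ chart i j π ≫ φ = π.hV.fromSpec ≫ g' := by
  have hex : ∀ π : AP i j, sm π.p ≫ π.hU.fromSpec ≫ g = sm π.q ≫ π.hV.fromSpec ≫ g' := fun π => by
    rw [← Category.assoc, π.fromSpec_p, ← Category.assoc, π.fromSpec_q, Category.assoc,
      Category.assoc, w]
  choose φ hφ using fun π : AP i j => π.ringSq.exists_desc _ _ (hex π)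
  have nat : ∀ (π π' : AP i j) (h : π ≤ π'), sm (AP.res h) ≫ φ π' = φ π := fun π π' h => by
    refine π.ringSq.hom_ext ?_ ?_
    · rw [← Category.assoc, ← sm_comp, AP.pa_res, sm_comp, Category.assoc, (hφ π').1, (hφ π).1,
        ← Category.assoc, AP.fromSpec_resX]
    · rw [← Category.assoc, ← sm_comp, AP.pb_res, sm_comp, Category.assoc, (hφ π').2, (hφ π).2,
        ← Category.assoc, AP.fromSpec_resY]
  let c : Cocone (chartFunctor i j) :=
    { pt := T
      ι :=
        { app := φ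
          naturality := fun π π' h => (nat π π' (leOfHom h)).trans (Category.comp_id _).symm } }
  refine ⟨colimit.desc (chartFunctor i j) c, fun π => ?_⟩
  have e : chart i j π ≫ colimit.desc (chartFunctor i j) c = φ π := colimit.ι_desc c π
  rw [e]
  exact hφ π

theorem glued_isPushout : IsPushout i j (inX hcov) (inY hcov) := by
  refine ⟨⟨inX_comm hcov⟩, ⟨PushoutCocone.IsColimit.mk (inX_comm hcov)
    (fun s => (exists_glued_desc s.inl s.inr s.condition).choose) (fun s => ?_) (fun s => ?_)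
    (fun s m hm₁ hm₂ => ?_)⟩⟩
  · refine hom_ext_local fun x => ?_
    obtain ⟨π, hπ⟩ := AP.exists_mem_U hcov x
    refine ⟨_, π.hU.fromSpec, inferInstance, π.hU.range_fromSpec.ge hπ, ?_⟩
    rw [← Category.assoc, fromSpec_inX, Category.assoc]
    exact ((exists_glued_desc s.inl s.inr s.condition).choose_spec π).1
  · refine hom_ext_local fun y => ?_
    obtain ⟨π, hπ⟩ := hcov y
    refine ⟨_, π.hV.fromSpec, inferInstance, π.hV.range_fromSpec.ge hπ, ?_⟩
    rw [← Category.assoc, fromSpec_inY, Category.assoc]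
    exact ((exists_glued_desc s.inl s.inr s.condition).choose_spec π).2
  · have hs := (exists_glued_desc s.inl s.inr s.condition).choose_spec
    refine colimit.hom_ext fun π => π.ringSq.hom_ext ?_ ?_
    · refine Eq.trans ?_ (hs π).1.symm
      rw [← hm₁, ← Category.assoc π.hU.fromSpec, fromSpec_inX, Category.assoc]
      rfl
    · refine Eq.trans ?_ (hs π).2.symm
      rw [← hm₂, ← Category.assoc π.hV.fromSpec, fromSpec_inY, Category.assoc]
      rfl

theorem inX_preimage (π : AP i j) : inX hcov ⁻¹ᵁ (chart i j π).opensRange = π.hU.fromSpec.opensRange := by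
  ext x
  constructor
  · rintro ⟨r, hr⟩
    obtain ⟨π', hπ'⟩ := AP.exists_mem_U hcov x
    obtain ⟨α, rfl⟩ := π'.hU.range_fromSpec.ge hπ'
    refine π.hU.range_fromSpec.ge (AP.mem_U_of_chart_eq (r := r) ?_)
    exact (congrArg (fun m : Spec _ ⟶ glued i j => m α) (fromSpec_inX hcov π')).symm.trans hr.symm
  · rintro ⟨α, rfl⟩
    exact ⟨_, (congrArg (fun m : Spec _ ⟶ glued i j => m α) (fromSpec_inX hcov π)).symm⟩

theorem inY_preimage (π : AP i j) : inY hcov ⁻¹ᵁ (chart i j π).opensRange = π.hV.fromSpec.opensRange := by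
  ext y
  constructor
  · rintro ⟨r, hr⟩
    obtain ⟨π', hπ'⟩ := hcov y
    obtain ⟨β, rfl⟩ := π'.hV.range_fromSpec.ge hπ'
    refine π.hV.range_fromSpec.ge (AP.mem_V_of_chart_eq (r := r) ?_)
    exact (congrArg (fun m : Spec _ ⟶ glued i j => m β) (fromSpec_inY hcov π')).symm.trans hr.symm
  · rintro ⟨β, rfl⟩
    exact ⟨_, (congrArg (fun m : Spec _ ⟶ glued i j => m β) (fromSpec_inY hcov π)).symm⟩

/-- A property local on the target holds for `X → P` if it holds on the charts. -/
theorem inX_property (Q : MorphismProperty Scheme.{u}) [IsZariskiLocalAtTarget Q]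
    (h : ∀ π : AP i j, Q (sm π.pa)) : Q (inX hcov) :=
  IsZariskiLocalAtTarget.of_openCover (Scheme.IsLocallyDirected.openCover (chartFunctor i j)) fun π => by
    have hp := IsOpenImmersion.isPullback (sm π.pa) π.hU.fromSpec (chart i j π) (inX hcov)
      (fromSpec_inX hcov π) (inX_preimage hcov π)
    change Q (pullback.snd (inX hcov) (chart i j π))
    rw [← MorphismProperty.cancel_left_of_respectsIso Q hp.flip.isoPullback.hom,
      hp.flip.isoPullback_hom_snd]
    exact h π

/-- A property local on the target holds for `Y → P` if it holds on the charts. -/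
theorem inY_property (Q : MorphismProperty Scheme.{u}) [IsZariskiLocalAtTarget Q]
    (h : ∀ π : AP i j, Q (sm π.pb)) : Q (inY hcov) :=
  IsZariskiLocalAtTarget.of_openCover (Scheme.IsLocallyDirected.openCover (chartFunctor i j)) fun π => by
    have hp := IsOpenImmersion.isPullback (sm π.pb) π.hV.fromSpec (chart i j π) (inY hcov)
      (fromSpec_inY hcov π) (inY_preimage hcov π)
    change Q (pullback.snd (inY hcov) (chart i j π))
    rw [← MorphismProperty.cancel_left_of_respectsIso Q hp.flip.isoPullback.hom,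
      hp.flip.isoPullback_hom_snd]
    exact h π

theorem inX_isAffineHom : IsAffineHom (inX hcov) :=
  inX_property hcov @IsAffineHom fun π => by infer_instance

theorem inY_isClosedImmersion : IsClosedImmersion (inY hcov) :=
  inY_property hcov @IsClosedImmersion fun π => IsClosedImmersion.spec_of_surjective _ π.ringSq.snd_surjective

theorem inX_isClosedImmersion [IsClosedImmersion j] : IsClosedImmersion (inX hcov) :=
  inX_property hcov @IsClosedImmersion fun π => IsClosedImmersion.spec_of_surjective _ fun x => by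
    have hq : Function.Surjective π.q := by
      intro z
      obtain ⟨w, hw⟩ := j.app_surjective π.V π.hV
        (Z.presheaf.map (homOfLE π.hUV.ge).op z)
      refine ⟨w, ?_⟩
      show j.appLE π.V π.W π.W_le w = z
      rw [Scheme.Hom.appLE, CommRingCat.comp_apply, hw, ← CommRingCat.comp_apply, ← Functor.map_comp]
      exact (congrArg (fun m => Z.presheaf.map m z) (Subsingleton.elim _ (𝟙 (op π.W)))).trans (by simp)
    obtain ⟨y, hy⟩ := hq (π.p x)
    obtain ⟨w, hw, -⟩ := π.ringSq.exists_lift x y hy.symm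
    exact ⟨w, hw⟩

theorem inY_surjective (hi : Function.Surjective i) : Function.Surjective (inY hcov) := by
  intro t
  obtain ⟨π, r, rfl⟩ := chart_jointly_surjective i j t
  obtain ⟨β, hβ⟩ | ⟨α, hα, -⟩ := π.ringSq.exists_preimage r
  · refine ⟨π.hV.fromSpec β, ?_⟩
    rw [← hβ]
    exact congrArg (fun m : Spec _ ⟶ glued i j => m β) (fromSpec_inY hcov π)
  · obtain ⟨z, hz⟩ := hi (π.hU.fromSpec α)
    refine ⟨j z, ?_⟩
    rw [← Scheme.Hom.comp_apply, ← inX_comm hcov, Scheme.Hom.comp_apply, hz, ← hα]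
    exact congrArg (fun m : Spec _ ⟶ glued i j => m α) (fromSpec_inX hcov π)

end Groth.Agent.H7Flat
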