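import Groth.Prelude.Def_Flat
import Mathlib.AlgebraicGeometry.Morphisms.UniversallyInjective
import Mathlib.AlgebraicGeometry.Morphisms.Separated
import Mathlib.AlgebraicGeometry.Morphisms.Integral

/-! # Universal homeomorphisms -/

set_option autoImplicit false
set_option backward.isDefEq.respectTransparency false

universe u

open AlgebraicGeometry CategoryTheory Limits

namespace Groth.Agent.H7Flat

theorem isUnivHomeo_iff {X Y : Scheme.{u}} (f : X ⟶ Y) :
    FlatMor.IsUnivHomeo f ↔ IsIntegralHom f ∧ UniversallyInjective f ∧ Surjective f := by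
  refine ⟨fun h => ?_, fun ⟨h1, h2, h3⟩ => ?_⟩
  · have h0 := h _ _ _ IsPullback.of_id_snd
    haveI : Surjective f := ⟨h0.bijective.2⟩
    haveI : UniversallyClosed f := ⟨fun _ _ i₁ i₂ f' hf' => (h i₁ i₂ f' hf').isClosedMap⟩
    haveI hai : IsAffineHom f := isAffineHom_of_isInducing f h0.isInducing (by
      rw [h0.bijective.2.range_eq]; exact isClosed_univ)
    exact ⟨IsIntegralHom.iff_universallyClosed_and_isAffineHom.2 ⟨‹_›, hai⟩,
      ⟨fun _ _ i₁ i₂ f' hf' => (h i₁ i₂ f' hf').bijective.1⟩, ‹_›⟩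
  · intro X' Y' i₁ i₂ f' hf'
    have hc : UniversallyClosed f' := MorphismProperty.of_isPullback (P := @UniversallyClosed) hf'.flip inferInstance
    exact isHomeomorph_iff_continuous_isClosedMap_bijective.2 ⟨f'.continuous, f'.isClosedMap,
      h2.universally_injective _ _ _ hf', (MorphismProperty.of_isPullback (P := @Surjective) hf'.flip h3).surj⟩

end Groth.Agent.H7Flat

namespace Groth.Agent.H7Flat

theorem universallyInjective_of_comp {X Y Z : Scheme.{u}} (g : X ⟶ Y) (h : Y ⟶ Z)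
    [hgh : UniversallyInjective (g ≫ h)] : UniversallyInjective g := by
  refine ((tfae_universallyInjective g).out 0 1).2 fun K hK a b hab => ?_
  have hi : ∀ (K : Type u) [Field K], Function.Injective (fun m : Spec (.of K) ⟶ X ↦ m ≫ g ≫ h) :=
    ((tfae_universallyInjective (g ≫ h)).out 0 1).1 hgh
  refine @hi K hK a b ?_
  show a ≫ g ≫ h = b ≫ g ≫ h
  rw [← Category.assoc, ← Category.assoc]
  exact congrArg (· ≫ h) hab

theorem isUnivHomeo_of_comp_left {X Y Z : Scheme.{u}} (g : X ⟶ Y) (h : Y ⟶ Z)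
    (hgh : FlatMor.IsUnivHomeo (g ≫ h)) (hh : FlatMor.IsUnivHomeo h) : FlatMor.IsUnivHomeo g := by
  rw [isUnivHomeo_iff] at hgh hh ⊢
  obtain ⟨h1, h2, h3⟩ := hgh
  obtain ⟨h4, h5, h6⟩ := hh
  refine ⟨IsIntegralHom.of_comp g h, universallyInjective_of_comp g h, ⟨fun y => ?_⟩⟩
  obtain ⟨x, hx⟩ := h3.surj (h y)
  exact ⟨x, h.injective hx⟩

theorem isUnivHomeo_of_comp_right {X Y Z : Scheme.{u}} (g : X ⟶ Y) (h : Y ⟶ Z)
    (hgh : FlatMor.IsUnivHomeo (g ≫ h)) (hg : FlatMor.IsUnivHomeo g) : FlatMor.IsUnivHomeo h := by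
  intro Y' Z' i₁ i₂ h' sq
  have sq1 := (IsPullback.of_hasPullback g i₁).flip
  have hgh' := hgh _ _ _ (sq1.paste_horiz sq)
  have hg' : IsHomeomorph (pullback.snd g i₁) := hg _ _ _ sq1
  let e := hg'.homeomorph
  have : (h' : Y' → Z') = (pullback.snd g i₁ ≫ h') ∘ e.symm := by
    funext y
    obtain ⟨x, rfl⟩ := e.surjective y
    simp only [Function.comp_apply, Homeomorph.symm_apply_apply]
    rfl
  show IsHomeomorph h'
  rw [this]
  exact hgh'.comp e.symm.isHomeomorph

end Groth.Agent.H7Flat
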