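import Mathlib

/-!
Universal flattening over an Artinian ring: the ideal of coordinates of the kernel of a projective
cover.
-/

namespace Groth.Agent.H7Flat.ArtinFlattening

open TensorProduct

universe u

set_option backward.isDefEq.respectTransparency false

variable {A : Type u} [CommRing A]

theorem exact_lTensor {M N : Type*} [AddCommGroup M] [AddCommGroup N] [Module A M] [Module A N]
    (g : M →ₗ[A] N) (hg : Function.Surjective g) (Q : Type*) [AddCommGroup Q] [Module A Q] :
    Function.Exact ((LinearMap.ker g).subtype.lTensor Q) (g.lTensor Q) :=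
  lTensor_exact Q (LinearMap.exact_subtype_ker_map g) hg

/-- A module equal to a nilpotent ideal times itself vanishes. -/
theorem eq_bot_of_le_smul {M : Type*} [AddCommGroup M] [Module A M] {j : Ideal A}
    (hj : IsNilpotent j) {P : Submodule A M} (h : P ≤ j • P) : P = ⊥ := by
  obtain ⟨n, hn⟩ := hj
  have : ∀ m : ℕ, P ≤ j ^ m • P := by
    intro m
    induction m with
    | zero => simp
    | succ m ih =>
      refine ih.trans ((Submodule.smul_mono le_rfl h).trans ?_)
      rw [← Submodule.smul_assoc, smul_eq_mul, ← pow_succ]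
  simpa [hn] using this n

set_option maxHeartbeats 1000000 in
/-- A projective cover: an idempotent endomorphism of a free module with surjective composite onto
the module and kernel inside the radical. -/
theorem exists_cover [IsArtinianRing A] (N : Type u) [AddCommGroup N] [Module A N] :
    ∃ (e : (N →₀ A) →ₗ[A] (N →₀ A)), (∀ x, e (e x) = e x) ∧
      Function.Surjective ((Finsupp.linearCombination A (id : N → N)).comp e) ∧
      ∀ x, Finsupp.linearCombination A (id : N → N) (e x) = 0 →
        e x ∈ Ring.jacobson A • (⊤ : Submodule A (N →₀ A)) := by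
  let j : Ideal A := Ring.jacobson A
  have hj : IsNilpotent j := IsSemiprimaryRing.isNilpotent
  have : IsSemisimpleRing (A ⧸ j) := IsSemiprimaryRing.isSemisimpleRing
  let F := N →₀ A
  let P : Submodule A F := j • ⊤
  let Q : Submodule A N := j • ⊤
  let π : F →ₗ[A] N := Finsupp.linearCombination A (id : N → N)
  have hπ : Function.Surjective π := Finsupp.linearCombination_id_surjective A N
  have hPQ : P ≤ Q.comap π := Submodule.smul_top_le_comap_smul_top j π
  let pb : (F ⧸ P) →ₗ[A] N ⧸ Q := P.mapQ Q π hPQ
  have hmk : Function.Surjective (algebraMap A (A ⧸ j)) := Ideal.Quotient.mk_surjective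
  let pb' : (F ⧸ P) →ₗ[A ⧸ j] N ⧸ Q := pb.extendScalarsOfSurjective hmk
  obtain ⟨C, hC⟩ := exists_isCompl (LinearMap.ker pb')
  let eb' : (F ⧸ P) →ₗ[A ⧸ j] F ⧸ P :=
    C.subtype.comp (C.projectionOnto (LinearMap.ker pb') hC.symm)
  let eb : (F ⧸ P) →ₗ[A] F ⧸ P := eb'.restrictScalars A
  have heb : IsIdempotentElem (eb : Module.End A (F ⧸ P)) := by
    refine LinearMap.ext fun x => ?_
    change eb' (eb' x) = eb' x
    simp [eb']
  have hebk : ∀ x, pb x = 0 → eb x = 0 := fun x hx => by
    change eb' x = 0
    simp only [eb', LinearMap.comp_apply, Submodule.subtype_apply,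
      Submodule.projectionOnto_apply_of_mem_right hC.symm (show x ∈ LinearMap.ker pb' from hx),
      ZeroMemClass.coe_zero]
  have hebp : ∀ x, pb (eb x) = pb x := fun x => by
    obtain ⟨a, b, rfl⟩ : ∃ (a : C) (b : LinearMap.ker pb'), (a : F ⧸ P) + b = x := by
      obtain ⟨a, ha, b, hb, h⟩ := Submodule.mem_sup.mp
        (show x ∈ C ⊔ LinearMap.ker pb' by rw [hC.symm.sup_eq_top]; exact Submodule.mem_top)
      exact ⟨⟨a, ha⟩, ⟨b, hb⟩, h⟩
    have hb : eb (b : F ⧸ P) = 0 := hebk _ b.2
    have ha : eb (a : F ⧸ P) = a := by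
      change eb' a = a
      simp [eb']
    rw [map_add eb, ha, hb, add_zero, map_add, show pb (b : F ⧸ P) = 0 from b.2, add_zero]
  let Φ : Module.End A F →+* Module.End A (F ⧸ P) :=
    { toFun := fun f => P.mapQ P f (Submodule.smul_top_le_comap_smul_top j f)
      map_one' := by ext; rfl
      map_mul' := fun f g => by ext; rfl
      map_zero' := by ext; rfl
      map_add' := fun f g => by ext; rfl }
  have hΦ : ∀ f ∈ RingHom.ker Φ, IsNilpotent f := by
    intro f hf
    obtain ⟨n, hn⟩ := hj
    have h1 : ∀ x, f x ∈ P := fun x => by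
      have h2 := LinearMap.congr_fun hf (Submodule.Quotient.mk x)
      exact (Submodule.Quotient.mk_eq_zero P).mp h2
    have h : ∀ (m : ℕ) (x : F), (f ^ m) x ∈ j ^ m • (⊤ : Submodule A F) := by
      intro m
      induction m with
      | zero => simp
      | succ m ih =>
        intro x
        rw [pow_succ' f, Module.End.mul_apply]
        have hle : j ^ m • (⊤ : Submodule A F) ≤
            (j ^ (m + 1) • (⊤ : Submodule A F)).comap f := by
          refine Submodule.smul_le.mpr fun r hr y _ => ?_
          rw [Submodule.mem_comap, map_smul, pow_succ, ← smul_eq_mul, Submodule.smul_assoc]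
          exact Submodule.smul_mem_smul hr (h1 y)
        exact hle (ih x)
    exact ⟨n, LinearMap.ext fun x => by simpa [hn] using h n x⟩
  obtain ⟨g, hg⟩ := Module.projective_lifting_property P.mkQ (eb.comp P.mkQ)
    P.mkQ_surjective
  have hgr : Φ g = eb := by
    refine Submodule.linearMap_qext _ (LinearMap.ext fun x => ?_)
    exact LinearMap.congr_fun hg x
  obtain ⟨e, he, heΦ⟩ := exists_isIdempotentElem_eq_of_ker_isNilpotent Φ hΦ eb ⟨g, hgr⟩ heb
  have hqe : ∀ x, (Submodule.Quotient.mk (e x) : F ⧸ P) = eb (Submodule.Quotient.mk x) := fun x =>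
    LinearMap.congr_fun heΦ (Submodule.Quotient.mk x)
  refine ⟨e, fun x => LinearMap.congr_fun he x, ?_, fun x hx => ?_⟩
  · have hmem : ∀ n : N, ∃ x, n - π (e x) ∈ Q := fun n => by
      obtain ⟨x, rfl⟩ := hπ n
      refine ⟨x, (Submodule.Quotient.eq Q).mp ?_⟩
      exact ((congrArg pb (hqe x)).trans (hebp _)).symm
    let R := LinearMap.range (π.comp e)
    have htop : (⊤ : Submodule A (N ⧸ R)) = ⊥ := by
      refine eq_bot_of_le_smul hj fun z _ => ?_
      obtain ⟨n, rfl⟩ := Submodule.Quotient.mk_surjective R z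
      obtain ⟨x, hx⟩ := hmem n
      have h := Submodule.smul_top_le_comap_smul_top j R.mkQ hx
      rw [Submodule.mem_comap, map_sub] at h
      simpa [(Submodule.Quotient.mk_eq_zero R).mpr (⟨x, rfl⟩ : π (e x) ∈ R)] using h
    intro n
    have : (Submodule.Quotient.mk n : N ⧸ R) = 0 :=
      (Submodule.mem_bot A).mp (htop ▸ Submodule.mem_top)
    exact (Submodule.Quotient.mk_eq_zero R).mp this
  · rw [← Submodule.Quotient.mk_eq_zero, ← show e (e x) = e x from LinearMap.congr_fun he x]
    refine (hqe (e x)).trans (hebk _ ?_)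
    exact congrArg Submodule.Quotient.mk hx

set_option maxHeartbeats 1000000 in
/-- The universal flattening ideal. -/
theorem exists_ideal [IsArtinianRing A] (N : Type u) [AddCommGroup N] [Module A N] :
    ∃ I : Ideal A, ∀ (A' : Type u) [CommRing A'] [Algebra A A'],
      Module.Flat A' (A' ⊗[A] N) ↔ I.map (algebraMap A A') = ⊥ := by
  obtain ⟨e, he, hsurj, hk⟩ := exists_cover (A := A) N
  let F := N →₀ A
  let g : F →ₗ[A] N := (Finsupp.linearCombination A (id : N → N)).comp e
  refine ⟨Ideal.span {a | ∃ x n, g x = 0 ∧ e x n = a}, fun A' _ _ => ⟨fun hflat => ?_, fun hI => ?_⟩⟩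
  · let j : Ideal A' := (Ring.jacobson A).map (algebraMap A A')
    have hj : IsNilpotent j := by
      obtain ⟨n, hn⟩ := (IsSemiprimaryRing.isNilpotent : IsNilpotent (Ring.jacobson A))
      exact ⟨n, by rw [← Ideal.map_pow, hn, Ideal.zero_eq_bot, Ideal.map_bot, Ideal.zero_eq_bot]⟩
    let G := g.baseChange A'
    let E := e.baseChange A'
    let K := (LinearMap.ker G).map E
    have hEE : ∀ y, E (E y) = E y := fun y => by
      change (e.baseChange A').comp (e.baseChange A') y = _
      rw [← LinearMap.baseChange_comp, show e.comp e = e from LinearMap.ext he]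
    have hex := exact_lTensor g hsurj A'
    have hKw : ∀ w, E ((LinearMap.ker g).subtype.lTensor A' w) ∈
        j • (⊤ : Submodule A' (A' ⊗[A] F)) := by
      intro w
      induction w using TensorProduct.induction_on with
      | zero => simp
      | add a b ha hb => rw [map_add, map_add]; exact add_mem ha hb
      | tmul a x =>
        change a ⊗ₜ[A] e x ∈ _
        have hx : e x ∈ Ring.jacobson A • (⊤ : Submodule A F) := by
          refine hk _ ?_
          exact x.2
        generalize e x = y at hx ⊢
        refine Submodule.smul_induction_on hx (fun r hr z _ => ?_) (fun p q hp hq => ?_)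
        · rw [tmul_smul, ← algebraMap_smul A' r]
          exact Submodule.smul_mem_smul (Ideal.mem_map_of_mem _ hr) trivial
        · rw [tmul_add]; exact add_mem hp hq
    have hK : K ≤ j • ⊤ := by
      rintro _ ⟨y, hy, rfl⟩
      obtain ⟨w, rfl⟩ := (hex y).mp hy
      exact hKw w
    have hKj : K ≤ j • K := by
      rintro _ ⟨y, hy, rfl⟩
      obtain ⟨s, hs⟩ : ∃ s : j →₀ (A' ⊗[A] F), (s.sum fun a z => (a : A') • z) = E y := by
        refine Submodule.smul_induction_on (hK ⟨y, hy, rfl⟩) (fun a ha z _ => ?_)
          (fun p q hp hq => ?_)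
        · exact ⟨Finsupp.single ⟨a, ha⟩ z, by simp⟩
        · obtain ⟨s, rfl⟩ := hp
          obtain ⟨t, rfl⟩ := hq
          exact ⟨s + t, Finsupp.sum_add_index' (fun _ => smul_zero _) (fun _ _ _ => smul_add _ _ _)⟩
      let a : s.support → A' := fun i => i.1.1
      let z : s.support → A' ⊗[A] F := fun i => s i.1
      have hsum : ∑ i, a i • z i = E y := by
        rw [← hs]
        exact Finset.sum_coe_sort s.support (fun a => (a : A') • s a)
      have hGE : G (E y) = 0 := by
        change G.comp E y = 0
        rw [← LinearMap.baseChange_comp, show g.comp e = g from LinearMap.ext fun x =>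
          congrArg (Finsupp.linearCombination A (id : N → N)) (he x)]
        exact hy
      have hrel : ∑ i, a i • G (z i) = 0 := by
        simp only [← map_smul, ← map_sum, hsum, hGE]
      obtain ⟨k, b, w, hw, hb⟩ := Module.Flat.isTrivialRelation_of_sum_smul_eq_zero hrel
      have hGs : Function.Surjective G := LinearMap.lTensor_surjective A' hsurj
      choose v hv using fun l => hGs (w l)
      let c : s.support → A' ⊗[A] F := fun i => z i - ∑ l, b i l • v l
      have hc : ∑ i, a i • E (c i) = E y := by
        calc ∑ i, a i • E (c i) = E (∑ i, a i • c i) := by simp only [map_sum, map_smul]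
          _ = E (E y) := by
            congr 1
            simp only [c, smul_sub, Finset.sum_sub_distrib, hsum, Finset.smul_sum, smul_smul]
            rw [Finset.sum_comm, sub_eq_self]
            refine Finset.sum_eq_zero fun l _ => ?_
            rw [← Finset.sum_smul, hb l, zero_smul]
          _ = E y := hEE y
      rw [← hc]
      refine Submodule.sum_mem _ fun i _ => Submodule.smul_mem_smul i.1.2 ⟨c i, ?_, rfl⟩
      simp only [c, SetLike.mem_coe, LinearMap.mem_ker, map_sub, map_sum, map_smul]
      exact sub_eq_zero.mpr ((hw i).trans (Finset.sum_congr rfl fun l _ => by rw [hv]))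
    have hK0 := eq_bot_of_le_smul hj hKj
    rw [Ideal.map_span, Ideal.span_eq_bot]
    rintro _ ⟨_, ⟨x, n, hx, rfl⟩, rfl⟩
    have h0 : E ((1 : A') ⊗ₜ[A] x) = 0 :=
      (Submodule.mem_bot A').mp (hK0 ▸ ⟨(1 : A') ⊗ₜ[A] x,
        show g.baseChange A' ((1 : A') ⊗ₜ[A] x) = 0 by rw [LinearMap.baseChange_tmul, hx, tmul_zero], rfl⟩)
    have := congrArg (fun t => TensorProduct.AlgebraTensorModule.rid A A' A'
      ((Finsupp.lapply n : F →ₗ[A] A).baseChange A' t)) h0
    simpa [E, Algebra.smul_def] using this
  · have hzero : ∀ x, g x = 0 → (1 : A') ⊗ₜ[A] e x = 0 := fun x hx => by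
      rw [← Finsupp.sum_single (e x), Finsupp.sum, tmul_sum]
      refine Finset.sum_eq_zero fun n _ => ?_
      rw [← mul_one (e x n), ← smul_eq_mul, ← Finsupp.smul_single, tmul_smul, smul_tmul',
        ← algebraMap_smul A' (e x n)]
      have : algebraMap A A' (e x n) = 0 := by
        have h := Ideal.mem_map_of_mem (algebraMap A A')
          (Ideal.subset_span (α := A) (s := {a | ∃ x n, g x = 0 ∧ e x n = a}) ⟨x, n, hx, rfl⟩)
        rwa [hI, Ideal.mem_bot] at h
      rw [this, zero_smul, zero_tmul]
    let τ : F →ₗ[A] A' ⊗[A] F := (TensorProduct.mk A A' F 1).comp e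
    let σ : N →ₗ[A] A' ⊗[A] F :=
      ((LinearMap.ker g).liftQ τ fun x hx => hzero x hx).comp
        (g.quotKerEquivOfSurjective hsurj).symm.toLinearMap
    have hσ : ∀ x, σ (g x) = (1 : A') ⊗ₜ[A] e x := fun x => by
      have h : (g.quotKerEquivOfSurjective hsurj).symm (g x) = Submodule.Quotient.mk x := by
        rw [LinearEquiv.symm_apply_eq]; rfl
      simp only [σ, LinearMap.comp_apply, LinearEquiv.coe_coe, h]
      rfl
    let σ' : A' ⊗[A] N →ₗ[A'] A' ⊗[A] F := LinearMap.liftBaseChange A' σ
    refine Module.Flat.of_retract σ' (g.baseChange A') ?_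
    ext n
    obtain ⟨x, rfl⟩ := hsurj n
    change g.baseChange A' (σ' ((1 : A') ⊗ₜ[A] g x)) = (1 : A') ⊗ₜ[A] g x
    rw [show σ' ((1 : A') ⊗ₜ[A] g x) = σ (g x) by simp [σ'], hσ, LinearMap.baseChange_tmul]
    exact congrArg (fun y => (1 : A') ⊗ₜ[A] (Finsupp.linearCombination A (id : N → N)) y) (he x)

end Groth.Agent.H7Flat.ArtinFlattening
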