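import Groth.Agent.H7Flat.AICRing
import Mathlib.AlgebraicGeometry.Normalization
import Mathlib.AlgebraicGeometry.ResidueField
import Mathlib.FieldTheory.IsAlgClosed.AlgebraicClosure

/-!
# An absolutely integrally closed integral surjective cover of an arbitrary scheme
-/

set_option autoImplicit false
set_option backward.isDefEq.respectTransparency false
set_option backward.defeqAttrib.useBackward true
set_option linter.style.haveILetI false

universe u

open CategoryTheory Limits AlgebraicGeometry Opposite TopologicalSpace Polynomial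

namespace Groth.Agent.H7Flat

variable (S : Scheme.{u})

/-- The algebraic closure of the residue field. -/
abbrev geomField (z : S) : Type u := AlgebraicClosure (S.residueField z)

/-- The evaluation map into the product of the algebraically closed fields over the points of `U`. -/
noncomputable def evalAll (U : S.Opens) : Γ(S, U) →+* ((z : U) → geomField S z.1) :=
  RingHom.pi fun z => (algebraMap (S.residueField z.1) (geomField S z.1)).comp (S.evaluation U z.1 z.2).hom

/-- Restriction of families. -/
noncomputable def resAll {U V : S.Opens} (h : V ≤ U) : ((z : U) → geomField S z.1) →+* ((z : V) → geomField S z.1) :=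
  RingHom.pi fun z => Pi.evalRingHom (fun w : U => geomField S w.1) ⟨z.1, h z.2⟩

theorem resAll_evalAll {U V : S.Opens} (h : V ≤ U) (s : Γ(S, U)) :
    resAll S h (evalAll S U s) = evalAll S V (S.presheaf.map (homOfLE h).op s) := by
  funext z
  show algebraMap _ _ (S.evaluation U z.1 (h z.2) s) =
    algebraMap _ _ (S.evaluation V z.1 z.2 (S.presheaf.map (homOfLE h).op s))
  congr 1
  exact (congrArg (S.residue z.1) (S.presheaf.germ_res_apply (homOfLE h) z.1 z.2 s)).symm

/-- The absolute integral closure over `U`. -/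
noncomputable def aicRing (U : S.Opens) : Subring ((z : U) → geomField S z.1) :=
  letI := (evalAll S U).toAlgebra
  (integralClosure Γ(S, U) ((z : U) → geomField S z.1)).toSubring

theorem mem_aicRing {U : S.Opens} {x : (z : U) → geomField S z.1} :
    x ∈ aicRing S U ↔ (evalAll S U).IsIntegralElem x := Iff.rfl

theorem resAll_mem {U V : S.Opens} (h : V ≤ U) {x : (z : U) → geomField S z.1} (hx : x ∈ aicRing S U) :
    resAll S h x ∈ aicRing S V := by
  obtain ⟨P, hP, hx⟩ := (hx : (evalAll S U).IsIntegralElem x)
  show (evalAll S V).IsIntegralElem (resAll S h x)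
  refine ⟨P.map (S.presheaf.map (homOfLE h).op).hom, hP.map _, ?_⟩
  rw [Polynomial.eval₂_map, show (evalAll S V).comp (S.presheaf.map (homOfLE h).op).hom =
    (resAll S h).comp (evalAll S U) from RingHom.ext fun s => (resAll_evalAll S h s).symm,
    ← Polynomial.hom_eval₂]
  exact (congrArg (resAll S h) hx).trans (map_zero _)

/-- The absolute integral closures as a presheaf. -/
noncomputable def aicDiagram : S.Opensᵒᵖ ⥤ CommRingCat.{u} where
  obj U := CommRingCat.of (aicRing S U.unop)
  map {U V} i := CommRingCat.ofHom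
    (RingHom.codRestrict ((resAll S i.unop.le).comp (aicRing S U.unop).subtype) (aicRing S V.unop)
      fun x => resAll_mem S i.unop.le x.2)
  map_id U := rfl
  map_comp i j := rfl

/-- The structure map to the absolute integral closures. -/
noncomputable def aicMap : S.presheaf ⟶ aicDiagram S where
  app U := CommRingCat.ofHom ((evalAll S U.unop).codRestrict (aicRing S U.unop)
    fun s => RingHom.isIntegralElem_map _)
  naturality {U V} i := by
    ext s
    exact Subtype.ext (resAll_evalAll S i.unop.le s).symm

theorem evalAll_eq_zero_of_notMem {U : S.Opens} (r : Γ(S, U)) {z : U} (hz : z.1 ∉ S.basicOpen r) :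
    evalAll S U r z = 0 := by
  show algebraMap _ _ (S.evaluation U z.1 z.2 r) = 0
  rw [(S.evaluation_eq_zero_iff_notMem_basicOpen z.1 z.2 r).2 hz, map_zero]

theorem coequifibered_aicMap :
    ((Scheme.AffineZariskiSite.toOpensFunctor S).op.whiskerLeft (aicMap S)).Coequifibered := by
  classical
  refine Scheme.AffineZariskiSite.coequifibered_iff_forall_isLocalizationAway.mpr fun U r => ?_
  let V : S.Opens := S.basicOpen r
  have hVU : V ≤ U.1 := S.basicOpen_le r
  let eU : Γ(S, U.1) →+* aicRing S U.1 := (evalAll S U.1).codRestrict _ fun s => RingHom.isIntegralElem_map _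
  letI : Algebra (aicRing S U.1) (aicRing S V) :=
    (RingHom.codRestrict ((resAll S hVU).comp (aicRing S U.1).subtype) (aicRing S V)
      fun x => resAll_mem S hVU x.2).toAlgebra
  show IsLocalization.Away (eU r) (aicRing S V)
  letI : Algebra Γ(S, U.1) Γ(S, V) := (S.presheaf.map (homOfLE hVU).op).hom.toAlgebra
  haveI : IsLocalization.Away r Γ(S, V) := U.2.isLocalization_basicOpen r
  letI : Algebra Γ(S, V) ((z : V) → geomField S z.1) := (evalAll S V).toAlgebra
  letI : Algebra Γ(S, U.1) ((z : V) → geomField S z.1) :=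
    ((evalAll S V).comp (S.presheaf.map (homOfLE hVU).op).hom).toAlgebra
  haveI : IsScalarTower Γ(S, U.1) Γ(S, V) ((z : V) → geomField S z.1) :=
    IsScalarTower.of_algebraMap_eq fun _ => rfl
  refine IsLocalization.Away.mk (eU r) ?_ (fun y => ?_) (fun x x' hxx' => ⟨1, ?_⟩)
  · have h1 : IsUnit (algebraMap Γ(S, U.1) Γ(S, V) r) := IsLocalization.Away.algebraMap_isUnit r
    have h2 := h1.map ((evalAll S V).codRestrict (aicRing S V) fun s => RingHom.isIntegralElem_map _)
    convert h2 using 1
    exact Subtype.ext (resAll_evalAll S hVU r)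
  · obtain ⟨⟨m, n, rfl⟩, hm⟩ := IsIntegral.exists_multiple_integral_of_isLocalization
      (Submonoid.powers r) (Rₘ := Γ(S, V)) y.1 (show IsIntegral Γ(S, V) y.1 from y.2)
    obtain ⟨P, hP, hPy⟩ := hm
    rw [Submonoid.smul_def, Algebra.smul_def] at hPy
    let x : (z : U.1) → geomField S z.1 := fun z =>
      if hz : z.1 ∈ V then (algebraMap Γ(S, U.1) ((z : V) → geomField S z.1) (r ^ n) * y.1) ⟨z.1, hz⟩ else 0
    have hx : x ∈ aicRing S U.1 := by
      refine ⟨X * P, monic_X.mul hP, funext fun z => ?_⟩
      rw [Polynomial.eval₂_mul, Polynomial.eval₂_X, Pi.mul_apply, Pi.zero_apply]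
      by_cases hz : z.1 ∈ V
      · refine mul_eq_zero_of_right _ ?_
        have := congrArg (Pi.evalRingHom (fun w : V => geomField S w.1) ⟨z.1, hz⟩) hPy
        rw [map_zero, Polynomial.hom_eval₂] at this
        show (Pi.evalRingHom (fun w : U.1 => geomField S w.1) z) _ = 0
        rw [Polynomial.hom_eval₂]
        rw [show (Pi.evalRingHom (fun w : U.1 => geomField S w.1) z) x =
          (algebraMap Γ(S, U.1) ((z : V) → geomField S z.1) (r ^ n) * y.1) ⟨z.1, hz⟩ from dif_pos hz]
        convert this using 2
        · refine RingHom.ext fun s => ?_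
          exact congrFun (resAll_evalAll S hVU s) ⟨z.1, hz⟩
        · rfl
      · rw [show x z = 0 from dif_neg hz, zero_mul]
    refine ⟨n, ⟨x, hx⟩, Subtype.ext (funext fun z => ?_)⟩
    show y.1 z * (resAll S hVU (evalAll S U.1 r) z) ^ n = x ⟨z.1, hVU z.2⟩
    rw [show x ⟨z.1, hVU z.2⟩ = _ from dif_pos z.2, Pi.mul_apply, mul_comm, map_pow, Pi.pow_apply,
      resAll_evalAll S hVU r]
    rfl
  · refine Subtype.ext (funext fun z => ?_)
    show (eU r).1 z ^ 1 * x.1 z = (eU r).1 z ^ 1 * x'.1 z
    by_cases hz : z.1 ∈ V
    · exact congrArg _ (congrFun (congrArg Subtype.val hxx') ⟨z.1, hz⟩)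
    · rw [pow_one, show (eU r).1 z = 0 from evalAll_eq_zero_of_notMem S r hz, zero_mul, zero_mul]

/-- The gluing data of the absolute integral closure. -/
noncomputable def aicData := Scheme.AffineZariskiSite.relativeGluingData (coequifibered_aicMap S)

instance : ((aicData S).functor ⋙ Scheme.forget).IsLocallyDirected :=
  Scheme.Cover.RelativeGluingData.instIsLocallyDirectedI₀CompFunctorForgetOfIsThin ..

/-- The absolute integral closure of `S`. -/
noncomputable def aicScheme : Scheme.{u} := (aicData S).glued

/-- The projection of the absolute integral closure. -/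
noncomputable def aicProj : aicScheme S ⟶ S := (aicData S).toBase

/-- The charts. -/
noncomputable def aicChart (U : S.affineOpens) :
    Spec (CommRingCat.of (aicRing S U.1)) ⟶ aicScheme S :=
  (aicData S).cover.f U

instance (U : S.affineOpens) : IsOpenImmersion (aicChart S U) :=
  (aicData S).cover.map_prop U

theorem aicChart_proj (U : S.affineOpens) :
    aicChart S U ≫ aicProj S = Spec.map ((aicMap S).app (op U.1)) ≫ U.2.fromSpec :=
  colimit.ι_desc _ _

theorem aicProj_preimage (U : S.affineOpens) : aicProj S ⁻¹ᵁ U.1 = (aicChart S U).opensRange := by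
  simpa using! (aicData S).toBase_preimage_eq_opensRange_ι U

theorem aicMap_isIntegral (U : S.Opens) : ((aicMap S).app (op U)).hom.IsIntegral := by
  intro x
  obtain ⟨P, hP, hx⟩ := x.2
  refine ⟨P, hP, Subtype.ext ?_⟩
  show (aicRing S U).subtype (Polynomial.eval₂ ((aicMap S).app (op U)).hom x P) = 0
  rw [Polynomial.hom_eval₂]
  exact hx

theorem isIntegralHom_aicProj : IsIntegralHom (aicProj S) := by
  rw [IsZariskiLocalAtTarget.iff_of_iSup_eq_top (P := @IsIntegralHom) _ (iSup_affineOpens_eq_top _)]
  intro U
  let e := IsOpenImmersion.isoOfRangeEq (aicProj S ⁻¹ᵁ U).ι (aicChart S U)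
    (by simpa using congr($(aicProj_preimage S U).1))
  rw [← MorphismProperty.cancel_left_of_respectsIso @IsIntegralHom e.inv,
    ← MorphismProperty.cancel_right_of_respectsIso @IsIntegralHom _ U.2.isoSpec.hom]
  convert! IsIntegralHom.SpecMap_iff.mpr (aicMap_isIntegral S U.1)
  rw [← cancel_mono U.2.fromSpec]
  simp [IsAffineOpen.isoSpec_hom, e, aicChart_proj]

theorem surjective_aicProj : Function.Surjective (aicProj S) := by
  intro z
  obtain ⟨U, hU, hzU, -⟩ := exists_isAffineOpen_mem_and_subset (Set.mem_univ z) (U := (⊤ : S.Opens))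
  let ev : aicRing S U →+* geomField S z :=
    (Pi.evalRingHom (fun w : U => geomField S w.1) ⟨z, hzU⟩).comp (aicRing S U).subtype
  let P : PrimeSpectrum (aicRing S U) := ⟨RingHom.ker ev, RingHom.ker_isPrime ev⟩
  refine ⟨aicChart S ⟨U, hU⟩ P, ?_⟩
  rw [← Scheme.Hom.comp_apply, aicChart_proj, Scheme.Hom.comp_apply]
  have h1 : Spec.map ((aicMap S).app (op U)) P = hU.primeIdealOf ⟨z, hzU⟩ := by
    refine PrimeSpectrum.ext (Ideal.ext fun s => ?_)
    show algebraMap _ (geomField S z) (S.evaluation U z hzU s) = 0 ↔ _
    rw [map_eq_zero, S.evaluation_eq_zero_iff_notMem_basicOpen z hzU s]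
    have h2 : z ∈ S.basicOpen s ↔ hU.primeIdealOf ⟨z, hzU⟩ ∈ PrimeSpectrum.basicOpen s := by
      rw [← hU.fromSpec_preimage_basicOpen s]
      show _ ↔ hU.fromSpec _ ∈ S.basicOpen s
      rw [hU.fromSpec_primeIdealOf ⟨z, hzU⟩]
    rw [h2]
    exact not_not
  exact (congrArg hU.fromSpec h1).trans (hU.fromSpec_primeIdealOf ⟨z, hzU⟩)

variable {S}

theorem hasMonicRoots_aicRing (U : S.Opens) : HasMonicRoots (aicRing S U) := by
  classical
  intro P hP hdeg
  have hroot : ∀ z : U, ∃ a : geomField S z.1,
      P.eval₂ ((Pi.evalRingHom (fun w : U => geomField S w.1) z).comp (aicRing S U).subtype) a = 0 := by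
    intro z
    have hne : (P.map ((Pi.evalRingHom (fun w : U => geomField S w.1) z).comp (aicRing S U).subtype)).degree ≠ 0 := by
      rw [hP.degree_map, Polynomial.degree_eq_natDegree (Polynomial.ne_zero_of_natDegree_gt hdeg)]
      exact_mod_cast hdeg.ne'
    obtain ⟨a, ha⟩ := IsAlgClosed.exists_root _ hne
    exact ⟨a, by rw [← Polynomial.eval_map]; exact ha⟩
  choose a ha using hroot
  have hev : P.eval₂ (aicRing S U).subtype a = 0 := by
    funext z
    show (Pi.evalRingHom (fun w : U => geomField S w.1) z) _ = 0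
    rw [Polynomial.hom_eval₂]
    exact ha z
  letI : Algebra Γ(S, U) ((z : U) → geomField S z.1) := (evalAll S U).toAlgebra
  let A₁ := integralClosure Γ(S, U) ((z : U) → geomField S z.1)
  have ha' : a ∈ aicRing S U := by
    refine isIntegral_trans (R := Γ(S, U)) (A := A₁) a ?_
    exact ⟨P, hP, hev⟩
  refine ⟨⟨a, ha'⟩, Subtype.ext ?_⟩
  show (aicRing S U).subtype (P.eval ⟨a, ha'⟩) = 0
  rw [Polynomial.eval, Polynomial.hom_eval₂]
  exact hev

theorem exists_idem_aicRing (U : S.Opens) (a b : aicRing S U) (hab : a * b = 0) :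
    ∃ e : aicRing S U, IsIdempotentElem e ∧ e * a = a ∧ e * b = 0 := by
  classical
  let e : (z : U) → geomField S z.1 := fun z => if a.1 z = 0 then 0 else 1
  have he : e * e = e := funext fun z => by
    show e z * e z = e z
    simp only [e]; split_ifs <;> simp
  have hemem : e ∈ aicRing S U := by
    refine ⟨X * (X - C 1), monic_X.mul (monic_X_sub_C 1), ?_⟩
    rw [eval₂_mul, eval₂_sub, eval₂_X, eval₂_C, map_one, mul_sub, he, mul_one, sub_self]
  refine ⟨⟨e, hemem⟩, Subtype.ext he, Subtype.ext (funext fun z => ?_), Subtype.ext (funext fun z => ?_)⟩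
  · show e z * a.1 z = a.1 z
    simp only [e]; split_ifs with h <;> simp [h]
  · show e z * b.1 z = 0
    have h0 : a.1 z * b.1 z = 0 := congrFun (congrArg Subtype.val hab) z
    simp only [e]; split_ifs with h
    · rw [zero_mul]
    · rw [one_mul]; exact (mul_eq_zero.1 h0).resolve_left h

/-- Stalk rings of the absolute integral closure are normal domains with algebraically closed fraction field. -/
theorem aicRing_atPrime (U : S.Opens) (t : Ideal (aicRing S U)) [t.IsPrime] :
    IsDomain (Localization.AtPrime t) ∧ HasMonicRoots (Localization.AtPrime t) :=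
  ⟨isDomain_localization_of_idem (exists_idem_aicRing U) t,
    (hasMonicRoots_aicRing U).of_isLocalization t.primeCompl _⟩

end Groth.Agent.H7Flat
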