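import Mathlib.RingTheory.Polynomial.ScaleRoots
import Mathlib.RingTheory.Localization.Integral
import Mathlib.RingTheory.Localization.AtPrime.Basic
import Mathlib.RingTheory.Localization.FractionRing
import Mathlib.RingTheory.IntegralClosure.IntegrallyClosed
import Mathlib.FieldTheory.IsAlgClosed.Basic
import Mathlib.Algebra.Polynomial.Lifts

/-!
# Rings in which every monic polynomial has a root
-/

set_option autoImplicit false

universe u

open Polynomial

namespace Groth.Agent.H7Flat

/-- Every monic polynomial of positive degree has a root. -/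
def HasMonicRoots (R : Type u) [CommRing R] : Prop :=
  ∀ P : R[X], P.Monic → 0 < P.natDegree → ∃ x, P.eval x = 0

variable {R : Type u} [CommRing R]

theorem HasMonicRoots.of_isLocalization (h : HasMonicRoots R) (S : Submonoid R) (L : Type u) [CommRing L]
    [Algebra R L] [IsLocalization S L] : HasMonicRoots L := by
  intro P hP hdeg
  obtain ⟨⟨s, hs⟩, hmul⟩ := IsLocalization.exist_integer_multiples_of_finset S P.coeffs
  set σ := algebraMap R L s with hσ
  have hlift : P.scaleRoots σ ∈ Polynomial.lifts (algebraMap R L) := by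
    rw [Polynomial.lifts_iff_coeff_lifts]
    intro i
    rw [Polynomial.coeff_scaleRoots]
    by_cases hi : P.coeff i = 0
    · exact ⟨0, by rw [map_zero, hi, zero_mul]⟩
    rcases lt_or_eq_of_le (Polynomial.le_natDegree_of_ne_zero hi) with hlt | rfl
    · obtain ⟨c, hc⟩ := hmul _ (Polynomial.coeff_mem_coeffs hi)
      refine ⟨c * s ^ (P.natDegree - i - 1), ?_⟩
      conv_rhs => rw [show P.natDegree - i = (P.natDegree - i - 1) + 1 by omega, pow_succ]
      rw [map_mul, map_pow, hc, hσ, Algebra.smul_def]
      ring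
    · refine ⟨1, ?_⟩
      rw [map_one, Nat.sub_self, pow_zero, mul_one]
      exact hP.symm
  obtain ⟨Q, hQ, hQd, hQm⟩ := Polynomial.lifts_and_natDegree_eq_and_monic hlift
    ((Polynomial.monic_scaleRoots_iff σ).2 hP)
  obtain ⟨y, hy⟩ := h Q hQm (by rw [hQd, Polynomial.natDegree_scaleRoots]; exact hdeg)
  obtain ⟨τ, hτ⟩ := (IsLocalization.map_units L (⟨s, hs⟩ : S)).exists_left_inv
  refine ⟨τ * algebraMap R L y, ?_⟩
  have h1 : (P.scaleRoots σ).eval (algebraMap R L y) = 0 := by
    rw [← hQ, Polynomial.eval_map_apply, hy, map_zero]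
  have h2 : σ ^ P.natDegree * P.eval (τ * algebraMap R L y) = 0 := by
    have h3 := Polynomial.scaleRoots_eval₂_mul (p := P) (RingHom.id L) (τ * algebraMap R L y) σ
    simp only [Polynomial.eval₂_id, RingHom.id_apply] at h3
    rw [← h3, show σ * (τ * algebraMap R L y) = algebraMap R L y by
      rw [← mul_assoc, mul_comm σ τ, hτ, one_mul]]
    exact h1
  exact ((IsLocalization.map_units L (⟨s, hs⟩ : S)).pow _).mul_right_eq_zero.1 h2

theorem HasMonicRoots.isIntegrallyClosed [IsDomain R] (h : HasMonicRoots R) : IsIntegrallyClosed R := by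
  refine (isIntegrallyClosed_iff (FractionRing R)).2 fun {x} hx => ?_
  obtain ⟨P, hPm, hP⟩ := hx
  induction hn : P.natDegree generalizing P with
  | zero =>
    rw [eq_one_of_monic_natDegree_zero hPm hn, eval₂_one] at hP
    exact absurd hP one_ne_zero
  | succ n ih =>
    obtain ⟨y, hy⟩ := h P hPm (by omega)
    obtain ⟨Q, rfl⟩ := dvd_iff_isRoot.2 hy
    have hQm : Q.Monic := (monic_X_sub_C y).of_mul_monic_left hPm
    rw [eval₂_mul] at hP
    rcases mul_eq_zero.1 hP with h0 | h0
    · refine ⟨y, ?_⟩
      rw [eval₂_sub, eval₂_X, eval₂_C, sub_eq_zero] at h0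
      exact h0.symm
    · refine ih Q hQm h0 ?_
      rw [(monic_X_sub_C y).natDegree_mul hQm, natDegree_X_sub_C] at hn
      omega

theorem HasMonicRoots.isAlgClosed_fractionRing [IsDomain R] (h : HasMonicRoots R) :
    IsAlgClosed (FractionRing R) := by
  refine IsAlgClosed.of_exists_root _ fun P hPm hPirr => ?_
  exact (h.of_isLocalization (nonZeroDivisors R) (FractionRing R)) P hPm hPirr.natDegree_pos

/-- A local ring in which `a * b = 0` is witnessed by an idempotent is a domain. -/
theorem isDomain_localization_of_idem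
    (h : ∀ a b : R, a * b = 0 → ∃ e : R, IsIdempotentElem e ∧ e * a = a ∧ e * b = 0)
    (t : Ideal R) [t.IsPrime] : IsDomain (Localization.AtPrime t) := by
  have hno : NoZeroDivisors (Localization.AtPrime t) := by
    refine ⟨fun {z w} hzw => ?_⟩
    obtain ⟨⟨a, s⟩, ha⟩ := IsLocalization.surj t.primeCompl z
    obtain ⟨⟨b, s'⟩, hb⟩ := IsLocalization.surj t.primeCompl w
    have h0 : algebraMap R (Localization.AtPrime t) (a * b) = 0 := by
      rw [map_mul, ← ha, ← hb, show z * algebraMap R _ (s : R) * (w * algebraMap R _ (s' : R)) =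
        z * w * (algebraMap R _ (s : R) * algebraMap R _ (s' : R)) by ring, hzw, zero_mul]
    obtain ⟨⟨c, hc⟩, hcab⟩ := (IsLocalization.map_eq_zero_iff t.primeCompl _ _).1 h0
    obtain ⟨e, he, hea, heb⟩ := h (c * a) b (by rw [mul_assoc]; exact hcab)
    by_cases het : e ∈ t
    · left
      refine ((IsLocalization.map_units _ s).mul_left_eq_zero).1 (ha.trans ?_)
      refine (IsLocalization.map_eq_zero_iff t.primeCompl _ _).2
        ⟨⟨(1 - e) * c, fun hmem => ?_⟩, ?_⟩
      · rcases (inferInstance : t.IsPrime).mem_or_mem hmem with h1 | h1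
        · exact (inferInstance : t.IsPrime).ne_top
            ((Ideal.eq_top_iff_one _).2 (by simpa using t.add_mem h1 het))
        · exact hc h1
      · show (1 - e) * c * a = 0
        rw [mul_assoc, sub_mul, one_mul, hea, sub_self]
    · right
      refine ((IsLocalization.map_units _ s').mul_left_eq_zero).1 (hb.trans ?_)
      exact (IsLocalization.map_eq_zero_iff t.primeCompl _ _).2 ⟨⟨e, het⟩, heb⟩
  exact NoZeroDivisors.to_isDomain _

end Groth.Agent.H7Flat
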