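import Groth.Agent.H7Flat.SpecializationDense
import Mathlib.RingTheory.LocalRing.Module
import Mathlib.RingTheory.Flat.Basic
import Mathlib.FieldTheory.IsAlgClosed.Basic
import Mathlib.RingTheory.Localization.FractionRing

/-!
# Flat algebras over absolutely integrally closed local domains have sections
-/

set_option autoImplicit false
set_option linter.style.haveILetI false

universe u

open Polynomial IsLocalRing

namespace Groth.Agent.H7Flat

/-- An element of a finitely generated domain algebraic over a subring with algebraically closed fraction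
field is a fraction. -/
theorem exists_mul_eq_algebraMap_of_isAlgebraic {A E : Type u} [CommRing A] [IsDomain A] [CommRing E]
    [IsDomain E] [Algebra A E] [FaithfulSMul A E] [IsAlgClosed (FractionRing A)] (e : E) (he : IsAlgebraic A e) :
    ∃ x y : A, y ≠ 0 ∧ algebraMap A E y * e = algebraMap A E x := by
  let K := FractionRing A
  let L := FractionRing E
  let ι : K →+* L := IsLocalization.map (M := nonZeroDivisors A) (T := nonZeroDivisors E) L (algebraMap A E)
    (fun a ha => mem_nonZeroDivisors_of_ne_zero
      ((map_ne_zero_iff _ (FaithfulSMul.algebraMap_injective A E)).2 (nonZeroDivisors.ne_zero ha)))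
  have hι : ∀ a, ι (algebraMap A K a) = algebraMap E L (algebraMap A E a) := IsLocalization.map_eq _
  obtain ⟨p, hp0, hp⟩ := he
  have hpK : p.map (algebraMap A K) ≠ 0 :=
    (Polynomial.map_ne_zero_iff (IsFractionRing.injective A K)).2 hp0
  have hroot : (p.map (algebraMap A K)).eval₂ ι (algebraMap E L e) = 0 := by
    rw [Polynomial.eval₂_map, show ι.comp (algebraMap A K) = (algebraMap E L).comp (algebraMap A E) from
      RingHom.ext hι, ← Polynomial.hom_eval₂]
    exact (congrArg (algebraMap E L) hp).trans (map_zero _)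
  have hmem : algebraMap E L e ∈ ((p.map (algebraMap A K)).map ι).roots := by
    rw [Polynomial.mem_roots ((Polynomial.map_ne_zero_iff ι.injective).2 hpK), Polynomial.IsRoot,
      Polynomial.eval_map]
    exact hroot
  rw [(IsAlgClosed.splits (p.map (algebraMap A K))).roots_map ι] at hmem
  obtain ⟨κ, -, hκ⟩ := Multiset.mem_map.1 hmem
  obtain ⟨x, y, hy, hxy⟩ := IsFractionRing.div_surjective (A := A) κ
  refine ⟨x, y, nonZeroDivisors.ne_zero hy, IsFractionRing.injective E L ?_⟩
  rw [map_mul, ← hκ, ← hι, ← hι, ← map_mul, ← hxy, mul_div_cancel₀]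
  exact (map_ne_zero_iff _ (IsFractionRing.injective A K)).2 (nonZeroDivisors.ne_zero hy)

/-- A flat algebra of finite type with nonempty closed fibre over a normal local domain with algebraically
closed fraction field has a section. -/
theorem exists_section_of_flat (A : Type u) [CommRing A] [IsDomain A] [IsLocalRing A] [IsIntegrallyClosed A]
    [IsAlgClosed (FractionRing A)] (B : Type u) [CommRing B] [Algebra A B] [Module.Flat A B]
    [Algebra.FiniteType A B] (hB : (maximalIdeal A).map (algebraMap A B) ≠ ⊤) : Nonempty (B →ₐ[A] A) := by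
  classical
  let k := ResidueField A
  set m := maximalIdeal A with hm
  let mB := m.map (algebraMap A B)
  let S₀ := B ⧸ mB
  letI : Algebra k S₀ := (Ideal.quotientMap mB (algebraMap A B) Ideal.le_comap_map).toAlgebra
  haveI : IsScalarTower A k S₀ := IsScalarTower.of_algebraMap_eq fun x => rfl
  haveI : Algebra.FiniteType A S₀ :=
    Algebra.FiniteType.of_surjective (Ideal.Quotient.mkₐ A mB) (Ideal.Quotient.mkₐ_surjective _ _)
  haveI : Algebra.FiniteType k S₀ := Algebra.FiniteType.of_restrictScalars_finiteType A k S₀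
  haveI : Nontrivial S₀ := Ideal.Quotient.nontrivial_iff.2 hB
  obtain ⟨d, g, hginj, hgfin⟩ := exists_finite_inj_algHom_of_fg k S₀
  -- a prime of `S₀` over the generic point of affine space and a maximal ideal above it
  obtain ⟨Q₀, hQ₀, hQ₀0⟩ : ∃ Q₀ : Ideal S₀, Q₀.IsPrime ∧ Q₀.comap g.toRingHom = ⊥ := by
    algebraize [g.toRingHom]
    haveI : Module.Finite (MvPolynomial (Fin d) k) S₀ := hgfin
    obtain ⟨Q, -, hQ, hQc⟩ := Ideal.exists_ideal_over_prime_of_isIntegral (R := MvPolynomial (Fin d) k)
      (S := S₀) ⊥ (⊥ : Ideal S₀) (fun x hx => Ideal.mem_bot.2 (hginj ((Ideal.mem_bot.1 hx).trans (map_zero g).symm)))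
    exact ⟨Q, hQ, hQc⟩
  obtain ⟨M₀, hM₀, hQM₀⟩ := Q₀.exists_le_maximal hQ₀.ne_top
  haveI : M₀.IsMaximal := hM₀
  letI : Field (S₀ ⧸ M₀) := Ideal.Quotient.field M₀
  haveI : Module.Finite k (S₀ ⧸ M₀) := finite_of_finite_type_of_isJacobsonRing k (S₀ ⧸ M₀)
  let τ := Ideal.Quotient.mkₐ k M₀
  let φ : Fin d → k[X] := fun i => minpoly k (τ (g (MvPolynomial.X i)))
  have hint : ∀ i, IsIntegral k (τ (g (MvPolynomial.X i))) := fun i => IsIntegral.of_finite k _
  let e : MvPolynomial (Fin d) k →ₐ[k] MvPolynomial (Fin d) k :=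
    MvPolynomial.aeval fun i => Polynomial.aeval (MvPolynomial.X i : MvPolynomial (Fin d) k) (φ i)
  have he_inj : Function.Injective e :=
    (MvPolynomial.algebraicIndependent_X (Fin d) k).polynomial_aeval_of_transcendental fun i =>
      Polynomial.transcendental (φ i) (minpoly.natDegree_pos (hint i)).ne'
        (by rw [(minpoly.monic (hint i)).leadingCoeff]; exact one_mem _)
  have he_fin : e.toRingHom.Finite := by
    refine RingHom.IsIntegral.to_finite ?_ ?_
    · intro p
      induction p using MvPolynomial.induction_on with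
      | C a =>
        rw [show MvPolynomial.C a = e.toRingHom (MvPolynomial.C a) from (e.commutes a).symm]
        exact RingHom.isIntegralElem_map _
      | add p q hp hq => exact hp.add _ hq
      | mul_X p i hp =>
        refine hp.mul _ ?_
        refine ⟨(φ i).map (algebraMap k _) - Polynomial.C (MvPolynomial.X i), ?_, ?_⟩
        · refine ((minpoly.monic (hint i)).map _).sub_of_left ?_
          refine lt_of_le_of_lt Polynomial.degree_C_le ?_
          rw [(minpoly.monic (hint i)).degree_map]
          exact minpoly.degree_pos (hint i)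
        · rw [Polynomial.eval₂_sub, Polynomial.eval₂_C, Polynomial.eval₂_map]
          rw [show e.toRingHom.comp (algebraMap k _) = algebraMap k _ from e.comp_algebraMap]
          show Polynomial.aeval (MvPolynomial.X i) (φ i) - e (MvPolynomial.X i) = 0
          rw [MvPolynomial.aeval_X, sub_self]
    · exact RingHom.FiniteType.of_comp_finiteType (f := algebraMap k (MvPolynomial (Fin d) k)) (by
        rw [show e.toRingHom.comp (algebraMap k _) = algebraMap k _ from e.comp_algebraMap]
        exact RingHom.finiteType_algebraMap.2 inferInstance)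
  let g' : MvPolynomial (Fin d) k →ₐ[k] S₀ := g.comp e
  have hg'inj : Function.Injective g' := hginj.comp he_inj
  have hg'fin : g'.toRingHom.Finite := RingHom.Finite.comp hgfin he_fin
  have hg'Q : ∀ p, g' p ∈ Q₀ → p = 0 := fun p hp => by
    have h1 : e p ∈ Q₀.comap g.toRingHom := hp
    rw [hQ₀0, Submodule.mem_bot] at h1
    exact he_inj (h1.trans (map_zero e).symm)
  have hg'X : ∀ i, g' (MvPolynomial.X i) ∈ M₀ := by
    intro i
    refine Ideal.Quotient.eq_zero_iff_mem.1 ?_
    show τ (g (e (MvPolynomial.X i))) = 0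
    rw [MvPolynomial.aeval_X, ← Polynomial.aeval_algHom_apply, ← Polynomial.aeval_algHom_apply]
    exact minpoly.aeval k _
  choose G hG using fun i => Ideal.Quotient.mk_surjective (g' (MvPolynomial.X i))
  let T := MvPolynomial (Fin d) A
  let ψ : T →ₐ[A] B := MvPolynomial.aeval G
  let π : B →+* S₀ := Ideal.Quotient.mk mB
  have hred : π.comp ψ.toRingHom = g'.toRingHom.comp (MvPolynomial.map (IsLocalRing.residue A)) := by
    refine MvPolynomial.ringHom_ext (fun c => ?_) fun i => ?_
    · show π (ψ (MvPolynomial.C c)) = g' (MvPolynomial.map _ (MvPolynomial.C c))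
      rw [MvPolynomial.map_C, show (MvPolynomial.C c : T) = algebraMap A T c from rfl, ψ.commutes,
        show (MvPolynomial.C ((IsLocalRing.residue A) c) : MvPolynomial (Fin d) k) =
          algebraMap k (MvPolynomial (Fin d) k) (IsLocalRing.residue A c) from rfl, g'.commutes]
      rfl
    · show π (ψ (MvPolynomial.X i)) = g' (MvPolynomial.map _ (MvPolynomial.X i))
      rw [MvPolynomial.map_X, MvPolynomial.aeval_X, hG]
  -- nonzero elements of `T` stay nonzero near `M`
  have hinj : ∀ (s : B), π s ∉ Q₀ → ∀ h : T, s * ψ h = 0 → h = 0 := by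
    intro s hs h hsh
    have hli : LinearIndependent A (fun b : (Fin d →₀ ℕ) => s * ψ (MvPolynomial.monomial b 1)) := by
      refine Module.IsLocalRing.linearIndependent_of_flat (R := A) _ ?_
      let f : TensorProduct A k B →ₐ[k] S₀ :=
        Algebra.TensorProduct.lift (Algebra.ofId k S₀) (Ideal.Quotient.mkₐ A mB) fun _ _ => Commute.all _ _
      refine LinearIndependent.of_comp f.toLinearMap ?_
      rw [linearIndependent_iff']
      intro t c hc b hb
      have hterm : ∀ b, (f.toLinearMap ∘ TensorProduct.mk A k B 1 ∘ fun b => s * ψ (MvPolynomial.monomial b 1)) b =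
          π s * g' (MvPolynomial.monomial b 1) := by
        intro b
        show f ((1 : k) ⊗ₜ[A] (s * ψ (MvPolynomial.monomial b 1))) = _
        rw [Algebra.TensorProduct.lift_tmul, map_one, one_mul]
        show π (s * ψ (MvPolynomial.monomial b 1)) = _
        rw [map_mul]
        congr 1
        refine (RingHom.congr_fun hred (MvPolynomial.monomial b 1)).trans ?_
        rw [RingHom.comp_apply, MvPolynomial.map_monomial, map_one]
        rfl
      have key : π s * g' (∑ b ∈ t, MvPolynomial.monomial b (c b)) = 0 := by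
        rw [← hc, map_sum, Finset.mul_sum]
        refine Finset.sum_congr rfl fun b _ => ?_
        rw [hterm, ← mul_smul_comm, ← map_smul, MvPolynomial.smul_monomial, smul_eq_mul, mul_one]
      have h2 : g' (∑ b ∈ t, MvPolynomial.monomial b (c b)) ∈ Q₀ :=
        (hQ₀.mem_or_mem (key ▸ zero_mem Q₀ : π s * _ ∈ Q₀)).resolve_left hs
      have h3 := congrArg (MvPolynomial.coeff b) (hg'Q _ h2)
      rw [MvPolynomial.coeff_sum, MvPolynomial.coeff_zero,
        Finset.sum_eq_single b (fun b' _ hb' => by rw [MvPolynomial.coeff_monomial, if_neg hb'])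
          (fun h' => absurd hb h'), MvPolynomial.coeff_monomial, if_pos rfl] at h3
      exact h3
    ext b
    rw [MvPolynomial.coeff_zero]
    by_contra hb
    refine hb (linearIndependent_iff'.1 hli h.support (fun b => MvPolynomial.coeff b h) ?_ b
      (MvPolynomial.mem_support_iff.2 hb))
    rw [← hsh]
    conv_rhs => rw [h.as_sum]
    rw [map_sum, Finset.mul_sum]
    refine Finset.sum_congr rfl fun b _ => ?_
    rw [← mul_smul_comm, ← map_smul, MvPolynomial.smul_monomial, smul_eq_mul, mul_one]
  let M : Ideal B := M₀.comap π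
  haveI : M.IsMaximal := Ideal.comap_isMaximal_of_surjective π Ideal.Quotient.mk_surjective
  -- a component through `M` dominating affine space
  obtain ⟨P₀, hP₀, hP₀M, hP₀T⟩ : ∃ P₀ : Ideal B, P₀.IsPrime ∧ P₀ ≤ M ∧ ∀ h, ψ h ∈ P₀ → h = 0 := by
    let Sg : Submonoid B := M.primeCompl ⊔ (nonZeroDivisors T).map ψ.toRingHom
    have h0 : Disjoint ((⊥ : Ideal B) : Set B) (Sg : Set B) := by
      rw [Set.disjoint_left]
      rintro x hx hxS
      obtain ⟨s, hs, w, hw, rfl⟩ := Submonoid.mem_sup.1 hxS
      obtain ⟨h, hh, rfl⟩ := hw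
      exact nonZeroDivisors.ne_zero hh (hinj s (fun hs' => hs (hQM₀ hs')) h hx)
    obtain ⟨P₀, hP₀, -, hdisj⟩ := Ideal.exists_le_prime_disjoint ⊥ Sg h0
    refine ⟨P₀, hP₀, fun x hx => ?_, fun h hh => ?_⟩
    · by_contra hxM
      exact Set.disjoint_left.1 hdisj hx (le_sup_left (b := (nonZeroDivisors T).map ψ.toRingHom) hxM)
    · by_contra h0'
      exact Set.disjoint_left.1 hdisj hh
        (le_sup_right (a := M.primeCompl) (Submonoid.mem_map.2 ⟨h, mem_nonZeroDivisors_of_ne_zero h0', rfl⟩))
  let D := B ⧸ P₀
  haveI : IsDomain D := Ideal.Quotient.isDomain P₀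
  let δ : B →+* D := Ideal.Quotient.mk P₀
  letI : Algebra T B := ψ.toRingHom.toAlgebra
  haveI : IsScalarTower A T B := IsScalarTower.of_algebraMap_eq fun x => (ψ.commutes x).symm
  haveI : IsScalarTower A T D := IsScalarTower.of_algebraMap_eq fun x => by
    show algebraMap A D x = δ (ψ (algebraMap A T x))
    rw [ψ.commutes]; rfl
  haveI : Algebra.FiniteType A D :=
    Algebra.FiniteType.of_surjective (Ideal.Quotient.mkₐ A P₀) (Ideal.Quotient.mkₐ_surjective _ _)
  haveI : Algebra.FiniteType T D := Algebra.FiniteType.of_restrictScalars_finiteType A T D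
  haveI : FaithfulSMul T D := (faithfulSMul_iff_algebraMap_injective T D).2 <| by
    rw [injective_iff_map_eq_zero]
    exact fun h hh => hP₀T h (Ideal.Quotient.eq_zero_iff_mem.1 hh)
  let MD : Ideal D := M.map δ
  have hMDc : MD.comap δ = M := Ideal.comap_map_mk hP₀M
  haveI : MD.IsMaximal := by
    refine (Ideal.map_eq_top_or_isMaximal_of_surjective δ Ideal.Quotient.mk_surjective inferInstance).resolve_left
      fun h => ?_
    exact (inferInstance : M.IsMaximal).ne_top (by rw [← hMDc]; show MD.comap δ = ⊤; rw [show MD = ⊤ from h, Ideal.comap_top])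
  let e0 : T →+* k := (IsLocalRing.residue A).comp MvPolynomial.constantCoeff
  have he0 : Function.Surjective e0 :=
    Ideal.Quotient.mk_surjective.comp fun c => ⟨MvPolynomial.C c, MvPolynomial.constantCoeff_C _ c⟩
  let N : Ideal T := RingHom.ker e0
  haveI hN : N.IsMaximal := RingHom.ker_isMaximal_of_surjective e0 he0
  have hψM : ∀ P : T, e0 P = 0 → ψ P ∈ M := by
    intro P hP
    show π (ψ P) ∈ M₀
    rw [← Ideal.Quotient.eq_zero_iff_mem]
    have : (τ.toRingHom.comp π).comp ψ.toRingHom = ((τ.toRingHom.comp (algebraMap k S₀))).comp e0 := by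
      refine MvPolynomial.ringHom_ext (fun c => ?_) fun i => ?_
      · show τ (π (MvPolynomial.aeval G (MvPolynomial.C c))) =
          τ (algebraMap k S₀ (IsLocalRing.residue A (MvPolynomial.constantCoeff (MvPolynomial.C c))))
        rw [MvPolynomial.aeval_C, MvPolynomial.constantCoeff_C]
        rfl
      · show τ (π (MvPolynomial.aeval G (MvPolynomial.X i))) =
          τ (algebraMap k S₀ (IsLocalRing.residue A (MvPolynomial.constantCoeff (MvPolynomial.X i))))
        rw [MvPolynomial.aeval_X, MvPolynomial.constantCoeff_X, map_zero, map_zero, map_zero, hG]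
        exact Ideal.Quotient.eq_zero_iff_mem.2 (hg'X i)
    have h2 := RingHom.congr_fun this P
    simp only [RingHom.comp_apply, hP, map_zero] at h2
    exact h2
  have hMN : MD.comap (algebraMap T D) = N := by
    symm
    refine hN.eq_of_le (Ideal.comap_ne_top _ (inferInstance : MD.IsMaximal).ne_top) fun P hP => ?_
    show ψ P ∈ MD.comap δ
    rw [hMDc]
    exact hψM P hP
  haveI : Algebra.QuasiFiniteAt T MD := by
    let J := N.map (algebraMap T D)
    have hmJ : mB ≤ J.comap δ := by
      rw [Ideal.map_le_iff_le_comap]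
      intro c hc
      show δ (algebraMap A B c) ∈ J
      rw [show δ (algebraMap A B c) = algebraMap T D (algebraMap A T c) from IsScalarTower.algebraMap_apply A T D c]
      refine Ideal.mem_map_of_mem _ ?_
      show IsLocalRing.residue A (MvPolynomial.constantCoeff (MvPolynomial.C c)) = 0
      rw [MvPolynomial.constantCoeff_C]; exact Ideal.Quotient.eq_zero_iff_mem.2 hc
    let χ : S₀ →+* D ⧸ J := Ideal.Quotient.lift mB ((Ideal.Quotient.mk J).comp δ)
      fun x hx => Ideal.Quotient.eq_zero_iff_mem.2 (hmJ hx)
    have hχsurj : Function.Surjective χ := by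
      intro y
      obtain ⟨y, rfl⟩ := Ideal.Quotient.mk_surjective y
      obtain ⟨b, rfl⟩ := Ideal.Quotient.mk_surjective y
      exact ⟨Ideal.Quotient.mk mB b, rfl⟩
    letI : Algebra k (D ⧸ J) := (χ.comp (algebraMap k S₀)).toAlgebra
    have hχ : ∀ (p : MvPolynomial (Fin d) k) (s : S₀),
        χ (g' p * s) = algebraMap k (D ⧸ J) (MvPolynomial.constantCoeff p) * χ s := by
      intro p s
      rw [map_mul]
      congr 1
      induction p using MvPolynomial.induction_on with
      | C a =>
        rw [MvPolynomial.constantCoeff_C,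
          show g' (MvPolynomial.C a) = algebraMap k S₀ a from g'.commutes a]
        rfl
      | add p q hp hq => rw [map_add, map_add, hp, hq, map_add, map_add]
      | mul_X p i _ =>
        rw [map_mul, map_mul, map_mul, MvPolynomial.constantCoeff_X, mul_zero, map_zero]
        refine mul_eq_zero_of_right _ ?_
        rw [← hG]
        show Ideal.Quotient.mk J (δ (G i)) = 0
        rw [Ideal.Quotient.eq_zero_iff_mem,
          show δ (G i) = algebraMap T D (MvPolynomial.X i) from congrArg δ (MvPolynomial.aeval_X G i).symm]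
        refine Ideal.mem_map_of_mem _ ?_
        show IsLocalRing.residue A (MvPolynomial.constantCoeff (MvPolynomial.X i)) = 0
        rw [MvPolynomial.constantCoeff_X, map_zero]
    haveI : Module.Finite k (D ⧸ J) := by
      algebraize [g'.toRingHom]
      haveI : Module.Finite (MvPolynomial (Fin d) k) S₀ := hg'fin
      obtain ⟨U, hU⟩ := (inferInstance : Module.Finite (MvPolynomial (Fin d) k) S₀)
      refine ⟨⟨U.image χ, top_le_iff.1 fun x hxt => ?_⟩⟩
      clear hxt
      obtain ⟨s, rfl⟩ := hχsurj x
      have hs : s ∈ Submodule.span (MvPolynomial (Fin d) k) (U : Set S₀) := hU ▸ Submodule.mem_top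
      induction hs using Submodule.span_induction with
      | mem y hy => exact Submodule.subset_span (Finset.mem_coe.2 (Finset.mem_image_of_mem χ hy))
      | zero => rw [map_zero]; exact zero_mem _
      | add y z _ _ hy hz => rw [map_add]; exact add_mem hy hz
      | smul p y _ hy =>
        rw [Algebra.smul_def]
        show χ (g' p * y) ∈ _
        rw [hχ, ← Algebra.smul_def]
        exact Submodule.smul_mem _ _ hy
    haveI : IsArtinianRing (D ⧸ J) := IsArtinianRing.of_finite k _
    let Mpt : PrimeSpectrum D := ⟨MD, inferInstance⟩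
    refine Algebra.QuasiFiniteAt.of_isOpen_singleton_fiber Mpt ?_
    let F := PrimeSpectrum.comap (algebraMap T D) ⁻¹' {Mpt.comap (algebraMap T D)}
    have hFJ : ∀ Q : F, J ≤ Q.1.asIdeal := fun Q => by
      rw [Ideal.map_le_iff_le_comap, ← hMN]
      exact (congrArg PrimeSpectrum.asIdeal Q.2).ge
    haveI : Finite F := Finite.of_injective
      (fun Q : F => (⟨Q.1.asIdeal.map (Ideal.Quotient.mk J), Ideal.map_isPrime_of_surjective
        Ideal.Quotient.mk_surjective (by rw [Ideal.mk_ker]; exact hFJ Q)⟩ : PrimeSpectrum (D ⧸ J))) (by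
      intro Q Q' h
      have := congrArg (fun P : PrimeSpectrum (D ⧸ J) => P.asIdeal.comap (Ideal.Quotient.mk J)) h
      simp only [Ideal.comap_map_mk (hFJ Q), Ideal.comap_map_mk (hFJ Q')] at this
      exact Subtype.ext (PrimeSpectrum.ext this))
    haveI : T1Space F := ⟨fun Q => by
      have hmax : Q.1.asIdeal.IsMaximal := by
        haveI : (Q.1.asIdeal.map (Ideal.Quotient.mk J)).IsPrime := Ideal.map_isPrime_of_surjective
          Ideal.Quotient.mk_surjective (by rw [Ideal.mk_ker]; exact hFJ Q)
        haveI := IsArtinianRing.isMaximal_of_isPrime (Q.1.asIdeal.map (Ideal.Quotient.mk J))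
        rw [← Ideal.comap_map_mk (hFJ Q)]
        exact Ideal.comap_isMaximal_of_surjective _ Ideal.Quotient.mk_surjective
      have : IsClosed ({Q.1} : Set (PrimeSpectrum D)) :=
        (PrimeSpectrum.isClosed_singleton_iff_isMaximal _).2 hmax
      convert this.preimage (continuous_subtype_val : Continuous (Subtype.val : F → _)) using 1
      ext Q'; simp [Subtype.ext_iff]⟩
    exact isOpen_discrete _
  obtain ⟨r, hrM, hrint, hr⟩ := Algebra.zariskisMainProperty_iff.1
    (Algebra.ZariskisMainProperty.of_finiteType (R := T) MD)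
  let C := integralClosure T D
  haveI : IsIntegrallyClosed T := isIntegrallyClosed_mvPolynomial_fin A d
  haveI : FaithfulSMul T C := (faithfulSMul_iff_algebraMap_injective T C).2 fun x y h =>
    FaithfulSMul.algebraMap_injective T D (congrArg Subtype.val h)
  let q : Ideal T := RingHom.ker (MvPolynomial.constantCoeff (σ := Fin d) (R := A))
  have hqN : q ≤ N := fun P hP => by
    show IsLocalRing.residue A (MvPolynomial.constantCoeff P) = 0
    rw [RingHom.mem_ker.1 hP, map_zero]
  haveI : q.IsPrime := RingHom.ker_isPrime _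
  let MC : Ideal C := MD.comap (algebraMap C D)
  haveI : MC.IsPrime := Ideal.IsPrime.comap _
  haveI : MC.LiesOver N := ⟨hMN.symm⟩
  obtain ⟨p₁, hp₁le, hp₁, hp₁q⟩ := Ideal.exists_ideal_le_liesOver_of_le (p := q) (q := N) MC hqN
  let rC : C := ⟨r, hrint⟩
  have hrp : rC ∉ p₁ := fun hh => hrM (hp₁le hh : rC ∈ MC)
  let E := C ⧸ p₁
  haveI : IsDomain E := Ideal.Quotient.isDomain p₁
  have hAC : ∀ c : A, algebraMap A C c = algebraMap T C (MvPolynomial.C c) := fun c =>
    Subtype.ext (IsScalarTower.algebraMap_apply A T D c)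
  have hAE : Function.Injective (algebraMap A E) := by
    rw [injective_iff_map_eq_zero]
    intro c hc
    have h1 : algebraMap T C (MvPolynomial.C c) ∈ p₁ := hAC c ▸ Ideal.Quotient.eq_zero_iff_mem.1 hc
    have h2 : MvPolynomial.C c ∈ q := by rw [hp₁q.over]; exact h1
    have h3 : MvPolynomial.constantCoeff (MvPolynomial.C c : T) = 0 := h2
    rwa [MvPolynomial.constantCoeff_C] at h3
  haveI : FaithfulSMul A E := (faithfulSMul_iff_algebraMap_injective A E).2 hAE
  haveI : Algebra.IsIntegral A E := ⟨fun y => by
    obtain ⟨c, rfl⟩ := Ideal.Quotient.mk_surjective y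
    obtain ⟨F, hFm, hF⟩ := Algebra.IsIntegral.isIntegral (R := T) c
    refine ⟨F.map MvPolynomial.constantCoeff, hFm.map _, ?_⟩
    rw [Polynomial.eval₂_map]
    have e : (algebraMap A E).comp (MvPolynomial.constantCoeff (σ := Fin d)) =
        (Ideal.Quotient.mk p₁).comp (algebraMap T C) := by
      refine RingHom.ext fun x => ?_
      rw [RingHom.comp_apply, RingHom.comp_apply,
        show algebraMap A E (MvPolynomial.constantCoeff x) =
          Ideal.Quotient.mk p₁ (algebraMap A C (MvPolynomial.constantCoeff x)) from rfl, hAC]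
      refine Ideal.Quotient.eq.2 ?_
      show algebraMap T C (MvPolynomial.C (MvPolynomial.constantCoeff x)) - algebraMap T C x ∈ p₁
      rw [← map_sub]
      have : MvPolynomial.C (MvPolynomial.constantCoeff x) - x ∈ q := by
        show MvPolynomial.constantCoeff (MvPolynomial.C (MvPolynomial.constantCoeff x) - x) = 0
        rw [map_sub, MvPolynomial.constantCoeff_C, sub_self]
      rw [hp₁q.over] at this
      exact this
    rw [e, ← Polynomial.hom_eval₂, hF, map_zero]⟩
  have hbij : Function.Bijective (algebraMap A E) := by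
    refine ⟨hAE, fun y => ?_⟩
    obtain ⟨a, b, hb, hab⟩ := exists_mul_eq_algebraMap_of_isAlgebraic (A := A) y (Algebra.IsIntegral.isIntegral (R := A) y).isAlgebraic
    let K := FractionRing A
    have hK : IsIntegral A (algebraMap A K a / algebraMap A K b) := by
      obtain ⟨F, hFm, hF⟩ := Algebra.IsIntegral.isIntegral (R := A) y
      refine ⟨F, hFm, ?_⟩
      let LE := FractionRing E
      let ι : K →+* LE := IsLocalization.map (M := nonZeroDivisors A) (T := nonZeroDivisors E) LE (algebraMap A E)
        (fun a ha => mem_nonZeroDivisors_of_ne_zero ((map_ne_zero_iff _ hAE).2 (nonZeroDivisors.ne_zero ha)))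
      apply ι.injective
      rw [Polynomial.hom_eval₂, map_zero,
        show ι.comp (algebraMap A K) = (algebraMap E LE).comp (algebraMap A E) from IsLocalization.map_comp _,
        show ι (algebraMap A K a / algebraMap A K b) = algebraMap E LE y by
          rw [map_div₀, IsLocalization.map_eq, IsLocalization.map_eq, ← hab, map_mul, mul_comm, mul_div_assoc,
            div_self ((map_ne_zero_iff _ (IsFractionRing.injective E LE)).2 ((map_ne_zero_iff _ hAE).2 hb)), mul_one],
        ← Polynomial.hom_eval₂, hF, map_zero]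
    obtain ⟨c, hc⟩ := IsIntegrallyClosed.isIntegral_iff.1 hK
    refine ⟨c, mul_left_cancel₀ ((map_ne_zero_iff _ hAE).2 hb) ?_⟩
    rw [hab, ← map_mul]
    congr 1
    apply IsFractionRing.injective A K
    rw [map_mul, hc, mul_div_cancel₀]
    exact (map_ne_zero_iff _ (IsFractionRing.injective A K)).2 hb
  let η : E ≃+* A := (RingEquiv.ofBijective (algebraMap A E) hbij).symm
  let θ : C →+* A := η.toRingHom.comp (Ideal.Quotient.mk p₁)
  have hrunit : IsUnit (θ rC) := by
    obtain ⟨c, hc⟩ := hbij.2 (Ideal.Quotient.mk p₁ rC)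
    have h1 : θ rC = c := by
      show η (Ideal.Quotient.mk p₁ rC) = c
      rw [← hc]; exact RingEquiv.symm_apply_apply _ c
    rw [h1]
    by_contra hcu
    have h2 : algebraMap T C (MvPolynomial.C c) ∈ MC := by
      have : MvPolynomial.C c ∈ MD.comap (algebraMap T D) := by
        rw [hMN]
        show IsLocalRing.residue A (MvPolynomial.constantCoeff (MvPolynomial.C c)) = 0
        rw [MvPolynomial.constantCoeff_C]; exact Ideal.Quotient.eq_zero_iff_mem.2 hcu
      exact this
    have h3 : algebraMap T C (MvPolynomial.C c) - rC ∈ p₁ := hAC c ▸ Ideal.Quotient.eq.1 hc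
    exact hrM (show rC ∈ MC by
      have := MC.sub_mem h2 (hp₁le h3)
      rwa [sub_sub_cancel] at this)
  obtain ⟨rinv, hrinv⟩ := hrunit.exists_left_inv
  have hr' : ∀ x : D, ∃ n, IsIntegral T (r ^ n * x) := hr
  choose n hn using hr'
  have hindep : ∀ (x : D) (N₁ : ℕ) (h : IsIntegral T (r ^ N₁ * x)),
      rinv ^ N₁ * θ ⟨_, h⟩ = rinv ^ (n x) * θ ⟨_, hn x⟩ := by
    intro x N₁ h
    have e1 : rC ^ (n x) * (⟨_, h⟩ : C) = rC ^ N₁ * ⟨_, hn x⟩ := Subtype.ext (by simp [rC]; ring)
    have e2 := congrArg θ e1
    rw [map_mul, map_mul, map_pow, map_pow] at e2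
    have hone : ∀ N, rinv ^ N * θ rC ^ N = 1 := fun N => by rw [← mul_pow, hrinv, one_pow]
    calc rinv ^ N₁ * θ ⟨_, h⟩ = rinv ^ N₁ * (rinv ^ (n x) * θ rC ^ (n x)) * θ ⟨_, h⟩ := by rw [hone, mul_one]
      _ = rinv ^ N₁ * rinv ^ (n x) * (θ rC ^ (n x) * θ ⟨_, h⟩) := by ring
      _ = rinv ^ (n x) * (rinv ^ N₁ * θ rC ^ N₁) * θ ⟨_, hn x⟩ := by rw [e2]; ring
      _ = _ := by rw [hone, mul_one]
  let Θ : D →+* A :=
    { toFun := fun x => rinv ^ (n x) * θ ⟨_, hn x⟩
      map_one' := by
        rw [← hindep 1 0 (by simpa using isIntegral_one)]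
        rw [pow_zero, one_mul, show (⟨_, _⟩ : C) = 1 from Subtype.ext (by simp), map_one]
      map_mul' := fun x y => by
        have h : IsIntegral T (r ^ (n x + n y) * (x * y)) := by
          rw [show r ^ (n x + n y) * (x * y) = r ^ n x * x * (r ^ n y * y) by ring]; exact (hn x).mul (hn y)
        rw [← hindep (x * y) _ h, show (⟨_, h⟩ : C) = ⟨_, hn x⟩ * ⟨_, hn y⟩ from Subtype.ext (by simp; ring),
          map_mul, pow_add]
        ring
      map_zero' := by
        rw [show (⟨_, hn 0⟩ : C) = 0 from Subtype.ext (by simp), map_zero, mul_zero]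
      map_add' := fun x y => by
        have h : IsIntegral T (r ^ (n x + n y) * (x + y)) := by
          rw [show r ^ (n x + n y) * (x + y) = r ^ n y * (r ^ n x * x) + r ^ n x * (r ^ n y * y) by ring]
          exact ((hrint.pow _).mul (hn x)).add ((hrint.pow _).mul (hn y))
        rw [← hindep (x + y) _ h,
          show (⟨_, h⟩ : C) = rC ^ n y * ⟨_, hn x⟩ + rC ^ n x * ⟨_, hn y⟩ from Subtype.ext (by simp [rC]; ring),
          map_add, map_mul, map_mul, map_pow, map_pow, pow_add]
        have hone : ∀ N, rinv ^ N * θ rC ^ N = 1 := fun N => by rw [← mul_pow, hrinv, one_pow]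
        linear_combination (rinv ^ n x * θ ⟨_, hn x⟩) * hone (n y) + (rinv ^ n y * θ ⟨_, hn y⟩) * hone (n x) }
  refine ⟨{ Θ.comp δ with commutes' := fun c => ?_ }⟩
  show Θ (δ (algebraMap A B c)) = c
  rw [show δ (algebraMap A B c) = algebraMap T D (MvPolynomial.C c) from IsScalarTower.algebraMap_apply A T D c]
  have hi : IsIntegral T (r ^ 0 * algebraMap T D (MvPolynomial.C c)) := by simpa using isIntegral_algebraMap
  show rinv ^ (n _) * θ ⟨_, hn _⟩ = c
  rw [← hindep _ 0 hi, pow_zero, one_mul, show (⟨_, hi⟩ : C) = algebraMap T C (MvPolynomial.C c) from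
    Subtype.ext (by simp)]
  show η (Ideal.Quotient.mk p₁ (algebraMap T C (MvPolynomial.C c))) = c
  rw [← hAC]
  exact RingEquiv.symm_apply_apply (RingEquiv.ofBijective (algebraMap A E) hbij) c

end Groth.Agent.H7Flat
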