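import Groth.Agent.H7Flat.FlatChain
import Groth.Agent.H7Lim.IdealExtension
import Groth.Agent.H06Mod.StalkBaseChange
import Groth.Agent.H29Fitt.FP
import Groth.Agent.H8Props.FinLocFree.Sheaf
import Groth.Prelude.Def_FlatMod2
import Groth.Prelude.Def_CohB1

/-!
# Generic flatness stratification
-/

set_option autoImplicit false
set_option backward.isDefEq.respectTransparency false
set_option linter.style.haveILetI false

universe u

open CategoryTheory Limits AlgebraicGeometry TopologicalSpace TensorProduct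

namespace Groth.Agent.H7Flat

attribute [local instance] Algebra.TensorProduct.rightAlgebra

/-- If `R' ⊗_R N` is flat over `R'` and `A ⊗_R R' → C` is flat then `C ⊗_A N` is flat over `R'`. -/
theorem flat_baseChange_of_flat_tensor (R A R' C N : Type u) [CommRing R] [CommRing A] [CommRing R']
    [CommRing C] [Algebra R A] [Algebra R R'] [Algebra R C] [Algebra A C] [Algebra R' C]
    [IsScalarTower R A C] [IsScalarTower R R' C] [AddCommGroup N] [Module R N] [Module A N]
    [IsScalarTower R A N] [Module.Flat R' (R' ⊗[R] N)] (h : (H06Mod.tensorLift R A R' C).toRingHom.Flat) :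
    Module.Flat R' (C ⊗[A] N) := by
  let ψ : R' ⊗[R] A →ₐ[R] C :=
    (H06Mod.tensorLift R A R' C).comp (Algebra.TensorProduct.comm R R' A).toAlgHom
  letI : Algebra (R' ⊗[R] A) C := ψ.toRingHom.toAlgebra
  haveI : IsScalarTower R' (R' ⊗[R] A) C := .of_algebraMap_eq fun r => by
    show algebraMap R' C r = ψ (r ⊗ₜ 1)
    simp [ψ, H06Mod.tensorLift]
  haveI : IsScalarTower A (R' ⊗[R] A) C := .of_algebraMap_eq fun r => by
    show algebraMap A C r = ψ (1 ⊗ₜ r)
    simp [ψ, H06Mod.tensorLift]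
  haveI : Module.Flat (R' ⊗[R] A) C := by
    have hb : (Algebra.TensorProduct.comm R R' A).toAlgHom.toRingHom.Flat :=
      RingHom.Flat.of_bijective (Algebra.TensorProduct.comm R R' A).bijective
    exact hb.comp h
  haveI : Module.Flat R' ((R' ⊗[R] A) ⊗[A] N) :=
    Module.Flat.of_linearEquiv (Algebra.IsPushout.cancelBaseChange R R' A (R' ⊗[R] A) N)
  haveI := H06Mod.flat_tensor_of_flat (R := R') (S := R' ⊗[R] A) (T := C) (N := (R' ⊗[R] A) ⊗[A] N)
  exact Module.Flat.of_linearEquiv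
    ((AlgebraTensorModule.cancelBaseChange A (R' ⊗[R] A) C C N).restrictScalars R').symm

/-- The map from sections over an affine open to the local ring at a point over it, on spectra. -/
theorem SpecMap_app_germ_fromSpec {Y Z : Scheme.{u}} (p : Z ⟶ Y) {V : Y.Opens} (hV : IsAffineOpen V)
    (z : Z) (hz : p z ∈ V) :
    Spec.map (p.app V ≫ Z.presheaf.germ (p ⁻¹ᵁ V) z hz) ≫ hV.fromSpec = Z.fromSpecStalk z ≫ p := by
  obtain ⟨V', hV', hzV', hle⟩ := exists_isAffineOpen_mem_and_subset (U := p ⁻¹ᵁ V) (x := z) hz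
  have e : p.app V ≫ Z.presheaf.germ (p ⁻¹ᵁ V) z hz =
      p.appLE V V' hle ≫ Z.presheaf.germ V' z hzV' := by
    rw [Scheme.Hom.appLE, Category.assoc, Z.presheaf.germ_res]
  rw [e, Spec.map_comp, Category.assoc, IsAffineOpen.SpecMap_appLE_fromSpec p hV hV',
    ← hV'.fromSpecStalk_eq_fromSpecStalk hzV', IsAffineOpen.fromSpecStalk, Category.assoc]

variable {X Y Y' : Scheme.{u}} (f : X ⟶ Y) (g : Y' ⟶ Y)

/-- A criterion for flatness of a base changed module at a point, on sections over affine charts. -/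
theorem isFlatOverAt_pullback_of_sections (F : X.Modules) (hF : Coh.IsQCoh F)
    {V : Y.Opens} (hV : IsAffineOpen V) {U : X.Opens} (hU : IsAffineOpen U) (hUV : U ≤ f ⁻¹ᵁ V)
    (x' : ↑(pullback f g)) (hx : pullback.fst f g x' ∈ U) (hy : g (pullback.snd f g x') ∈ V)
    (h : letI := Module.compHom Γ(F, U) (f.appLE V U hUV).hom
      letI := (g.app V ≫ Y'.presheaf.germ (g ⁻¹ᵁ V) (pullback.snd f g x') hy).hom.toAlgebra
      Module.Flat (Y'.presheaf.stalk (pullback.snd f g x'))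
        (Y'.presheaf.stalk (pullback.snd f g x') ⊗[Γ(Y, V)] Γ(F, U))) :
    FlatMod.IsFlatOverAt (pullback.snd f g) ((Scheme.Modules.pullback (pullback.fst f g)).obj F) x' := by
  let x := pullback.fst f g x'
  let y' := pullback.snd f g x'
  let P := pullback f g
  letI := Module.compHom Γ(F, U) (f.appLE V U hUV).hom
  letI : Algebra Γ(Y, V) Γ(X, U) := (f.appLE V U hUV).hom.toAlgebra
  haveI : IsScalarTower Γ(Y, V) Γ(X, U) Γ(F, U) := .of_algebraMap_smul fun _ _ => rfl
  letI : Algebra Γ(Y, V) (Y'.presheaf.stalk y') :=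
    (g.app V ≫ Y'.presheaf.germ (g ⁻¹ᵁ V) y' hy).hom.toAlgebra
  haveI : Module.Flat (Y'.presheaf.stalk y') (Y'.presheaf.stalk y' ⊗[Γ(Y, V)] Γ(F, U)) := h
  let γ : Γ(X, U) ⟶ P.presheaf.stalk x' :=
    (pullback.fst f g).app U ≫ P.presheaf.germ (pullback.fst f g ⁻¹ᵁ U) x' hx
  letI : Algebra Γ(X, U) (P.presheaf.stalk x') := γ.hom.toAlgebra
  letI : Algebra (Y'.presheaf.stalk y') (P.presheaf.stalk x') :=
    ((pullback.snd f g).stalkMap x').hom.toAlgebra
  letI : Algebra Γ(Y, V) (P.presheaf.stalk x') := (f.appLE V U hUV ≫ γ).hom.toAlgebra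
  haveI : IsScalarTower Γ(Y, V) Γ(X, U) (P.presheaf.stalk x') := .of_algebraMap_eq fun _ => rfl
  haveI := hU.isOpenImmersion_fromSpec
  haveI := hV.isOpenImmersion_fromSpec
  have ha : Spec.map (f.appLE V U hUV) ≫ hV.fromSpec = hU.fromSpec ≫ f :=
    IsAffineOpen.SpecMap_appLE_fromSpec f hV hU hUV
  have hb : Spec.map (g.app V ≫ Y'.presheaf.germ (g ⁻¹ᵁ V) y' hy) ≫ hV.fromSpec =
      Y'.fromSpecStalk y' ≫ g := SpecMap_app_germ_fromSpec g hV y' hy
  have hc : Spec.map γ ≫ hU.fromSpec = P.fromSpecStalk x' ≫ pullback.fst f g :=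
    SpecMap_app_germ_fromSpec _ hU x' hx
  have hcomm : (g.app V ≫ Y'.presheaf.germ (g ⁻¹ᵁ V) y' hy) ≫ (pullback.snd f g).stalkMap x' =
      f.appLE V U hUV ≫ γ := by
    apply Spec.map_injective
    rw [← cancel_mono hV.fromSpec, Spec.map_comp, Spec.map_comp (f.appLE V U hUV), Category.assoc,
      Category.assoc, hb, ha, ← Category.assoc, ← Category.assoc,
      Scheme.SpecMap_stalkMap_fromSpecStalk, hc, Category.assoc, Category.assoc, pullback.condition]
  haveI : IsScalarTower Γ(Y, V) (Y'.presheaf.stalk y') (P.presheaf.stalk x') :=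
    .of_algebraMap_eq fun r => congr($(congrArg CommRingCat.Hom.hom hcomm) r).symm
  have hflat := H06Mod.flat_tensorLift Γ(Y, V) Γ(X, U) (Y'.presheaf.stalk y') (P.presheaf.stalk x')
    f g hU.fromSpec hV.fromSpec (Y'.fromSpecStalk y') ha hb (P.fromSpecStalk x') hc
    (Scheme.SpecMap_stalkMap_fromSpecStalk _)
  have h2 : Module.Flat (Y'.presheaf.stalk y') (P.presheaf.stalk x' ⊗[Γ(X, U)] Γ(F, U)) :=
    flat_baseChange_of_flat_tensor _ _ _ _ _ hflat
  letI := TopCat.Presheaf.algebra_section_stalk X.presheaf (⟨x, hx⟩ : U)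
  letI : Module Γ(X, U) (F.presheaf.stalk x) :=
    Module.compHom (F.presheaf.stalk x) (algebraMap Γ(X, U) (X.presheaf.stalk x))
  haveI : IsScalarTower Γ(X, U) (X.presheaf.stalk x) (F.presheaf.stalk x) :=
    .of_algebraMap_smul fun _ _ => rfl
  haveI := hU.isLocalization_stalk ⟨x, hx⟩
  have hbc : IsBaseChange (X.presheaf.stalk x) (H29Fitt.germLin F ⟨x, hx⟩) :=
    haveI := H29Fitt.isLocalizedModule_germLin F hF hU ⟨x, hx⟩
    IsLocalizedModule.isBaseChange (hU.primeIdealOf ⟨x, hx⟩).asIdeal.primeCompl _ _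
  letI : Algebra (X.presheaf.stalk x) (P.presheaf.stalk x') := H06Mod.stalkAlgebra (pullback.fst f g) x'
  haveI : IsScalarTower Γ(X, U) (X.presheaf.stalk x) (P.presheaf.stalk x') :=
    .of_algebraMap_eq fun r =>
      congr($(congrArg CommRingCat.Hom.hom ((pullback.fst f g).germ_stalkMap U x' hx)) r).symm
  let e₁ : P.presheaf.stalk x' ⊗[Γ(X, U)] Γ(F, U) ≃ₗ[P.presheaf.stalk x']
      ((Scheme.Modules.pullback (pullback.fst f g)).obj F).presheaf.stalk x' :=
    (AlgebraTensorModule.cancelBaseChange Γ(X, U) (X.presheaf.stalk x) (P.presheaf.stalk x')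
        (P.presheaf.stalk x') Γ(F, U)).symm ≪≫ₗ
      AlgebraTensorModule.congr (LinearEquiv.refl _ _) hbc.equiv ≪≫ₗ
      H06Mod.pullStalkEquiv (pullback.fst f g) F x'
  letI : Module (Y'.presheaf.stalk y')
      (((Scheme.Modules.pullback (pullback.fst f g)).obj F).presheaf.stalk x') :=
    FlatMod.moduleStalkOver (pullback.snd f g) _ x'
  let e : P.presheaf.stalk x' ⊗[Γ(X, U)] Γ(F, U) ≃ₗ[Y'.presheaf.stalk y']
      ((Scheme.Modules.pullback (pullback.fst f g)).obj F).presheaf.stalk x' :=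
    { e₁.toAddEquiv with
      map_smul' := fun r t => by
        show e₁ (r • t) = ((pullback.snd f g).stalkMap x').hom r • e₁ t
        rw [← algebraMap_smul (P.presheaf.stalk x') r t, map_smul]
        rfl }
  show Module.Flat (Y'.presheaf.stalk y') _
  haveI := h2
  exact Module.Flat.of_linearEquiv e.symm

variable {S : Scheme.{u}}

/-- Near `s`, `J` is contained in `I`. -/
def LeAt (s : S) (J I : S.IdealSheafData) : Prop :=
  ∃ W : S.affineOpens, s ∈ W.1 ∧ J.ideal W ≤ I.ideal W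

/-- A finite chain of finite type ideals from `⊥` to `⊤`. -/
def IsFTChain (n : ℕ) (I : ℕ → S.IdealSheafData) : Prop :=
  I 0 = ⊥ ∧ I n = ⊤ ∧ Monotone I ∧ ∀ k (U : S.affineOpens), ((I k).ideal U).FG

/-- Each stratum of `I` lies in a stratum of `J`. -/
def Refines (n : ℕ) (I : ℕ → S.IdealSheafData) (m : ℕ) (J : ℕ → S.IdealSheafData) : Prop :=
  ∀ i < n, ∀ s : S, s ∈ (I i).support → s ∉ (I (i + 1)).support →
    ∃ k < m, s ∉ (J (k + 1)).support ∧ LeAt s (J k) (I i)

theorem exists_merge {n m : ℕ} {I J : ℕ → S.IdealSheafData} (hI : IsFTChain n I) (hJ : IsFTChain m J) :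
    ∃ (p : ℕ) (K : ℕ → S.IdealSheafData), IsFTChain p K ∧ Refines p K m J ∧
      ∀ (q : ℕ) (L : ℕ → S.IdealSheafData), Refines n I q L → Refines p K q L := by
  obtain ⟨hI0, hIn, hImono, hIfg⟩ := hI
  obtain ⟨hJ0, hJm, hJmono, hJfg⟩ := hJ
  let K : ℕ → S.IdealSheafData := fun a =>
    I (a / (m + 1)) ⊔ I (a / (m + 1) + 1) * J (a % (m + 1))
  have hK : ∀ a, a % (m + 1) = m →
      K a = I (a / (m + 1) + 1) ∧ K (a + 1) = I (a / (m + 1) + 1) := fun a ha => by
    have h1 : (a + 1) % (m + 1) = 0 := by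
      rw [Nat.add_mod, ha]
      rcases m with - | m <;> simp
    have h2 : (a + 1) / (m + 1) = a / (m + 1) + 1 := by
      have e : a + 1 = (m + 1) * (a / (m + 1) + 1) := by
        conv_lhs => rw [← Nat.div_add_mod a (m + 1), ha]
        ring
      rw [e, Nat.mul_div_cancel_left _ (Nat.succ_pos m)]
    refine ⟨?_, ?_⟩
    · ext U
      simp only [K, ha, hJm, Scheme.IdealSheafData.ideal_sup, Scheme.IdealSheafData.ideal_mul,
        Pi.sup_apply, Pi.mul_apply, Scheme.IdealSheafData.ideal_top, Pi.top_apply, Ideal.mul_top,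
        sup_eq_right.mpr (hImono (Nat.le_succ _) U)]
    · ext U
      simp [K, h1, h2, hJ0]
  have hK' : ∀ a, a % (m + 1) < m →
      (a + 1) / (m + 1) = a / (m + 1) ∧ (a + 1) % (m + 1) = a % (m + 1) + 1 := fun a ha => by
    have e : a + 1 = (m + 1) * (a / (m + 1)) + (a % (m + 1) + 1) := by
      rw [← add_assoc, Nat.div_add_mod]
    refine ⟨?_, ?_⟩
    · rw [e, Nat.mul_add_div (Nat.succ_pos m), Nat.div_eq_of_lt (show a % (m + 1) + 1 < m + 1 by omega), add_zero]
    · conv_lhs => rw [e, Nat.mul_add_mod, Nat.mod_eq_of_lt (by omega)]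
  refine ⟨n * (m + 1), K, ⟨?_, ?_, monotone_nat_of_le_succ fun a => ?_, fun a U => ?_⟩, ?_⟩
  · ext U
    simp [K, hI0, hJ0]
  · ext U
    simp [K, Nat.mul_div_cancel n (Nat.succ_pos m), hIn]
  · rcases lt_or_eq_of_le (Nat.lt_succ_iff.mp (Nat.mod_lt a (Nat.succ_pos m))) with h | h
    · obtain ⟨h1, h2⟩ := hK' a h
      intro U
      simp only [K, h1, h2, Scheme.IdealSheafData.ideal_sup, Scheme.IdealSheafData.ideal_mul,
        Pi.sup_apply, Pi.mul_apply]
      exact sup_le_sup le_rfl (Ideal.mul_mono_right (hJmono (Nat.le_succ _) U))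
    · exact ((hK a h).1.trans (hK a h).2.symm).le
  · simp only [K, Scheme.IdealSheafData.ideal_sup, Scheme.IdealSheafData.ideal_mul, Pi.sup_apply,
      Pi.mul_apply]
    exact Submodule.FG.sup (hIfg _ U) (Submodule.FG.mul (hIfg _ U) (hJfg _ U))
  · suffices main : ∀ a < n * (m + 1), ∀ s : S, s ∈ (K a).support → s ∉ (K (a + 1)).support →
        a / (m + 1) < n ∧ s ∈ (I (a / (m + 1))).support ∧ s ∉ (I (a / (m + 1) + 1)).support ∧
          a % (m + 1) < m ∧ s ∉ (J (a % (m + 1) + 1)).support ∧ LeAt s (J (a % (m + 1))) (K a) by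
      refine ⟨fun a ha s hs hs' => ?_, fun q L hL a ha s hs hs' => ?_⟩
      · obtain ⟨-, -, -, h4, h5, h6⟩ := main a ha s hs hs'
        exact ⟨_, h4, h5, h6⟩
      · obtain ⟨h1, h2, h3, -, -, -⟩ := main a ha s hs hs'
        obtain ⟨k, hk, hks, W, hsW, hW⟩ := hL _ h1 s h2 h3
        exact ⟨k, hk, hks, W, hsW, hW.trans ((le_sup_left : I (a / (m + 1)) ≤ K a) W)⟩
    intro a ha s hs hs'
    have hi : a / (m + 1) < n := (Nat.div_lt_iff_lt_mul (Nat.succ_pos m)).mpr ha
    have hm : a % (m + 1) < m := by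
      refine lt_of_le_of_ne (Nat.lt_succ_iff.mp (Nat.mod_lt a (Nat.succ_pos m))) fun h => hs' ?_
      rwa [(hK a h).2, ← (hK a h).1]
    obtain ⟨h1, h2⟩ := hK' a hm
    simp only [K, h1, h2, Scheme.IdealSheafData.support_sup, Scheme.IdealSheafData.support_mul] at hs hs'
    obtain ⟨hsI, hs''⟩ := hs
    have hsI1 : s ∉ (I (a / (m + 1) + 1)).support := fun h => hs' ⟨hsI, Or.inl h⟩
    refine ⟨hi, hsI, hsI1, hm, fun h => hs' ⟨hsI, Or.inr h⟩, ?_⟩
    obtain ⟨W, hW, hsW, hle⟩ := exists_isAffineOpen_mem_and_subset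
      (U := (I (a / (m + 1) + 1)).support.compl) (x := s) hsI1
    have htop : (I (a / (m + 1) + 1)).ideal ⟨W, hW⟩ = ⊤ := by
      rw [← PrimeSpectrum.zeroLocus_empty_iff_eq_top, ← hW.fromSpec_preimage_zeroLocus,
        Set.eq_empty_iff_forall_notMem]
      intro p hp
      have hpW : hW.fromSpec p ∈ W := hW.range_fromSpec.le ⟨p, rfl⟩
      exact hle hpW (((I (a / (m + 1) + 1)).mem_support_iff_of_mem (U := ⟨W, hW⟩) hpW).mpr hp)
    refine ⟨⟨W, hW⟩, hsW, ?_⟩
    simp [K, htop]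

theorem exists_chain_refining {ι : Type*} [Finite ι] (m : ι → ℕ) (J : ι → ℕ → S.IdealSheafData)
    (hJ : ∀ j, IsFTChain (m j) (J j)) :
    ∃ (n : ℕ) (I : ℕ → S.IdealSheafData), IsFTChain n I ∧ ∀ j, Refines n I (m j) (J j) := by
  classical
  haveI := Fintype.ofFinite ι
  suffices ∀ s : Finset ι, ∃ (n : ℕ) (I : ℕ → S.IdealSheafData),
      IsFTChain n I ∧ ∀ j ∈ s, Refines n I (m j) (J j) by
    obtain ⟨n, I, h1, h2⟩ := this Finset.univ
    exact ⟨n, I, h1, fun j => h2 j (Finset.mem_univ j)⟩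
  intro s
  induction s using Finset.induction with
  | empty =>
    refine ⟨1, fun k => if k = 0 then ⊥ else ⊤, ⟨rfl, rfl, monotone_nat_of_le_succ fun k => ?_,
      fun k U => ?_⟩, by simp⟩
    · simp
    · rcases k with - | k
      · simp only [if_pos, Scheme.IdealSheafData.ideal_bot, Pi.bot_apply]
        exact Submodule.fg_bot
      · simpa using Ideal.fg_top _
  | insert a s ha ih =>
    obtain ⟨n, I, hI, hIs⟩ := ih
    obtain ⟨p, K, hK, hKJ, hKI⟩ := exists_merge hI (hJ a)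
    refine ⟨p, K, hK, fun j hj => ?_⟩
    rcases Finset.mem_insert.mp hj with rfl | hj
    · exact hKJ
    · exact hKI _ _ (hIs j hj)

/-- A chain of f.g. ideals on an affine open extends to a chain of finite type ideals. -/
theorem exists_extend_chain [CompactSpace S] [QuasiSeparatedSpace S] (U : S.affineOpens) (m : ℕ)
    (c : ℕ → Ideal Γ(S, U)) (h0 : c 0 = ⊥) (hm : c m = ⊤) (hmono : Monotone c)
    (hfg : ∀ k, (c k).FG) :
    ∃ J : ℕ → S.IdealSheafData, IsFTChain (m + 1) J ∧ ∀ k ≤ m, (J k).ideal U = c k := by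
  have h : ∀ k, ∃ E : S.IdealSheafData, (∀ A : S.affineOpens, (E.ideal A).FG) ∧ E.ideal U = c k :=
    fun k => by
      obtain ⟨s, hs⟩ := hfg k
      obtain ⟨E, hE, hEfg, hsE⟩ := H7Lim.exists_finiteType_le
        (H7Lim.cutSheaf (⊤ : S.IdealSheafData) U (c k)) U s (by
          rw [H7Lim.cutSheaf_ideal_self _ _ _ (by simp), ← hs]
          exact Ideal.subset_span)
      refine ⟨E, hEfg, le_antisymm ((hE U).trans (le_of_eq
        (H7Lim.cutSheaf_ideal_self _ _ _ (by simp)))) ?_⟩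
      rw [← hs]
      exact Ideal.span_le.mpr hsE
  choose E hEfg hE using h
  let J' : ℕ → S.IdealSheafData := fun k =>
    Nat.rec (motive := fun _ => S.IdealSheafData) ⊥ (fun j P => P ⊔ E (j + 1)) k
  have hmono' : ∀ k, J' k ≤ J' (k + 1) := fun k => le_sup_left
  have hfg' : ∀ k (A : S.affineOpens), ((J' k).ideal A).FG := fun k A => by
    induction k with
    | zero =>
      simp only [J', Scheme.IdealSheafData.ideal_bot, Pi.bot_apply]
      exact Submodule.fg_bot
    | succ k ih =>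
      show ((J' k ⊔ E (k + 1)).ideal A).FG
      rw [Scheme.IdealSheafData.ideal_sup]
      exact Submodule.FG.sup ih (hEfg (k + 1) A)
  have hval : ∀ k, (J' k).ideal U = c k := fun k => by
    induction k with
    | zero => simp [J', h0]
    | succ k ih =>
      show (J' k ⊔ E (k + 1)).ideal U = _
      simp [ih, hE, hmono k.le_succ]
  refine ⟨fun k => if k ≤ m then J' k else ⊤, ⟨by simp [J'], by simp,
    monotone_nat_of_le_succ fun k => ?_, fun k A => ?_⟩, fun k hk => by simp [hk, hval]⟩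
  · split_ifs with h1 h2 h3
    · exact hmono' k
    · exact le_top
    · omega
    · exact le_rfl
  · simp only
    split_ifs
    · exact hfg' k A
    · simpa using Ideal.fg_top _

/-- Generic flatness stratification. -/
theorem exists_flat_stratification {X S : Scheme.{u}} (f : X ⟶ S) [LocallyOfFinitePresentation f]
    [QuasiCompact f] [CompactSpace S] [QuasiSeparatedSpace S] (F : X.Modules) (hF : Coh.IsQCoh F)
    (hfp : CohB1.IsFP F) :
    ∃ (t : ℕ) (I : Fin (t + 1) → S.IdealSheafData), Monotone I ∧ I (Fin.last t) = ⊤ ∧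
      ((I 0).support : Set ↑S) = Set.univ ∧ (∀ i, ∀ U : S.affineOpens, ((I i).ideal U).FG) ∧
      ∀ i : Fin t, FlatMod.IsFlatOver
        (pullback.snd f (((I i.castSucc).subschemeι ⁻¹ᵁ (I i.succ).support.compl).ι ≫ (I i.castSucc).subschemeι))
        ((Scheme.Modules.pullback (pullback.fst f (((I i.castSucc).subschemeι ⁻¹ᵁ (I i.succ).support.compl).ι ≫ (I i.castSucc).subschemeι))).obj F) := by
  classical
  obtain ⟨us, hus⟩ := isCompact_univ.elim_finite_subcover (fun U : S.affineOpens => (U.1 : Set S))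
    (fun U => U.1.2) (fun x _ => by
      obtain ⟨V, hV, hx, -⟩ := exists_isAffineOpen_mem_and_subset (U := (⊤ : S.Opens)) (x := x) trivial
      exact Set.mem_iUnion.mpr ⟨⟨V, hV⟩, hx⟩)
  have hloc : ∀ j : us, ∃ (m : ℕ) (J : ℕ → S.IdealSheafData), IsFTChain m J ∧
      ∀ k < m, ∀ (T : Scheme.{u}) (g : T ⟶ S) (x' : ↑(pullback f g))
        (hy : g (pullback.snd f g x') ∈ j.1.1),
        (∀ a ∈ (J k).ideal j.1,
          (g.app j.1 ≫ T.presheaf.germ (g ⁻¹ᵁ j.1.1) (pullback.snd f g x') hy).hom a = 0) →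
        g (pullback.snd f g x') ∉ (J (k + 1)).support →
        FlatMod.IsFlatOverAt (pullback.snd f g)
          ((Scheme.Modules.pullback (pullback.fst f g)).obj F) x' := fun j => by
    have hc : IsCompact (f ⁻¹ᵁ j.1.1 : Set X) := f.isCompact_preimage j.1.2.isCompact
    obtain ⟨W, hW⟩ := hc.elim_finite_subcover (fun W : {W : X.affineOpens // W.1 ≤ f ⁻¹ᵁ j.1.1} =>
      (W.1.1 : Set X)) (fun W => W.1.1.2) (fun x hx => by
        obtain ⟨V, hV, hxV, hle⟩ := exists_isAffineOpen_mem_and_subset (U := f ⁻¹ᵁ j.1.1) (x := x) hx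
        exact Set.mem_iUnion.mpr ⟨⟨⟨V, hV⟩, hle⟩, hxV⟩)
    letI alg : ∀ l : W, Algebra Γ(S, j.1) Γ(X, l.1.1.1) := fun l =>
      (f.appLE j.1 l.1.1 l.1.2).hom.toAlgebra
    letI mod : ∀ l : W, Module Γ(S, j.1) Γ(F, l.1.1.1) := fun l =>
      Module.compHom Γ(F, l.1.1.1) (f.appLE j.1 l.1.1 l.1.2).hom
    haveI : ∀ l : W, IsScalarTower Γ(S, j.1) Γ(X, l.1.1.1) Γ(F, l.1.1.1) := fun l =>
      .of_algebraMap_smul fun _ _ => rfl
    haveI : ∀ l : W, Algebra.FinitePresentation Γ(S, j.1) Γ(X, l.1.1.1) := fun l =>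
      HasRingHomProperty.appLE @LocallyOfFinitePresentation f ‹_› j.1 l.1.1 l.1.2
    haveI : ∀ l : W, Module.FinitePresentation Γ(X, l.1.1.1) Γ(F, l.1.1.1) := fun l =>
      H8Props.FinLocFree.finitePresentation_sections F hfp l.1.1.2
    obtain ⟨m, c, h0, hm, hmono, hfg, hflat⟩ := exists_flatChain (A := Γ(S, j.1))
      (fun l : W => Γ(X, l.1.1.1)) (fun l : W => Γ(F, l.1.1.1))
    obtain ⟨J, hJ, hJval⟩ := exists_extend_chain j.1 m c h0 hm hmono hfg
    refine ⟨m + 1, J, hJ, fun k hk T g x' hy hzero hsupp => ?_⟩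
    obtain ⟨l, hl, hxl⟩ := Set.mem_iUnion₂.mp (hW (show pullback.fst f g x' ∈ f ⁻¹ᵁ j.1.1 by
      show f (pullback.fst f g x') ∈ j.1.1
      rw [← Scheme.Hom.comp_apply, pullback.condition, Scheme.Hom.comp_apply]
      exact hy))
    refine isFlatOverAt_pullback_of_sections f g F hF j.1.2 l.1.2 l.2 x' hxl hy ?_
    letI := (g.app j.1 ≫ T.presheaf.germ (g ⁻¹ᵁ j.1.1) (pullback.snd f g x') hy).hom.toAlgebra
    by_cases hkm : k < m
    · refine hflat k hkm (T.presheaf.stalk (pullback.snd f g x')) ?_ ?_ ⟨l, hl⟩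
      · rw [← hJval k hkm.le, Ideal.map_eq_bot_iff_le_ker]
        exact hzero
      · rw [← hJval (k + 1) hkm]
        rw [(J (k + 1)).mem_support_iff_of_mem hy, Scheme.mem_zeroLocus_iff] at hsupp
        push Not at hsupp
        obtain ⟨a, ha, hau⟩ := hsupp
        refine Ideal.eq_top_of_isUnit_mem _ (Ideal.mem_map_of_mem _ ha) ?_
        change IsUnit ((T.presheaf.germ (g ⁻¹ᵁ j.1.1) _ hy).hom ((g.app j.1).hom a))
        rw [← T.mem_basicOpen _ _ hy]
        rw [← Scheme.preimage_basicOpen]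
        exact hau
    · have hkm' : k = m := by omega
      haveI : Subsingleton (T.presheaf.stalk (pullback.snd f g x')) := by
        refine subsingleton_of_zero_eq_one ?_
        have h1 := hzero 1 (by rw [hkm', hJval m le_rfl, hm]; trivial)
        rw [map_one] at h1
        exact h1.symm
      infer_instance
  choose m J hJ hflat using hloc
  obtain ⟨n, I, ⟨hI0, hIn, hImono, hIfg⟩, href⟩ := exists_chain_refining m J hJ
  refine ⟨n, fun i => I i, fun a b h => hImono h, by simpa using hIn, by simp [hI0],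
    fun i U => hIfg _ U, fun i => ?_⟩
  set ι := ((I i.castSucc).subschemeι ⁻¹ᵁ (I i.succ).support.compl).ι ≫ (I i.castSucc).subschemeι with hι
  intro x'
  set t := pullback.snd f ι x'
  obtain ⟨j, hj, hjs⟩ := Set.mem_iUnion₂.mp (hus (Set.mem_univ (ι t)))
  have hs1 : ι t ∈ (I i).support := by
    rw [← SetLike.mem_coe, ← (I i).range_subschemeι]
    exact ⟨_, rfl⟩
  have hs2 : ι t ∉ (I (i + 1)).support := t.2
  obtain ⟨k, hk, hks, W, hsW, hW⟩ := href ⟨j, hj⟩ i i.2 (ι t) hs1 hs2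
  refine hflat ⟨j, hj⟩ k hk _ ι x' hjs (fun a ha => ?_) hks
  obtain ⟨V, hV, hsV, hle⟩ := exists_isAffineOpen_mem_and_subset (U := j.1 ⊓ W.1) (x := ι t) ⟨hjs, hsW⟩
  have h1 : (S.presheaf.map (homOfLE (hle.trans inf_le_left)).op).hom a ∈ (I i).ideal ⟨V, hV⟩ := by
    have h2 : (J ⟨j, hj⟩ k).ideal ⟨V, hV⟩ ≤ (I i).ideal ⟨V, hV⟩ := by
      rw [← Scheme.IdealSheafData.map_ideal _ (U := ⟨V, hV⟩) (V := W) (hle.trans inf_le_right),
        ← Scheme.IdealSheafData.map_ideal (I i) (U := ⟨V, hV⟩) (V := W) (hle.trans inf_le_right)]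
      exact Ideal.map_mono hW
    refine h2 ?_
    rw [← Scheme.IdealSheafData.map_ideal _ (U := ⟨V, hV⟩) (V := j) (hle.trans inf_le_left)]
    exact Ideal.mem_map_of_mem _ ha
  rw [← (I i).ker_subschemeι_app ⟨V, hV⟩, RingHom.mem_ker] at h1
  have h3 : ι.app V ((S.presheaf.map (homOfLE (hle.trans inf_le_left)).op).hom a) = 0 := by
    change ((I i).subschemeι.app V ≫ _).hom _ = 0
    rw [CommRingCat.comp_apply, h1, map_zero]
  let T := ((I i.castSucc).subschemeι ⁻¹ᵁ (I i.succ).support.compl).toScheme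
  have h4 : ι.app j.1 ≫ T.presheaf.germ (ι ⁻¹ᵁ j.1) t hjs =
      S.presheaf.map (homOfLE (hle.trans inf_le_left)).op ≫ ι.app V ≫
        T.presheaf.germ (ι ⁻¹ᵁ V) t hsV := by
    rw [← Category.assoc, ι.naturality, Category.assoc, TopCat.Presheaf.germ_res]
  rw [h4]
  refine (congrArg (T.presheaf.germ (ι ⁻¹ᵁ V) t hsV).hom h3).trans ?_
  exact map_zero _

end Groth.Agent.H7Flat
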