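import Groth.Agent.H7Flat.FibreCriterionFT
import Mathlib.AlgebraicGeometry.Morphisms.SmoothFiber

/-!
# Properties of morphisms of flat schemes over a thickening

`f' : X' ⟶ Y'` over `S'`, `f : X ⟶ Y` its base change along a thickening `S ⟶ S'`.
-/

set_option autoImplicit false
set_option linter.style.haveILetI false
universe u

open AlgebraicGeometry CategoryTheory CategoryTheory.Limits TopologicalSpace

namespace Groth.Agent.H7Flat

open Groth.Agent.H8Props Groth.Agent.H8Props.FibreCriterion

variable {X X' Y Y' S S' : Scheme.{u}} {iX : X ⟶ X'} {iY : Y ⟶ Y'} {iS : S ⟶ S'}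
  {f : X ⟶ Y} {f' : X' ⟶ Y'} {g : Y ⟶ S} {g' : Y' ⟶ S'}

theorem isPullback_top (hcX : IsPullback iX (f ≫ g) (f' ≫ g') iS) (hcY : IsPullback iY g g' iS)
    (w : iX ≫ f' = f ≫ iY) : IsPullback iX f f' iY :=
  IsPullback.of_bot hcX w hcY

theorem surjective_of_thickening {iX : X ⟶ X'} {iS : S ⟶ S'} {p : X ⟶ S} {p' : X' ⟶ S'}
    (hS : MoreMor.IsThickening iS) (hc : IsPullback iX p p' iS) : Surjective iX :=
  MorphismProperty.of_isPullback (P := @Surjective) hc.flip hS.2

theorem isClosedImmersion_of_thickening {iX : X ⟶ X'} {iS : S ⟶ S'} {p : X ⟶ S} {p' : X' ⟶ S'}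
    (hS : MoreMor.IsThickening iS) (hc : IsPullback iX p p' iS) : IsClosedImmersion iX :=
  MorphismProperty.of_isPullback (P := @IsClosedImmersion) hc.flip hS.1

/-- Over a thickening, a morphism whose restriction is flat is flat. -/
theorem flat_of_thickening (hS : MoreMor.IsThickening iS)
    (hcX : IsPullback iX (f ≫ g) (f' ≫ g') iS) (hcY : IsPullback iY g g' iS)
    (w : iX ≫ f' = f ≫ iY) [Flat (f' ≫ g')] [LocallyOfFinitePresentation (f' ≫ g')]
    [LocallyOfFiniteType g'] [Flat f] : Flat f' := by
  haveI := surjective_of_thickening hS hcX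
  refine (Flat.iff_flat_stalkMap _).mpr fun x' => ?_
  obtain ⟨x, rfl⟩ := iX.surjective x'
  have h0 : ((MoreMor.fiberMap f g ((f ≫ g) x)).stalkMap ((f ≫ g).asFiber x)).hom.Flat :=
    flat_stalkMap_baseChange (isPullback_fiberMap f g _) _ (Flat.stalkMap f _)
  obtain ⟨z, hz, h⟩ := flat_fiberMap_descend hcY (isPullback_top hcX hcY w) _ _ h0
  rw [Scheme.Hom.fiberι_asFiber] at hz
  have key : ∀ t : S', ∀ v : (f' ≫ g').fiber t, (f' ≫ g').fiberι t v = iX x →
      ((MoreMor.fiberMap f' g' t).stalkMap v).hom.Flat → t = g' (f' (iX x)) →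
      ((MoreMor.fiberMap f' g' (g' (f' (iX x)))).stalkMap ((f' ≫ g').asFiber (iX x))).hom.Flat := by
    rintro t v hv hflat rfl
    obtain rfl : v = (f' ≫ g').asFiber (iX x) :=
      ((f' ≫ g').fiberι _).isEmbedding.injective (hv.trans ((f' ≫ g').fiberι_asFiber _).symm)
    exact hflat
  have e : iS ((f ≫ g) x) = g' (f' (iX x)) :=
    congrArg (fun k : X ⟶ S' => k x) hcX.w.symm
  obtain ⟨N, -, hxN, hN⟩ := exists_nhds_flat_of_fiberMap f' g' (iX x) (Flat.stalkMap _ _) (key _ z hz h e)
  exact (hN _ hxN).2

theorem isIso_residueFieldMap {i : Y ⟶ Y'} [IsClosedImmersion i] (y : Y) :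
    IsIso (i.residueFieldMap y) := by
  refine (ConcreteCategory.isIso_iff_bijective _).mpr ⟨RingHom.injective (i.residueFieldMap y).hom, ?_⟩
  intro b
  obtain ⟨b, rfl⟩ := Y.residue_surjective y b
  obtain ⟨a, rfl⟩ := i.stalkMap_surjective y b
  exact ⟨Y'.residue (i y) a, congrArg (fun k => k.hom a) (Scheme.residue_residueFieldMap i y)⟩

/-- The fibres of `f'` are those of its restriction to a thickening. -/
theorem fiberToSpec_of_thickening {P : MorphismProperty Scheme.{u}} [P.IsStableUnderBaseChange]
    [IsClosedImmersion iY] [Surjective iY] (h : IsPullback iX f f' iY) (hf : P f) (y' : Y') :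
    P (f'.fiberToSpecResidueField y') := by
  obtain ⟨y, rfl⟩ := iY.surjective y'
  haveI := isIso_residueFieldMap (i := iY) y
  have hsq := isPullback_fiberToSpecResidueField_of_isPullback h y
  haveI : IsIso (Spec.map (iY.residueFieldMap y)) :=
    inferInstanceAs (IsIso (Scheme.Spec.map (iY.residueFieldMap y).op))
  have h1 : P (f.fiberToSpecResidueField y) := MorphismProperty.pullback_snd _ _ hf
  exact (P.arrow_mk_iso_iff (Arrow.isoMk' _ _ (@asIso _ _ _ _ _ hsq.isIso_fst_of_isIso)
    (asIso (Spec.map (iY.residueFieldMap y))) hsq.w)).mp h1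

/-- Over a thickening, a morphism whose restriction is smooth is smooth. -/
theorem smooth_of_thickening (hS : MoreMor.IsThickening iS)
    (hcX : IsPullback iX (f ≫ g) (f' ≫ g') iS) (hcY : IsPullback iY g g' iS)
    (w : iX ≫ f' = f ≫ iY) [Flat (f' ≫ g')] [LocallyOfFinitePresentation (f' ≫ g')]
    [LocallyOfFiniteType g'] [Smooth f] : Smooth f' := by
  haveI := flat_of_thickening hS hcX hcY w
  haveI : LocallyOfFinitePresentation f' := H12AlgSp.lfp_of_comp f' g'
  haveI := surjective_of_thickening hS hcY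
  haveI := isClosedImmersion_of_thickening hS hcY
  exact Smooth.of_smooth_fiberToSpecResidueField f'
    (fiberToSpec_of_thickening (isPullback_top hcX hcY w) ‹_›)

/-- Over a thickening, a morphism whose restriction is étale is étale. -/
theorem etale_of_thickening (hS : MoreMor.IsThickening iS)
    (hcX : IsPullback iX (f ≫ g) (f' ≫ g') iS) (hcY : IsPullback iY g g' iS)
    (w : iX ≫ f' = f ≫ iY) [Flat (f' ≫ g')] [LocallyOfFinitePresentation (f' ≫ g')]
    [LocallyOfFiniteType g'] [Etale f] : Etale f' := by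
  haveI := smooth_of_thickening hS hcX hcY w
  haveI := surjective_of_thickening hS hcY
  haveI := isClosedImmersion_of_thickening hS hcY
  refine (H06Unram.etale_iff_smooth_and_locallyQuasiFinite f').mpr
    ⟨‹_›, LocallyQuasiFinite.of_fiberToSpecResidueField _ fun y => ?_⟩
  have h := fiberToSpec_of_thickening (P := @Etale) (isPullback_top hcX hcY w) ‹_› y
  exact ((H06Unram.etale_iff_smooth_and_locallyQuasiFinite _).mp h).2

/-- Over a thickening, a morphism whose restriction is an open immersion is one. -/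
theorem isOpenImmersion_of_thickening (hS : MoreMor.IsThickening iS)
    (hcX : IsPullback iX (f ≫ g) (f' ≫ g') iS) (hcY : IsPullback iY g g' iS)
    (w : iX ≫ f' = f ≫ iY) [Flat (f' ≫ g')] [LocallyOfFinitePresentation (f' ≫ g')]
    [LocallyOfFiniteType g'] [IsOpenImmersion f] : IsOpenImmersion f' := by
  haveI := etale_of_thickening hS hcX hcY w
  haveI := surjective_of_thickening hS hcY
  haveI := isClosedImmersion_of_thickening hS hcY
  haveI : UniversallyInjective f' := universallyInjective_of_mono f' fun y => by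
    haveI : IsOpenImmersion (f'.fiberToSpecResidueField y) :=
      fiberToSpec_of_thickening (P := @IsOpenImmersion) (isPullback_top hcX hcY w) ‹_› y
    infer_instance
  exact H18Et.TopInv.isOpenImmersion_of_etale_of_universallyInjective f'

/-- Over a thickening, a morphism whose restriction is an isomorphism is one. -/
theorem isIso_of_thickening (hS : MoreMor.IsThickening iS)
    (hcX : IsPullback iX (f ≫ g) (f' ≫ g') iS) (hcY : IsPullback iY g g' iS)
    (w : iX ≫ f' = f ≫ iY) [Flat (f' ≫ g')] [LocallyOfFinitePresentation (f' ≫ g')]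
    [LocallyOfFiniteType g'] [IsIso f] : IsIso f' := by
  haveI := surjective_of_thickening hS hcY
  haveI : Surjective (iX ≫ f') := by rw [w]; infer_instance
  exact (isIso_iff_isOpenImmersion_and_surjective f').mpr
    ⟨isOpenImmersion_of_thickening hS hcX hcY w, Surjective.of_comp iX f'⟩

end Groth.Agent.H7Flat
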