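import Groth.Agent.H7Flat.ThickeningUnram
import Groth.Agent.H29Blow.Basic

/-! # Formal unramifiedness and monomorphisms over finite order thickenings -/

set_option autoImplicit false
set_option backward.isDefEq.respectTransparency false
set_option synthInstance.maxHeartbeats 100000

universe u

open AlgebraicGeometry CategoryTheory Limits TensorProduct

namespace Groth.Agent.H7Flat

/-- Formal unramifiedness can be checked modulo a nilpotent ideal. -/
theorem formallyUnramified_of_quotient_nilpotent {A B : Type u} [CommRing A] [CommRing B] [Algebra A B]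
    (I : Ideal A) (hI : IsNilpotent I)
    [Algebra.FormallyUnramified (A ⧸ I) ((A ⧸ I) ⊗[A] B)] : Algebra.FormallyUnramified A B := by
  letI := Algebra.TensorProduct.rightAlgebra (R := A) (A := A ⧸ I) (B := B)
  have e := KaehlerDifferential.tensorKaehlerEquivBase A (A ⧸ I) B ((A ⧸ I) ⊗[A] B)
  haveI : Subsingleton ((A ⧸ I) ⊗[A] KaehlerDifferential A B) := e.toEquiv.subsingleton
  haveI : Subsingleton (KaehlerDifferential A B ⧸ I • (⊤ : Submodule A (KaehlerDifferential A B))) :=
    (TensorProduct.quotTensorEquivQuotSMul (KaehlerDifferential A B) I).symm.toEquiv.subsingleton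
  have htop : I • (⊤ : Submodule A (KaehlerDifferential A B)) = ⊤ :=
    Submodule.Quotient.subsingleton_iff.mp inferInstance
  have hpow : ∀ n : ℕ, (I ^ n) • (⊤ : Submodule A (KaehlerDifferential A B)) = ⊤ := by
    intro n
    induction n with
    | zero => simp
    | succ n ih => rw [pow_succ, ← smul_eq_mul, Submodule.smul_assoc, htop, ih]
  obtain ⟨n, hn⟩ := hI
  refine ⟨?_⟩
  rw [← Submodule.subsingleton_iff A, ← subsingleton_iff_bot_eq_top, ← hpow n, hn]
  simp

/-- Formal unramifiedness can be checked after a finite order thickening of the base. -/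
theorem formallyUnramified_of_finiteOrder {X' Y Y' : Scheme.{u}} (f : X' ⟶ Y') 
    (i : Y ⟶ Y') [IsClosedImmersion i]
    (hnil : ∀ U : Y'.affineOpens, ∃ n, (i.ker.ideal U) ^ n = ⊥) [hFU : FormallyUnramified (pullback.snd f i)] :
    FormallyUnramified f := by
  wlog hY : ∃ R, Y' = Spec R generalizing X' Y Y' with H
  · rw [IsZariskiLocalAtTarget.iff_of_openCover (P := @FormallyUnramified) Y'.affineCover]
    intro j
    show FormallyUnramified (pullback.snd f (Y'.affineCover.f j))
    let f'' := pullback.snd f (Y'.affineCover.f j)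
    let i'' := pullback.snd i (Y'.affineCover.f j)
    haveI : IsClosedImmersion i'' := MorphismProperty.pullback_snd _ _ inferInstance
    have hnil'' : ∀ U, ∃ n, (i''.ker.ideal U) ^ n = ⊥ := by
      intro W
      obtain ⟨n, hn⟩ := hnil ⟨Y'.affineCover.f j ''ᵁ W.1, W.2.image_of_isOpenImmersion _⟩
      refine ⟨n, ?_⟩
      rw [Scheme.ker_ideal_of_isPullback_of_isOpenImmersion i i'' (pullback.fst _ _) _
        (IsPullback.of_hasPullback _ _).flip W, ← le_bot_iff]
      refine (Ideal.le_comap_pow _ n).trans ?_
      rw [hn]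
      exact le_of_eq (RingHom.injective_iff_ker_eq_bot _ |>.1
        (ConcreteCategory.bijective_of_isIso _).1)
    let m : pullback f'' i'' ⟶ pullback f i :=
      pullback.map _ _ _ _ (pullback.fst _ _) (pullback.fst _ _) (Y'.affineCover.f j)
        (pullback.condition.symm) (pullback.condition.symm)
    haveI : IsOpenImmersion m := by infer_instance
    haveI : FormallyUnramified (pullback.snd f'' i'' ≫ pullback.fst i (Y'.affineCover.f j)) := by
      rw [show pullback.snd f'' i'' ≫ pullback.fst i (Y'.affineCover.f j) = m ≫ pullback.snd f i from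
        (pullback.lift_snd _ _ _).symm]
      exact MorphismProperty.comp_mem @FormallyUnramified _ _ (formallyUnramified_of_mono m) hFU
    haveI hU : FormallyUnramified (pullback.snd f'' i'') :=
      FormallyUnramified.of_comp _ (pullback.fst i (Y'.affineCover.f j))
    exact H f'' i'' hnil'' ⟨_, rfl⟩
  obtain ⟨R, rfl⟩ := hY
  wlog hX : ∃ S, X' = Spec S generalizing X' with H
  · rw [IsZariskiLocalAtSource.iff_of_openCover (P := @FormallyUnramified) X'.affineCover]
    intro j
    let m : pullback (X'.affineCover.f j ≫ f) i ⟶ pullback f i :=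
      pullback.map _ _ _ _ (X'.affineCover.f j) (𝟙 _) (𝟙 _) (by simp) (by simp)
    haveI : IsOpenImmersion m := by infer_instance
    haveI hU : FormallyUnramified (pullback.snd (X'.affineCover.f j ≫ f) i) := by
      rw [show pullback.snd (X'.affineCover.f j ≫ f) i = m ≫ pullback.snd f i from
        ((pullback.lift_snd _ _ _).trans (Category.comp_id _)).symm]
      exact MorphismProperty.comp_mem @FormallyUnramified _ _ (formallyUnramified_of_mono m) hFU
    exact H (X'.affineCover.f j ≫ f) ⟨_, rfl⟩
  obtain ⟨S, rfl⟩ := hX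
  obtain ⟨φ, rfl : Spec.map φ = f⟩ := Spec.homEquiv.symm.surjective f
  obtain ⟨I, e, hi⟩ := IsClosedImmersion.Spec_iff.mp (show IsClosedImmersion i from inferInstance)
  algebraize [φ.hom]
  let j := Spec.map (CommRingCat.ofHom (Ideal.Quotient.mk I))
  have hI : IsNilpotent I := by
    obtain ⟨n, hn⟩ := hnil ⟨⊤, isAffineOpen_top _⟩
    refine ⟨n, ?_⟩
    rw [Scheme.Hom.ker_apply] at hn
    have hle : I ≤ (RingHom.ker (i.app ⊤).hom).comap (Scheme.ΓSpecIso R).inv.hom := by
      intro a ha
      have h1 : i.appTop ((Scheme.ΓSpecIso R).inv a) = e.hom.appTop (j.appTop ((Scheme.ΓSpecIso R).inv a)) := by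
        rw [hi, Scheme.Hom.comp_appTop]; rfl
      have h2 : j.appTop ((Scheme.ΓSpecIso R).inv a) =
          (Scheme.ΓSpecIso (CommRingCat.of (R ⧸ I))).inv (Ideal.Quotient.mk I a) :=
        (ConcreteCategory.congr_hom (Scheme.ΓSpecIso_inv_naturality (CommRingCat.ofHom (Ideal.Quotient.mk I))) a).symm
      show i.appTop ((Scheme.ΓSpecIso R).inv a) = 0
      rw [h1, h2, Ideal.Quotient.eq_zero_iff_mem.2 ha, map_zero, map_zero]
    rw [Ideal.zero_eq_bot, ← le_bot_iff]
    refine ((Ideal.pow_right_mono hle n).trans (Ideal.le_comap_pow _ n)).trans ?_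
    rw [hn]
    exact le_of_eq (RingHom.injective_iff_ker_eq_bot _ |>.1
      (ConcreteCategory.bijective_of_isIso _).1)
  haveI : FormallyUnramified (pullback.snd (Spec.map φ) j) := by
    let m : pullback (Spec.map φ) j ⟶ pullback (Spec.map φ) i :=
      pullback.map _ _ _ _ (𝟙 _) e.inv (𝟙 _) (by simp) (by simp [j, hi])
    haveI : IsIso m := by infer_instance
    have h : pullback.snd (Spec.map φ) j ≫ e.inv = m ≫ pullback.snd (Spec.map φ) i :=
      (pullback.lift_snd _ _ _).symm
    haveI : FormallyUnramified (pullback.snd (Spec.map φ) j ≫ e.inv) := by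
      rw [h]; exact MorphismProperty.comp_mem @FormallyUnramified _ _ (formallyUnramified_of_mono m) hFU
    exact FormallyUnramified.of_comp _ e.inv
  rw [HasRingHomProperty.Spec_iff (P := @FormallyUnramified)]
  have h2 : FormallyUnramified (Spec.map (CommRingCat.ofHom
      (Algebra.TensorProduct.includeLeftRingHom : R ⧸ I →+* (R ⧸ I) ⊗[R] S))) := by
    rw [← pullbackSpecIso_inv_fst R (R ⧸ I) S,
      MorphismProperty.cancel_left_of_respectsIso (P := @FormallyUnramified),
      ← pullbackSymmetry_hom_comp_snd, MorphismProperty.cancel_left_of_respectsIso (P := @FormallyUnramified)]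
    exact ‹FormallyUnramified (pullback.snd (Spec.map φ) j)›
  rw [HasRingHomProperty.Spec_iff (P := @FormallyUnramified)] at h2
  haveI : Algebra.FormallyUnramified (R ⧸ I) ((R ⧸ I) ⊗[R] S) :=
    RingHom.formallyUnramified_algebraMap.mp h2
  exact RingHom.formallyUnramified_algebraMap.mpr (formallyUnramified_of_quotient_nilpotent I hI)

theorem comap_pow_eq_bot {X Y : Scheme.{u}} (f : X ⟶ Y) (J : Y.IdealSheafData) {n : ℕ}
    (hn : J ^ (n + 1) = ⊥) : (J.comap f) ^ (n + 1) = ⊥ := by
  have : ∀ m : ℕ, (J ^ (m + 1)).comap f = (J.comap f) ^ (m + 1) := by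
    intro m
    induction m with
    | zero => simp
    | succ m ih => rw [pow_succ J, pow_succ (J.comap f), H29Blow.comap_mul, ih]
  rw [← this, hn, eq_bot_iff, ← Scheme.IdealSheafData.le_map_iff_comap_le]
  exact bot_le

/-- Monomorphisms can be checked after a finite order thickening of the base. -/
theorem mono_of_finiteOrder {X' Y Y' : Scheme.{u}} (f : X' ⟶ Y') (i : Y ⟶ Y') [IsClosedImmersion i]
    (hi : IsNilpotent i.ker) [Mono (pullback.snd f i)] : Mono f := by
  haveI : FormallyUnramified (pullback.snd f i) := formallyUnramified_of_mono _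
  haveI := formallyUnramified_of_finiteOrder f i (fun U => by
    obtain ⟨n, hn⟩ := hi
    exact ⟨n, by simpa using congrFun (congrArg Scheme.IdealSheafData.ideal hn) U⟩)
  refine ⟨fun {T} a b hab => ?_⟩
  have hnilT : IsNilpotent (pullback.fst (a ≫ f) i).ker := by
    obtain ⟨n, hn⟩ := hi
    refine ⟨n + 1, ?_⟩
    rw [Scheme.IdealSheafData.ker_fst_of_isClosedImmersion]
    exact comap_pow_eq_bot _ _ (by rw [pow_succ, hn]; exact Scheme.IdealSheafData.bot_mul _)
  refine FormallyUnramified.hom_ext (pullback.fst (a ≫ f) i) hnilT f ?_ hab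
  let a₀ : pullback (a ≫ f) i ⟶ pullback f i :=
    pullback.lift (pullback.fst (a ≫ f) i ≫ a) (pullback.snd (a ≫ f) i)
      (by rw [Category.assoc]; exact pullback.condition)
  let b₀ : pullback (a ≫ f) i ⟶ pullback f i :=
    pullback.lift (pullback.fst (a ≫ f) i ≫ b) (pullback.snd (a ≫ f) i)
      (by rw [Category.assoc, ← hab]; exact pullback.condition)
  have h0 : a₀ = b₀ := by
    rw [← cancel_mono (pullback.snd f i)]
    simp [a₀, b₀]
  simpa [a₀, b₀] using congrArg (· ≫ pullback.fst f i) h0

end Groth.Agent.H7Flat
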