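import Groth.Agent.H7Flat.FibreCriterion
import Groth.Agent.H7Flat.Thickening
import Groth.Agent.H7Flat.ThickeningFinite
import Groth.Agent.H24Def.BurchLift
import Groth.Agent.H7Lim.ThickeningHom

/-!
# Properties of morphisms over finite order thickenings, without finiteness assumptions

Ring-theoretic cores and their scheme versions: flatness, finite type and finite presentation can be
checked modulo a nilpotent ideal of the base.
-/

set_option autoImplicit false
set_option linter.style.haveILetI false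
set_option backward.isDefEq.respectTransparency false

universe u

open AlgebraicGeometry CategoryTheory CategoryTheory.Limits TensorProduct
open Groth.Agent.H8Props Groth.Agent.H8Props.FibreCriterion

namespace Groth.Agent.H7Flat.NilDeform

section Ring

variable {R A B A' B' : CommRingCat.{u}} {α : A ⟶ B} {β : A ⟶ A'} {γ : B ⟶ B'} {δ : A' ⟶ B'}

/-- Pushouts of surjections have the expected kernels. -/
theorem ker_of_isPushout (h : IsPushout α β γ δ) (hβ : Function.Surjective β) :
    RingHom.ker γ.hom = (RingHom.ker β.hom).map α.hom := by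
  refine le_antisymm ?_ (Ideal.map_le_iff_le_comap.mpr fun a ha ↦ ?_)
  · let q : B →+* B ⧸ (RingHom.ker β.hom).map α.hom := Ideal.Quotient.mk _
    let δ' : A' →+* B ⧸ (RingHom.ker β.hom).map α.hom :=
      (Ideal.Quotient.lift (RingHom.ker β.hom) (q.comp α.hom) fun a ha ↦
        Ideal.Quotient.eq_zero_iff_mem.mpr (Ideal.mem_map_of_mem _ ha)).comp
        (RingHom.quotientKerEquivOfSurjective hβ).symm.toRingHom
    have w : α ≫ CommRingCat.ofHom q = β ≫ CommRingCat.ofHom δ' := by
      ext a
      have : (RingHom.quotientKerEquivOfSurjective hβ).symm (β a) = Ideal.Quotient.mk _ a := by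
        rw [RingEquiv.symm_apply_eq]; rfl
      simp [δ', this]
    intro b hb
    have := congr($(h.inl_desc (CommRingCat.ofHom q) (CommRingCat.ofHom δ') w) b)
    rw [CommRingCat.comp_apply, RingHom.mem_ker.mp hb, map_zero] at this
    exact Ideal.Quotient.eq_zero_iff_mem.mp this.symm
  · rw [Ideal.mem_comap, RingHom.mem_ker, ← RingHom.comp_apply, ← CommRingCat.hom_comp, h.w,
      CommRingCat.hom_comp, RingHom.comp_apply, RingHom.mem_ker.mp ha, map_zero]

/-- Flatness of a pushout along a surjection, as flatness modulo the kernel. -/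
theorem flat_quot_tensor [Algebra A B] (hα : α.hom = algebraMap A B) (h : IsPushout α β γ δ)
    (hβ : Function.Surjective β) (hδ : δ.hom.Flat) :
    Module.Flat (A ⧸ RingHom.ker β.hom) ((A ⧸ RingHom.ker β.hom) ⊗[A] B) := by
  let e : CommRingCat.of (A ⧸ RingHom.ker β.hom) ≅ A' :=
    (RingHom.quotientKerEquivOfSurjective hβ).toCommRingCatIso
  have h2 := (CommRingCat.isPushout_tensorProduct A (A ⧸ RingHom.ker β.hom) B).flip
  have h1 : IsPushout α (CommRingCat.ofHom (algebraMap A (A ⧸ RingHom.ker β.hom))) γ (e.hom ≫ δ) :=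
    h.of_iso (Iso.refl _) (Iso.refl _) e.symm (Iso.refl _) (by simp)
      (by
        ext a
        apply (RingHom.quotientKerEquivOfSurjective hβ).injective
        show RingHom.quotientKerEquivOfSurjective hβ
          ((RingHom.quotientKerEquivOfSurjective hβ).symm (β.hom a)) = _
        rw [RingEquiv.apply_symm_apply]
        rfl)
      (by simp) (by simp)
  have hα' : CommRingCat.ofHom (algebraMap A B) = α := CommRingCat.hom_ext hα.symm
  rw [hα'] at h2
  let ee := h2.isoIsPushout _ _ h1
  have hee : CommRingCat.ofHom (Algebra.TensorProduct.includeLeftRingHom :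
      A ⧸ RingHom.ker β.hom →+* (A ⧸ RingHom.ker β.hom) ⊗[A] B) = e.hom ≫ δ ≫ ee.inv := by
    rw [← Category.assoc, Iso.eq_comp_inv]
    exact h2.inr_isoIsPushout_hom _ _ h1
  have hflat : (CommRingCat.ofHom (Algebra.TensorProduct.includeLeftRingHom :
      A ⧸ RingHom.ker β.hom →+* (A ⧸ RingHom.ker β.hom) ⊗[A] B)).hom.Flat := by
    rw [hee, CommRingCat.hom_comp, RingHom.Flat.respectsIso.cancel_left_isIso, CommRingCat.hom_comp,
      RingHom.Flat.respectsIso.cancel_right_isIso]
    exact hδ
  exact RingHom.flat_algebraMap_iff.mp hflat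

/-- Flatness modulo the image of a nilpotent ideal over which the module is flat. -/
theorem flat_of_isPushout {ρ : R ⟶ A} {I : Ideal R} (hI : RingHom.ker β.hom = I.map ρ.hom)
    (hnil : IsNilpotent (RingHom.ker β.hom)) (hBR : (ρ ≫ α).hom.Flat)
    (h : IsPushout α β γ δ) (hβ : Function.Surjective β) (hδ : δ.hom.Flat) : α.hom.Flat := by
  algebraize [ρ.hom, α.hom, (ρ ≫ α).hom]
  haveI : IsScalarTower R A B := .of_algebraMap_eq' rfl
  haveI : Module.Flat R B := hBR
  haveI := flat_quot_tensor rfl h hβ hδ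
  refine flat_of_isNilpotent (RingHom.ker β.hom) hnil ?_
  rw [hI]
  exact lTensor_map_injective I

/-- Algebra generators lift along nilpotent ideals. -/
theorem finiteType_of_isPushout (hnil : IsNilpotent (RingHom.ker β.hom))
    (h : IsPushout α β γ δ) (hβ : Function.Surjective β) (hγ : Function.Surjective γ)
    (hδ : δ.hom.FiniteType) : α.hom.FiniteType := by
  classical
  have hcomp : (α ≫ γ).hom.FiniteType := by
    rw [h.w, CommRingCat.hom_comp]
    exact hδ.comp (RingHom.FiniteType.of_surjective _ hβ)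
  algebraize [α.hom]
  letI := (α ≫ γ).hom.toAlgebra
  haveI : Algebra.FiniteType A B' := hcomp
  let γₐ : B →ₐ[A] B' := { γ.hom with commutes' := fun _ ↦ rfl }
  obtain ⟨s, hs⟩ := Algebra.FiniteType.out (R := A) (A := B')
  choose σ hσ using hγ
  let D : Subalgebra A B := Algebra.adjoin A (σ '' (s : Set B'))
  have hD : D.map γₐ = ⊤ := by
    rw [eq_top_iff, ← hs, Algebra.adjoin_le_iff]
    exact fun c hc ↦ ⟨σ c, Algebra.subset_adjoin ⟨c, hc, rfl⟩, hσ c⟩
  have htop : (⊤ : Submodule A B) ≤ Subalgebra.toSubmodule D := by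
    refine H24Def.le_of_le_sup_smul hnil fun b _ ↦ ?_
    obtain ⟨d, hd, hdb⟩ := hD.ge (show γₐ b ∈ (⊤ : Subalgebra A B') from trivial)
    have hbd : b - d ∈ RingHom.ker γ.hom := by
      rw [RingHom.mem_ker, map_sub, sub_eq_zero]; exact hdb.symm
    rw [ker_of_isPushout h hβ] at hbd
    refine Submodule.mem_sup.mpr ⟨d, hd, b - d, ?_, add_sub_cancel _ _⟩
    rw [Ideal.smul_top_eq_map]
    exact hbd
  exact ⟨⟨s.image σ, top_le_iff.mp fun b _ ↦ by rw [Finset.coe_image]; exact htop (Submodule.mem_top (x := b))⟩⟩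

/-- Finite presentation modulo the image of a nilpotent ideal over which the algebra is flat. -/
theorem finitePresentation_of_isPushout {ρ : R ⟶ A} {I : Ideal R}
    (hI : RingHom.ker β.hom = I.map ρ.hom) (hnil : IsNilpotent (RingHom.ker β.hom))
    (hBR : (ρ ≫ α).hom.Flat) (h : IsPushout α β γ δ) (hβ : Function.Surjective β)
    (hγ : Function.Surjective γ) (hδ : δ.hom.FinitePresentation) :
    α.hom.FinitePresentation := by
  classical
  have hft := finiteType_of_isPushout hnil h hβ hγ (RingHom.FiniteType.of_finitePresentation hδ)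
  algebraize [α.hom, ρ.hom, (ρ ≫ α).hom]
  haveI : IsScalarTower R A B := .of_algebraMap_eq' rfl
  haveI : Module.Flat R B := hBR
  haveI : Algebra.FiniteType A B := hft
  obtain ⟨n, π, hπ⟩ := Algebra.FiniteType.iff_quotient_mvPolynomial''.mp ‹Algebra.FiniteType A B›
  let P := MvPolynomial (Fin n) A
  let m : P →+* MvPolynomial (Fin n) A' := MvPolynomial.map β.hom
  have hm : Function.Surjective m := MvPolynomial.map_surjective _ hβ
  letI := δ.hom.toAlgebra
  haveI : Algebra.FinitePresentation A' B' := hδ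
  let πb : MvPolynomial (Fin n) A' →ₐ[A'] B' :=
    MvPolynomial.aeval fun i ↦ γ (π (MvPolynomial.X i))
  have hcomm : πb.toRingHom.comp m = γ.hom.comp π.toRingHom := by
    refine MvPolynomial.ringHom_ext (fun a ↦ ?_) (fun i ↦ ?_)
    · show πb (MvPolynomial.map β.hom (MvPolynomial.C a)) = γ.hom (π (MvPolynomial.C a))
      rw [MvPolynomial.map_C, MvPolynomial.aeval_C, MvPolynomial.algHom_C]
      exact (congr($(h.w) a)).symm
    · show πb (MvPolynomial.map β.hom (MvPolynomial.X i)) = γ.hom (π (MvPolynomial.X i))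
      rw [MvPolynomial.map_X, MvPolynomial.aeval_X]
  have hπb : Function.Surjective πb := fun z ↦ by
    obtain ⟨b, rfl⟩ := hγ z
    obtain ⟨p, rfl⟩ := hπ b
    exact ⟨m p, congr($hcomm p)⟩
  obtain ⟨G, hG⟩ := Algebra.FinitePresentation.ker_fG_of_surjective πb hπb
  let K : Ideal P := RingHom.ker π.toRingHom
  let L : Ideal P := (I.map (algebraMap R P))
  have hL : RingHom.ker m = L := by
    rw [MvPolynomial.ker_map, hI, Ideal.map_map]
    rfl
  -- lift the generators of the kernel
  have lift : ∀ z ∈ RingHom.ker πb.toRingHom, ∃ k ∈ K, m k = z := by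
    intro z hz
    obtain ⟨p, rfl⟩ := hm z
    have hp : γ.hom (π p) = 0 := (congr($hcomm p)).symm.trans hz
    have hmem : π p ∈ ((RingHom.ker β.hom).map (MvPolynomial.C : A →+* P)).map π.toRingHom := by
      rw [Ideal.map_map, show π.toRingHom.comp MvPolynomial.C = α.hom from
        RingHom.ext fun a ↦ π.commutes a, ← ker_of_isPushout h hβ]
      exact hp
    obtain ⟨q, hq, hqp⟩ := (Ideal.mem_map_iff_of_surjective π.toRingHom hπ).mp hmem
    refine ⟨p - q, ?_, ?_⟩
    · rw [RingHom.mem_ker, map_sub, hqp]; exact sub_self _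
    · rw [map_sub, show m q = 0 from RingHom.mem_ker.mp (by rw [MvPolynomial.ker_map]; exact hq),
        sub_zero]
  choose k hkK hkm using lift
  let T : Set P := Set.range fun z : G ↦ k z.1 (hG ▸ Submodule.subset_span z.2)
  have hTK : Ideal.span T ≤ K := Ideal.span_le.mpr (by rintro _ ⟨z, rfl⟩; exact hkK _ _)
  have hspan : RingHom.ker πb.toRingHom ≤ (Ideal.span T).map m := by
    rw [show RingHom.ker πb.toRingHom = Ideal.span (G : Set _) from hG.symm, Ideal.span_le]
    intro z hz
    exact (hkm z _) ▸ Ideal.mem_map_of_mem m (Ideal.subset_span ⟨⟨z, hz⟩, rfl⟩)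
  have hKT : K ≤ Ideal.span T := by
    have hLnil : IsNilpotent L := by
      obtain ⟨N, hN⟩ := hnil
      refine ⟨N, ?_⟩
      rw [← hL, MvPolynomial.ker_map, ← Ideal.map_pow, hN]
      exact Ideal.map_bot
    refine H24Def.le_of_le_sup_smul (K := L) hLnil fun x hx ↦ ?_
    have hmx : m x ∈ (Ideal.span T).map m := hspan (by
      rw [RingHom.mem_ker]
      refine (congr($hcomm x)).trans ?_
      show γ.hom (π x) = 0
      rw [show π x = 0 from hx, map_zero])
    obtain ⟨t, ht, htx⟩ := (Ideal.mem_map_iff_of_surjective m hm).mp hmx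
    refine Submodule.mem_sup.mpr ⟨t, ht, x - t, ?_, add_sub_cancel _ _⟩
    have hxt : x - t ∈ L := by rw [← hL, RingHom.mem_ker, map_sub, htx, sub_self]
    letI : Module P B := π.toRingHom.toModule
    let p : P →ₗ[P] B :=
      { toFun := π
        map_add' := map_add π
        map_smul' := fun a b ↦ map_mul π a b }
    haveI : IsScalarTower R P B := ⟨fun r a b ↦ by
      show π (r • a) * b = r • (π a * b)
      rw [Algebra.smul_def r a, map_mul, Algebra.smul_def, mul_assoc,
        IsScalarTower.algebraMap_apply R A P, MvPolynomial.algebraMap_eq, MvPolynomial.algHom_C,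
        ← IsScalarTower.algebraMap_apply R A B]⟩
    have hker : LinearMap.ker p = K := rfl
    rw [← hker]
    refine H24Def.mem_smul_ker I p hπ ?_ ?_
    · rw [smul_eq_mul, Ideal.mul_top]; exact hxt
    · show π (x - t) = 0
      rw [map_sub, show π x = 0 from hx, show π t = 0 from hTK ht, sub_self]
  exact Algebra.FinitePresentation.of_surjective (R := A) hπ
    ⟨(Set.finite_range _).toFinset, by
      rw [Set.Finite.coe_toFinset]; exact le_antisymm hTK hKT⟩

end Ring

section Scheme

variable {X X' Y Y' : Scheme.{u}} {iX : X ⟶ X'} {iY : Y ⟶ Y'} {f : X ⟶ Y} {f' : X' ⟶ Y'}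

theorem isNilpotent_ker_of_isPullback {g : Y ⟶ X} {g' : Y' ⟶ X'} {i : X ⟶ X'} {iY : Y ⟶ Y'}
    [IsClosedImmersion i] (hi : IsNilpotent i.ker) (h : IsPullback iY g g' i) :
    IsNilpotent iY.ker := by
  obtain ⟨n, hn⟩ := hi
  refine ⟨n + 1, ?_⟩
  have hk : iY.ker = i.ker.comap g' := by
    rw [← Scheme.IdealSheafData.ker_fst_of_isClosedImmersion,
      ← Scheme.Hom.ker_comp_of_isIso h.isoPullback.hom, IsPullback.isoPullback_hom_fst]
  rw [hk]
  exact comap_pow_eq_bot _ _ (by rw [pow_succ, hn]; exact Scheme.IdealSheafData.bot_mul _)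

variable (hc : IsPullback iX f f' iY) {V : Y'.Opens} (hV : IsAffineOpen V)
  {W : X'.Opens} (hW : IsAffineOpen W) (e : W ≤ f' ⁻¹ᵁ V)

include hc e in
lemma preimage_le : iX ⁻¹ᵁ W ≤ f ⁻¹ᵁ (iY ⁻¹ᵁ V) := by
  rw [← Scheme.Hom.comp_preimage, ← hc.w, Scheme.Hom.comp_preimage]
  exact iX.preimage_mono e

include hV in
lemma isNilpotent_ker_app [IsClosedImmersion iY] (hnil : IsNilpotent iY.ker) :
    IsNilpotent (RingHom.ker (iY.app V).hom) := by
  obtain ⟨n, hn⟩ := hnil
  refine ⟨n, ?_⟩
  rw [← iY.ker_apply ⟨V, hV⟩]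
  simpa using congrFun (congrArg Scheme.IdealSheafData.ideal hn) ⟨V, hV⟩

include hc hV hW in
theorem isPushout_app [IsClosedImmersion iY] :
    IsPushout (f'.appLE V W e) (iY.app V) (iX.app W)
      (f.appLE (iY ⁻¹ᵁ V) (iX ⁻¹ᵁ W) (preimage_le hc e)) := by
  have := (AlgebraicGeometry.isIso_pushoutSection_iff hc (US := V) (UT := iY ⁻¹ᵁ V) (UX := W)
    (UY := iX ⁻¹ᵁ W) le_rfl e (inf_eq_left.mpr (preimage_le hc e)).symm).mp
    (isIso_pushoutSection_of_isAffineOpen hc _ _ _ hV (hV.preimage iY) hW)
  rw [Scheme.Hom.app_eq_appLE, Scheme.Hom.app_eq_appLE]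
  exact this

end Scheme

section Deform

variable {X X' Y Y' S S' : Scheme.{u}} {iX : X ⟶ X'} {iY : Y ⟶ Y'} {iS : S ⟶ S'}
  {f : X ⟶ Y} {f' : X' ⟶ Y'} {g : Y ⟶ S} {g' : Y' ⟶ S'}

omit X Y S in
/-- Charts for a morphism over a base. -/
lemma exists_chart (x : X') : ∃ (U : S'.Opens) (V : Y'.Opens) (W : X'.Opens) (_ : IsAffineOpen U)
    (_ : IsAffineOpen V) (_ : IsAffineOpen W) (_ : V ≤ g' ⁻¹ᵁ U) (_ : W ≤ f' ⁻¹ᵁ V), x ∈ W := by
  obtain ⟨U, hU, hxU, -⟩ := exists_isAffineOpen_mem_and_subset (Set.mem_univ (g' (f' x)))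
    (U := (⊤ : S'.Opens))
  obtain ⟨V, hV, hxV, hVU⟩ := exists_isAffineOpen_mem_and_subset (x := f' x) (U := g' ⁻¹ᵁ U) hxU
  obtain ⟨W, hW, hxW, hWV⟩ := exists_isAffineOpen_mem_and_subset (x := x) (U := f' ⁻¹ᵁ V) hxV
  exact ⟨U, V, W, hU, hV, hW, hVU, hWV, hxW⟩

/-- The kernel upstairs is generated by the one of the base. -/
lemma ker_app_eq (hcY : IsPullback iY g g' iS) [IsClosedImmersion iS] {U : S'.Opens}
    (hU : IsAffineOpen U) {V : Y'.Opens} (hV : IsAffineOpen V) (e : V ≤ g' ⁻¹ᵁ U) :
    RingHom.ker (iY.app V).hom = (RingHom.ker (iS.app U).hom).map (g'.appLE U V e).hom :=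
  ker_of_isPushout (isPushout_app hcY hU hV e) (iS.app_surjective U hU)

variable (hS : MoreMor.IsFiniteOrderThickening iS)
  (hcX : IsPullback iX (f ≫ g) (f' ≫ g') iS) (hcY : IsPullback iY g g' iS)
  (w : iX ≫ f' = f ≫ iY)

include hS hcX hcY w in
/-- Over a finite order thickening, flatness of the restriction implies flatness. -/
theorem flat_of_finiteOrder [Flat (f' ≫ g')] [Flat f] : Flat f' := by
  haveI := hS.1.1
  haveI := isClosedImmersion_of_thickening hS.1 hcY
  rw [HasRingHomProperty.iff_exists_appLE (P := @Flat)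
    (RingHom.Flat.stableUnderComposition.stableUnderCompositionWithLocalizationAway
      RingHom.Flat.holdsForLocalizationAway).1]
  intro x
  obtain ⟨U, V, W, hU, hV, hW, hVU, hWV, hxW⟩ := exists_chart (f' := f') (g' := g') x
  refine ⟨⟨V, hV⟩, ⟨W, hW⟩, hxW, hWV, ?_⟩
  refine flat_of_isPushout (ρ := g'.appLE U V hVU) (ker_app_eq hcY hU hV hVU)
    (isNilpotent_ker_app hV (isNilpotent_ker_of_isPullback hS.2 hcY)) ?_
    (isPushout_app (isPullback_top hcX hcY w) hV hW hWV) (iY.app_surjective V hV) ?_
  · rw [Scheme.Hom.appLE_comp_appLE]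
    exact HasRingHomProperty.appLE (P := @Flat) (f' ≫ g') inferInstance ⟨U, hU⟩ ⟨W, hW⟩ _
  · exact HasRingHomProperty.appLE (P := @Flat) f ‹_› ⟨_, hV.preimage iY⟩
      ⟨_, haveI := isClosedImmersion_of_thickening hS.1 hcX; hW.preimage iX⟩ _

include hS hcX hcY w in
/-- Over a finite order thickening, finite presentation of the restriction implies the same. -/
theorem lfp_of_finiteOrder [Flat (f' ≫ g')] [LocallyOfFinitePresentation f] :
    LocallyOfFinitePresentation f' := by
  haveI := hS.1.1
  haveI := isClosedImmersion_of_thickening hS.1 hcY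
  haveI := isClosedImmersion_of_thickening hS.1 hcX
  rw [HasRingHomProperty.iff_exists_appLE (P := @LocallyOfFinitePresentation)
    (RingHom.finitePresentation_stableUnderComposition.stableUnderCompositionWithLocalizationAway
      RingHom.finitePresentation_holdsForLocalizationAway).1]
  intro x
  obtain ⟨U, V, W, hU, hV, hW, hVU, hWV, hxW⟩ := exists_chart (f' := f') (g' := g') x
  refine ⟨⟨V, hV⟩, ⟨W, hW⟩, hxW, hWV, ?_⟩
  refine finitePresentation_of_isPushout (ρ := g'.appLE U V hVU) (ker_app_eq hcY hU hV hVU)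
    (isNilpotent_ker_app hV (isNilpotent_ker_of_isPullback hS.2 hcY)) ?_
    (isPushout_app (isPullback_top hcX hcY w) hV hW hWV) (iY.app_surjective V hV)
    (iX.app_surjective W hW) ?_
  · rw [Scheme.Hom.appLE_comp_appLE]
    exact HasRingHomProperty.appLE (P := @Flat) (f' ≫ g') inferInstance ⟨U, hU⟩ ⟨W, hW⟩ _
  · exact HasRingHomProperty.appLE (P := @LocallyOfFinitePresentation) f ‹_› ⟨_, hV.preimage iY⟩
      ⟨_, hW.preimage iX⟩ _

include hS hcX hcY w in
/-- Over a finite order thickening, smoothness of the restriction implies smoothness. -/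
theorem smooth_of_finiteOrder [Flat (f' ≫ g')] [Smooth f] : Smooth f' := by
  haveI := flat_of_finiteOrder hS hcX hcY w
  haveI := lfp_of_finiteOrder hS hcX hcY w
  haveI := surjective_of_thickening hS.1 hcY
  haveI := isClosedImmersion_of_thickening hS.1 hcY
  exact Smooth.of_smooth_fiberToSpecResidueField f'
    (fiberToSpec_of_thickening (isPullback_top hcX hcY w) ‹_›)

include hS hcX hcY w in
/-- Over a finite order thickening, étaleness of the restriction implies étaleness. -/
theorem etale_of_finiteOrder [Flat (f' ≫ g')] [Etale f] : Etale f' := by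
  haveI := smooth_of_finiteOrder hS hcX hcY w
  haveI := surjective_of_thickening hS.1 hcY
  haveI := isClosedImmersion_of_thickening hS.1 hcY
  refine (H06Unram.etale_iff_smooth_and_locallyQuasiFinite f').mpr
    ⟨‹_›, LocallyQuasiFinite.of_fiberToSpecResidueField _ fun y => ?_⟩
  have h := fiberToSpec_of_thickening (P := @Etale) (isPullback_top hcX hcY w) ‹_› y
  exact ((H06Unram.etale_iff_smooth_and_locallyQuasiFinite _).mp h).2

include hS hcX hcY w in
/-- Over a finite order thickening, a morphism restricting to an open immersion is one. -/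
theorem isOpenImmersion_of_finiteOrder [Flat (f' ≫ g')] [IsOpenImmersion f] :
    IsOpenImmersion f' := by
  haveI := etale_of_finiteOrder hS hcX hcY w
  haveI := surjective_of_thickening hS.1 hcY
  haveI := isClosedImmersion_of_thickening hS.1 hcY
  haveI : UniversallyInjective f' := universallyInjective_of_mono f' fun y => by
    haveI : IsOpenImmersion (f'.fiberToSpecResidueField y) :=
      fiberToSpec_of_thickening (P := @IsOpenImmersion) (isPullback_top hcX hcY w) ‹_› y
    infer_instance
  exact H18Et.TopInv.isOpenImmersion_of_etale_of_universallyInjective f'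

include hS hcX hcY w in
/-- Over a finite order thickening, a morphism restricting to an isomorphism is one. -/
theorem isIso_of_finiteOrder [Flat (f' ≫ g')] [IsIso f] : IsIso f' := by
  haveI := surjective_of_thickening hS.1 hcY
  haveI : Surjective (iX ≫ f') := by rw [w]; infer_instance
  exact (isIso_iff_isOpenImmersion_and_surjective f').mpr
    ⟨isOpenImmersion_of_finiteOrder hS hcX hcY w, Surjective.of_comp iX f'⟩

/-- Over a finite order thickening, finite type of the restriction implies finite type. -/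
theorem lft_of_finiteOrder {iX : X ⟶ X'} {f : X ⟶ S} {f' : X' ⟶ S'}
    (hS : MoreMor.IsFiniteOrderThickening iS) (hc : IsPullback iX f f' iS) [LocallyOfFiniteType f] :
    LocallyOfFiniteType f' := by
  haveI := hS.1.1
  haveI := isClosedImmersion_of_thickening hS.1 hc
  rw [HasRingHomProperty.iff_exists_appLE (P := @LocallyOfFiniteType)
    (RingHom.finiteType_stableUnderComposition.stableUnderCompositionWithLocalizationAway
      RingHom.finiteType_holdsForLocalizationAway).1]
  intro x
  obtain ⟨U, hU, hxU, -⟩ := exists_isAffineOpen_mem_and_subset (Set.mem_univ (f' x))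
    (U := (⊤ : S'.Opens))
  obtain ⟨W, hW, hxW, hWU⟩ := exists_isAffineOpen_mem_and_subset (x := x) (U := f' ⁻¹ᵁ U) hxU
  refine ⟨⟨U, hU⟩, ⟨W, hW⟩, hxW, hWU, ?_⟩
  exact finiteType_of_isPushout (isNilpotent_ker_app hU hS.2) (isPushout_app hc hU hW hWU)
    (iS.app_surjective U hU) (iX.app_surjective W hW)
    (HasRingHomProperty.appLE (P := @LocallyOfFiniteType) f ‹_› ⟨_, hU.preimage iS⟩
      ⟨_, hW.preimage iX⟩ _)

include hS hcX hcY w in
/-- Over a finite order thickening, the restriction being finite locally free implies the same. -/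
theorem finLocFree_of_finiteOrder [Flat (f' ≫ g')] [IsFinite f] [Flat f]
    [LocallyOfFinitePresentation f] :
    IsFinite f' ∧ Flat f' ∧ LocallyOfFinitePresentation f' ∧
      ∀ y : Y, f'.finrank (iY y) = f.finrank y := by
  haveI := hS.1.1
  haveI := flat_of_finiteOrder hS hcX hcY w
  haveI := isClosedImmersion_of_thickening hS.1 hcY
  haveI := isClosedImmersion_of_thickening hS.1 hcX
  haveI := surjective_of_thickening hS.1 hcY
  haveI := surjective_of_thickening hS.1 hcX
  have hYth : MoreMor.IsFiniteOrderThickening iY :=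
    ⟨⟨inferInstance, inferInstance⟩, isNilpotent_ker_of_isPullback hS.2 hcY⟩
  haveI := (H7Lim.isIntegralHom_iff_of_thickening iX iY f f' w).1 inferInstance
  haveI := lft_of_finiteOrder hYth (isPullback_top hcX hcY w)
  haveI : IsFinite f' := (IsFinite.iff_isIntegralHom_and_locallyOfFiniteType f').mpr ⟨‹_›, ‹_›⟩
  exact ⟨inferInstance, inferInstance, lfp_of_finiteOrder hS hcX hcY w,
    fun y ↦ (Scheme.Hom.finrank_of_isPullback iX f f' iY (isPullback_top hcX hcY w) y).symm⟩

end Deform

end Groth.Agent.H7Flat.NilDeform
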