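import Groth.Agent.H7Lim.QuasiFiniteFactor
import Groth.Agent.H12AlgSp.FinOpen
import Mathlib.AlgebraicGeometry.Morphisms.Immersion

/-!
# A finite surjective morphism over a quasi-compact open extends
-/

set_option autoImplicit false
set_option backward.isDefEq.respectTransparency false
set_option linter.style.haveILetI false

universe u

open AlgebraicGeometry CategoryTheory Limits TopologicalSpace

namespace Groth.Agent.H7Flat.FiniteExtend

theorem isAffineHom_coprodDesc {A B S : Scheme.{u}} (a : A ⟶ S) (b : B ⟶ S) [IsAffineHom a] [IsAffineHom b] :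
    IsAffineHom (coprod.desc a b) := by
  refine ⟨fun W hW => ?_⟩
  have hA : IsAffineOpen ((coprod.inl : A ⟶ A ⨿ B) ''ᵁ (a ⁻¹ᵁ W)) :=
    (hW.preimage a).image_of_isOpenImmersion _
  have hB : IsAffineOpen ((coprod.inr : B ⟶ A ⨿ B) ''ᵁ (b ⁻¹ᵁ W)) :=
    (hW.preimage b).image_of_isOpenImmersion _
  have hd : Disjoint ((coprod.inl : A ⟶ A ⨿ B) ''ᵁ (a ⁻¹ᵁ W)) ((coprod.inr : B ⟶ A ⨿ B) ''ᵁ (b ⁻¹ᵁ W)) := by
    rw [← Opens.coe_disjoint, Set.disjoint_left]
    rintro _ ⟨x, -, rfl⟩ ⟨y, -, hy⟩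
    exact inr_ne_inl A B x y hy
  have e : coprod.desc a b ⁻¹ᵁ W =
      (coprod.inl : A ⟶ A ⨿ B) ''ᵁ (a ⁻¹ᵁ W) ⊔ (coprod.inr : B ⟶ A ⨿ B) ''ᵁ (b ⁻¹ᵁ W) := by
    refine le_antisymm (fun z hz => ?_) (sup_le ?_ ?_)
    · obtain ⟨s, rfl⟩ := (coprodMk A B).surjective z
      rcases s with x | y
      · rw [coprodMk_inl] at hz ⊢
        exact Or.inl ⟨x, by
          show a x ∈ W
          have := hz
          change (coprod.desc a b) ((coprod.inl : A ⟶ A ⨿ B) x) ∈ W at this
          rwa [← Scheme.Hom.comp_apply, coprod.inl_desc] at this, rfl⟩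
      · rw [coprodMk_inr] at hz ⊢
        exact Or.inr ⟨y, by
          show b y ∈ W
          have := hz
          change (coprod.desc a b) ((coprod.inr : B ⟶ A ⨿ B) y) ∈ W at this
          rwa [← Scheme.Hom.comp_apply, coprod.inr_desc] at this, rfl⟩
    · rintro _ ⟨x, hx, rfl⟩
      show (coprod.desc a b) ((coprod.inl : A ⟶ A ⨿ B) x) ∈ W
      rw [← Scheme.Hom.comp_apply, coprod.inl_desc]
      exact hx
    · rintro _ ⟨x, hx, rfl⟩
      show (coprod.desc a b) ((coprod.inr : B ⟶ A ⨿ B) x) ∈ W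
      rw [← Scheme.Hom.comp_apply, coprod.inr_desc]
      exact hx
  rw [e]
  exact hA.sup_of_disjoint hB hd

theorem isFinite_coprodDesc {A B S : Scheme.{u}} (a : A ⟶ S) (b : B ⟶ S) [IsFinite a] [IsFinite b] :
    IsFinite (coprod.desc a b) := by
  let f := coprod.desc a b
  haveI : IsAffineHom f := isAffineHom_coprodDesc a b
  let O₁ := (coprod.inl : A ⟶ A ⨿ B).opensRange
  let O₂ := (coprod.inr : B ⟶ A ⨿ B).opensRange
  have h₁ : IsFinite (O₁.ι ≫ f) := by
    rw [← MorphismProperty.cancel_left_of_respectsIso @IsFinite (coprod.inl : A ⟶ A ⨿ B).isoOpensRange.hom,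
      ← Category.assoc, Scheme.Hom.isoOpensRange_hom_ι, coprod.inl_desc]
    infer_instance
  have h₂ : IsFinite (O₂.ι ≫ f) := by
    rw [← MorphismProperty.cancel_left_of_respectsIso @IsFinite (coprod.inr : B ⟶ A ⨿ B).isoOpensRange.hom,
      ← Category.assoc, Scheme.Hom.isoOpensRange_hom_ι, coprod.inr_desc]
    infer_instance
  have hsup : O₁ ⊔ O₂ = ⊤ := (isCompl_opensRange_inl_inr A B).sup_eq_top
  haveI := h₁
  haveI := h₂
  let U : Bool → (A ⨿ B).Opens := fun i => if i then O₁ else O₂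
  have hU : IsOpenCover U := eq_top_iff.2 (hsup.ge.trans (sup_le (le_iSup U true) (le_iSup U false)))
  haveI : LocallyOfFiniteType f := by
    rw [IsZariskiLocalAtSource.iff_of_iSup_eq_top (P := @LocallyOfFiniteType) U hU]
    intro i; cases i <;> simp only [U, Bool.false_eq_true, if_true, if_false] <;> infer_instance
  haveI : LocallyQuasiFinite f := by
    rw [IsZariskiLocalAtSource.iff_of_iSup_eq_top (P := @LocallyQuasiFinite) U hU]
    intro i; cases i <;> simp only [U, Bool.false_eq_true, if_true, if_false] <;> infer_instance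
  have h := H12AlgSp.isFinite_sup (f := f) O₁ O₂ h₁ h₂
  rw [hsup] at h
  exact (MorphismProperty.cancel_left_of_respectsIso @IsFinite (Scheme.topIso (A ⨿ B)).hom f).1 h

theorem exists_finite_surjective_extension {S V : Scheme.{u}} [CompactSpace S] [QuasiSeparatedSpace S]
    (U : S.Opens) (hU : IsCompact (U : Set S)) (v : V ⟶ (U : Scheme.{u})) [IsFinite v] [Surjective v] :
    ∃ (V' : Scheme.{u}) (π : V' ⟶ S) (i : V ⟶ V'), Surjective π ∧ IsFinite π ∧ IsPullback i v π U.ι := by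
  haveI : CompactSpace U.toScheme := isCompact_iff_compactSpace.1 hU
  haveI : QuasiCompact U.ι := quasiCompact_of_compactSpace U.ι
  obtain ⟨T, j, p, hj, hjc, hp, hjp⟩ := H7Lim.exists_openImmersion_finite (v ≫ U.ι)
  haveI := hj
  haveI := hjc
  haveI := hp
  let T₁ := j.image
  let j₁ : V ⟶ T₁ := j.toImage
  let p₁ : T₁ ⟶ S := j.imageι ≫ p
  have hj₁ : j₁ ≫ p₁ = v ≫ U.ι := by rw [← hjp, ← Category.assoc, j.toImage_imageι]
  haveI : IsDominant j₁ := inferInstanceAs (IsDominant j.toImage)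
  haveI : IsOpenImmersion j₁ := inferInstanceAs (IsOpenImmersion j.toImage)
  haveI : IsFinite p₁ := inferInstance
  -- over `U` the image adds nothing
  have hrange : p₁ ⁻¹ᵁ U = j₁.opensRange := by
    refine le_antisymm (fun y hy => ?_) ?_
    · let k := j₁.resLE (p₁ ⁻¹ᵁ U) ⊤ (by
        rintro z -
        show p₁ (j₁ z) ∈ U
        rw [← Scheme.Hom.comp_apply, hj₁, Scheme.Hom.comp_apply]
        exact (v z).2)
      haveI : IsIso (⊤ : V.Opens).ι := inferInstanceAs (IsIso (Scheme.topIso V).hom)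
      haveI : IsFinite ((⊤ : V.Opens).ι ≫ v) := inferInstance
      haveI : IsFinite (k ≫ p₁ ∣_ U) := by
        have e : k ≫ p₁ ∣_ U = (⊤ : V.Opens).ι ≫ v := by
          rw [← cancel_mono U.ι, Category.assoc, morphismRestrict_ι, Scheme.Hom.resLE_comp_ι_assoc, hj₁,
            Category.assoc]
        rw [e]; infer_instance
      haveI : IsSeparated (p₁ ∣_ U) := IsZariskiLocalAtTarget.restrict (P := @IsSeparated) inferInstance U
      haveI : IsFinite k := IsFinite.of_comp k (p₁ ∣_ U)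
      have hd : Dense (Set.range j₁) := j₁.denseRange
      have hk : IsClosed (Set.range k) := k.isClosedMap.isClosed_range
      have hmem : (⟨y, hy⟩ : (p₁ ⁻¹ᵁ U : T₁.Opens)) ∈ Set.range k := by
        rw [← hk.closure_eq, (p₁ ⁻¹ᵁ U).ι.isOpenEmbedding.isInducing.closure_eq_preimage_closure_image]
        show y ∈ closure ((p₁ ⁻¹ᵁ U).ι '' Set.range k)
        refine closure_mono ?_ (hd y)
        rintro _ ⟨z, rfl⟩
        have hz : z ∈ (⊤ : V.Opens) := trivial
        exact ⟨k ⟨z, hz⟩, ⟨_, rfl⟩, Scheme.Hom.coe_resLE_apply j₁ _ ⟨z, hz⟩⟩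
      obtain ⟨z, hz⟩ := hmem
      exact ⟨z.1, ((Scheme.Hom.coe_resLE_apply j₁ _ z).symm.trans (congrArg Subtype.val hz))⟩
    · rintro _ ⟨z, rfl⟩
      show p₁ (j₁ z) ∈ U
      rw [← Scheme.Hom.comp_apply, hj₁, Scheme.Hom.comp_apply]
      exact (v z).2
  -- the reduced complement
  let C : S.IdealSheafData := Scheme.IdealSheafData.vanishingIdeal ⟨(U : Set S)ᶜ, U.2.isClosed_compl⟩
  have hC : Set.range C.subschemeι = (U : Set S)ᶜ := by
    rw [Scheme.IdealSheafData.range_subschemeι, Scheme.IdealSheafData.coe_support_vanishingIdeal]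
    rfl
  let π := coprod.desc p₁ C.subschemeι
  haveI : IsFinite π := isFinite_coprodDesc _ _
  refine ⟨_, π, j₁ ≫ coprod.inl, ⟨fun s => ?_⟩, inferInstance, ?_⟩
  · by_cases hs : s ∈ U
    · obtain ⟨z, hz⟩ := v.surjective ⟨s, hs⟩
      refine ⟨(j₁ ≫ coprod.inl) z, ?_⟩
      rw [← Scheme.Hom.comp_apply, Category.assoc, coprod.inl_desc, hj₁, Scheme.Hom.comp_apply, hz]
      rfl
    · obtain ⟨z, hz⟩ : s ∈ Set.range C.subschemeι := hC ▸ hs
      exact ⟨(coprod.inr : C.subscheme ⟶ T₁ ⨿ C.subscheme) z, by rw [← Scheme.Hom.comp_apply, coprod.inr_desc, hz]⟩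
  · refine (IsOpenImmersion.isPullback v (j₁ ≫ coprod.inl) U.ι π ?_ ?_).flip
    · rw [Category.assoc, coprod.inl_desc, hj₁]
    · rw [Scheme.Opens.opensRange_ι, Scheme.Hom.opensRange_comp, ← hrange]
      refine le_antisymm (fun z hz => ?_) ?_
      · obtain ⟨s, rfl⟩ := (coprodMk T₁ C.subscheme).surjective z
        rcases s with x | y
        · rw [coprodMk_inl] at hz ⊢
          exact ⟨x, by
            show p₁ x ∈ U
            change π ((coprod.inl : T₁ ⟶ T₁ ⨿ C.subscheme) x) ∈ U at hz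
            rwa [← Scheme.Hom.comp_apply, coprod.inl_desc] at hz, rfl⟩
        · rw [coprodMk_inr] at hz
          change π ((coprod.inr : C.subscheme ⟶ T₁ ⨿ C.subscheme) y) ∈ U at hz
          rw [← Scheme.Hom.comp_apply, coprod.inr_desc] at hz
          exact absurd hz (hC.le ⟨y, rfl⟩)
      · rintro _ ⟨x, hx, rfl⟩
        show π ((coprod.inl : T₁ ⟶ T₁ ⨿ C.subscheme) x) ∈ U
        rw [← Scheme.Hom.comp_apply, coprod.inl_desc]
        exact hx

end Groth.Agent.H7Flat.FiniteExtend
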