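import Mathlib
import Groth.Agent.H8Props.CMAt
import Groth.Agent.H8Props.FieldDimFormula
import Groth.Agent.H06EGA9.FlatFibreBC

/-! Cohen-Macaulay fibres and base change. -/

set_option backward.isDefEq.respectTransparency false
set_option linter.style.haveILetI false

universe u

open CategoryTheory CategoryTheory.Limits AlgebraicGeometry

namespace Groth.Agent.H7Flat.CMBC

variable {X X' Y Y' : Scheme.{u}}

theorem cm_fibre_stalk_iff (f : X ⟶ Y) (x : X) (s : Y) (z : f.fiber s) (hz : f.fiberι s z = x) :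
    LocCoh.IsCohenMacaulayLocalRing ((f.fiber (f x)).presheaf.stalk (f.asFiber x)) ↔
      LocCoh.IsCohenMacaulayLocalRing ((f.fiber s).presheaf.stalk z) := by
  obtain rfl : f x = s := by
    rw [← hz]
    exact (f.range_fiberι s).le ⟨z, rfl⟩
  obtain rfl : z = f.asFiber x := (f.fiberι _).isEmbedding.injective (by rw [hz]; simp)
  exact Iff.rfl

theorem cm_fibre_stalk_of_baseChange {g' : X' ⟶ X} {f' : X' ⟶ Y'} {f : X ⟶ Y} {g : Y' ⟶ Y}
    (hc : IsPullback g' f' f g) (hN : ∀ y : Y, IsLocallyNoetherian (f.fiber y)) (x' : X')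
    (h : LocCoh.IsCohenMacaulayLocalRing ((f'.fiber (f' x')).presheaf.stalk (f'.asFiber x'))) :
    LocCoh.IsCohenMacaulayLocalRing ((f.fiber (f (g' x'))).presheaf.stalk (f.asFiber (g' x'))) := by
  let y' := f' x'
  let κ := Spec.map (g.residueFieldMap y')
  have hκ : κ ≫ Y.fromSpecResidueField (g y') = Y'.fromSpecResidueField y' ≫ g :=
    g.SpecMap_residueFieldMap_fromSpecResidueField y'
  haveI : Flat κ := (HasRingHomProperty.Spec_iff (P := @Flat)).mpr (by
    letI := (g.residueFieldMap y').hom.toAlgebra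
    show Module.Flat (Y.residueField (g y')) (Y'.residueField y')
    infer_instance)
  have hF : IsPullback (f.fiberι (g y')) (f.fiberToSpecResidueField (g y')) f
      (Y.fromSpecResidueField (g y')) := IsPullback.of_hasPullback _ _
  have hF' : IsPullback (f'.fiberι y') (f'.fiberToSpecResidueField y') f'
      (Y'.fromSpecResidueField y') := IsPullback.of_hasPullback _ _
  have hbig := hF'.paste_horiz hc
  let q : f'.fiber y' ⟶ f.fiber (g y') :=
    hF.lift (f'.fiberι y' ≫ g') (f'.fiberToSpecResidueField y' ≫ κ) (by rw [hbig.w, Category.assoc, hκ])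
  have hq : IsPullback q (f'.fiberToSpecResidueField y') (f.fiberToSpecResidueField (g y')) κ := by
    refine IsPullback.of_right (h₁₂ := f.fiberι (g y')) (h₂₂ := Y.fromSpecResidueField (g y'))
      (v₁₃ := f) ?_ ?_ hF
    · rw [hF.lift_fst, hκ]; exact hbig
    · exact hF.lift_snd _ _ _
  haveI : Flat q := MorphismProperty.of_isPullback hq.flip ‹Flat κ›
  let z' := f'.asFiber x'
  have hz : f.fiberι (g y') (q z') = g' x' := by
    rw [← Scheme.Hom.comp_apply, hF.lift_fst, Scheme.Hom.comp_apply, Scheme.Hom.fiberι_asFiber]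
  rw [cm_fibre_stalk_iff f (g' x') _ (q z') hz]
  haveI := hN (g y')
  letI := (q.stalkMap z').hom.toAlgebra
  haveI : Module.Flat ((f.fiber (g y')).presheaf.stalk (q z')) ((f'.fiber y').presheaf.stalk z') :=
    Flat.stalkMap q z'
  haveI : IsLocalHom (algebraMap ((f.fiber (g y')).presheaf.stalk (q z')) ((f'.fiber y').presheaf.stalk z')) :=
    inferInstanceAs (IsLocalHom (q.stalkMap z').hom)
  haveI := H8Props.CMAt.isNoetherianRing_of_CM h
  exact ((H8Props.FlatDepth.isCohenMacaulayLocalRing_iff ((f.fiber (g y')).presheaf.stalk (q z'))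
    ((f'.fiber y').presheaf.stalk z')).mp h).1

theorem isLocallyNoetherian_fiber (f : X ⟶ Y) [LocallyOfFiniteType f] (y : Y) :
    IsLocallyNoetherian (f.fiber y) := by
  haveI := H8Props.FieldDim.locallyOfFiniteType_fiberToSpec f y
  exact LocallyOfFiniteType.isLocallyNoetherian (f.fiberToSpecResidueField y)

end Groth.Agent.H7Flat.CMBC
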