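import Groth.Agent.H25Gor.BaseChange
import Groth.Agent.H4Goren.Basic
import Groth.Agent.H7Flat.CMBaseChange

/-!
# Cohen–Macaulay local rings under change of the base field; base change of Cohen–Macaulay morphisms
-/

set_option autoImplicit false
set_option linter.style.haveILetI false
set_option backward.isDefEq.respectTransparency false

universe u

open CategoryTheory CategoryTheory.Limits AlgebraicGeometry IsLocalRing LocCoh
open Groth.Agent.H25Gor (isLocallyNoetherian_of_essFiniteType)

namespace Groth.Agent.H7Flat.CMBC

variable {K K' : Type u} [Field K] [Field K'] [Algebra K K'] {P P' : Scheme.{u}} {Φ : P' ⟶ P}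
  {p : P ⟶ Spec (CommRingCat.of K)} {p' : P' ⟶ Spec (CommRingCat.of K')}

/-- Cohen–Macaulay local rings are stable under, and descend along, extensions of the base field which are finitely
generated or applied to a scheme locally of finite type. -/
theorem cm_stalk_iff_baseChange [IsLocallyNoetherian P]
    (H : IsPullback Φ p' p (Spec.map (CommRingCat.ofHom (algebraMap K K')))) (u' : P')
    (h : Algebra.EssFiniteType K K' ∨ LocallyOfFiniteType p) :
    IsCohenMacaulayLocalRing (P'.presheaf.stalk u') ↔ IsCohenMacaulayLocalRing (P.presheaf.stalk (Φ u')) := by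
  haveI : IsLocallyNoetherian P' := by
    rcases h with h | h
    · exact isLocallyNoetherian_of_essFiniteType H
    · haveI : LocallyOfFiniteType p' := MorphismProperty.of_isPullback H h
      exact LocallyOfFiniteType.isLocallyNoetherian p'
  haveI : Flat (Spec.map (CommRingCat.ofHom (algebraMap K K'))) :=
    (HasRingHomProperty.Spec_iff (P := @Flat)).mpr (RingHom.flat_algebraMap_iff.mpr inferInstance)
  haveI : Flat Φ := MorphismProperty.of_isPullback H.flip ‹_›
  letI := (Φ.stalkMap u').hom.toAlgebra
  haveI : Module.Flat (P.presheaf.stalk (Φ u')) (P'.presheaf.stalk u') := Flat.stalkMap Φ u'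
  haveI : IsLocalHom (algebraMap (P.presheaf.stalk (Φ u')) (P'.presheaf.stalk u')) :=
    inferInstanceAs (IsLocalHom (Φ.stalkMap u').hom)
  haveI := H25Gor.gor_closedFibre H u' h
  have hcl := H4Goren.isCohenMacaulayLocalRing
    (P'.presheaf.stalk u' ⧸ (maximalIdeal (P.presheaf.stalk (Φ u'))).map (Φ.stalkMap u').hom)
  exact (H8Props.FlatDepth.isCohenMacaulayLocalRing_iff (P.presheaf.stalk (Φ u')) (P'.presheaf.stalk u')).trans
    ⟨fun hh => hh.1, fun hh => ⟨hh, hcl⟩⟩

/-- The Cohen–Macaulay property of the local rings of the fibres is invariant under base change. -/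
theorem fibre_cm_baseChange {X S X' S' : Scheme.{u}} {f : X ⟶ S} {f' : X' ⟶ S'} {g : S' ⟶ S} {g' : X' ⟶ X}
    (hc : IsPullback g' f' f g) (x' : X') (hfib : ∀ s, IsLocallyNoetherian (f.fiber s))
    (h : LocallyOfFiniteType f ∨ LocallyOfFiniteType g) :
    IsCohenMacaulayLocalRing ((f'.fiber (f' x')).presheaf.stalk (f'.asFiber x')) ↔
      IsCohenMacaulayLocalRing ((f.fiber (f (g' x'))).presheaf.stalk (f.asFiber (g' x'))) := by
  have hkey : ∀ {s : S} (u : f.fiber s) (y : X), f.fiberι s u = y →
      (IsCohenMacaulayLocalRing ((f.fiber s).presheaf.stalk u) ↔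
        IsCohenMacaulayLocalRing ((f.fiber (f y)).presheaf.stalk (f.asFiber y))) := by
    intro s u y hy
    obtain rfl : f y = s := by rw [← hy]; exact (f.range_fiberι s).subset (Set.mem_range_self u)
    obtain rfl : u = f.asFiber y :=
      (f.fiberι _).isEmbedding.injective (hy.trans (f.fiberι_asFiber y).symm)
    exact Iff.rfl
  have hsq := isPullback_fiberToSpecResidueField_of_isPullback hc (f' x')
  haveI := hfib (g (f' x'))
  letI : Algebra (S.residueField (g (f' x'))) (S'.residueField (f' x')) :=
    (g.residueFieldMap (f' x')).hom.toAlgebra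
  have h' : Algebra.EssFiniteType (S.residueField (g (f' x'))) (S'.residueField (f' x')) ∨
      LocallyOfFiniteType (f.fiberToSpecResidueField (g (f' x'))) := by
    rcases h with h | h
    · exact Or.inr (H8Props.FieldDim.locallyOfFiniteType_fiberToSpec f _)
    · exact Or.inl (RingHom.EssFiniteType.residueFieldMap (LocallyOfFiniteType.stalkMap g (f' x')))
  refine (cm_stalk_iff_baseChange (K := S.residueField (g (f' x'))) (K' := S'.residueField (f' x'))
    (p := f.fiberToSpecResidueField (g (f' x'))) hsq (f'.asFiber x') h').trans (hkey _ _ ?_)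
  erw [← Scheme.Hom.comp_apply, pullback.lift_fst]
  exact congrArg g' (f'.fiberι_asFiber x')

/-- The fibres of a base change along a morphism locally of finite type are locally Noetherian. -/
theorem isLocallyNoetherian_fibres_baseChange {X S X' S' : Scheme.{u}} {f : X ⟶ S} {f' : X' ⟶ S'}
    {g : S' ⟶ S} {g' : X' ⟶ X} (hc : IsPullback g' f' f g)
    (hfib : ∀ s, IsLocallyNoetherian (f.fiber s)) [LocallyOfFiniteType g] (s' : S') :
    IsLocallyNoetherian (f'.fiber s') := by
  have hsq := isPullback_fiberToSpecResidueField_of_isPullback hc s'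
  haveI := hfib (g s')
  letI : Algebra (S.residueField (g s')) (S'.residueField s') := (g.residueFieldMap s').hom.toAlgebra
  haveI : Algebra.EssFiniteType (S.residueField (g s')) (S'.residueField s') :=
    RingHom.EssFiniteType.residueFieldMap (LocallyOfFiniteType.stalkMap g s')
  exact isLocallyNoetherian_of_essFiniteType (K := S.residueField (g s')) (K' := S'.residueField s')
    (p := f.fiberToSpecResidueField (g s')) hsq

end Groth.Agent.H7Flat.CMBC
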