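import Groth.Agent.H7Flat.ThickeningUnram
import Groth.Agent.H7Lim.ThickeningHom
import Groth.Agent.H7Lim.OpenMap
import Mathlib.AlgebraicGeometry.ZariskisMainTheorem
import Mathlib.AlgebraicGeometry.Morphisms.UniversallyInjective
import Mathlib.AlgebraicGeometry.Morphisms.Immersion

/-! # Properties of morphisms of thickenings -/

set_option autoImplicit false
set_option backward.isDefEq.respectTransparency false
set_option synthInstance.maxHeartbeats 100000

universe u

open AlgebraicGeometry CategoryTheory Limits TopologicalSpace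

namespace Groth.Agent.H7Flat

theorem quasiCompact_of_comp_surjective {X Y Z : Scheme.{u}} (g : X ⟶ Y) (h : Y ⟶ Z)
    [hs : Surjective g] [hc : QuasiCompact (g ≫ h)] : QuasiCompact h := by
  refine ⟨fun U hU hUc => ?_⟩
  have := ((g ≫ h).isCompact_preimage (U := ⟨U, hU⟩) hUc).image g.continuous
  rwa [show ((g ≫ h : X ⟶ Z) ⁻¹ᵁ ⟨U, hU⟩ : Set X) = g ⁻¹' (h ⁻¹' U) from rfl,
    Set.image_preimage_eq _ hs.surj] at this

/-- A property stable under base change cancels monomorphisms on the right. -/
theorem of_comp_mono (P : MorphismProperty Scheme.{u}) [P.IsStableUnderBaseChange] {X Y Z : Scheme.{u}}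
    (g : X ⟶ Y) (h : Y ⟶ Z) [Mono h] (hgh : P (g ≫ h)) : P g := by
  have sq1 : IsPullback (𝟙 X) g g (𝟙 Y) := IsPullback.of_horiz_isIso ⟨by simp⟩
  have sq2 : IsPullback (𝟙 Y) (𝟙 Y) h h := IsKernelPair.id_of_mono h
  have sq : IsPullback (𝟙 X) g (g ≫ h) h := by simpa using sq1.paste_vert sq2
  exact MorphismProperty.of_isPullback sq hgh

variable {X X' S S' : Scheme.{u}} (iX : X ⟶ X') (iS : S ⟶ S') (f : X ⟶ S) (f' : X' ⟶ S')

section square

variable [hX₁ : IsClosedImmersion iX] [hX₂ : Surjective iX] [hS₁ : IsClosedImmersion iS]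
  (w : iX ≫ f' = f ≫ iS)

include w

theorem quasiCompact_iff_of_thickening : QuasiCompact f ↔ QuasiCompact f' := by
  refine ⟨fun hf => ?_, fun hf => ?_⟩
  · haveI : QuasiCompact (iX ≫ f') := by rw [w]; infer_instance
    exact quasiCompact_of_comp_surjective iX f'
  · haveI : QuasiCompact (f ≫ iS) := by rw [← w]; infer_instance
    exact QuasiCompact.of_comp f iS

theorem universallyClosed_iff_of_thickening : UniversallyClosed f ↔ UniversallyClosed f' := by
  refine ⟨fun hf => ?_, fun hf => ?_⟩
  · haveI : UniversallyClosed (iX ≫ f') := by rw [w]; infer_instance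
    exact UniversallyClosed.of_comp_surjective iX f'
  · haveI : UniversallyClosed (f ≫ iS) := by rw [← w]; infer_instance
    exact MorphismProperty.of_postcomp @UniversallyClosed f iS (show IsSeparated iS from inferInstance) ‹_›

omit hS₁ w in
theorem diagonal_comp_eq : iX ≫ pullback.diagonal f' =
    pullback.diagonal (iX ≫ f') ≫ pullback.map _ _ f' f' iX iX (𝟙 _) (by simp) (by simp) := by
  apply pullback.hom_ext <;> simp

theorem quasiSeparated_iff_of_thickening : QuasiSeparated f ↔ QuasiSeparated f' := by
  refine ⟨fun hf => ?_, fun hf => ?_⟩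
  · haveI : QuasiSeparated (iX ≫ f') := by rw [w]; infer_instance
    haveI hm : QuasiCompact (pullback.map (iX ≫ f') (iX ≫ f') f' f' iX iX (𝟙 _) (by simp) (by simp)) :=
      MorphismProperty.pullbackMap (P := @QuasiCompact) inferInstance inferInstance rfl rfl
    haveI : QuasiCompact (iX ≫ pullback.diagonal f') := by
      rw [diagonal_comp_eq]
      exact MorphismProperty.comp_mem @QuasiCompact _ _ inferInstance hm
    exact ⟨quasiCompact_of_comp_surjective iX _⟩
  · haveI : QuasiSeparated (f ≫ iS) := by rw [← w]; infer_instance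
    exact QuasiSeparated.of_comp f iS

theorem universallyInjective_iff_of_thickening : UniversallyInjective f ↔ UniversallyInjective f' := by
  refine ⟨fun hf => ?_, fun hf => ?_⟩
  · have h1 : UniversallyInjective (iX ≫ f') := by
      rw [w]; exact MorphismProperty.comp_mem @UniversallyInjective _ _ hf inferInstance
    rw [UniversallyInjective.iff_diagonal] at h1 ⊢
    have hm : Surjective (pullback.map (iX ≫ f') (iX ≫ f') f' f' iX iX (𝟙 _) (by simp) (by simp)) :=
      MorphismProperty.pullbackMap (P := @Surjective) hX₂ hX₂ rfl rfl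
    haveI : Surjective (iX ≫ pullback.diagonal f') := by
      rw [diagonal_comp_eq]
      exact MorphismProperty.comp_mem @Surjective _ _ h1 hm
    exact Surjective.of_comp iX _
  · have h1 : UniversallyInjective (f ≫ iS) := by
      rw [← w]; exact MorphismProperty.comp_mem @UniversallyInjective _ _ inferInstance hf
    exact of_comp_mono @UniversallyInjective f iS h1

theorem universallyOpen_iff_of_thickening [hS₂ : Surjective iS] : UniversallyOpen f ↔ UniversallyOpen f' := by
  refine ⟨fun hf => ?_, fun hf => ?_⟩
  · have hiS : UniversallyOpen iS := by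
      refine ⟨fun T T' a b g h => ?_⟩
      have h1 : IsClosedImmersion g := MorphismProperty.of_isPullback (P := @IsClosedImmersion) h.flip inferInstance
      have h2 : Surjective g := MorphismProperty.of_isPullback (P := @Surjective) h.flip hS₂
      exact (isHomeomorph_iff_isEmbedding_surjective.2 ⟨g.isClosedEmbedding.isEmbedding, h2.surj⟩).isOpenMap
    haveI : UniversallyOpen (iX ≫ f') := by
      rw [w]; exact MorphismProperty.comp_mem @UniversallyOpen _ _ hf hiS
    exact Groth.Agent.H7Lim.universallyOpen_of_comp_surjective iX f'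
  · have hiX : UniversallyOpen iX := by
      refine ⟨fun T T' a b g h => ?_⟩
      have h1 : IsClosedImmersion g := MorphismProperty.of_isPullback (P := @IsClosedImmersion) h.flip inferInstance
      have h2 : Surjective g := MorphismProperty.of_isPullback (P := @Surjective) h.flip hX₂
      exact (isHomeomorph_iff_isEmbedding_surjective.2 ⟨g.isClosedEmbedding.isEmbedding, h2.surj⟩).isOpenMap
    haveI : UniversallyOpen (f ≫ iS) := by
      rw [← w]; exact MorphismProperty.comp_mem @UniversallyOpen _ _ hiX hf
    exact of_comp_mono @UniversallyOpen f iS inferInstance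

theorem locallyQuasiFinite_iff_of_thickening [hS₂ : Surjective iS] [LocallyOfFiniteType f]
    [LocallyOfFiniteType f'] : LocallyQuasiFinite f ↔ LocallyQuasiFinite f' := by
  refine ⟨fun hf => ?_, fun hf => ?_⟩
  · rw [locallyQuasiFinite_iff_isDiscrete_preimage_singleton]
    intro y'
    obtain ⟨y, rfl⟩ := hS₂.surj y'
    have : f' ⁻¹' {iS y} = iX '' (f ⁻¹' {y}) := by
      ext x'
      obtain ⟨x, rfl⟩ := hX₂.surj x'
      have hx : f' (iX x) = iS (f x) := congrArg (fun φ : X ⟶ S' => φ x) w
      simp only [Set.mem_preimage, Set.mem_singleton_iff, hx, Set.mem_image,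
        iS.isClosedEmbedding.injective.eq_iff, iX.isClosedEmbedding.injective.eq_iff]
      exact ⟨fun h => ⟨x, h, rfl⟩, by rintro ⟨_, h, rfl⟩; exact h⟩
    rw [this]
    exact (f.isDiscrete_preimage_singleton y).image iX.isClosedEmbedding.isInducing
  · haveI : LocallyQuasiFinite (f ≫ iS) := by rw [← w]; infer_instance
    exact LocallyQuasiFinite.of_comp f iS

end square

section pullback

variable [hS₁ : IsClosedImmersion iS] [hS₂ : Surjective iS] (hc : IsPullback iX f f' iS)
  [LocallyOfFiniteType f']

include hc

omit [LocallyOfFiniteType f'] in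
theorem thickening_of_isPullback : IsClosedImmersion iX ∧ Surjective iX :=
  ⟨MorphismProperty.of_isPullback (P := @IsClosedImmersion) hc.flip hS₁,
    MorphismProperty.of_isPullback (P := @Surjective) hc.flip hS₂⟩

theorem formallyUnramified_iff_of_thickening : FormallyUnramified f ↔ FormallyUnramified f' := by
  refine ⟨fun hf => ?_, fun hf => MorphismProperty.of_isPullback (P := @FormallyUnramified) hc hf⟩
  haveI : FormallyUnramified (pullback.snd f' iS) := by
    rw [← MorphismProperty.cancel_left_of_respectsIso (P := @FormallyUnramified) hc.isoPullback.hom,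
      hc.isoPullback_hom_snd]
    exact hf
  exact formallyUnramified_of_thickening f' iS

theorem mono_iff_of_thickening : Mono f ↔ Mono f' := by
  obtain ⟨hX₁, hX₂⟩ := thickening_of_isPullback iX iS f f' hc
  refine ⟨fun hf => ?_, fun hf => MorphismProperty.of_isPullback (P := MorphismProperty.monomorphisms _) hc hf⟩
  haveI := (formallyUnramified_iff_of_thickening iX iS f f' hc).1 (formallyUnramified_of_mono f)
  have h2 := (universallyInjective_iff_of_thickening iX iS f f' hc.w).1 inferInstance
  rw [UniversallyInjective.iff_diagonal] at h2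
  haveI : IsOpenImmersion (pullback.diagonal f') := inferInstance
  haveI : IsIso (pullback.diagonal f') :=
    isIso_of_isOpenImmersion_of_opensRange_eq_top _ (TopologicalSpace.Opens.ext h2.surj.range_eq)
  exact (pullback.isIso_diagonal_iff f').1 inferInstance

theorem isClosedImmersion_iff_of_thickening : IsClosedImmersion f ↔ IsClosedImmersion f' := by
  obtain ⟨hX₁, hX₂⟩ := thickening_of_isPullback iX iS f f' hc
  refine ⟨fun hf => ?_, fun hf => MorphismProperty.of_isPullback (P := @IsClosedImmersion) hc hf⟩
  haveI := (Groth.Agent.H7Lim.isIntegralHom_iff_of_thickening iX iS f f' hc.w).1 inferInstance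
  haveI : IsFinite f' := by rw [IsFinite.iff_isIntegralHom_and_locallyOfFiniteType]; exact ⟨‹_›, ‹_›⟩
  haveI := (mono_iff_of_thickening iX iS f f' hc).1 inferInstance
  exact (IsClosedImmersion.iff_isProper_and_mono f').2 ⟨inferInstance, inferInstance⟩

theorem isImmersion_iff_of_thickening : IsImmersion f ↔ IsImmersion f' := by
  obtain ⟨hX₁, hX₂⟩ := thickening_of_isPullback iX iS f f' hc
  refine ⟨fun hf => ?_, fun hf => MorphismProperty.of_isPullback (P := @IsImmersion) hc hf⟩
  have hh : IsHomeomorph iS := isHomeomorph_iff_isEmbedding_surjective.2 ⟨iS.isClosedEmbedding.isEmbedding, hS₂.surj⟩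
  let V : S'.Opens := ⟨iS '' f.coborderRange, hh.isOpenMap _ f.coborderRange.2⟩
  have hV : iS ⁻¹ᵁ V = f.coborderRange := TopologicalSpace.Opens.ext
    (Set.preimage_image_eq _ iS.isClosedEmbedding.injective)
  have hrange : Set.range f' ⊆ Set.range V.ι := by
    rw [Scheme.Opens.range_ι]
    rintro _ ⟨x', rfl⟩
    obtain ⟨x, rfl⟩ := hX₂.surj x'
    exact ⟨f x, subset_coborder ⟨x, rfl⟩, (congrArg (fun φ : X ⟶ S' => φ x) hc.w).symm⟩
  let g := IsOpenImmersion.lift V.ι f' hrange
  have hg : g ≫ V.ι = f' := IsOpenImmersion.lift_fac _ _ _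
  haveI : LocallyOfFiniteType g := by
    have : LocallyOfFiniteType (g ≫ V.ι) := by rw [hg]; infer_instance
    exact locallyOfFiniteType_of_comp g V.ι
  let e := S.isoOfEq hV
  let f₀ := f.liftCoborder ≫ e.inv
  have hf₀ : f₀ ≫ (iS ⁻¹ᵁ V).ι = f := by simp [f₀, e]
  have hc₀ : IsPullback iX f₀ g (iS ∣_ V) := by
    refine IsPullback.of_bot (h₃₁ := iS) (v₂₁ := (iS ⁻¹ᵁ V).ι) (v₂₂ := V.ι) ?_ ?_ (isPullback_morphismRestrict iS V)
    · rw [hg, hf₀]; exact hc
    · rw [← cancel_mono V.ι]
      simp only [Category.assoc, morphismRestrict_ι]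
      rw [hg, hc.w, ← Category.assoc, hf₀]
  haveI : IsClosedImmersion (iS ∣_ V) := IsZariskiLocalAtTarget.restrict hS₁ V
  haveI : Surjective (iS ∣_ V) := IsZariskiLocalAtTarget.restrict hS₂ V
  haveI : IsClosedImmersion f₀ := by infer_instance
  haveI : IsClosedImmersion g := (isClosedImmersion_iff_of_thickening iX (iS ∣_ V) f₀ g hc₀).1 inferInstance
  rw [← hg]
  infer_instance

end pullback

end Groth.Agent.H7Flat
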