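import Groth.Agent.S2049
import Groth.Agent.H1CAlg.InjModMaxModel

/-!
Maps injective modulo the maximal ideal into flat modules over valuation rings.
-/

set_option autoImplicit false
universe u

namespace Groth.Agent.H7Flat.ValInjMod

open IsLocalRing

/-- A finite module is, modulo an ideal with Noetherian quotient, finitely presented. -/
theorem exists_fp_cover {L N : Type u} [CommRing L] (J : Ideal L) [IsNoetherianRing (L ⧸ J)]
    [AddCommGroup N] [Module L N] [Module.Finite L N] :
    ∃ (k : ℕ) (π : (Fin k → L) →ₗ[L] N) (K₀ : Submodule L (Fin k → L)), Function.Surjective π ∧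
      K₀.FG ∧ K₀ ≤ LinearMap.ker π ∧ LinearMap.ker π ≤ K₀ ⊔ J • ⊤ := by
  classical
  obtain ⟨k, π, hπ⟩ := Module.Finite.exists_fin' L N
  let red : (Fin k → L) → (Fin k → L ⧸ J) := fun x i => Ideal.Quotient.mk J (x i)
  obtain ⟨F, hF, hspan⟩ := (Submodule.fg_span_iff_fg_span_finset_subset _).mp
    (IsNoetherian.noetherian (Submodule.span (L ⧸ J) (red '' (LinearMap.ker π : Set (Fin k → L)))))
  obtain ⟨G, hG, rfl⟩ := Finset.subset_set_image_iff.mp hF
  refine ⟨k, π, Submodule.span L (G : Set (Fin k → L)), hπ, Submodule.fg_span G.finite_toSet,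
    Submodule.span_le.mpr hG, fun x hx => ?_⟩
  have hx' : red x ∈ Submodule.span (L ⧸ J) (red '' (G : Set (Fin k → L))) := by
    rw [Finset.coe_image] at hspan
    rw [← hspan]
    exact Submodule.subset_span ⟨x, hx, rfl⟩
  have key : ∀ y ∈ Submodule.span (L ⧸ J) (red '' (G : Set (Fin k → L))),
      ∃ g ∈ Submodule.span L (G : Set (Fin k → L)), red g = y := by
    intro y hy
    induction hy using Submodule.span_induction with
    | mem y hy => obtain ⟨g, hg, rfl⟩ := hy; exact ⟨g, Submodule.subset_span hg, rfl⟩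
    | zero => exact ⟨0, zero_mem _, funext fun i => map_zero _⟩
    | add a b _ _ ha hb =>
      obtain ⟨g, hg, rfl⟩ := ha
      obtain ⟨g', hg', rfl⟩ := hb
      exact ⟨g + g', add_mem hg hg', funext fun i => map_add _ _ _⟩
    | smul c a _ ha =>
      obtain ⟨g, hg, rfl⟩ := ha
      obtain ⟨c, rfl⟩ := Ideal.Quotient.mk_surjective c
      exact ⟨c • g, Submodule.smul_mem _ _ hg, funext fun i => map_mul _ _ _⟩
  obtain ⟨g, hg, hgx⟩ := key _ hx'
  rw [show x = g + (x - g) by abel]
  refine add_mem (Submodule.mem_sup_left hg) (Submodule.mem_sup_right ?_)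
  rw [pi_eq_sum_univ' (x - g)]
  refine sum_mem fun i _ => Submodule.smul_mem_smul ?_ trivial
  rw [← Ideal.Quotient.eq_zero_iff_mem]
  change Ideal.Quotient.mk J (x i - g i) = 0
  rw [map_sub, sub_eq_zero]
  exact (congrFun hgx i).symm

/-- Over a valuation ring, a map to a flat module injective modulo the maximal ideal is injective
with flat cokernel. -/
theorem injective_and_flat_coker {A B : Type u} [CommRing A] [IsDomain A] [ValuationRing A]
    [CommRing B] [IsLocalRing B] [Algebra A B] [IsLocalHom (algebraMap A B)]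
    [Algebra.EssFiniteType A B] {N M : Type u} [AddCommGroup N] [Module B N] [Module A N]
    [IsScalarTower A B N] [Module.Finite B N] [AddCommGroup M] [Module B M] [Module A M]
    [IsScalarTower A B M] [Module.Finite B M] [Module.Flat A M] (u : N →ₗ[B] M)
    (hu : ∀ x : N, u x ∈ maximalIdeal A • (⊤ : Submodule A M) →
      x ∈ maximalIdeal A • (⊤ : Submodule A N)) :
    Function.Injective u ∧ Module.Flat A (M ⧸ LinearMap.range u) := by
  classical
  obtain ⟨σ, hσ⟩ := (Algebra.essFiniteType_iff A B).1 inferInstance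
  let φ : MvPolynomial (σ : Set B) A →ₐ[A] B := MvPolynomial.aeval fun s => (s : B)
  have hrange : φ.range = Algebra.adjoin A (σ : Set B) := by
    show (MvPolynomial.aeval fun s : (σ : Set B) => (s : B)).range = _
    rw [← Algebra.adjoin_range_eq_range_aeval, Subtype.range_coe]
  let q : Ideal (MvPolynomial (σ : Set B) A) := (maximalIdeal B).comap φ.toRingHom
  have : q.IsPrime := Ideal.comap_isPrime _ _
  let L := Localization.AtPrime q
  have hunit : ∀ t : q.primeCompl, IsUnit (φ.toRingHom t) := fun t => by
    by_contra h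
    exact t.2 ((mem_maximalIdeal _).2 h)
  let ψ : L →+* B := IsLocalization.lift hunit
  have hψ : ∀ x, ψ (algebraMap (MvPolynomial (σ : Set B) A) L x) = φ x :=
    fun x => IsLocalization.lift_eq hunit x
  have hψs : Function.Surjective ψ := by
    intro s
    obtain ⟨t, ht, htu, hts⟩ := hσ s
    rw [← hrange] at ht hts
    obtain ⟨T, hT⟩ := ht
    obtain ⟨p, hp⟩ := hts
    have hT' : φ T = t := hT
    have hp' : φ p = s * t := hp
    have hTq : T ∉ q := fun h => ((mem_maximalIdeal _).1 h) (by
      change IsUnit (φ T)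
      rw [hT']
      exact htu)
    refine ⟨IsLocalization.mk' L p (⟨T, hTq⟩ : q.primeCompl), ?_⟩
    rw [IsLocalization.lift_mk'_spec]
    change φ p = φ T * s
    rw [hT', hp', mul_comm]
  let : Algebra L B := ψ.toAlgebra
  have : IsScalarTower A L B := IsScalarTower.of_algebraMap_eq fun a => by
    change _ = ψ (algebraMap A L a)
    rw [IsScalarTower.algebraMap_apply A (MvPolynomial (σ : Set B) A) L, hψ, φ.commutes]
  let : Module L N := Module.compHom N ψ
  have : IsScalarTower L B N := IsScalarTower.of_algebraMap_smul fun _ _ => rfl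
  let : Module L M := Module.compHom M ψ
  have : IsScalarTower L B M := IsScalarTower.of_algebraMap_smul fun _ _ => rfl
  have : IsScalarTower A L N := IsScalarTower.of_algebraMap_smul fun a x => by
    rw [← algebraMap_smul B (algebraMap A L a) x, ← IsScalarTower.algebraMap_apply, algebraMap_smul]
  have : IsScalarTower A L M := IsScalarTower.of_algebraMap_smul fun a x => by
    rw [← algebraMap_smul B (algebraMap A L a) x, ← IsScalarTower.algebraMap_apply, algebraMap_smul]
  have : Module.Finite L B := Module.Finite.of_surjective (Algebra.linearMap L B) hψs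
  have : Module.Finite L N := Module.Finite.trans B N
  have : Module.Finite L M := Module.Finite.trans B M
  have : IsLocalHom (algebraMap A L) := ⟨fun a ha => by
    have h := ha.map ψ
    rw [show ψ (algebraMap A L a) = algebraMap A B a from
      (IsScalarTower.algebraMap_apply A L B a).symm] at h
    exact isUnit_of_map_unit (algebraMap A B) a h⟩
  have : Algebra.EssFiniteType (MvPolynomial (σ : Set B) A) L :=
    Algebra.EssFiniteType.of_isLocalization L q.primeCompl
  have : Algebra.EssFiniteType A L := Algebra.EssFiniteType.comp A (MvPolynomial (σ : Set B) A) L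
  have : Module.FinitePresentation L M := S2049.result (A := A)
  let J : Ideal L := (maximalIdeal A).map (algebraMap A L)
  have : Algebra.EssFiniteType A (L ⧸ J) := Algebra.EssFiniteType.comp A L (L ⧸ J)
  have : Algebra.EssFiniteType (A ⧸ maximalIdeal A) (L ⧸ J) :=
    Algebra.EssFiniteType.of_comp A (A ⧸ maximalIdeal A) (L ⧸ J)
  have : IsNoetherianRing (A ⧸ maximalIdeal A) :=
    inferInstanceAs (IsNoetherianRing (ResidueField A))
  have : IsNoetherianRing (L ⧸ J) :=
    Algebra.EssFiniteType.isNoetherianRing (A ⧸ maximalIdeal A) (L ⧸ J)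
  obtain ⟨k, π, K₀, hπ, hfg, hle, hle'⟩ := exists_fp_cover (N := N) J
  have : Module.FinitePresentation L ((Fin k → L) ⧸ K₀) :=
    Module.finitePresentation_of_surjective K₀.mkQ (Submodule.mkQ_surjective _)
      (by rwa [Submodule.ker_mkQ])
  let π' : ((Fin k → L) ⧸ K₀) →ₗ[L] N := K₀.liftQ π hle
  have hπ' : Function.Surjective π' := fun y => by
    obtain ⟨x, rfl⟩ := hπ y
    exact ⟨Submodule.Quotient.mk x, rfl⟩
  let uL : N →ₗ[L] M := u.restrictScalars L
  have hJ : ∀ {X : Type u} [AddCommGroup X] [Module L X] [Module A X] [IsScalarTower A L X] (x : X),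
      x ∈ J • (⊤ : Submodule L X) ↔ x ∈ maximalIdeal A • (⊤ : Submodule A X) := fun x => by
    rw [← Submodule.restrictScalars_mem A, Ideal.smul_restrictScalars, Submodule.restrictScalars_top]
  have key := H1CAlg.InjModMax.injective_and_flat_coker (R := A) (S₀ := MvPolynomial (σ : Set B) A)
    (S := L) q.primeCompl (uL ∘ₗ π') fun x hx => by
      have h1 : π' x ∈ J • (⊤ : Submodule L N) := (hJ _).2 (hu _ ((hJ _).1 hx))
      have h2 : π' x ∈ (J • (⊤ : Submodule L ((Fin k → L) ⧸ K₀))).map π' := by
        rwa [Submodule.map_smul'', Submodule.map_top, LinearMap.range_eq_top.mpr hπ']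
      obtain ⟨y, hy, hxy⟩ := h2
      obtain ⟨z, hz⟩ := Submodule.Quotient.mk_surjective K₀ (x - y)
      have hz' : z ∈ LinearMap.ker π := by
        rw [LinearMap.mem_ker, show π z = π' (Submodule.Quotient.mk z) from rfl, hz, map_sub, hxy,
          sub_self]
      obtain ⟨a, ha, b, hb, rfl⟩ := Submodule.mem_sup.mp (hle' hz')
      rw [show x = y + (x - y) by abel, ← hz, Submodule.Quotient.mk_add,
        (Submodule.Quotient.mk_eq_zero _).2 ha, zero_add]
      exact add_mem hy (Submodule.smul_top_le_comap_smul_top J K₀.mkQ hb)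
  have hπinj : Function.Injective π' := fun a b h => key.1 (show uL (π' a) = uL (π' b) by rw [h])
  refine ⟨fun a b h => ?_, ?_⟩
  · obtain ⟨a, rfl⟩ := hπ' a
    obtain ⟨b, rfl⟩ := hπ' b
    rw [key.1 (show uL (π' a) = uL (π' b) from h)]
  · have := key.2
    have hr : (LinearMap.range u).restrictScalars A =
        (LinearMap.range (uL ∘ₗ π')).restrictScalars A := by
      ext y
      constructor
      · rintro ⟨x, rfl⟩
        obtain ⟨x, rfl⟩ := hπ' x
        exact ⟨x, rfl⟩
      · rintro ⟨x, rfl⟩
        exact ⟨π' x, rfl⟩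
    exact Module.Flat.of_linearEquiv
      ((Submodule.Quotient.restrictScalarsEquiv A (LinearMap.range u)).symm ≪≫ₗ
        Submodule.quotEquivOfEq _ _ hr ≪≫ₗ
        Submodule.Quotient.restrictScalarsEquiv A (LinearMap.range (uL ∘ₗ π')))

end Groth.Agent.H7Flat.ValInjMod
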