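import Groth.Agent.H7Flat.PolyLoc
import Groth.Agent.H8Props.FlatLocus.Module
import Groth.Agent.H8Props.FlatAtBaseChange
import Groth.Agent.H06EGA11.Colimit

/-!
Flatness of a localization of a finitely presented module modulo the union of a chain of ideals
holds modulo a member of the chain.
-/

set_option autoImplicit false
universe u

namespace Groth.Agent.H7Flat.ModMaxChain

open TensorProduct IsLocalRing

attribute [local instance] MvPolynomial.algebraMvPolynomial

set_option backward.isDefEq.respectTransparency false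
set_option maxHeartbeats 400000

/-- The base change of a localization is a localization at the image submonoid. -/
theorem isLocalizedModule_baseChange {P PJ N₀ X : Type u} [CommRing P] [CommRing PJ] [Algebra P PJ]
    [AddCommGroup N₀] [Module P N₀] [AddCommGroup X] [Module P X] (S : Submonoid P)
    (ι : N₀ →ₗ[P] X) [IsLocalizedModule S ι] :
    IsLocalizedModule (S.map (algebraMap P PJ)) (ι.baseChange PJ) := by
  have hl : IsLocalizedModule S ((ι.baseChange PJ).restrictScalars P) := by
    have h1 : IsLocalizedModule S (ι.rTensor PJ) :=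
      inferInstanceAs (IsLocalizedModule S (AlgebraTensorModule.rTensor P PJ ι))
    have h2 := IsLocalizedModule.of_linearEquiv S (ι.rTensor PJ) (TensorProduct.comm P X PJ)
    have h3 := IsLocalizedModule.of_linearEquiv_right S
      ((TensorProduct.comm P X PJ).toLinearMap ∘ₗ ι.rTensor PJ) (TensorProduct.comm P PJ N₀)
    convert h3 using 1
    exact TensorProduct.ext' fun a b => rfl
  refine ⟨fun s => ?_, fun y => ?_, fun {x₁ x₂} h => ?_⟩
  · obtain ⟨t, ht, hts⟩ := s.2
    rw [Module.End.isUnit_iff]
    have h := (Module.End.isUnit_iff _).mp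
      (IsLocalizedModule.map_units ((ι.baseChange PJ).restrictScalars P) ⟨t, ht⟩)
    convert h using 1
    funext y
    change (s : PJ) • y = t • y
    rw [← hts, algebraMap_smul]
  · obtain ⟨⟨x, t⟩, ht⟩ := IsLocalizedModule.surj S ((ι.baseChange PJ).restrictScalars P) y
    exact ⟨(x, ⟨_, t, t.2, rfl⟩), by
      change (algebraMap P PJ t) • y = ι.baseChange PJ x
      rw [algebraMap_smul]
      exact ht⟩
  · obtain ⟨t, ht⟩ := (IsLocalizedModule.eq_iff_exists S ((ι.baseChange PJ).restrictScalars P)).mp h
    exact ⟨⟨_, t, t.2, rfl⟩, by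
      change (algebraMap P PJ t) • x₁ = (algebraMap P PJ t) • x₂
      rw [algebraMap_smul, algebraMap_smul]
      exact ht⟩

/-- Flatness of the base change of a localization along a pushout square. -/
theorem flat_pushout_iff (A R P PJ : Type u) [CommRing A] [CommRing R] [CommRing P] [CommRing PJ]
    [Algebra A R] [Algebra A P] [Algebra P PJ] [Algebra R PJ] [Algebra A PJ] [IsScalarTower A P PJ]
    [IsScalarTower A R PJ] [Algebra.IsPushout A P R PJ] (S : Submonoid P) {N₀ X : Type u}
    [AddCommGroup N₀] [Module P N₀] [AddCommGroup X] [Module A X] [Module P X] [IsScalarTower A P X]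
    (ι : N₀ →ₗ[P] X) [IsLocalizedModule S ι] :
    Module.Flat R (R ⊗[A] X) ↔
      Module.Flat R (LocalizedModule (S.map (algebraMap P PJ)) (PJ ⊗[P] N₀)) := by
  have := isLocalizedModule_baseChange (PJ := PJ) S ι
  let g : X →ₗ[P] PJ ⊗[P] X := TensorProduct.mk P PJ X 1
  have hg : IsBaseChange R (g.restrictScalars A) :=
    H8Props.FlatAtBC.isBaseChange_restrictScalars (R := A) (R' := R) g (TensorProduct.isBaseChange P X PJ)
  exact (Module.Flat.equiv_iff hg.equiv).trans
    (Module.Flat.equiv_iff ((IsLocalizedModule.iso (S.map (algebraMap P PJ))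
      (ι.baseChange PJ)).restrictScalars R)).symm

/-- Flatness of a base changed localization at a prime spreads to a principal localization. -/
theorem exists_away_flat (A R P PJ : Type u) [CommRing A] [CommRing R] [CommRing P] [CommRing PJ]
    [Algebra A R] [Algebra A P] [Algebra P PJ] [Algebra R PJ] [Algebra A PJ] [IsScalarTower A P PJ]
    [IsScalarTower A R PJ] [Algebra.IsPushout A P R PJ] [Algebra.FinitePresentation R PJ]
    (hψ : Function.Surjective (algebraMap P PJ)) {N₀ X : Type u} [AddCommGroup N₀] [Module P N₀]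
    [Module A N₀] [IsScalarTower A P N₀] [Module.FinitePresentation P N₀] [AddCommGroup X] [Module A X]
    [Module P X] [IsScalarTower A P X] (q : Ideal P) [q.IsPrime]
    (hker : RingHom.ker (algebraMap P PJ) ≤ q) (ι : N₀ →ₗ[P] X) [IsLocalizedModule q.primeCompl ι]
    [Module.Flat R (R ⊗[A] X)] :
    ∃ g ∉ q, Module.Flat R (R ⊗[A] LocalizedModule (Submonoid.powers g) N₀) := by
  classical
  let qJ := q.map (algebraMap P PJ)
  have : qJ.IsPrime := Ideal.map_isPrime_of_surjective hψ hker
  have hqJ : q.primeCompl.map (algebraMap P PJ) ≤ qJ.primeCompl := by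
    rintro _ ⟨t, ht, rfl⟩ h
    refine ht ?_
    obtain ⟨t', ht', htt⟩ := (Ideal.mem_map_iff_of_surjective _ hψ).mp h
    simpa using sub_mem ht' (hker (show t' - t ∈ RingHom.ker (algebraMap P PJ) by
      rw [RingHom.mem_ker, map_sub, htt, sub_self]))
  let M := PJ ⊗[P] N₀
  have hat : Module.Flat R (LocalizedModule qJ.primeCompl M) := by
    have := (flat_pushout_iff A R P PJ q.primeCompl ι).mp inferInstance
    exact H06EGA11.flat_localizedModule_of_le _ _ hqJ
  obtain ⟨_, ⟨g', rfl⟩, hg', hopen⟩ := PrimeSpectrum.isTopologicalBasis_basic_opens.exists_subset_of_mem_open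
    (a := (⟨qJ, ‹_›⟩ : PrimeSpectrum PJ))
    (show _ ∈ {Q : PrimeSpectrum PJ | Module.Flat R (LocalizedModule Q.asIdeal.primeCompl M)} from hat)
    (H8Props.FlatLocus.isOpen_setOf_flat_localizedModule R PJ M)
  obtain ⟨g, rfl⟩ := hψ g'
  refine ⟨g, fun h => hg' (Ideal.mem_map_of_mem _ h), (flat_pushout_iff A R P PJ (Submonoid.powers g)
    (LocalizedModule.mkLinearMap (Submonoid.powers g) N₀)).mpr ?_⟩
  refine H06EGA11.flat_localizedModule _ fun J x hx => ?_
  let An : Ideal PJ := LinearMap.ker (LinearMap.toSpanSingleton PJ (M ⊗[R] J) x)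
  have hrad : algebraMap P PJ g ∈ An.radical := by
    rw [Ideal.radical_eq_sInf, Ideal.mem_sInf]
    rintro Q ⟨hAQ, hQ⟩
    by_contra hgQ
    have : Module.Flat R (LocalizedModule Q.primeCompl M) := hopen (a := ⟨Q, hQ⟩) hgQ
    obtain ⟨t, ht, htx⟩ := H06EGA11.exists_smul_eq_zero_of_flat Q.primeCompl J.subtype
      Subtype.val_injective x hx
    exact ht (hAQ htx)
  obtain ⟨k, hk⟩ := hrad
  exact ⟨_, ⟨g ^ k, ⟨k, rfl⟩, map_pow _ g k⟩, hk⟩

/-- Flatness of a base changed principal localization gives flatness at the primes inside. -/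
theorem flat_of_away (A R P PJ : Type u) [CommRing A] [CommRing R] [CommRing P] [CommRing PJ]
    [Algebra A R] [Algebra A P] [Algebra P PJ] [Algebra R PJ] [Algebra A PJ] [IsScalarTower A P PJ]
    [IsScalarTower A R PJ] [Algebra.IsPushout A P R PJ] {N₀ X : Type u} [AddCommGroup N₀] [Module P N₀]
    [Module A N₀] [IsScalarTower A P N₀] [AddCommGroup X] [Module A X]
    [Module P X] [IsScalarTower A P X] (q : Ideal P) [q.IsPrime]
    (ι : N₀ →ₗ[P] X) [IsLocalizedModule q.primeCompl ι] (g : P) (hg : g ∉ q)
    [Module.Flat R (R ⊗[A] LocalizedModule (Submonoid.powers g) N₀)] :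
    Module.Flat R (R ⊗[A] X) := by
  have := (flat_pushout_iff A R P PJ (Submonoid.powers g)
    (LocalizedModule.mkLinearMap (Submonoid.powers g) N₀)).mp inferInstance
  exact (flat_pushout_iff A R P PJ q.primeCompl ι).mpr
    (H06EGA11.flat_localizedModule_of_le _ _
      (Submonoid.monotone_map (Submonoid.powers_le.mpr hg)))

/-- Flatness modulo the union of a chain descends to a member. -/
theorem exists_flat_mem_chain {A B N : Type u} [CommRing A] [IsLocalRing A] [CommRing B]
    [IsLocalRing B] [Algebra A B] [IsLocalHom (algebraMap A B)] (hB : PolyLoc.IsPolyLoc A B)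
    [AddCommGroup N] [Module B N] [Module A N] [IsScalarTower A B N] [Module.FinitePresentation B N]
    (c : Set (Ideal A)) (hc : IsChain (· ≤ ·) c) (hne : c.Nonempty) (htop : sSup c ≠ ⊤)
    [Module.Flat (A ⧸ sSup c) ((A ⧸ sSup c) ⊗[A] N)] :
    ∃ I ∈ c, Module.Flat (A ⧸ I) ((A ⧸ I) ⊗[A] N) := by
  classical
  obtain ⟨n, f, hs, hk⟩ := id hB
  let P := MvPolynomial (Fin n) A
  let : Algebra P B := f.toRingHom.toAlgebra
  have : IsScalarTower A P B := IsScalarTower.of_algebraMap_eq fun a => (f.commutes a).symm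
  let : Module P N := Module.compHom N f.toRingHom
  have : IsScalarTower P B N := IsScalarTower.of_algebraMap_smul fun _ _ => rfl
  have : IsScalarTower A P N := IsScalarTower.of_algebraMap_smul fun a m => by
    change f (algebraMap A P a) • m = a • m
    rw [f.commutes, algebraMap_smul]
  obtain ⟨N₀, i₁, i₂, i₃, ι, i₄⟩ := UnivInjFibres.exists_fp_localization (L := B) (N := N)
    (PolyLoc.units f) (fun t ht => ht)
    (fun b => by
      obtain ⟨t, ht, p, hp⟩ := hs b
      exact ⟨t, ht, p, hp⟩)
    ∅ (fun y hy => by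
      obtain ⟨t, ht, hty⟩ := hk y hy
      exact ⟨t, ht, by simp [hty]⟩)
    (fun y hy => absurd hy (Finset.notMem_empty y))
  let q : Ideal P := (maximalIdeal B).comap f.toRingHom
  rw [PolyLoc.units_eq] at i₄
  have : q.IsPrime := Ideal.comap_isPrime _ _
  let U := sSup c
  let PU := MvPolynomial (Fin n) (A ⧸ U)
  have hψ : Function.Surjective (algebraMap P PU) :=
    MvPolynomial.map_surjective _ Ideal.Quotient.mk_surjective
  have hker : RingHom.ker (algebraMap P PU) ≤ q := by
    change RingHom.ker (MvPolynomial.map (σ := Fin n) (algebraMap A (A ⧸ U))) ≤ q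
    rw [MvPolynomial.ker_map, Ideal.Quotient.algebraMap_eq, Ideal.mk_ker, Ideal.map_le_iff_le_comap]
    intro a ha
    change f (MvPolynomial.C a) ∈ maximalIdeal B
    rw [← MvPolynomial.algebraMap_eq, AlgHom.commutes]
    exact (maximalIdeal_comap (algebraMap A B)).ge (le_maximalIdeal htop ha)
  let : Module A N₀ := Module.compHom N₀ (algebraMap A P)
  have : IsScalarTower A P N₀ := IsScalarTower.of_algebraMap_smul fun _ _ => rfl
  obtain ⟨g, hgq, hUg⟩ := exists_away_flat A (A ⧸ U) P PU hψ q hker ι
  let S : Submonoid P := Submonoid.powers g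
  let Ng := LocalizedModule S N₀
  have : Algebra.FinitePresentation A (Localization S) :=
    have : Algebra.FinitePresentation P (Localization S) := IsLocalization.Away.finitePresentation g
    Algebra.FinitePresentation.trans A P (Localization S)
  have : Nonempty c := hne.to_subtype
  have : IsDirected c (· ≤ ·) := ⟨fun K L => (hc.total K.2 L.2).elim
    (fun h => ⟨L, h, le_rfl⟩) fun h => ⟨K, le_rfl, h⟩⟩
  obtain ⟨⟨I, hI⟩, hflat⟩ := H06EGA11.exists_index_flat (B₀ := Localization S) Ng
    (fun K : c => A ⧸ (K : Ideal A)) (fun _ _ h => Ideal.Quotient.factorₐ A h)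
    (fun K => Ideal.Quotient.factorₐ A (le_sSup K.2 : (K : Ideal A) ≤ U))
    (fun K L h => Ideal.Quotient.algHom_ext A (AlgHom.ext fun a => rfl))
    (fun y => by
      obtain ⟨a, rfl⟩ := Ideal.Quotient.mk_surjective y
      exact ⟨Classical.arbitrary c, Ideal.Quotient.mk _ a, rfl⟩)
    (fun K y hy => by
      obtain ⟨a, rfl⟩ := Ideal.Quotient.mk_surjective y
      have ha : a ∈ U := Ideal.Quotient.eq_zero_iff_mem.mp hy
      obtain ⟨L, hL, haL⟩ := (Submodule.mem_sSup_of_directed hne hc.directedOn).mp ha
      obtain ⟨M', hKM, hLM⟩ := directed_of (α := c) (· ≤ ·) K ⟨L, hL⟩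
      exact ⟨M', hKM, Ideal.Quotient.eq_zero_iff_mem.mpr (hLM haL)⟩)
  exact ⟨I, hI, flat_of_away A (A ⧸ I) P (MvPolynomial (Fin n) (A ⧸ I)) q ι g hgq⟩

end Groth.Agent.H7Flat.ModMaxChain
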