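import Groth.Agent.H7Flat.ModMaxFlat
import Groth.Agent.H7Flat.ModMaxChain
import Groth.Agent.H7Flat.ValInjMod

/-!
Maps from finitely presented modules over localizations of polynomial rings to flat modules which
are injective modulo the maximal ideal.
-/

set_option autoImplicit false
universe u

namespace Groth.Agent.H7Flat.ModMax

open TensorProduct IsLocalRing

set_option backward.isDefEq.respectTransparency false
set_option maxHeartbeats 1000000

/-- Flatness of a base change passes to quotient rings. -/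
theorem flat_baseChange_of_ker_le {A R₀ R N : Type u} [CommRing A] [CommRing R₀] [CommRing R]
    [Algebra A R₀] [Algebra A R] [AddCommGroup N] [Module A N]
    (hsurj : Function.Surjective (algebraMap A R₀))
    (hker : RingHom.ker (algebraMap A R₀) ≤ RingHom.ker (algebraMap A R))
    [Module.Flat R₀ (R₀ ⊗[A] N)] : Module.Flat R (R ⊗[A] N) := by
  let φ : R₀ →+* R := RingHom.liftOfSurjective (algebraMap A R₀) hsurj ⟨algebraMap A R, hker⟩
  let : Algebra R₀ R := φ.toAlgebra
  have : IsScalarTower A R₀ R := IsScalarTower.of_algebraMap_eq fun a =>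
    (RingHom.liftOfRightInverse_comp_apply (algebraMap A R₀) _ _ ⟨algebraMap A R, hker⟩ a).symm
  exact Module.Flat.of_linearEquiv (AlgebraTensorModule.cancelBaseChange A R₀ R R N).symm

/-- The source is flat. -/
theorem flat {A B N M : Type u} [CommRing A] [IsLocalRing A] [CommRing B] [IsLocalRing B]
    [Algebra A B] [IsLocalHom (algebraMap A B)] (hB : PolyLoc.IsPolyLoc A B)
    [AddCommGroup N] [Module B N] [Module A N] [IsScalarTower A B N] [Module.FinitePresentation B N]
    [AddCommGroup M] [Module A M] [Module.Flat A M] (u : N →ₗ[A] M)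
    (hmod : ∀ x, u x ∈ maximalIdeal A • (⊤ : Submodule A M) → x ∈ maximalIdeal A • (⊤ : Submodule A N)) :
    Module.Flat A N := by
  by_contra hnot
  let F : Set (Ideal A) := {I | ¬ Module.Flat (A ⧸ I) ((A ⧸ I) ⊗[A] N)}
  have hbot : (⊥ : Ideal A) ∈ F := fun h => hnot (by
    have : Module.Flat (A ⧸ (⊥ : Ideal A)) ((A ⧸ (⊥ : Ideal A)) ⊗[A] N) := h
    have : Module.Flat A ((A ⊗[A] N)) := flat_baseChange_of_ker_le (R₀ := A ⧸ (⊥ : Ideal A))
      Ideal.Quotient.mk_surjective (by rw [Ideal.Quotient.algebraMap_eq, Ideal.mk_ker]; exact bot_le)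
    exact Module.Flat.of_linearEquiv (TensorProduct.lid A N).symm)
  have htop : (⊤ : Ideal A) ∉ F := fun h => h (by
    have : Subsingleton (A ⧸ (⊤ : Ideal A)) := Ideal.Quotient.subsingleton_iff.mpr rfl
    have : Subsingleton ((A ⧸ (⊤ : Ideal A)) ⊗[A] N) :=
      Module.subsingleton (A ⧸ (⊤ : Ideal A)) _
    infer_instance)
  obtain ⟨I, -, hmax⟩ := zorn_le_nonempty₀ F (fun c hc hchain J hJ => by
    refine ⟨sSup c, fun hflat => ?_, fun _ h => le_sSup h⟩
    by_cases h : sSup c = ⊤
    · obtain ⟨K, hK, h1⟩ := (Submodule.mem_sSup_of_directed ⟨J, hJ⟩ hchain.directedOn).mp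
        ((Ideal.eq_top_iff_one _).mp h)
      exact htop ((Ideal.eq_top_iff_one K).mpr h1 ▸ hc hK)
    · have : Module.Flat (A ⧸ sSup c) ((A ⧸ sSup c) ⊗[A] N) := hflat
      obtain ⟨K, hK, hflat'⟩ := ModMaxChain.exists_flat_mem_chain (N := N) hB c hchain ⟨J, hJ⟩ h
      exact hc hK hflat') ⊥ hbot
  have hI : I ≠ ⊤ := fun h => htop (h ▸ hmax.prop)
  refine PolyLoc.quot_cases hB u hmod I hI ?_
  intro A' B' N' M' _ _ _ _ _ _ _ _ _ _ _ _ _ _ _ _ _ _ _ hB' π ν u' hA hker hπ _ _ hmod'
  have hproper : ∀ J' : Ideal A', J' ≠ ⊥ → Module.Flat (A' ⧸ J') ((A' ⧸ J') ⊗[A'] N') := by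
    intro J' hJ'
    let J := J'.comap (algebraMap A A')
    have hIJ : I ≤ J := hker ▸ fun a ha => by
      rw [Ideal.mem_comap, RingHom.mem_ker.mp ha]; exact zero_mem J'
    have hne : J ∉ F := fun hJ => hJ' (by
      rw [← Ideal.map_comap_of_surjective _ hA J', Ideal.map_eq_bot_iff_le_ker, hker]
      exact hmax.le_of_ge hJ hIJ)
    have : Module.Flat (A ⧸ J) ((A ⧸ J) ⊗[A] N) := not_not.mp hne
    have : Module.Flat (A' ⧸ J') ((A' ⧸ J') ⊗[A] N) := flat_baseChange_of_ker_le (R₀ := A ⧸ J)
      Ideal.Quotient.mk_surjective (by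
        rw [Ideal.Quotient.algebraMap_eq, Ideal.mk_ker]
        intro a ha
        rw [RingHom.mem_ker, IsScalarTower.algebraMap_apply A A' (A' ⧸ J')]
        exact Ideal.Quotient.eq_zero_iff_mem.mpr ha)
    exact Module.Flat.of_linearEquiv ((AlgebraTensorModule.congr (LinearEquiv.refl (A' ⧸ J') (A' ⧸ J'))
      hπ.equiv.symm) ≪≫ₗ AlgebraTensorModule.cancelBaseChange A A' (A' ⧸ J') (A' ⧸ J') N)
  have hinj : ∀ J' : Ideal A', J' ≠ ⊥ → ∀ y, u' y ∈ J' • (⊤ : Submodule A' M') →
      y ∈ J' • (⊤ : Submodule A' N') := by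
    intro J' hJ' y hy
    by_cases htop' : J' = ⊤
    · rw [htop', Submodule.top_smul]; trivial
    refine PolyLoc.quot_cases hB' u' hmod' J' htop' ?_
    intro A'' B'' N'' M'' _ _ _ _ _ _ _ _ _ _ _ _ _ _ _ _ _ _ _ hB'' π' ν' u'' hA' hker' hπ' hν' hu'' hmod''
    have := hproper J' hJ'
    have : Module.Flat A'' (A'' ⊗[A'] N') := flat_baseChange_of_ker_le (R₀ := A' ⧸ J')
      Ideal.Quotient.mk_surjective (by rw [Ideal.Quotient.algebraMap_eq, Ideal.mk_ker, hker'])
    have : Module.Flat A'' N'' := Module.Flat.of_linearEquiv hπ'.equiv.symm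
    have h0 := ModMaxFlat.mem_smul_of_flat hB'' u'' hmod'' ⊥ (π' y) (by
      rw [Submodule.bot_smul, Submodule.mem_bot, hu'', (PolyLoc.mem_smul_iff hA' hν').2.1, hker']
      exact hy)
    rwa [Submodule.bot_smul, Submodule.mem_bot, (PolyLoc.mem_smul_iff hA' hπ').2.1, hker'] at h0
  have hdiv : ∀ y, u' y = 0 → ∀ a : A', a ≠ 0 → ∃ w, a • w = y := by
    intro y hy a ha
    have h := hinj (Ideal.span {a}) (fun h => ha (Ideal.span_singleton_eq_bot.mp h)) y
      (by rw [hy]; exact zero_mem _)
    rw [Submodule.ideal_span_singleton_smul] at h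
    obtain ⟨w, -, hw⟩ := h
    exact ⟨w, hw⟩
  have h0 : ∀ y, u' y = 0 → y = 0 := by
    intro y hy
    by_cases hfield : maximalIdeal A' = ⊥
    · have := hmod' y (by rw [hy]; exact zero_mem _)
      rwa [hfield, Submodule.bot_smul, Submodule.mem_bot] at this
    by_cases hdom : ∃ a b : A', a ≠ 0 ∧ b ≠ 0 ∧ b * a = 0
    · obtain ⟨a, b, ha, hb, hab⟩ := hdom
      obtain ⟨w, rfl⟩ := hdiv y hy a ha
      let K : Ideal A' := LinearMap.ker (LinearMap.mulRight A' a)
      have hK : ∀ d, d ∈ K ↔ d * a ∈ (⊥ : Ideal A') := fun d => by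
        rw [LinearMap.mem_ker, LinearMap.mulRight_apply, Submodule.mem_bot]
      have hw : w ∈ K • (⊤ : Submodule A' N') :=
        hinj K (fun h => hb (by
          have : b ∈ K := (hK b).mpr (by rw [Submodule.mem_bot, hab])
          rwa [h, Submodule.mem_bot] at this)) w
          (ModMaxBase.mem_colon_smul ⊥ K a hK (u' w) (by
            rw [← map_smul, hy]; exact zero_mem _))
      clear hy
      induction hw using Submodule.smul_induction_on' with
      | smul d hd m _ =>
        rw [smul_smul, mul_comm, (Submodule.mem_bot A').mp ((hK d).mp hd), zero_smul]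
      | add m _ m' _ h h' => rw [smul_add, h, h', add_zero]
    · have : NoZeroDivisors A' := ⟨fun {a b} hab => by
        by_contra hne
        push Not at hne
        exact hdom ⟨b, a, hne.2, hne.1, hab⟩⟩
      have : IsDomain A' := NoZeroDivisors.to_isDomain A'
      obtain ⟨a₀, ha₀, ha₀0⟩ := Submodule.exists_mem_ne_zero_of_ne_bot hfield
      refine ModMaxBase.eq_zero_of_mem_all_smul (B := B') a₀ ha₀0 ?_ (fun a ha x hx => ?_)
        (fun a ha => hproper _ fun h => ha (Ideal.span_singleton_eq_bot.mp h)) (fun D hD => ?_) y (hdiv y hy)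
      · rw [IsLocalRing.jacobson_eq_maximalIdeal ⊥ bot_ne_top]
        exact (maximalIdeal_comap (algebraMap A' B')).ge ha₀
      · refine hdiv x ((smul_eq_zero.mp ?_).resolve_left ha)
        rw [← map_smul, hx, map_zero]
      · have : Module.Finite B' N' := inferInstance
        have := PolyLoc.fp_of_flat hB' (N' ⧸ D)
        have h := Module.FinitePresentation.fg_ker D.mkQ D.mkQ_surjective
        rwa [Submodule.ker_mkQ] at h
  have hflat : Module.Flat A' N' := (ModMaxBase.univInj_and_flat u' fun J' y hy => by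
    by_cases hJ' : J' = ⊥
    · subst hJ'
      rw [Submodule.bot_smul, Submodule.mem_bot] at hy ⊢
      exact h0 y hy
    · exact hinj J' hJ' y hy).2
  refine hmax.prop ?_
  have : Module.Flat A' (A' ⊗[A] N) := Module.Flat.of_linearEquiv hπ.equiv
  exact flat_baseChange_of_ker_le (R₀ := A') hA
    (by rw [hker, Ideal.Quotient.algebraMap_eq, Ideal.mk_ker])

/-- Universal injectivity and flatness, for finitely presented modules. -/
theorem univInj_and_flat {A B N M : Type u} [CommRing A] [IsLocalRing A] [CommRing B] [IsLocalRing B]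
    [Algebra A B] [IsLocalHom (algebraMap A B)] (hB : PolyLoc.IsPolyLoc A B)
    [AddCommGroup N] [Module B N] [Module A N] [IsScalarTower A B N] [Module.FinitePresentation B N]
    [AddCommGroup M] [Module A M] [Module.Flat A M] (u : N →ₗ[A] M)
    (hmod : ∀ x, u x ∈ maximalIdeal A • (⊤ : Submodule A M) → x ∈ maximalIdeal A • (⊤ : Submodule A N)) :
    (∀ (Q : Type u) [AddCommGroup Q] [Module A Q], Function.Injective (u.lTensor Q)) ∧
      Module.Flat A N := by
  have := flat hB u hmod
  exact ModMaxBase.univInj_and_flat u fun J x hx => ModMaxFlat.mem_smul_of_flat hB u hmod J x hx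

/-- Universal injectivity, finite presentation and flatness, for finite modules over local algebras
essentially of finite type. -/
theorem main {A B N M : Type u} [CommRing A] [IsLocalRing A] [CommRing B] [IsLocalRing B]
    [Algebra A B] [IsLocalHom (algebraMap A B)] [Algebra.EssFiniteType A B]
    [AddCommGroup N] [Module B N] [Module A N] [IsScalarTower A B N] [Module.Finite B N]
    [AddCommGroup M] [Module A M] [Module.Flat A M] (u : N →ₗ[A] M)
    (hu : ∀ x, u x ∈ maximalIdeal A • (⊤ : Submodule A M) → x ∈ maximalIdeal A • (⊤ : Submodule A N)) :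
    (∀ (Q : Type u) [AddCommGroup Q] [Module A Q], Function.Injective (u.rTensor Q)) ∧
      Module.FinitePresentation B N ∧ Module.Flat A N := by
  classical
  obtain ⟨σ, hσ⟩ := (Algebra.essFiniteType_iff A B).1 inferInstance
  let s : Fin σ.card → B := fun i => (σ.equivFin.symm i : B)
  have hrs : Set.range s = (σ : Set B) := by
    ext b
    exact ⟨fun ⟨i, hi⟩ => hi ▸ (σ.equivFin.symm i).2, fun hb => ⟨σ.equivFin ⟨b, hb⟩, by simp [s]⟩⟩
  let φ : MvPolynomial (Fin σ.card) A →ₐ[A] B := MvPolynomial.aeval s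
  have hrange : φ.range = Algebra.adjoin A (σ : Set B) := by
    rw [← hrs, Algebra.adjoin_range_eq_range_aeval]
  let P := MvPolynomial (Fin σ.card) A
  let q : Ideal P := (maximalIdeal B).comap φ.toRingHom
  have : q.IsPrime := Ideal.comap_isPrime _ _
  let L := Localization.AtPrime q
  have hunit : ∀ t : q.primeCompl, IsUnit (φ.toRingHom t) := fun t => by
    by_contra h
    exact t.2 ((mem_maximalIdeal _).2 h)
  let ψ : L →+* B := IsLocalization.lift hunit
  have hψ : ∀ x, ψ (algebraMap P L x) = φ x := fun x => IsLocalization.lift_eq hunit x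
  have hψs : Function.Surjective ψ := by
    intro b
    obtain ⟨t, ht, htu, hts⟩ := hσ b
    rw [← hrange] at ht hts
    obtain ⟨T, hT⟩ := ht
    obtain ⟨p, hp⟩ := hts
    have hT' : φ T = t := hT
    have hp' : φ p = b * t := hp
    have hTq : T ∉ q := fun h => ((mem_maximalIdeal _).1 h) (by
      change IsUnit (φ T)
      rw [hT']
      exact htu)
    refine ⟨IsLocalization.mk' L p (⟨T, hTq⟩ : q.primeCompl), ?_⟩
    rw [IsLocalization.lift_mk'_spec]
    change φ p = φ T * b
    rw [hT', hp', mul_comm]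
  let : Algebra L B := ψ.toAlgebra
  have : IsScalarTower A L B := IsScalarTower.of_algebraMap_eq fun a => by
    change _ = ψ (algebraMap A L a)
    rw [IsScalarTower.algebraMap_apply A P L, hψ, φ.commutes]
  let : Module L N := Module.compHom N ψ
  have : IsScalarTower L B N := IsScalarTower.of_algebraMap_smul fun _ _ => rfl
  have : IsScalarTower A L N := IsScalarTower.of_algebraMap_smul fun a x => by
    rw [← algebraMap_smul B (algebraMap A L a) x, ← IsScalarTower.algebraMap_apply, algebraMap_smul]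
  have : Module.Finite L B := Module.Finite.of_surjective (Algebra.linearMap L B) hψs
  have : Module.Finite L N := Module.Finite.trans B N
  have : IsLocalHom (algebraMap A L) := ⟨fun a ha => by
    have h := ha.map ψ
    rw [show ψ (algebraMap A L a) = algebraMap A B a from
      (IsScalarTower.algebraMap_apply A L B a).symm] at h
    exact isUnit_of_map_unit (algebraMap A B) a h⟩
  have hPL : PolyLoc.IsPolyLoc A L := ⟨σ.card, IsScalarTower.toAlgHom A P L, fun b => by
      obtain ⟨⟨p, t⟩, hpt⟩ := IsLocalization.surj q.primeCompl b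
      exact ⟨t, IsLocalization.map_units L t, p, (mul_comm _ _).trans hpt⟩,
    fun x hx => by
      obtain ⟨t, ht⟩ := (IsLocalization.map_eq_zero_iff q.primeCompl L x).1 hx
      exact ⟨t, IsLocalization.map_units L t, ht⟩⟩
  have : Algebra.EssFiniteType P L := Algebra.EssFiniteType.of_isLocalization L q.primeCompl
  have : Algebra.EssFiniteType A L := Algebra.EssFiniteType.comp A P L
  let J : Ideal L := (maximalIdeal A).map (algebraMap A L)
  have : Algebra.EssFiniteType A (L ⧸ J) := Algebra.EssFiniteType.comp A L (L ⧸ J)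
  have : Algebra.EssFiniteType (A ⧸ maximalIdeal A) (L ⧸ J) :=
    Algebra.EssFiniteType.of_comp A (A ⧸ maximalIdeal A) (L ⧸ J)
  have : IsNoetherianRing (A ⧸ maximalIdeal A) := inferInstanceAs (IsNoetherianRing (ResidueField A))
  have : IsNoetherianRing (L ⧸ J) :=
    Algebra.EssFiniteType.isNoetherianRing (A ⧸ maximalIdeal A) (L ⧸ J)
  obtain ⟨k, π, K₀, hπ, hfg, hle, hle'⟩ := ValInjMod.exists_fp_cover (N := N) J
  have : Module.FinitePresentation L ((Fin k → L) ⧸ K₀) :=
    Module.finitePresentation_of_surjective K₀.mkQ (Submodule.mkQ_surjective _)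
      (by rwa [Submodule.ker_mkQ])
  let π' : ((Fin k → L) ⧸ K₀) →ₗ[L] N := K₀.liftQ π hle
  have hπ' : Function.Surjective π' := fun y => by
    obtain ⟨x, rfl⟩ := hπ y
    exact ⟨Submodule.Quotient.mk x, rfl⟩
  have hJ : ∀ {X : Type u} [AddCommGroup X] [Module L X] [Module A X] [IsScalarTower A L X] (x : X),
      x ∈ J • (⊤ : Submodule L X) ↔ x ∈ maximalIdeal A • (⊤ : Submodule A X) := fun x => by
    rw [← Submodule.restrictScalars_mem A, Ideal.smul_restrictScalars, Submodule.restrictScalars_top]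
  obtain ⟨hinj, hflat⟩ := univInj_and_flat hPL (u ∘ₗ π'.restrictScalars A) fun x hx => by
    have h1 : π' x ∈ J • (⊤ : Submodule L N) := (hJ _).2 (hu _ hx)
    have h2 : π' x ∈ (J • (⊤ : Submodule L ((Fin k → L) ⧸ K₀))).map π' := by
      rwa [Submodule.map_smul'', Submodule.map_top, LinearMap.range_eq_top.mpr hπ']
    obtain ⟨y, hy, hxy⟩ := h2
    obtain ⟨z, hz⟩ := Submodule.Quotient.mk_surjective K₀ (x - y)
    have hz' : z ∈ LinearMap.ker π := by
      rw [LinearMap.mem_ker, show π z = π' (Submodule.Quotient.mk z) from rfl, hz, map_sub, hxy, sub_self]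
    obtain ⟨a, ha, b, hb, rfl⟩ := Submodule.mem_sup.mp (hle' hz')
    refine (hJ x).1 ?_
    rw [show x = y + (x - y) by abel, ← hz, Submodule.Quotient.mk_add,
      (Submodule.Quotient.mk_eq_zero _).2 ha, zero_add]
    exact add_mem hy (Submodule.smul_top_le_comap_smul_top J K₀.mkQ hb)
  have hπinj : Function.Injective π' := fun a b h => by
    have h1 := hinj A
    refine (TensorProduct.lid A _).symm.injective (h1 ?_)
    simp only [TensorProduct.lid_symm_apply, LinearMap.lTensor_tmul, LinearMap.comp_apply,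
      LinearMap.restrictScalars_apply, h]
  let e : ((Fin k → L) ⧸ K₀) ≃ₗ[L] N := LinearEquiv.ofBijective π' ⟨hπinj, hπ'⟩
  refine ⟨fun Q _ _ => ?_, ?_, ?_⟩
  · rw [← LinearMap.lTensor_inj_iff_rTensor_inj]
    intro z z' hzz
    obtain ⟨w, rfl⟩ := LinearMap.lTensor_surjective Q (g := π'.restrictScalars A) hπ' z
    obtain ⟨w', rfl⟩ := LinearMap.lTensor_surjective Q (g := π'.restrictScalars A) hπ' z'
    rw [← LinearMap.lTensor_comp_apply, ← LinearMap.lTensor_comp_apply] at hzz
    rw [hinj Q hzz]
  · have : Module.FinitePresentation L N := Module.FinitePresentation.of_equiv e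
    exact FiniteFlatFP.fp_of_finite (S' := L)
  · exact Module.Flat.of_linearEquiv (e.restrictScalars A).symm

end Groth.Agent.H7Flat.ModMax
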