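import Groth.Agent.H1CAlg.FibreFlat
import Groth.Agent.H7Flat.ModMax
import Groth.Agent.H7Flat.FlatAtFinite

/-!
The fibre criterion of flatness for algebras of finite type.
-/

set_option autoImplicit false
universe u
open TensorProduct IsLocalRing

namespace Groth.Agent.H7Flat.NilFibreFlat

set_option backward.isDefEq.respectTransparency false
set_option maxHeartbeats 800000

/-- The structure of a localization of a finitely presented algebra at a prime over the local ring of
the base. -/
theorem isEssFP_atPrime {R A Rp Aq : Type u} [CommRing R] [CommRing A] [Algebra R A]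
    [Algebra.FinitePresentation R A] (q : Ideal A) [q.IsPrime] (p : Ideal R) [p.IsPrime]
    (hqp : q.comap (algebraMap R A) = p) [CommRing Rp] [Algebra R Rp] [IsLocalization.AtPrime Rp p]
    [CommRing Aq] [Algebra A Aq] [IsLocalization.AtPrime Aq q] [Algebra R Aq] [IsScalarTower R A Aq]
    [Algebra Rp Aq] [IsScalarTower R Rp Aq] : CAlgX.IsEssFinitePresentation Rp Aq := by
  let T := Algebra.algebraMapSubmonoid A p.primeCompl
  have hT : T ≤ q.primeCompl := by
    rintro _ ⟨c, hc, rfl⟩ h
    exact hc (hqp ▸ Ideal.mem_comap.mpr h)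
  let S₀ := Localization T
  let φ : Rp →+* S₀ := IsLocalization.map S₀ (algebraMap R A)
    (show p.primeCompl ≤ T.comap (algebraMap R A) from fun c hc => ⟨c, hc, rfl⟩)
  letI : Algebra Rp S₀ := φ.toAlgebra
  haveI : IsScalarTower R Rp S₀ := IsScalarTower.of_algebraMap_eq fun r => by
    rw [RingHom.algebraMap_toAlgebra, IsScalarTower.algebraMap_apply R A S₀]
    exact (IsLocalization.map_eq _ r).symm
  let ψ : S₀ →+* Aq := IsLocalization.lift (M := T) (g := algebraMap A Aq)
    fun t => IsLocalization.map_units Aq ⟨(t : A), hT t.2⟩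
  letI : Algebra S₀ Aq := ψ.toAlgebra
  haveI : IsScalarTower A S₀ Aq := IsScalarTower.of_algebraMap_eq fun a =>
    (IsLocalization.lift_eq (M := T) (g := algebraMap A Aq) _ a).symm
  haveI : IsScalarTower Rp S₀ Aq := IsScalarTower.of_algebraMap_eq' <|
    IsLocalization.ringHom_ext p.primeCompl <| RingHom.ext fun r => by
      show algebraMap Rp Aq (algebraMap R Rp r) = algebraMap S₀ Aq (algebraMap Rp S₀ (algebraMap R Rp r))
      rw [← IsScalarTower.algebraMap_apply R Rp Aq, ← IsScalarTower.algebraMap_apply R Rp S₀,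
        IsScalarTower.algebraMap_apply R A S₀, ← IsScalarTower.algebraMap_apply A S₀ Aq,
        ← IsScalarTower.algebraMap_apply R A Aq]
  haveI : Algebra.IsPushout R Rp A S₀ := (Algebra.isPushout_of_isLocalization p.primeCompl Rp A S₀).symm
  refine ⟨S₀, inferInstance, inferInstance, inferInstance, inferInstance,
    q.primeCompl.map (algebraMap A S₀),
    Algebra.FinitePresentation.equiv (Algebra.IsPushout.equiv R Rp A S₀), ?_⟩
  exact IsLocalization.isLocalization_of_submonoid_le S₀ Aq T q.primeCompl hT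

/-- A finitely generated piece of an ideal of an algebra of finite type cutting out the same fibre
over `p`. -/
theorem exists_fg_fibre {R P : Type u} [CommRing R] [CommRing P] [Algebra R P] [Algebra.FiniteType R P]
    (p : Ideal R) [p.IsPrime] (K : Ideal P) :
    ∃ K' ≤ K, K'.FG ∧ ∀ x ∈ K, ∃ c : R, c ∉ p ∧
      algebraMap R P c * x ∈ K' ⊔ p.map (algebraMap R P) := by
  classical
  obtain ⟨n, f, hf⟩ := Algebra.FiniteType.iff_quotient_mvPolynomial''.mp (inferInstance : Algebra.FiniteType R P)
  let J : Ideal P := p.map (algebraMap R P)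
  let T := Algebra.algebraMapSubmonoid (P ⧸ J) p.primeCompl
  let W := Localization T
  let δ : P →+* W := (algebraMap (P ⧸ J) W).comp (Ideal.Quotient.mk J)
  have hδR : ∀ r, algebraMap R W r = δ (algebraMap R P r) := fun r => by
    rw [IsScalarTower.algebraMap_apply R (P ⧸ J) W]; rfl
  have hδu : ∀ c ∈ p.primeCompl, IsUnit (δ (algebraMap R P c)) := fun c hc =>
    IsLocalization.map_units W (⟨_, c, hc, rfl⟩ : T)
  have hδp : ∀ r ∈ p, δ (algebraMap R P r) = 0 := fun r hr => by
    rw [RingHom.comp_apply, Ideal.Quotient.eq_zero_iff_mem.mpr (Ideal.mem_map_of_mem _ hr), map_zero]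
  let ι : p.ResidueField →+* W := Ideal.ResidueField.lift (S := W) p (δ.comp (algebraMap R P))
    (fun r hr => hδp r hr) hδu
  let Φ : MvPolynomial (Fin n) p.ResidueField →+* W :=
    MvPolynomial.eval₂Hom ι fun i => δ (f (MvPolynomial.X i))
  have hδ : ∀ x, δ (f x) = Φ (MvPolynomial.map (algebraMap R p.ResidueField) x) := fun x => by
    induction x using MvPolynomial.induction_on with
    | C r =>
      rw [MvPolynomial.map_C]
      simp only [Φ, MvPolynomial.eval₂Hom_C, ι, Ideal.ResidueField.lift_algebraMap]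
      rw [← MvPolynomial.algebraMap_eq, f.commutes]
      rfl
    | add a b ha hb => simp only [map_add, ha, hb]
    | mul_X a i ha =>
      rw [map_mul, map_mul, map_mul, map_mul, ha, MvPolynomial.map_X]
      simp [Φ]
  have hΦ : Function.Surjective Φ := by
    intro w
    obtain ⟨⟨x, ⟨_, c, hc, rfl⟩⟩, hw⟩ := IsLocalization.surj T w
    obtain ⟨x, rfl⟩ := Ideal.Quotient.mk_surjective x
    obtain ⟨y, rfl⟩ := hf x
    have hcu : IsUnit (algebraMap R p.ResidueField c) := IsUnit.mk0 _ fun h =>
      hc (Ideal.algebraMap_residueField_eq_zero.mp h)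
    refine ⟨MvPolynomial.map (algebraMap R p.ResidueField) y * MvPolynomial.C (↑hcu.unit⁻¹ : p.ResidueField), ?_⟩
    have hC : Φ (MvPolynomial.C (algebraMap R p.ResidueField c)) = δ (algebraMap R P c) := by
      simp only [Φ, MvPolynomial.eval₂Hom_C, ι, Ideal.ResidueField.lift_algebraMap]
      rfl
    refine (hδu c hc).mul_left_injective ?_
    show _ * δ (algebraMap R P c) = w * δ (algebraMap R P c)
    rw [← hC, ← map_mul, mul_assoc, ← map_mul MvPolynomial.C, IsUnit.val_inv_mul, map_one, mul_one,
      hC, ← hδ]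
    exact hw.symm
  haveI : IsNoetherianRing W := isNoetherianRing_of_surjective _ W Φ hΦ
  obtain ⟨t, ht, hts⟩ := (Submodule.fg_span_iff_fg_span_finset_subset (R := W) (δ '' (K : Set P))).mp
    (IsNoetherian.noetherian _)
  obtain ⟨t', ht', rfl⟩ := Finset.subset_set_image_iff.mp ht
  refine ⟨Ideal.span (t' : Set P), Ideal.span_le.mpr ht', ⟨t', rfl⟩, fun x hx => ?_⟩
  have h : δ x ∈ ((Ideal.span (t' : Set P)).map (Ideal.Quotient.mk J)).map (algebraMap (P ⧸ J) W) := by
    rw [Ideal.map_map, Ideal.map_span, ← Finset.coe_image]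
    exact hts.le (Submodule.subset_span ⟨x, hx, rfl⟩)
  obtain ⟨_, ⟨c, hc, rfl⟩, hcx⟩ := (IsLocalization.algebraMap_mem_map_algebraMap_iff T W _ _).mp h
  refine ⟨c, hc, ?_⟩
  refine Ideal.mem_quotient_iff_mem_sup.mp (show Ideal.Quotient.mk J (algebraMap R P c * x) ∈
    (Ideal.span (t' : Set P)).map (Ideal.Quotient.mk J) from ?_)
  rw [map_mul]
  exact hcx

/-- Flatness of a base change is preserved by localizing the module. -/
theorem flat_baseChange_localized {A E C N L : Type u} [CommRing A] [CommRing E] [CommRing C]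
    [Algebra A E] [Algebra A C] [AddCommGroup N] [Module C N] [Module A N] [IsScalarTower A C N]
    [AddCommGroup L] [Module C L] [Module A L] [IsScalarTower A C L] (T : Submonoid C)
    (mk : N →ₗ[C] L) [IsLocalizedModule T mk] [Module.Flat E (E ⊗[A] N)] :
    Module.Flat E (E ⊗[A] L) := by
  rw [Module.Flat.iff_lTensor_injective']
  intro I
  let e : ∀ (W X : Type u) [AddCommGroup W] [Module A W] [AddCommGroup X] [Module E X] [Module A X]
      [IsScalarTower A E X], (E ⊗[A] W) ⊗[E] X ≃+ W ⊗[A] X := fun W X _ _ _ _ _ _ =>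
    ((TensorProduct.comm E _ X).toAddEquiv.trans
      (AlgebraTensorModule.cancelBaseChange A E E X W).toAddEquiv).trans (TensorProduct.comm A X W).toAddEquiv
  have hnat : ∀ (W : Type u) [AddCommGroup W] [Module A W] (z : (E ⊗[A] W) ⊗[E] I),
      e W E (I.subtype.lTensor (E ⊗[A] W) z) = (I.subtype.restrictScalars A).lTensor W (e W I z) := by
    intro W _ _ z
    induction z using TensorProduct.induction_on with
    | zero => simp
    | add a b ha hb => simp only [map_add, ha, hb]
    | tmul x i =>
      induction x using TensorProduct.induction_on with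
      | zero => simp
      | add a b ha hb => simp only [add_tmul, map_add, ha, hb]
      | tmul r w => simp [e, TensorProduct.smul_tmul']
  have hN : Function.Injective ((I.subtype.restrictScalars A).lTensor N) := fun a b hab => by
    obtain ⟨a', rfl⟩ := (e N I).surjective a
    obtain ⟨b', rfl⟩ := (e N I).surjective b
    rw [← hnat, ← hnat] at hab
    exact congrArg _ (Module.Flat.lTensor_preserves_injective_linearMap I.subtype I.subtype_injective
      ((e N E).injective hab))
  suffices h : Function.Injective ((I.subtype.restrictScalars A).lTensor L) by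
    intro a b hab
    apply (e L I).injective
    apply h
    rw [← hnat, ← hnat, hab]
  rw [injective_iff_map_eq_zero]
  intro w hw
  let F := AlgebraTensorModule.rTensor A I mk
  let F' := AlgebraTensorModule.rTensor A E mk
  obtain ⟨⟨z, s⟩, hsz⟩ := IsLocalizedModule.surj T F w
  have hcomm : ∀ v, (I.subtype.restrictScalars A).lTensor L (F v) =
      F' ((I.subtype.restrictScalars A).lTensor N v) := fun v => by
    induction v using TensorProduct.induction_on with
    | zero => simp
    | add a b ha hb => simp only [map_add, ha, hb]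
    | tmul x i => simp [F, F']
  have h0 : F' ((I.subtype.restrictScalars A).lTensor N z) = 0 := by
    rw [← hcomm, ← show (s : C) • w = F z from hsz]
    exact ((AlgebraTensorModule.lTensor C L (I.subtype.restrictScalars A)).map_smul (s : C) w).trans
      (by rw [show AlgebraTensorModule.lTensor C L (I.subtype.restrictScalars A) w = 0 from hw, smul_zero])
  obtain ⟨t, ht⟩ := (IsLocalizedModule.eq_zero_iff T F').mp h0
  have htz : (t : C) • z = 0 := hN (((AlgebraTensorModule.lTensor C N
    (I.subtype.restrictScalars A)).map_smul (t : C) z).trans (ht.trans (map_zero _).symm))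
  refine ((Module.End.isUnit_iff _).mp (IsLocalizedModule.map_units F (t * s))).injective ?_
  rw [Module.algebraMap_end_apply, Module.algebraMap_end_apply, smul_zero, Submonoid.coe_mul, mul_smul,
    show (s : C) • w = F z from hsz, ← map_smul, htz, map_zero]

/-- The fibre criterion over a quotient of a local ring of finite presentation with the same
closed fibre. -/
theorem flat_of_surjective {R S₁ S S' M : Type u} [CommRing R] [CommRing S₁] [CommRing S] [CommRing S']
    [IsLocalRing R] [IsLocalRing S₁] [IsLocalRing S'] [Algebra R S₁] [Algebra S₁ S] [Algebra R S']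
    [Algebra S₁ S'] [IsScalarTower R S₁ S'] [IsLocalHom (algebraMap R S₁)]
    [IsLocalHom (algebraMap S₁ S')] [Algebra R S] [IsScalarTower R S₁ S]
    (hS₁ : CAlgX.IsEssFinitePresentation R S₁) (hS' : CAlgX.IsEssFinitePresentation R S')
    (hsurj : Function.Surjective (algebraMap S₁ S))
    (hker : RingHom.ker (algebraMap S₁ S) ≤ (maximalIdeal R).map (algebraMap R S₁))
    [AddCommGroup M] [Module S' M] [Module S M] [Module S₁ M] [Module R M] [IsScalarTower S₁ S' M]
    [IsScalarTower S₁ S M] [IsScalarTower R S' M] [IsScalarTower R S₁ M]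
    [Module.FinitePresentation S' M] [Nontrivial M] [Module.Flat R M]
    (hfib : Module.Flat (S ⧸ (maximalIdeal R).map (algebraMap R S))
      ((S ⧸ (maximalIdeal R).map (algebraMap R S)) ⊗[S] M)) : Module.Flat S M := by
  let J := (maximalIdeal R).map (algebraMap R S₁)
  let ψ : S →+* S₁ ⧸ J := RingHom.liftOfSurjective (algebraMap S₁ S) hsurj
    ⟨Ideal.Quotient.mk J, hker.trans (le_of_eq Ideal.mk_ker.symm)⟩
  have hψ : ∀ x, ψ (algebraMap S₁ S x) = Ideal.Quotient.mk J x := fun x =>
    RingHom.liftOfRightInverse_comp_apply (algebraMap S₁ S) _ _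
      ⟨Ideal.Quotient.mk J, hker.trans (le_of_eq Ideal.mk_ker.symm)⟩ x
  letI : Algebra S (S₁ ⧸ J) := ψ.toAlgebra
  haveI : IsScalarTower S₁ S (S₁ ⧸ J) := IsScalarTower.of_algebraMap_eq fun x => (hψ x).symm
  haveI := hfib
  have h1 : Module.Flat (S₁ ⧸ J) ((S₁ ⧸ J) ⊗[S] M) := by
    refine ModMax.flat_baseChange_of_ker_le (R₀ := S ⧸ (maximalIdeal R).map (algebraMap R S))
      Ideal.Quotient.mk_surjective ?_
    rw [Ideal.Quotient.algebraMap_eq, Ideal.mk_ker, Ideal.map_le_iff_le_comap]
    intro r hr
    show ψ (algebraMap R S r) = 0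
    rw [IsScalarTower.algebraMap_apply R S₁ S, hψ, Ideal.Quotient.eq_zero_iff_mem]
    exact Ideal.mem_map_of_mem _ hr
  let σ : S ⊗[S₁] M ≃ₗ[S] M :=
    LinearEquiv.ofBijective (AlgebraTensorModule.lift ((LinearMap.lsmul S M).restrictScalars₁₂ S S₁))
      ⟨fun a b hab => by
        have hgen : ∀ z : S ⊗[S₁] M, ∃ m, z = 1 ⊗ₜ m := fun z => by
          induction z using TensorProduct.induction_on with
          | zero => exact ⟨0, by simp⟩
          | add x y hx hy =>
            obtain ⟨m, rfl⟩ := hx; obtain ⟨m', rfl⟩ := hy; exact ⟨m + m', by rw [tmul_add]⟩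
          | tmul s m =>
            obtain ⟨r, rfl⟩ := hsurj s
            exact ⟨r • m, by rw [Algebra.algebraMap_eq_smul_one, smul_tmul]⟩
        obtain ⟨m, rfl⟩ := hgen a; obtain ⟨m', rfl⟩ := hgen b
        simp only [AlgebraTensorModule.lift_tmul, LinearMap.restrictScalars₁₂_apply_apply,
          LinearMap.lsmul_apply, one_smul] at hab
        rw [hab], fun m => ⟨1 ⊗ₜ m, by simp⟩⟩
  let e : (S₁ ⧸ J) ⊗[S] M ≃ₗ[S₁ ⧸ J] M ⧸ J • (⊤ : Submodule S₁ M) :=
    (AlgebraTensorModule.congr (LinearEquiv.refl _ _) σ.symm) ≪≫ₗ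
      (AlgebraTensorModule.cancelBaseChange S₁ S (S₁ ⧸ J) (S₁ ⧸ J) M) ≪≫ₗ
      (LinearEquiv.extendScalarsOfSurjective Ideal.Quotient.mk_surjective
        (TensorProduct.quotTensorEquivQuotSMul M J))
  have h2 : Module.Flat (S₁ ⧸ J) (M ⧸ J • (⊤ : Submodule S₁ M)) := Module.Flat.of_linearEquiv e.symm
  haveI := (H1CAlg.FibreFlat.flat_and_flat hS₁ hS' h2).2
  exact Module.Flat.of_linearEquiv σ.symm

/-- The fibre criterion at a prime, for a quotient of a finitely presented algebra with the same fibre. -/
theorem flat_localized {R A S S' M : Type u} [CommRing R] [CommRing A] [CommRing S] [CommRing S']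
    [Algebra R A] [Algebra.FinitePresentation R A] [Algebra A S] [Algebra R S] [IsScalarTower R A S]
    [Algebra S S'] [Algebra R S'] [IsScalarTower R S S'] [Algebra.FinitePresentation R S']
    [Algebra A S'] [IsScalarTower A S S']
    [AddCommGroup M] [Module S' M] [Module S M] [Module R M] [IsScalarTower S S' M] [IsScalarTower R S' M]
    [Module.FinitePresentation S' M] [Module.Flat R M]
    (hsurj : Function.Surjective (algebraMap A S)) (Q' : Ideal S') [Q'.IsPrime] (p : Ideal R) [p.IsPrime]
    (hp : Q'.comap (algebraMap R S') = p)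
    (hker : ∀ x, algebraMap A S x = 0 → ∃ c : R, c ∉ p ∧
      algebraMap R A c * x ∈ p.map (algebraMap R A))
    (hfib : Module.Flat (S ⧸ p.map (algebraMap R S)) ((S ⧸ p.map (algebraMap R S)) ⊗[S] M)) :
    Module.Flat S (LocalizedModule Q'.primeCompl M) := by
  rcases subsingleton_or_nontrivial (LocalizedModule Q'.primeCompl M) with _ | _
  · infer_instance
  haveI : IsScalarTower R A S' := IsScalarTower.of_algebraMap_eq fun r => by
    rw [IsScalarTower.algebraMap_apply R S S', IsScalarTower.algebraMap_apply R A S,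
      ← IsScalarTower.algebraMap_apply A S S']
  let Q := Q'.comap (algebraMap S S')
  let Q₁ := Q'.comap (algebraMap A S')
  have hQ₁Q : Q₁ = Q.comap (algebraMap A S) := by
    rw [Ideal.comap_comap, ← IsScalarTower.algebraMap_eq]
  have hpQ₁ : p = Q₁.comap (algebraMap R A) := by
    rw [← hp, Ideal.comap_comap, ← IsScalarTower.algebraMap_eq]
  have hpQ : p = Q.comap (algebraMap R S) := by
    rw [← hp, Ideal.comap_comap, ← IsScalarTower.algebraMap_eq]
  let Rp := Localization.AtPrime p
  let S₁ := Localization.AtPrime Q₁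
  let SQ := Localization.AtPrime Q
  let S₂ := Localization.AtPrime Q'
  letI : Algebra Rp S₁ := (Localization.localRingHom p Q₁ (algebraMap R A) hpQ₁).toAlgebra
  letI : Algebra Rp SQ := (Localization.localRingHom p Q (algebraMap R S) hpQ).toAlgebra
  letI : Algebra Rp S₂ := (Localization.localRingHom p Q' (algebraMap R S') hp.symm).toAlgebra
  letI : Algebra S₁ SQ := (Localization.localRingHom Q₁ Q (algebraMap A S) hQ₁Q).toAlgebra
  letI : Algebra S₁ S₂ := (Localization.localRingHom Q₁ Q' (algebraMap A S') rfl).toAlgebra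
  letI : Algebra SQ S₂ := (Localization.localRingHom Q Q' (algebraMap S S') rfl).toAlgebra
  have t1 : ∀ r, algebraMap Rp S₁ (algebraMap R Rp r) = algebraMap A S₁ (algebraMap R A r) :=
    Localization.localRingHom_to_map _ _ _ _
  have t2 : ∀ r, algebraMap Rp SQ (algebraMap R Rp r) = algebraMap S SQ (algebraMap R S r) :=
    Localization.localRingHom_to_map _ _ _ _
  have t3 : ∀ r, algebraMap Rp S₂ (algebraMap R Rp r) = algebraMap S' S₂ (algebraMap R S' r) :=
    Localization.localRingHom_to_map _ _ _ _
  have t4 : ∀ a, algebraMap S₁ SQ (algebraMap A S₁ a) = algebraMap S SQ (algebraMap A S a) :=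
    Localization.localRingHom_to_map _ _ _ _
  have t5 : ∀ a, algebraMap S₁ S₂ (algebraMap A S₁ a) = algebraMap S' S₂ (algebraMap A S' a) :=
    Localization.localRingHom_to_map _ _ _ _
  have t6 : ∀ s, algebraMap SQ S₂ (algebraMap S SQ s) = algebraMap S' S₂ (algebraMap S S' s) :=
    Localization.localRingHom_to_map _ _ _ _
  haveI : IsScalarTower R Rp S₁ := IsScalarTower.of_algebraMap_eq fun r => by
    rw [t1, ← IsScalarTower.algebraMap_apply]
  haveI : IsScalarTower R Rp S₂ := IsScalarTower.of_algebraMap_eq fun r => by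
    rw [t3, ← IsScalarTower.algebraMap_apply]
  haveI : IsScalarTower Rp S₁ SQ := IsScalarTower.of_algebraMap_eq' <|
    IsLocalization.ringHom_ext p.primeCompl <| RingHom.ext fun r => by
      show algebraMap Rp SQ (algebraMap R Rp r) = algebraMap S₁ SQ (algebraMap Rp S₁ (algebraMap R Rp r))
      rw [t2, t1, t4, ← IsScalarTower.algebraMap_apply R A S]
  haveI : IsScalarTower Rp S₁ S₂ := IsScalarTower.of_algebraMap_eq' <|
    IsLocalization.ringHom_ext p.primeCompl <| RingHom.ext fun r => by
      show algebraMap Rp S₂ (algebraMap R Rp r) = algebraMap S₁ S₂ (algebraMap Rp S₁ (algebraMap R Rp r))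
      rw [t3, t1, t5, ← IsScalarTower.algebraMap_apply R A S']
  haveI : IsScalarTower S₁ SQ S₂ := IsScalarTower.of_algebraMap_eq' <|
    IsLocalization.ringHom_ext Q₁.primeCompl <| RingHom.ext fun r => by
      show algebraMap S₁ S₂ (algebraMap A S₁ r) = algebraMap SQ S₂ (algebraMap S₁ SQ (algebraMap A S₁ r))
      rw [t5, t4, t6, ← IsScalarTower.algebraMap_apply A S S']
  haveI : IsLocalHom (algebraMap Rp S₁) := Localization.isLocalHom_localRingHom _ _ _ _
  haveI : IsLocalHom (algebraMap S₁ S₂) := Localization.isLocalHom_localRingHom _ _ _ _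
  let M' := LocalizedModule Q'.primeCompl M
  letI : Module SQ M' := Module.compHom M' (algebraMap SQ S₂)
  haveI : IsScalarTower SQ S₂ M' := .of_algebraMap_smul fun _ _ => rfl
  letI : Module S₁ M' := Module.compHom M' (algebraMap S₁ S₂)
  haveI : IsScalarTower S₁ S₂ M' := .of_algebraMap_smul fun _ _ => rfl
  haveI : IsScalarTower S₁ SQ M' := .of_algebraMap_smul fun r x => by
    show algebraMap SQ S₂ (algebraMap S₁ SQ r) • x = algebraMap S₁ S₂ r • x
    rw [← IsScalarTower.algebraMap_apply]
  letI : Module Rp M' := Module.compHom M' (algebraMap Rp S₂)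
  haveI : IsScalarTower Rp S₂ M' := .of_algebraMap_smul fun _ _ => rfl
  haveI : IsScalarTower Rp S₁ M' := .of_algebraMap_smul fun r x => by
    show algebraMap S₁ S₂ (algebraMap Rp S₁ r) • x = algebraMap Rp S₂ r • x
    rw [← IsScalarTower.algebraMap_apply]
  haveI : IsScalarTower R Rp M' := .of_algebraMap_smul fun r x => by
    show algebraMap Rp S₂ (algebraMap R Rp r) • x = r • x
    rw [t3, algebraMap_smul, algebraMap_smul]
  haveI : IsScalarTower S SQ M' := .of_algebraMap_smul fun s x => by
    show algebraMap SQ S₂ (algebraMap S SQ s) • x = s • x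
    rw [t6, algebraMap_smul, algebraMap_smul]
  haveI : Module.FinitePresentation S₂ M' :=
    Module.FinitePresentation.of_equiv (IsLocalizedModule.isBaseChange Q'.primeCompl S₂
      (LocalizedModule.mkLinearMap Q'.primeCompl M)).equiv
  haveI : Module.Flat R M' := (FlatAtFinite.flat_localizedModule_iff R Q'.primeCompl M).mpr
    fun a z hz => ⟨1, one_mem _, by
      rw [one_smul]
      exact Module.Flat.lTensor_preserves_injective_linearMap a.subtype a.subtype_injective
        (hz.trans (map_zero _).symm)⟩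
  haveI : Module.Flat Rp M' := Algebra.FormallyUnramified.flat_of_restrictScalars R Rp M'
  have hs : Function.Surjective (algebraMap S₁ SQ) := by
    intro y
    obtain ⟨a, ⟨t, ht⟩, rfl⟩ := IsLocalization.exists_mk'_eq Q.primeCompl y
    obtain ⟨a, rfl⟩ := hsurj a
    obtain ⟨t, rfl⟩ := hsurj t
    refine ⟨IsLocalization.mk' S₁ a (⟨t, fun h => ht (by rwa [hQ₁Q] at h)⟩ : Q₁.primeCompl), ?_⟩
    rw [IsLocalization.eq_mk'_iff_mul_eq, ← t4, ← t4, ← map_mul, IsLocalization.mk'_spec]
  have hmax : (maximalIdeal Rp).map (algebraMap Rp S₁) = p.map (algebraMap R S₁) := by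
    rw [← Localization.AtPrime.map_eq_maximalIdeal, Ideal.map_map, ← IsScalarTower.algebraMap_eq]
  have hk : RingHom.ker (algebraMap S₁ SQ) ≤ (maximalIdeal Rp).map (algebraMap Rp S₁) := by
    intro y hy
    obtain ⟨a, t, rfl⟩ := IsLocalization.exists_mk'_eq Q₁.primeCompl y
    rw [hmax, IsScalarTower.algebraMap_eq R A S₁, ← Ideal.map_map, IsLocalization.mk'_mem_map_algebraMap_iff Q₁.primeCompl]
    have h0 : algebraMap S SQ (algebraMap A S a) = 0 := by
      rw [← t4, ← IsLocalization.mk'_spec S₁ a t, map_mul, RingHom.mem_ker.mp hy, zero_mul]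
    obtain ⟨⟨u, hu⟩, hua⟩ := (IsLocalization.map_eq_zero_iff Q.primeCompl SQ _).mp h0
    obtain ⟨u, rfl⟩ := hsurj u
    obtain ⟨c, hc, hcu⟩ := hker (u * a) (by rw [map_mul]; exact hua)
    refine ⟨algebraMap R A c * u, Q₁.primeCompl.mul_mem (fun h => hc (hpQ₁ ▸ Ideal.mem_comap.mpr h))
      (fun h => hu (by rwa [hQ₁Q] at h)), ?_⟩
    rwa [mul_assoc]
  have hfib' : Module.Flat (SQ ⧸ (maximalIdeal Rp).map (algebraMap Rp SQ))
      ((SQ ⧸ (maximalIdeal Rp).map (algebraMap Rp SQ)) ⊗[SQ] M') := by
    let E := SQ ⧸ (maximalIdeal Rp).map (algebraMap Rp SQ)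
    haveI := hfib
    haveI : Module.Flat E (E ⊗[S] M) := by
      refine ModMax.flat_baseChange_of_ker_le (R₀ := S ⧸ p.map (algebraMap R S))
        Ideal.Quotient.mk_surjective ?_
      rw [Ideal.Quotient.algebraMap_eq, Ideal.mk_ker, Ideal.map_le_iff_le_comap]
      intro r hr
      show algebraMap S E (algebraMap R S r) = 0
      rw [IsScalarTower.algebraMap_apply S SQ E, ← t2, Ideal.Quotient.algebraMap_eq,
        Ideal.Quotient.eq_zero_iff_mem]
      exact Ideal.mem_map_of_mem _ (by
        rw [← Localization.AtPrime.map_eq_maximalIdeal]; exact Ideal.mem_map_of_mem _ hr)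
    haveI : Module.Flat E (E ⊗[S] M') :=
      flat_baseChange_localized (A := S) Q'.primeCompl (LocalizedModule.mkLinearMap Q'.primeCompl M)
    haveI := isLocalizedModule_id Q.primeCompl M' SQ
    exact Module.Flat.of_linearEquiv
      ((AlgebraTensorModule.congr (LinearEquiv.refl E E)
        (IsLocalizedModule.isBaseChange Q.primeCompl SQ (LinearMap.id : M' →ₗ[S] M')).equiv.symm) ≪≫ₗ
        AlgebraTensorModule.cancelBaseChange S SQ E E M')
  haveI := flat_of_surjective (R := Rp) (S₁ := S₁) (S := SQ) (S' := S₂) (M := M')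
    (isEssFP_atPrime Q₁ p hpQ₁.symm) (isEssFP_atPrime Q' p hp) hs hk hfib'
  exact Module.Flat.trans S SQ M'

end Groth.Agent.H7Flat.NilFibreFlat
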