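import Groth.Agent.H7Flat.FlatAtFinite

/-!
Localization comparisons along the maps of an elementary dévissage.
-/

set_option autoImplicit false
universe u
open TensorProduct FlatMor

namespace Groth.Agent.H7Flat.DevissageLoc

open Groth.Agent.H7Flat.FlatAtFinite

set_option backward.isDefEq.respectTransparency false

/-- Flatness of a localization only depends on the image of the monoid up to divisibility. -/
theorem flat_localizedModule_comap {R S C : Type u} [CommRing R] [CommRing S] [CommRing C] [Algebra R S]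
    [Algebra S C] [Algebra R C] [IsScalarTower R S C] (G : Type u) [AddCommGroup G] [Module C G]
    [Module S G] [IsScalarTower S C G] [Module R G] [IsScalarTower R C G] [IsScalarTower R S G]
    (T : Submonoid S) (T' : Submonoid C) (h1 : ∀ t ∈ T, algebraMap S C t ∈ T')
    (h2 : ∀ c ∈ T', ∃ t ∈ T, c ∣ algebraMap S C t) :
    Module.Flat R (LocalizedModule T G) ↔ Module.Flat R (LocalizedModule T' G) := by
  rw [flat_localizedModule_iff, flat_localizedModule_iff]
  refine forall_congr' fun a => forall_congr' fun z => imp_congr_right fun _ =>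
    ⟨fun ⟨t, ht, htz⟩ => ⟨_, h1 t ht, by rw [algebraMap_smul]; exact htz⟩, fun ⟨c, hc, hcz⟩ => ?_⟩
  obtain ⟨t, ht, d, hd⟩ := h2 c hc
  exact ⟨t, ht, by rw [← algebraMap_smul C t, hd, mul_comm, mul_smul, hcz, smul_zero]⟩

/-- Outside the unique prime over `y` every element divides the image of an element outside `y`. -/
theorem exists_notMem_dvd {D C : Type u} [CommRing D] [CommRing C] [Algebra D C] [Algebra.IsIntegral D C]
    (y : Ideal D) [y.IsPrime] (z : Ideal C) [z.IsPrime]
    (uniq : ∀ (z₁ : Ideal C) [z₁.IsPrime], z₁.LiesOver y → z₁ = z) (c : C) (hc : c ∉ z) :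
    ∃ d : D, d ∉ y ∧ c ∣ algebraMap D C d := by
  by_contra! h
  obtain ⟨z₁, hz₁, hp, hzy⟩ := Ideal.exists_ideal_over_prime_of_isIntegral y (Ideal.span {c}) (fun d hd => by
    by_contra hdy
    exact h d hdy (Ideal.mem_span_singleton.mp hd))
  haveI := hp
  exact hc (uniq z₁ ⟨hzy.symm⟩ ▸ hz₁ (Ideal.mem_span_singleton_self c))

/-- A localization at an element is flat iff all localizations at primes of the basic open are. -/
theorem flat_away_iff {R S : Type u} [CommRing R] [CommRing S] [Algebra R S] (g : S) (N : Type u)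
    [AddCommGroup N] [Module S N] [Module R N] [IsScalarTower R S N] :
    Module.Flat R (LocalizedModule (Submonoid.powers g) N) ↔
      ∀ (q : Ideal S) [q.IsPrime], g ∉ q → FlatCA.FlatAt R q N := by
  simp only [FlatCA.FlatAt, flat_localizedModule_iff]
  constructor
  · intro h q _ hq a z hz
    obtain ⟨s, ⟨k, rfl⟩, hs⟩ := h a z hz
    exact ⟨g ^ k, fun hk => hq (Ideal.IsPrime.mem_of_pow_mem ‹_› k hk), hs⟩
  · intro h a z hz
    have hrad : g ∈ ((Submodule.span S {z}).annihilator).radical := by
      rw [Ideal.radical_eq_sInf, Submodule.mem_sInf]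
      rintro q ⟨hJ, hq⟩
      by_contra hgq
      haveI := hq
      obtain ⟨s, hs, hsz⟩ := h q hgq a z hz
      exact hs (hJ ((Submodule.mem_annihilator_span_singleton z _).mpr hsz))
    obtain ⟨k, hk⟩ := hrad
    exact ⟨g ^ k, ⟨k, rfl⟩, (Submodule.mem_annihilator_span_singleton z _).mp hk⟩

/-- Flatness over an etale extension of the base is flatness over the base. -/
theorem flat_localizedModule_etale_iff {R R' S : Type u} [CommRing R] [CommRing R'] [CommRing S]
    [Algebra R R'] [Algebra.Etale R R'] [Algebra R S] [Algebra R' S] [IsScalarTower R R' S]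
    (N : Type u) [AddCommGroup N] [Module S N] [Module R N] [Module R' N] [IsScalarTower R S N]
    [IsScalarTower R' S N] [IsScalarTower R R' N] (T : Submonoid S) :
    Module.Flat R (LocalizedModule T N) ↔ Module.Flat R' (LocalizedModule T N) := by
  have : IsScalarTower R R' (LocalizedModule T N) := IsScalarTower.of_algebraMap_smul fun r x => by
    induction x using LocalizedModule.induction_on with
    | _ m s => rw [LocalizedModule.smul'_mk, LocalizedModule.smul'_mk, algebraMap_smul]
  exact ⟨fun _ => Algebra.FormallyUnramified.flat_of_restrictScalars R R' (LocalizedModule T N),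
    fun _ => Module.Flat.trans R R' (LocalizedModule T N)⟩

/-- The image of a neighbourhood under an etale map is a neighbourhood. -/
theorem exists_basicOpen_le_image {S S' : Type u} [CommRing S] [CommRing S'] [Algebra S S']
    [Algebra.Etale S S'] (q' : Ideal S') [q'.IsPrime] (s : S') (hs : s ∉ q') :
    ∃ g : S, g ∉ q'.comap (algebraMap S S') ∧ ∀ (q : Ideal S) [q.IsPrime], g ∉ q →
      ∃ (Q : Ideal S') (_ : Q.IsPrime), s ∉ Q ∧ Q.comap (algebraMap S S') = q := by
  haveI : Module.Flat S S' := inferInstance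
  have ho := PrimeSpectrum.isOpenMap_comap_of_hasGoingDown_of_finitePresentation (R := S) (S := S')
    _ (PrimeSpectrum.basicOpen s).isOpen
  have hmem : (⟨q'.comap (algebraMap S S'), inferInstance⟩ : PrimeSpectrum S) ∈
      PrimeSpectrum.comap (algebraMap S S') '' (PrimeSpectrum.basicOpen s : Set _) :=
    ⟨⟨q', ‹_›⟩, hs, rfl⟩
  obtain ⟨_, ⟨_, ⟨g, rfl⟩, rfl⟩, hg, hle⟩ :=
    PrimeSpectrum.isBasis_basic_opens.exists_subset_of_mem_open hmem ho
  refine ⟨g, hg, fun q hq hgq => ?_⟩
  obtain ⟨Q, hsQ, hQ⟩ := hle (show (⟨q, hq⟩ : PrimeSpectrum S) ∈ PrimeSpectrum.basicOpen g from hgq)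
  exact ⟨Q.asIdeal, Q.isPrime, hsQ, congrArg PrimeSpectrum.asIdeal hQ⟩

end Groth.Agent.H7Flat.DevissageLoc
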