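import Groth.Agent.H02CA.WeakAss
import Mathlib

/-!
Weakly associated primes along finite flat ring maps.
-/

namespace Groth.Agent.H7Flat.WeakAssFinite

open TensorProduct Groth.Agent.H02CA

universe u

variable {A B : Type u} [CommRing A] [CommRing B] [Algebra A B] {M : Type u} [AddCommGroup M]
  [Module A M]

theorem mem_weakAss_pi {ι : Type*} [Fintype ι] {p : Ideal A}
    (h : p ∈ FlatCA.weakAss A (ι → M)) : p ∈ FlatCA.weakAss A M := by
  obtain ⟨z, hz⟩ := h
  have hinf : Finset.univ.inf (fun i => annEl A (z i)) ≤ p := by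
    refine le_trans (fun r hr => ?_) hz.1.2
    refine mem_annEl.mpr (funext fun i => ?_)
    exact mem_annEl.mp (Finset.inf_le (f := fun i => annEl A (z i)) (Finset.mem_univ i) hr)
  obtain ⟨i, -, hi⟩ := (Ideal.IsPrime.inf_le' hz.1.1).mp hinf
  refine ⟨z i, ⟨⟨hz.1.1, hi⟩, fun q hq hqp => hz.2 ⟨hq.1, fun r hr => hq.2 ?_⟩ hqp⟩⟩
  exact mem_annEl.mpr (congrFun (mem_annEl.mp hr) i)

theorem eq_of_le_of_comap_eq [Module.Finite A B] {Q t : Ideal B} [Q.IsPrime] (h : Q ≤ t)
    (e : Q.comap (algebraMap A B) = t.comap (algebraMap A B)) : Q = t := by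
  by_contra hne
  obtain ⟨x, hxt, hxQ⟩ := SetLike.exists_of_lt (lt_of_le_of_ne h hne)
  exact (Ideal.comap_lt_comap_of_integral_mem_sdiff h ⟨hxt, hxQ⟩
    (Algebra.IsIntegral.isIntegral x)).ne e

variable (A B M) in
theorem mem_weakAss_of_tensor [Module.Finite A B] [Module.Flat A B] (p : Ideal A) [p.IsPrime]
    (t : Ideal B) [t.IsPrime] [t.LiesOver p] (ht : t ∈ FlatCA.weakAss B (B ⊗[A] M)) :
    p ∈ FlatCA.weakAss A M := by
  classical
  have htp : t.comap (algebraMap A B) = p := (Ideal.LiesOver.over (P := t) (p := p)).symm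
  obtain ⟨z, hz⟩ := ht
  let J := annEl B z
  have hfin : (p.primesOver B).Finite := Algebra.QuasiFinite.finite_primesOver p
  let T' := hfin.toFinset.erase t
  let S : Submonoid B :=
    { carrier := {s | ∀ T ∈ T', s ∉ T}
      one_mem' := fun T hT h =>
        (hfin.mem_toFinset.mp (Finset.mem_of_mem_erase hT)).1.ne_top
          ((Ideal.eq_top_iff_one T).mpr h)
      mul_mem' := fun ha hb T hT h =>
        ((hfin.mem_toFinset.mp (Finset.mem_of_mem_erase hT)).1.mem_or_mem h).elim (ha T hT)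
          (hb T hT) }
  let K : Ideal B :=
    { carrier := {e | ∃ s ∈ S, s * e ∈ J}
      zero_mem' := ⟨1, S.one_mem, by simp⟩
      add_mem' := by
        rintro a b ⟨s, hs, ha⟩ ⟨r, hr, hb⟩
        refine ⟨s * r, S.mul_mem hs hr, ?_⟩
        rw [show s * r * (a + b) = r * (s * a) + s * (r * b) by ring]
        exact add_mem (J.mul_mem_left _ ha) (J.mul_mem_left _ hb)
      smul_mem' := by
        rintro c a ⟨s, hs, ha⟩
        exact ⟨s, hs, by rw [smul_eq_mul, mul_left_comm]; exact J.mul_mem_left _ ha⟩ }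
  obtain ⟨e, ⟨s, hs, hse⟩, het⟩ : ∃ e ∈ K, e ∉ t := by
    by_contra hcon
    push Not at hcon
    have hKt : K ≤ t := hcon
    obtain ⟨Q, hQ, hQt⟩ := Ideal.exists_minimalPrimes_le hKt
    have := hQ.1.1
    have hJQ : J ≤ Q := fun x hx => hQ.1.2 ⟨1, S.one_mem, by simpa using hx⟩
    have hQeq : Q = t := le_antisymm hQt (hz.2 ⟨hQ.1.1, hJQ⟩ hQt)
    have hsub : (Q : Set B) ⊆ ⋃ T ∈ (T' : Set (Ideal B)), (T : Set B) := by
      intro x hx
      by_contra hxT
      obtain ⟨n, y, hy, hyx⟩ := ((minimalPrimes_iff K Q).mp hQ).2.2 x hx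
      obtain ⟨r, hr, hrJ⟩ := hyx
      have hxS : x ∈ S := fun T hT h => hxT (Set.mem_biUnion hT h)
      exact hy (hQ.1.2 ⟨r * x ^ n, S.mul_mem hr (S.pow_mem hxS n),
        by rw [mul_assoc, mul_comm (x ^ n)]; exact hrJ⟩)
    obtain ⟨T, hT, hle⟩ := (Ideal.subset_union_prime (f := fun T : Ideal B => T) ⊤ ⊤
      (fun T hT _ _ => (hfin.mem_toFinset.mp (Finset.mem_of_mem_erase hT)).1)).mp hsub
    refine (Finset.mem_erase.mp hT).1 (eq_of_le_of_comap_eq (A := A) (hQeq ▸ hle) ?_).symm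
    have hTp := (hfin.mem_toFinset.mp (Finset.mem_of_mem_erase hT)).2.over
    rw [htp]
    exact hTp
  have hez : ∀ b, b ∈ annEl B (e • z) ↔ b * e ∈ J := fun b => by
    rw [mem_annEl, mem_annEl, mul_smul]
  have hs' : s ∈ annEl B (e • z) := (hez s).mpr hse
  have hJle : J ≤ annEl B (e • z) := fun b hb => (hez b).mpr (J.mul_mem_right e hb)
  have hle : annEl B (e • z) ≤ t := fun b hb =>
    (Ideal.IsPrime.mem_or_mem ‹t.IsPrime› (hz.1.2 ((hez b).mp hb))).resolve_right het
  have hA : p ∈ FlatCA.weakAss A (B ⊗[A] M) := by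
    refine ⟨e • z, ⟨⟨inferInstance, ?_⟩, ?_⟩⟩
    · change annEl A (e • z) ≤ p
      rw [annEl_restrictScalars (A := B), ← htp]
      exact Ideal.comap_mono hle
    · rintro p' ⟨hp', hann⟩ hp'p
      have := hp'
      change annEl A (e • z) ≤ p' at hann
      rw [annEl_restrictScalars (A := B)] at hann
      obtain ⟨Q, hQ, hQp, hQc⟩ :=
        Ideal.exists_ideal_over_prime_of_isIntegral p' (annEl B (e • z)) hann
      have := hQp
      obtain ⟨T, hQT, hTp, hTc⟩ :=
        Ideal.exists_ideal_over_prime_of_isIntegral p Q (hQc.trans_le hp'p)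
      have := hTp
      by_cases hTt : T = t
      · have hQt : Q = t := le_antisymm (hTt ▸ hQT)
          (hz.2 ⟨hQp, hJle.trans hQ⟩ (hTt ▸ hQT))
        rw [← hQc, hQt, htp]
      · exfalso
        refine hs T (Finset.mem_erase.mpr ⟨hTt, hfin.mem_toFinset.mpr ⟨hTp, ⟨hTc.symm⟩⟩⟩) ?_
        exact hQT (hQ hs')
  let L := Localization.AtPrime p
  have : Module.Flat L (L ⊗[A] B) := Module.Flat.baseChange A L B
  have : Module.Free L (L ⊗[A] B) := Module.free_of_flat_of_isLocalRing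
  let b := Module.Free.chooseBasis L (L ⊗[A] B)
  let e₁ : LocalizedModule p.primeCompl (B ⊗[A] M) ≃ₗ[A] L ⊗[A] (B ⊗[A] M) :=
    have : IsLocalizedModule p.primeCompl (TensorProduct.mk A L (B ⊗[A] M) 1) :=
      (isLocalizedModule_iff_isBaseChange p.primeCompl L _).mpr (TensorProduct.isBaseChange A _ L)
    IsLocalizedModule.linearEquiv p.primeCompl
      (LocalizedModule.mkLinearMap p.primeCompl (B ⊗[A] M)) (TensorProduct.mk A L _ 1)
  let e₂ : LocalizedModule p.primeCompl M ≃ₗ[A] L ⊗[A] M :=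
    have : IsLocalizedModule p.primeCompl (TensorProduct.mk A L M 1) :=
      (isLocalizedModule_iff_isBaseChange p.primeCompl L _).mpr (TensorProduct.isBaseChange A _ L)
    IsLocalizedModule.linearEquiv p.primeCompl
      (LocalizedModule.mkLinearMap p.primeCompl M) (TensorProduct.mk A L _ 1)
  let e₃ : L ⊗[A] (B ⊗[A] M) ≃ₗ[A] (_ → LocalizedModule p.primeCompl M) :=
    (TensorProduct.assoc A L B M).symm ≪≫ₗ
      TensorProduct.congr (b.equivFun.restrictScalars A) (LinearEquiv.refl A M) ≪≫ₗ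
      TensorProduct.comm A _ M ≪≫ₗ TensorProduct.piRight A A M (fun _ => L) ≪≫ₗ
      LinearEquiv.piCongrRight (fun _ => TensorProduct.comm A M L ≪≫ₗ e₂.symm)
  have hd : Disjoint (p.primeCompl : Set A) (p : Set A) :=
    Set.disjoint_left.mpr fun _ h h' => h h'
  rw [← mem_weakAss_localizedModule_iff p.primeCompl hd] at hA ⊢
  exact mem_weakAss_pi (weakAss_mono _ (e₁ ≪≫ₗ e₃).injective hA)

variable (A B M) in
theorem tensor_mem_weakAss [Module.Finite A B] [Module.Flat A B] (p : Ideal A) [p.IsPrime]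
    (t : Ideal B) [t.IsPrime] [t.LiesOver p] (hp : p ∈ FlatCA.weakAss A M) :
    t ∈ FlatCA.weakAss B (B ⊗[A] M) := by
  have htp : t.comap (algebraMap A B) = p := (Ideal.LiesOver.over (P := t) (p := p)).symm
  obtain ⟨x, hx⟩ := hp
  let I := annEl A x
  refine ⟨(1 : B) ⊗ₜ x, ⟨⟨inferInstance, fun b hb => ?_⟩, ?_⟩⟩
  · have hb' : b • ((1 : B) ⊗ₜ[A] x) = 0 := mem_annEl.mp hb
    rw [smul_tmul', smul_eq_mul, mul_one] at hb'
    let g : A ⧸ I →ₗ[A] M := Submodule.liftQ I (LinearMap.toSpanSingleton A M x)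
      fun a ha => mem_annEl.mp ha
    have hg : Function.Injective g := by
      rw [← LinearMap.ker_eq_bot]
      refine Submodule.ker_liftQ_eq_bot _ _ _ fun a ha => ?_
      exact mem_annEl.mpr ha
    have h0 : (b ⊗ₜ[A] Ideal.Quotient.mk I 1 : B ⊗[A] (A ⧸ I)) = 0 := by
      apply Module.Flat.lTensor_preserves_injective_linearMap (M := B) g hg
      rw [map_zero, LinearMap.lTensor_tmul]
      rw [show g (Ideal.Quotient.mk I 1) = x from one_smul A x]
      exact hb'
    have h1 := congrArg (TensorProduct.tensorQuotEquivQuotSMul B I) h0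
    rw [TensorProduct.tensorQuotEquivQuotSMul_tmul_mk, map_zero, one_smul,
      Submodule.Quotient.mk_eq_zero] at h1
    have hIt : I.map (algebraMap A B) ≤ t :=
      Ideal.map_le_iff_le_comap.mpr (htp.symm ▸ hx.1.2)
    apply hIt
    rwa [Ideal.smul_top_eq_map, Submodule.restrictScalars_mem] at h1
  · rintro Q ⟨hQ, hann⟩ hQt
    have := hQ
    have hIQ : I ≤ Q.comap (algebraMap A B) := fun a ha => hann (mem_annEl.mpr (by
      rw [algebraMap_smul, ← tmul_smul, mem_annEl.mp ha, tmul_zero]))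
    have hc : Q.comap (algebraMap A B) = p :=
      le_antisymm (htp ▸ Ideal.comap_mono hQt)
        (hx.2 ⟨inferInstance, hIQ⟩ (htp ▸ Ideal.comap_mono hQt))
    rw [eq_of_le_of_comap_eq (A := A) hQt (hc.trans htp.symm)]

end Groth.Agent.H7Flat.WeakAssFinite
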