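import Groth.Agent.H7Flat.WeakAssFinite
import Mathlib

/-!
Weakly associated primes along localizations and étale ring maps.
-/

namespace Groth.Agent.H7Flat.WeakAssEtale

open TensorProduct Groth.Agent.H02CA

universe u

set_option backward.isDefEq.respectTransparency false in
theorem mem_weakAss_localization_iff {A B B' : Type u} [CommRing A] [CommRing B] [CommRing B']
    [Algebra A B] [Algebra A B'] [Algebra B B'] [IsScalarTower A B B'] (S : Submonoid B)
    [IsLocalization S B'] (M : Type u) [AddCommGroup M] [Module A M] (Q : Ideal B') [Q.IsPrime] :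
    Q ∈ FlatCA.weakAss B' (B' ⊗[A] M) ↔
      Q.comap (algebraMap B B') ∈ FlatCA.weakAss B (B ⊗[A] M) := by
  have h1 : Q ∈ FlatCA.weakAss B' (B' ⊗[A] M) ↔
      Q.comap (algebraMap B B') ∈ FlatCA.weakAss B (B' ⊗[A] M) := by
    rw [annEl_localization S B' (M := B' ⊗[A] M)]
    refine ⟨fun h => ⟨Q, h, rfl⟩, fun ⟨P, hP, e⟩ => ?_⟩
    rwa [← IsLocalization.map_under S B' Q, Ideal.under, ← e, ← Ideal.under,
      IsLocalization.map_under S B' P]
  have : IsLocalizedModule S (TensorProduct.mk B B' (B ⊗[A] M) 1) :=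
    (isLocalizedModule_iff_isBaseChange S B' _).mpr (TensorProduct.isBaseChange B (B ⊗[A] M) B')
  let e : LocalizedModule S (B ⊗[A] M) ≃ₗ[B] B' ⊗[A] M :=
    IsLocalizedModule.linearEquiv S (LocalizedModule.mkLinearMap S (B ⊗[A] M))
        (TensorProduct.mk B B' _ 1) ≪≫ₗ
      (AlgebraTensorModule.cancelBaseChange A B B' B' M).restrictScalars B
  have hd : Disjoint (S : Set B) (Q.comap (algebraMap B B') : Set B) :=
    Set.disjoint_left.mpr fun s hs hsQ =>
      Ideal.IsPrime.ne_top ‹Q.IsPrime› (Ideal.eq_top_of_isUnit_mem Q hsQ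
        (IsLocalization.map_units B' ⟨s, hs⟩))
  rw [h1, ← mem_weakAss_localizedModule_iff (M := B ⊗[A] M) S hd]
  let el : LocalizedModule S (B ⊗[A] M) →ₗ[B] B' ⊗[A] M := e.toLinearMap
  let el' : B' ⊗[A] M →ₗ[B] LocalizedModule S (B ⊗[A] M) := e.symm.toLinearMap
  have hel : Function.Injective el := e.injective
  have hel' : Function.Injective el' := e.symm.injective
  have s1 := @weakAss_mono B _ (B' ⊗[A] M) _ _ (LocalizedModule S (B ⊗[A] M)) _ _ el' hel'
  have s2 := @weakAss_mono B _ (LocalizedModule S (B ⊗[A] M)) _ _ (B' ⊗[A] M) _ _ el hel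
  exact ⟨fun h => s1 h, fun h => s2 h⟩

theorem mem_weakAss_etale_iff {A B : Type u} [CommRing A] [CommRing B] [Algebra A B]
    [Algebra.Etale A B] (M : Type u) [AddCommGroup M] [Module A M] (p : Ideal A) [p.IsPrime]
    (u : Ideal B) [u.IsPrime] [u.LiesOver p] :
    u ∈ FlatCA.weakAss B (B ⊗[A] M) ↔ p ∈ FlatCA.weakAss A M := by
  obtain ⟨f, hf, hst⟩ := Algebra.IsEtaleAt.exists_isStandardEtale (R := A) u
  let B' := Localization.Away f
  obtain ⟨P⟩ := Algebra.IsStandardEtale.nonempty_standardEtalePresentation (R := A) (S := B')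
  have hdis : Disjoint (Submonoid.powers f : Set B) (u : Set B) :=
    Set.disjoint_left.mpr fun x ⟨n, hn⟩ hx =>
      hf (Ideal.IsPrime.mem_of_pow_mem ‹_› n (by rw [show f ^ n = x from hn]; exact hx))
  let Q : Ideal B' := u.map (algebraMap B B')
  have hQ : Q.IsPrime :=
    IsLocalization.isPrime_of_isPrime_disjoint (Submonoid.powers f) B' u ‹_› hdis
  have hQc : Q.comap (algebraMap B B') = u :=
    IsLocalization.under_map_of_isPrime_disjoint (Submonoid.powers f) B' ‹_› hdis
  let e : B' ≃ₐ[A] Localization.Away (AdjoinRoot.mk P.f P.g) :=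
    P.equivRing.trans P.P.equivAwayAdjoinRoot
  let C := AdjoinRoot P.f
  let : Algebra C B' :=
    ((e.symm : _ →+* B').comp (algebraMap C (Localization.Away (AdjoinRoot.mk P.f P.g)))).toAlgebra
  have : IsScalarTower A C B' := IsScalarTower.of_algebraMap_eq fun a => by
    change algebraMap A B' a =
      e.symm (algebraMap C (Localization.Away (AdjoinRoot.mk P.f P.g)) (algebraMap A C a))
    rw [← IsScalarTower.algebraMap_apply, e.symm.commutes]
  have : IsLocalization (Submonoid.powers (AdjoinRoot.mk P.f P.g)) B' :=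
    IsLocalization.isLocalization_of_algEquiv _
      (AlgEquiv.ofRingEquiv (R := C) (f := e.symm.toRingEquiv) fun _ => rfl)
  have : Module.Finite A C := P.monic_f.finite_adjoinRoot
  have : Module.Free A C := P.monic_f.free_adjoinRoot
  have : (Q.comap (algebraMap C B')).LiesOver p := ⟨by
    rw [Ideal.under, Ideal.comap_comap, ← IsScalarTower.algebraMap_eq,
      IsScalarTower.algebraMap_eq A B B', ← Ideal.comap_comap, hQc]
    exact Ideal.LiesOver.over⟩
  rw [← hQc, ← mem_weakAss_localization_iff (Submonoid.powers f) M Q,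
    mem_weakAss_localization_iff (Submonoid.powers (AdjoinRoot.mk P.f P.g)) M Q]
  exact ⟨WeakAssFinite.mem_weakAss_of_tensor A C M p _,
    WeakAssFinite.tensor_mem_weakAss A C M p _⟩

end Groth.Agent.H7Flat.WeakAssEtale
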