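import Mathlib
import Groth.Prelude.Def_Hens2

/-!
Etale localization of quasi-finite points: after an elementary etale neighbourhood of the base a
quasi-finite point has an open neighbourhood which is finite over the base with a single point over
the distinguished point (Stacks 02LK).
-/

universe u

open CategoryTheory Limits AlgebraicGeometry TopologicalSpace TensorProduct

namespace Groth.Agent.H7Flat

variable {X S U : Scheme.{u}}

theorem fibre_of_bijective_residueFieldMap (f : X ⟶ S) (g : U ⟶ S) (u : U)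
    (hu : Function.Bijective (g.residueFieldMap u)) :
    Set.InjOn (pullback.fst f g) {v | pullback.snd f g v = u} ∧
      ∀ v : ↑(pullback f g), pullback.snd f g v = u →
        Function.Bijective ((pullback.fst f g).residueFieldMap v) := by
  haveI : IsIso (g.residueFieldMap u) := (ConcreteCategory.isIso_iff_bijective _).mpr hu
  haveI hpre : IsPreimmersion (U.fromSpecResidueField u ≫ g) := by
    rw [← Scheme.Hom.SpecMap_residueFieldMap_fromSpecResidueField]
    infer_instance
  let j := (pullback.snd f g).fiberι u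
  haveI hj : IsPreimmersion (j ≫ pullback.fst f g) := by
    have h : j ≫ pullback.fst f g =
        (pullbackLeftPullbackSndIso f g (U.fromSpecResidueField u)).hom ≫
          pullback.fst f (U.fromSpecResidueField u ≫ g) :=
      (pullbackLeftPullbackSndIso_hom_fst f g (U.fromSpecResidueField u)).symm
    rw [h]
    have := MorphismProperty.pullback_fst (P := @IsPreimmersion) f (U.fromSpecResidueField u ≫ g) hpre
    exact IsPreimmersion.comp _ _
  have hmem : ∀ v, pullback.snd f g v = u → ∃ t, j t = v := fun v hv =>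
    (Scheme.Hom.range_fiberι (pullback.snd f g) u).ge hv
  refine ⟨fun a ha b hb hab => ?_, fun v hv => ?_⟩
  · obtain ⟨a, rfl⟩ := hmem a ha
    obtain ⟨b, rfl⟩ := hmem b hb
    exact congrArg j ((j ≫ pullback.fst f g).isEmbedding.injective hab)
  · obtain ⟨t, rfl⟩ := hmem v hv
    refine ⟨RingHom.injective ((pullback.fst f g).residueFieldMap (j t)).hom, fun y => ?_⟩
    have hs : Function.Surjective ((j ≫ pullback.fst f g).residueFieldMap t) := by
      intro z
      obtain ⟨z, rfl⟩ := Scheme.residue_surjective _ t z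
      obtain ⟨z, rfl⟩ := (j ≫ pullback.fst f g).stalkMap_surjective t z
      exact ⟨X.residue _ z, RingHom.congr_fun (congrArg CommRingCat.Hom.hom
        (Scheme.residue_residueFieldMap (j ≫ pullback.fst f g) t)) z⟩
    obtain ⟨a, ha⟩ := hs (j.residueFieldMap t y)
    rw [Scheme.residueFieldMap_comp] at ha
    exact ⟨a, RingHom.injective (j.residueFieldMap t).hom ha⟩

theorem residueFieldMap_surjective_of_mapₐ {A B : Type u} [CommRing A] [CommRing B] [Algebra A B]
    (p : Ideal A) [p.IsPrime] (q : PrimeSpectrum B) [q.asIdeal.LiesOver p]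
    (h : Function.Surjective (Ideal.ResidueField.mapₐ p q.asIdeal (Algebra.ofId A B)
      (q.asIdeal.over_def p))) :
    Function.Surjective
      ((Spec.map (CommRingCat.ofHom (algebraMap A B))).residueFieldMap q) := by
  obtain rfl : p = (q.comap (algebraMap A B)).asIdeal := q.asIdeal.over_def p
  let φ := CommRingCat.ofHom (algebraMap A B)
  let r : CommRingCat.of (q.comap (algebraMap A B)).asIdeal.ResidueField ⟶
      CommRingCat.of q.asIdeal.ResidueField :=
    (Scheme.Spec.residueFieldIso (.of A) (Spec.map φ q)).inv ≫ (Spec.map φ).residueFieldMap q ≫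
      (Scheme.Spec.residueFieldIso (.of B) q).hom
  have hcomm : φ ≫ CommRingCat.ofHom (algebraMap B q.asIdeal.ResidueField) =
      CommRingCat.ofHom (algebraMap A (q.comap (algebraMap A B)).asIdeal.ResidueField) ≫ r := by
    have h' : φ ≫ CommRingCat.ofHom (algebraMap B q.asIdeal.ResidueField) ≫
        (Scheme.Spec.residueFieldIso (.of B) q).inv =
        CommRingCat.ofHom (algebraMap A (q.comap (algebraMap A B)).asIdeal.ResidueField) ≫
          (Scheme.Spec.residueFieldIso (.of A) (Spec.map φ q)).inv ≫ (Spec.map φ).residueFieldMap q := by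
      refine Spec.map_injective ?_
      have hA := Scheme.Spec.map_residueFieldIso_inv_eq_fromSpecResidueField (.of A) (Spec.map φ q)
      have hB := Scheme.Spec.map_residueFieldIso_inv_eq_fromSpecResidueField (.of B) q
      have hn := Scheme.Hom.SpecMap_residueFieldMap_fromSpecResidueField (Spec.map φ) q
      refine ((Spec.map_comp _ _).trans (congrArg (fun t => t ≫ Spec.map φ)
        ((Spec.map_comp _ _).trans hB))).trans (hn.symm.trans ?_)
      refine (congrArg (fun t => Spec.map ((Spec.map φ).residueFieldMap q) ≫ t) hA.symm).trans ?_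
      refine (Category.assoc _ _ _).symm.trans (Eq.trans ?_ (Spec.map_comp _ _).symm)
      exact congrArg (fun t => t ≫ Spec.map (CommRingCat.ofHom
        (algebraMap A (q.comap (algebraMap A B)).asIdeal.ResidueField))) (Spec.map_comp _ _).symm
    have := congrArg (fun t => t ≫ (Scheme.Spec.residueFieldIso (.of B) q).hom) h'
    simp only [Category.assoc, Iso.inv_hom_id, Category.comp_id] at this
    exact this
  have heq : r.hom = (Ideal.ResidueField.mapₐ (q.comap (algebraMap A B)).asIdeal q.asIdeal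
      (Algebra.ofId A B) (q.asIdeal.over_def _)).toRingHom := by
    refine Ideal.ResidueField.ringHom_ext (RingHom.ext fun a => ?_)
    exact (RingHom.congr_fun (congrArg CommRingCat.Hom.hom hcomm) a).symm.trans
      ((IsScalarTower.algebraMap_apply A B q.asIdeal.ResidueField a).symm.trans
        (AlgHom.commutes (Ideal.ResidueField.mapₐ (q.comap (algebraMap A B)).asIdeal q.asIdeal
          (Algebra.ofId A B) (q.asIdeal.over_def _)) a).symm)
  intro y
  obtain ⟨x, hx⟩ := h ((Scheme.Spec.residueFieldIso (.of B) q).hom y)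
  exact ⟨(Scheme.Spec.residueFieldIso (.of A) (Spec.map φ q)).inv x,
    (ConcreteCategory.bijective_of_isIso (Scheme.Spec.residueFieldIso (.of B) q).hom).1
      ((RingHom.congr_fun heq x).trans hx)⟩

variable (f : X ⟶ S)

theorem exists_etaleNbhd_finite_part [LocallyOfFiniteType f] (x : X) (hx : f.QuasiFiniteAt x) :
    ∃ (U : Scheme.{u}) (g : U ⟶ S) (u : U), Hens2.IsEtaleNbhd g u (f x) ∧
      ∃ (V : (pullback f g).Opens) (v : ↑(pullback f g)), v ∈ V ∧
        IsFinite (V.ι ≫ pullback.snd f g) ∧ pullback.snd f g v = u ∧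
        (∀ w : ↑(pullback f g), w ∈ V → pullback.snd f g w = u → w = v) ∧
        pullback.fst f g v = x := by
  obtain ⟨_, ⟨U, hU, rfl⟩, hxU, -⟩ := S.isBasis_affineOpens.exists_subset_of_mem_open
    (Set.mem_univ (f x)) isOpen_univ
  obtain ⟨_, ⟨W, hW, rfl⟩, hxW, hle : W ≤ f ⁻¹ᵁ U⟩ :=
    X.isBasis_affineOpens.exists_subset_of_mem_open hxU (f ⁻¹ᵁ U).2
  have hft : (f.appLE U W hle).hom.FiniteType := f.finiteType_appLE hU hW hle
  algebraize [(f.appLE U W hle).hom]
  let ψ₀ := Spec.map (CommRingCat.ofHom (algebraMap Γ(S, U) Γ(X, W)))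
  have wψ : ψ₀ ≫ hU.fromSpec = hW.fromSpec ≫ f := IsAffineOpen.SpecMap_appLE_fromSpec f hU hW hle
  let p := hU.primeIdealOf ⟨f x, hxU⟩
  let q := hW.primeIdealOf ⟨x, hxW⟩
  have hqp : q.asIdeal.LiesOver p.asIdeal := by
    refine ⟨congrArg PrimeSpectrum.asIdeal (hU.fromSpec.isOpenEmbedding.injective
      (a₁ := p) (a₂ := ψ₀ q) ?_)⟩
    rw [hU.fromSpec_primeIdealOf, ← Scheme.Hom.comp_apply, wψ, Scheme.Hom.comp_apply,
      hW.fromSpec_primeIdealOf]
  have : Algebra.QuasiFiniteAt Γ(S, U) q.asIdeal := hx.quasiFiniteAt hW hU hle hxW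
  obtain ⟨R, _, _, _, P, hP, hPp, e, _, P', hP', hP'P, hP'q, heP', hbij, hfin, huniq⟩ :=
    Algebra.exists_etale_isIdempotentElem_forall_liesOver_eq p.asIdeal q.asIdeal
  let φ : Γ(S, U) ⟶ .of R := CommRingCat.ofHom (algebraMap Γ(S, U) R)
  have : Etale (Spec.map φ) := HasRingHomProperty.Spec_iff.mpr (RingHom.etale_algebraMap.mpr ‹_›)
  have : IsOpenImmersion hU.fromSpec := hU.isOpenImmersion_fromSpec
  have : IsOpenImmersion hW.fromSpec := hW.isOpenImmersion_fromSpec
  let g : Spec (.of R) ⟶ S := Spec.map φ ≫ hU.fromSpec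
  let u₀ : Spec (.of R) := ⟨P, hP⟩
  have hu₀ : Spec.map φ u₀ = p := PrimeSpectrum.ext hPp.over.symm
  let M : CommRingCat.{u} := .of (R ⊗[Γ(S, U)] Γ(X, W))
  let e₁ : Spec M ≅ pullback ψ₀ (Spec.map φ) := (pullbackSpecIso _ _ _).symm ≪≫ pullbackSymmetry _ _
  let c : Spec M ⟶ pullback f g :=
    e₁.hom ≫ pullback.map _ _ _ _ hW.fromSpec (𝟙 _) hU.fromSpec wψ (by simp [g])
  have : IsOpenImmersion c := by dsimp only [c]; infer_instance
  have hc1 : c ≫ pullback.fst f g = Spec.map (CommRingCat.ofHom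
      (Algebra.TensorProduct.includeRight : Γ(X, W) →ₐ[Γ(S, U)] _).toRingHom) ≫ hW.fromSpec := by
    simp only [c, Category.assoc, pullback.lift_fst]
    rw [← Category.assoc]
    congr 1
    simp only [e₁, Iso.trans_hom, Iso.symm_hom, Category.assoc]
    erw [pullbackSymmetry_hom_comp_fst]
    exact pullbackSpecIso_inv_snd ..
  have hc2 : c ≫ pullback.snd f g = Spec.map (CommRingCat.ofHom (algebraMap R M)) := by
    simp only [c, Category.assoc, pullback.lift_snd, Category.comp_id]
    simp only [e₁, Iso.trans_hom, Iso.symm_hom, Category.assoc]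
    erw [pullbackSymmetry_hom_comp_snd]
    exact pullbackSpecIso_inv_fst ..
  let ι : Spec (.of (Localization.Away e)) ⟶ pullback f g :=
    Spec.map (CommRingCat.ofHom (algebraMap M (Localization.Away e))) ≫ c
  have hι : ∀ Q : PrimeSpectrum (R ⊗[Γ(S, U)] Γ(X, W)), e ∉ Q.asIdeal → c Q ∈ ι.opensRange := by
    intro Q h
    obtain ⟨r, hr⟩ := (PrimeSpectrum.localization_away_comap_range (Localization.Away e) e).ge
      (show Q ∈ (PrimeSpectrum.basicOpen e : Set _) from h)
    exact ⟨r, congrArg c hr⟩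
  refine ⟨Spec (.of R), g, u₀, ⟨inferInstance, ?_, ?_⟩, ι.opensRange, c ⟨P', hP'⟩, hι _ heP', ?_, ?_,
    ?_, ?_⟩
  · show hU.fromSpec (Spec.map φ u₀) = f x
    rw [hu₀]
    exact hU.fromSpec_primeIdealOf ⟨f x, hxU⟩
  · refine ⟨RingHom.injective (g.residueFieldMap u₀).hom, ?_⟩
    have h2 : Function.Surjective ((Spec.map φ).residueFieldMap u₀) :=
      residueFieldMap_surjective_of_mapₐ p.asIdeal u₀ hbij.2
    show Function.Surjective ((Spec.map φ ≫ hU.fromSpec).residueFieldMap u₀)
    rw [Scheme.residueFieldMap_comp]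
    exact h2.comp (ConcreteCategory.bijective_of_isIso (hU.fromSpec.residueFieldMap _)).2
  · have he : ι.opensRange.ι = ι.isoOpensRange.inv ≫ ι := by
      rw [Iso.eq_inv_comp]; exact Scheme.Hom.isoOpensRange_hom_ι ι
    have : IsFinite (ι ≫ pullback.snd f g) := by
      rw [Category.assoc, hc2, ← Spec.map_comp, IsFinite.SpecMap_iff]
      have := RingHom.finite_algebraMap.mpr hfin
      rw [IsScalarTower.algebraMap_eq R (R ⊗[Γ(S, U)] Γ(X, W)) (Localization.Away e)] at this
      exact this
    rw [he, Category.assoc]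
    infer_instance
  · rw [← Scheme.Hom.comp_apply, hc2]
    exact PrimeSpectrum.ext hP'P.over.symm
  · rintro w ⟨r, rfl⟩ hw
    let Q : PrimeSpectrum (R ⊗[Γ(S, U)] Γ(X, W)) :=
      PrimeSpectrum.comap (algebraMap _ (Localization.Away e)) r
    have hQe : e ∉ Q.asIdeal :=
      (PrimeSpectrum.localization_away_comap_range (Localization.Away e) e).le ⟨r, rfl⟩
    change pullback.snd f g (c Q) = _ at hw
    rw [← Scheme.Hom.comp_apply, hc2] at hw
    have hQP : Q.asIdeal.LiesOver P := ⟨(congrArg PrimeSpectrum.asIdeal hw).symm⟩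
    exact congrArg c (PrimeSpectrum.ext (huniq Q.asIdeal Q.isPrime hQP hQe))
  · rw [← Scheme.Hom.comp_apply, hc1, Scheme.Hom.comp_apply]
    exact (congrArg hW.fromSpec (PrimeSpectrum.ext hP'q)).trans (hW.fromSpec_primeIdealOf ⟨x, hxW⟩)

variable {f}

theorem exists_finite_part_refine {U' : Scheme.{u}} {g : U ⟶ S} (h : U' ⟶ U) (g' : U' ⟶ S)
    (hg : h ≫ g = g') {u : U} {u' : U'} (hu : h u' = u)
    (hu' : Function.Bijective (g'.residueFieldMap u')) (x : X)
    {V : (pullback f g).Opens} {v : ↑(pullback f g)} (hv : v ∈ V)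
    [IsFinite (V.ι ≫ pullback.snd f g)] (hvu : pullback.snd f g v = u)
    (huniq : ∀ w : ↑(pullback f g), w ∈ V → pullback.snd f g w = u → w = v)
    (hvx : pullback.fst f g v = x) :
    ∃ (V' : (pullback f g').Opens) (v' : ↑(pullback f g')), v' ∈ V' ∧
        IsFinite (V'.ι ≫ pullback.snd f g') ∧ pullback.snd f g' v' = u' ∧
        (∀ w : ↑(pullback f g'), w ∈ V' → pullback.snd f g' w = u' → w = v') ∧
        pullback.fst f g' v' = x ∧ Function.Bijective ((pullback.fst f g').residueFieldMap v') := by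
  subst hg
  obtain ⟨hinj, hres⟩ := fibre_of_bijective_residueFieldMap f (h ≫ g) u' hu'
  let m : pullback f (h ≫ g) ⟶ pullback f g :=
    pullback.map _ _ _ _ (𝟙 X) h (𝟙 S) (by simp) (by simp)
  have hm : IsPullback m (pullback.snd f (h ≫ g)) (pullback.snd f g) h := by
    refine IsPullback.of_right ?_ (pullback.lift_snd _ _ _) (IsPullback.of_hasPullback f g)
    have : m ≫ pullback.fst f g = pullback.fst f (h ≫ g) :=
      (pullback.lift_fst _ _ _).trans (Category.comp_id _)
    rw [this]
    exact IsPullback.of_hasPullback f (h ≫ g)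
  have hfin : IsFinite ((m ⁻¹ᵁ V).ι ≫ pullback.snd f (h ≫ g)) :=
    MorphismProperty.of_isPullback ((isPullback_morphismRestrict m V).paste_vert hm) inferInstance
  obtain ⟨z, hz1, hz2⟩ : ∃ z, m z = v ∧ pullback.snd f (h ≫ g) z = u' := by
    obtain ⟨z, hz1, hz2⟩ := Scheme.Pullback.exists_preimage_pullback (f := pullback.snd f g) (g := h)
      v u' (by rw [hvu, hu])
    refine ⟨hm.isoPullback.inv z, ?_, ?_⟩
    · rw [← Scheme.Hom.comp_apply, hm.isoPullback_inv_fst, hz1]
    · rw [← Scheme.Hom.comp_apply, hm.isoPullback_inv_snd, hz2]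
  have hfst : ∀ w, pullback.fst f g (m w) = pullback.fst f (h ≫ g) w := fun w => by
    rw [← Scheme.Hom.comp_apply]
    exact congrArg (fun F : pullback f (h ≫ g) ⟶ X => F w)
      ((pullback.lift_fst _ _ _).trans (Category.comp_id _))
  refine ⟨m ⁻¹ᵁ V, z, show m z ∈ V from hz1 ▸ hv, hfin, hz2, fun w hw hwu => ?_,
    by rw [← hfst, hz1, hvx], hres z hz2⟩
  refine hinj hwu hz2 ?_
  rw [← hfst, ← hfst, hz1, huniq (m w) hw ?_]
  rw [← Scheme.Hom.comp_apply, hm.w, Scheme.Hom.comp_apply, hwu, hu]

theorem exists_etaleNbhd_finite_parts (f : X ⟶ S) [LocallyOfFiniteType f] (s : S) (n : ℕ)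
    (x : Fin n → X) (hs : ∀ i, f (x i) = s) (hx : ∀ i, f.QuasiFiniteAt (x i)) :
    ∃ (U : Scheme.{u}) (g : U ⟶ S) (u : U), Hens2.IsEtaleNbhd g u s ∧
      ∀ i, ∃ (V : (pullback f g).Opens) (v : ↑(pullback f g)), v ∈ V ∧
        IsFinite (V.ι ≫ pullback.snd f g) ∧ pullback.snd f g v = u ∧
        (∀ w : ↑(pullback f g), w ∈ V → pullback.snd f g w = u → w = v) ∧
        pullback.fst f g v = x i ∧ Function.Bijective ((pullback.fst f g).residueFieldMap v) := by
  induction n with
  | zero =>
    exact ⟨S, 𝟙 S, s, ⟨inferInstance, rfl, ConcreteCategory.bijective_of_isIso _⟩, fun i => i.elim0⟩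
  | succ n ih =>
    obtain ⟨U₁, g₁, u₁, hn₁, hV₁⟩ := ih (x ∘ Fin.castSucc) (fun i => hs _) (fun i => hx _)
    obtain ⟨U₂, g₂, u₂, hn₂, hV₂⟩ := exists_etaleNbhd_finite_part f (x (Fin.last n)) (hx _)
    obtain ⟨u₃, h1, h2⟩ := Scheme.Pullback.exists_preimage_pullback (f := g₁) (g := g₂) u₁ u₂
      (by rw [hn₁.base_eq, hn₂.base_eq, hs])
    haveI := hn₁.etale
    haveI := hn₂.etale
    let g₃ := pullback.fst g₁ g₂ ≫ g₁
    have hb : Function.Bijective (g₃.residueFieldMap u₃) := by
      rw [Scheme.residueFieldMap_comp]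
      exact ((fibre_of_bijective_residueFieldMap g₁ g₂ u₂ hn₂.residue_bijective).2 u₃ h2).comp
        (by
        have := hn₁.residue_bijective
        rw [← h1] at this
        exact this)
    refine ⟨pullback g₁ g₂, g₃, u₃, ⟨inferInstance, ?_, hb⟩, fun i => ?_⟩
    · show g₁ (pullback.fst g₁ g₂ u₃) = s
      rw [h1]
      exact hn₁.base_eq
    · induction i using Fin.lastCases with
      | last =>
        obtain ⟨V, v, hv, hfin, hvu, huniq, hvx⟩ := hV₂
        exact exists_finite_part_refine (pullback.snd g₁ g₂) g₃ pullback.condition.symm h2 hb _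
          hv hvu huniq hvx
      | cast j =>
        obtain ⟨V, v, hv, hfin, hvu, huniq, hvx, -⟩ := hV₁ j
        exact exists_finite_part_refine (pullback.fst g₁ g₂) g₃ rfl h1 hb _
          hv hvu huniq hvx

end Groth.Agent.H7Flat
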