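import Mathlib.AlgebraicGeometry.Morphisms.FormallyUnramified
import Mathlib.AlgebraicGeometry.Morphisms.ClosedImmersion
import Mathlib.RingTheory.Kaehler.TensorProduct
import Mathlib.RingTheory.Nakayama
import Mathlib.LinearAlgebra.TensorProduct.Quotient
import Mathlib.RingTheory.Finiteness.Basic

/-!
# Formal unramifiedness can be checked on a thickening of the base (finite type case)
-/

set_option autoImplicit false
set_option backward.isDefEq.respectTransparency false
set_option synthInstance.maxHeartbeats 100000

universe u

open AlgebraicGeometry CategoryTheory Limits TensorProduct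

namespace Groth.Agent.H7Flat

/-- For an essentially finite type algebra, formal unramifiedness can be checked modulo a nil ideal. -/
theorem formallyUnramified_of_quotient {A B : Type u} [CommRing A] [CommRing B] [Algebra A B]
    [Algebra.EssFiniteType A B] (I : Ideal A) (hI : I ≤ nilradical A)
    [Algebra.FormallyUnramified (A ⧸ I) ((A ⧸ I) ⊗[A] B)] : Algebra.FormallyUnramified A B := by
  letI := Algebra.TensorProduct.rightAlgebra (R := A) (A := A ⧸ I) (B := B)
  have e := KaehlerDifferential.tensorKaehlerEquivBase A (A ⧸ I) B ((A ⧸ I) ⊗[A] B)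
  haveI : Subsingleton ((A ⧸ I) ⊗[A] KaehlerDifferential A B) := e.toEquiv.subsingleton
  haveI : Subsingleton (KaehlerDifferential A B ⧸ I • (⊤ : Submodule A (KaehlerDifferential A B))) :=
    (TensorProduct.quotTensorEquivQuotSMul (KaehlerDifferential A B) I).symm.toEquiv.subsingleton
  have htop : I • (⊤ : Submodule A (KaehlerDifferential A B)) = ⊤ :=
    Submodule.Quotient.subsingleton_iff.mp inferInstance
  have hJ : I.map (algebraMap A B) • (⊤ : Submodule B (KaehlerDifferential A B)) = ⊤ := by
    rw [← Submodule.restrictScalars_eq_top_iff A, Ideal.smul_restrictScalars, Submodule.restrictScalars_top, htop]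
  refine ⟨?_⟩
  rw [← Submodule.subsingleton_iff B, ← subsingleton_iff_bot_eq_top]
  refine (Submodule.eq_bot_of_le_smul_of_le_jacobson_bot (I.map (algebraMap A B)) ⊤
    Module.Finite.fg_top hJ.ge ?_).symm
  refine (Ideal.map_le_iff_le_comap.2 fun a ha => ?_).trans
    (Ideal.radical_le_jacobson)
  exact mem_nilradical.2 ((mem_nilradical.1 (hI ha)).map _)

theorem formallyUnramified_of_mono {X Y : Scheme.{u}} (m : X ⟶ Y) [Mono m] : FormallyUnramified m := by
  haveI : IsIso (pullback.diagonal m) := (pullback.isIso_diagonal_iff m).2 inferInstance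
  infer_instance

/-- Formal unramifiedness of a morphism locally of finite type can be checked after a thickening of
the base. -/
theorem formallyUnramified_of_thickening {X' Y Y' : Scheme.{u}} (f : X' ⟶ Y') [LocallyOfFiniteType f]
    (i : Y ⟶ Y') [IsClosedImmersion i] [Surjective i] [hFU : FormallyUnramified (pullback.snd f i)] :
    FormallyUnramified f := by
  wlog hY : ∃ R, Y' = Spec R generalizing X' Y Y' with H
  · rw [IsZariskiLocalAtTarget.iff_of_openCover (P := @FormallyUnramified) Y'.affineCover]
    intro j
    show FormallyUnramified (pullback.snd f (Y'.affineCover.f j))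
    let f'' := pullback.snd f (Y'.affineCover.f j)
    let i'' := pullback.snd i (Y'.affineCover.f j)
    haveI : LocallyOfFiniteType f'' := inferInstanceAs (LocallyOfFiniteType (pullback.snd _ _))
    haveI : IsClosedImmersion i'' := MorphismProperty.pullback_snd _ _ inferInstance
    haveI : Surjective i'' := MorphismProperty.pullback_snd _ _ inferInstance
    let m : pullback f'' i'' ⟶ pullback f i :=
      pullback.map _ _ _ _ (pullback.fst _ _) (pullback.fst _ _) (Y'.affineCover.f j)
        (pullback.condition.symm) (pullback.condition.symm)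
    haveI : IsOpenImmersion m := by infer_instance
    haveI : FormallyUnramified (pullback.snd f'' i'' ≫ pullback.fst i (Y'.affineCover.f j)) := by
      rw [show pullback.snd f'' i'' ≫ pullback.fst i (Y'.affineCover.f j) = m ≫ pullback.snd f i from
        (pullback.lift_snd _ _ _).symm]
      exact MorphismProperty.comp_mem @FormallyUnramified _ _ (formallyUnramified_of_mono m) hFU
    haveI hU : FormallyUnramified (pullback.snd f'' i'') :=
      FormallyUnramified.of_comp _ (pullback.fst i (Y'.affineCover.f j))
    exact H f'' i'' ⟨_, rfl⟩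
  obtain ⟨R, rfl⟩ := hY
  wlog hX : ∃ S, X' = Spec S generalizing X' with H
  · rw [IsZariskiLocalAtSource.iff_of_openCover (P := @FormallyUnramified) X'.affineCover]
    intro j
    let m : pullback (X'.affineCover.f j ≫ f) i ⟶ pullback f i :=
      pullback.map _ _ _ _ (X'.affineCover.f j) (𝟙 _) (𝟙 _) (by simp) (by simp)
    haveI : IsOpenImmersion m := by infer_instance
    haveI hU : FormallyUnramified (pullback.snd (X'.affineCover.f j ≫ f) i) := by
      rw [show pullback.snd (X'.affineCover.f j ≫ f) i = m ≫ pullback.snd f i from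
        ((pullback.lift_snd _ _ _).trans (Category.comp_id _)).symm]
      exact MorphismProperty.comp_mem @FormallyUnramified _ _ (formallyUnramified_of_mono m) hFU
    exact H (X'.affineCover.f j ≫ f) ⟨_, rfl⟩
  obtain ⟨S, rfl⟩ := hX
  obtain ⟨φ, rfl : Spec.map φ = f⟩ := Spec.homEquiv.symm.surjective f
  obtain ⟨I, e, hi⟩ := IsClosedImmersion.Spec_iff.mp (show IsClosedImmersion i from inferInstance)
  algebraize [φ.hom]
  haveI : Algebra.FiniteType R S :=
    (HasRingHomProperty.Spec_iff (P := @LocallyOfFiniteType)).mp ‹_›
  let j := Spec.map (CommRingCat.ofHom (Ideal.Quotient.mk I))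
  have hI : I ≤ nilradical R := by
    intro a ha
    rw [nilradical_eq_sInf, Ideal.mem_sInf]
    intro P hP
    obtain ⟨y, hy⟩ := Scheme.Hom.surjective i (show Spec R from ⟨P, hP⟩)
    have hy' : j (e.hom y) = (⟨P, hP⟩ : PrimeSpectrum R) := by
      refine Eq.trans ?_ hy
      rw [hi]; rfl
    have : a ∈ (j (e.hom y) : PrimeSpectrum R).asIdeal := by
      show Ideal.Quotient.mk I a ∈ (e.hom y).asIdeal
      rw [Ideal.Quotient.eq_zero_iff_mem.2 ha]; exact zero_mem _
    have h3 : (j (e.hom y) : PrimeSpectrum R).asIdeal = P := congrArg PrimeSpectrum.asIdeal hy'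
    rw [h3] at this
    exact this
  haveI : FormallyUnramified (pullback.snd (Spec.map φ) j) := by
    let m : pullback (Spec.map φ) j ⟶ pullback (Spec.map φ) i :=
      pullback.map _ _ _ _ (𝟙 _) e.inv (𝟙 _) (by simp) (by simp [j, hi])
    haveI : IsIso m := by infer_instance
    have h : pullback.snd (Spec.map φ) j ≫ e.inv = m ≫ pullback.snd (Spec.map φ) i :=
      (pullback.lift_snd _ _ _).symm
    haveI : FormallyUnramified (pullback.snd (Spec.map φ) j ≫ e.inv) := by
      rw [h]; exact MorphismProperty.comp_mem @FormallyUnramified _ _ (formallyUnramified_of_mono m) hFU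
    exact FormallyUnramified.of_comp _ e.inv
  rw [HasRingHomProperty.Spec_iff (P := @FormallyUnramified)]
  have h2 : FormallyUnramified (Spec.map (CommRingCat.ofHom
      (Algebra.TensorProduct.includeLeftRingHom : R ⧸ I →+* (R ⧸ I) ⊗[R] S))) := by
    rw [← pullbackSpecIso_inv_fst R (R ⧸ I) S,
      MorphismProperty.cancel_left_of_respectsIso (P := @FormallyUnramified),
      ← pullbackSymmetry_hom_comp_snd, MorphismProperty.cancel_left_of_respectsIso (P := @FormallyUnramified)]
    exact ‹FormallyUnramified (pullback.snd (Spec.map φ) j)›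
  rw [HasRingHomProperty.Spec_iff (P := @FormallyUnramified)] at h2
  haveI : Algebra.FormallyUnramified (R ⧸ I) ((R ⧸ I) ⊗[R] S) :=
    RingHom.formallyUnramified_algebraMap.mp h2
  exact RingHom.formallyUnramified_algebraMap.mpr (formallyUnramified_of_quotient I hI)

end Groth.Agent.H7Flat
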