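import Groth.Agent.H7Flat.FibreRegular

/-!
Elements of a flat finitely presented module tensor anything are detected at the associated points
of the fibres.
-/

set_option autoImplicit false
universe u

namespace Groth.Agent.H7Flat.UnivInjCover

open TensorProduct FlatMor ImpurityDescend FibreRegular

attribute [local instance] Algebra.TensorProduct.rightAlgebra

set_option backward.isDefEq.respectTransparency false
set_option maxHeartbeats 1000000
set_option synthInstance.maxHeartbeats 400000

/-- The extension of a prime to the fibre ring is prime. -/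
theorem isPrime_fiberIdeal {R S : Type u} [CommRing R] [CommRing S] [Algebra R S] (p : Ideal R)
    [p.IsPrime] (q : Ideal S) [q.IsPrime] [q.LiesOver p] : (FlatCA.fiberIdeal p q).IsPrime := by
  let ψ : p.Fiber S →ₐ[R] q.ResidueField :=
    Algebra.TensorProduct.lift (Ideal.ResidueField.mapₐ p q (Algebra.ofId R S) (q.over_def p))
      (IsScalarTower.toAlgHom R S q.ResidueField) (fun _ _ => mul_comm _ _)
  have h : (RingHom.ker ψ.toRingHom).comap (algebraMap S (p.Fiber S)) = q := by
    ext s
    rw [Ideal.mem_comap, RingHom.mem_ker, ← Ideal.algebraMap_residueField_eq_zero (I := q)]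
    change ψ ((1 : p.ResidueField) ⊗ₜ[R] s) = 0 ↔ _
    simp [ψ]
  have h2 := fiberIdeal_comap p (RingHom.ker ψ.toRingHom)
  rw [h] at h2
  rw [h2]
  exact RingHom.ker_isPrime _

/-- A prime minimal over an ideal consists of elements nilpotent modulo it, at the prime. -/
theorem exists_mul_pow_mem {S : Type u} [CommRing S] {J q : Ideal S} (hq : q ∈ J.minimalPrimes)
    {x : S} (hx : x ∈ q) : ∃ c ∉ q, ∃ n, c * x ^ n ∈ J := by
  by_contra hne
  push Not at hne
  have : q.IsPrime := hq.1.1
  obtain ⟨P, hP, hJP, hdisj⟩ := Ideal.exists_le_prime_disjoint J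
    (q.primeCompl ⊔ Submonoid.powers x) (by
      rw [Set.disjoint_left]
      intro y hyJ hy
      obtain ⟨c, hc, w, hw, rfl⟩ := Submonoid.mem_sup.mp hy
      obtain ⟨n, rfl⟩ := hw
      exact hne c hc n hyJ)
  have hPq : P ≤ q := fun y hy => by
    by_contra h
    exact Set.disjoint_left.mp hdisj hy (Submonoid.mem_sup_left h)
  exact Set.disjoint_left.mp hdisj (hq.2 ⟨hP, hJP⟩ hPq hx)
    (Submonoid.mem_sup_right (Submonoid.mem_powers x))

/-- Away from the associated points of the fibre there is an element of the prime acting regularly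
on the fibre at the prime. -/
theorem exists_fiber_regular {R S : Type u} [CommRing R] [CommRing S] [Algebra R S]
    [Algebra.FiniteType R S] {N : Type u} [AddCommGroup N] [Module S N] [Module.Finite S N]
    (p : Ideal R) [p.IsPrime] (q : Ideal S) [q.IsPrime] [q.LiesOver p]
    (hq : FlatCA.fiberIdeal p q ∉ associatedPrimes (p.Fiber S) (FlatCA.fiberMod p S N)) :
    ∃ s ∈ q, ∀ x : FlatCA.fiberMod p S N,
      (∃ c ∉ q, c • s • x = 0) → ∃ c ∉ q, c • x = 0 := by
  classical
  have : IsNoetherianRing (p.Fiber S) := Algebra.FiniteType.isNoetherianRing p.ResidueField _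
  have : Module.Finite (p.Fiber S) (FlatCA.fiberMod p S N) :=
    inferInstanceAs (Module.Finite (p.Fiber S) ((p.Fiber S) ⊗[S] N))
  have : IsScalarTower S (p.Fiber S) (FlatCA.fiberMod p S N) :=
    IsScalarTower.of_algebraMap_smul fun s m =>
      algebraMap_smul (p.Fiber S) s (show (p.Fiber S) ⊗[S] N from m)
  let inc : S →+* p.Fiber S := algebraMap S (p.Fiber S)
  let T := ((associatedPrimes.finite (p.Fiber S) (FlatCA.fiberMod p S N)).toFinset).filter
    fun Q => Q.comap inc ≤ q
  have hT : ¬ (q : Set S) ⊆ ⋃ Q ∈ (T : Set (Ideal (p.Fiber S))), (Q.comap inc : Ideal S) := by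
    rw [Ideal.subset_union_prime ⊥ ⊥ (fun Q hQ _ _ => by
      have : Q.IsPrime := ((Set.Finite.mem_toFinset _).mp (Finset.mem_filter.mp hQ).1).isPrime
      exact Ideal.comap_isPrime inc Q)]
    rintro ⟨Q, hQ, hle⟩
    refine hq ?_
    have e : Q.comap inc = q := le_antisymm (Finset.mem_filter.mp hQ).2 hle
    rw [← e, fiberIdeal_comap]
    exact (Set.Finite.mem_toFinset _).mp (Finset.mem_filter.mp hQ).1
  obtain ⟨s, hsq, hs⟩ := Set.not_subset.mp hT
  refine ⟨s, hsq, fun x ⟨c, hc, hcx⟩ => ?_⟩
  by_contra hx
  push Not at hx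
  let J : Ideal (p.Fiber S) := (⊥ : Submodule (p.Fiber S) (FlatCA.fiberMod p S N)).colon {x}
  have hJ : ∀ a, a ∈ J ↔ a • x = 0 := fun a => by simp [J, Submodule.mem_colon_singleton]
  have hJq : J ≤ FlatCA.fiberIdeal p q := by
    intro a ha
    obtain ⟨r, hr, b, hb⟩ := Ideal.Fiber.exists_smul_eq_one_tmul p a
    have hu : IsUnit (algebraMap R (p.Fiber S) r) := by
      rw [IsScalarTower.algebraMap_apply R p.ResidueField (p.Fiber S)]
      exact (IsUnit.mk0 _ (mt Ideal.algebraMap_residueField_eq_zero.mp hr)).map _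
    have hbJ : algebraMap S (p.Fiber S) b ∈ J := by
      rw [show algebraMap S (p.Fiber S) b = r • a from hb.symm, Algebra.smul_def]
      exact J.mul_mem_left _ ha
    have hbq : b ∈ q := by
      by_contra h
      refine hx b h ?_
      rw [← algebraMap_smul (p.Fiber S) b x]
      exact (hJ _).mp hbJ
    rw [← Ideal.unit_mul_mem_iff_mem _ hu, ← Algebra.smul_def, hb]
    exact Ideal.mem_map_of_mem _ hbq
  have : (FlatCA.fiberIdeal p q).IsPrime := isPrime_fiberIdeal p q
  obtain ⟨P, hP, hPq⟩ := Ideal.exists_minimalPrimes_le hJq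
  have hPass : P ∈ associatedPrimes (p.Fiber S) (FlatCA.fiberMod p S N) :=
    isAssociatedPrime_iff.mpr ⟨hP.1.1, Submodule.exists_eq_colon_of_mem_minimalPrimes hP⟩
  have hPT : P ∈ T := Finset.mem_filter.mpr ⟨(Set.Finite.mem_toFinset _).mpr hPass,
    (Ideal.comap_mono hPq).trans (comap_fiberIdeal p q).le⟩
  refine hs (Set.mem_biUnion hPT ?_)
  have hcs : inc c * inc s ∈ P := hP.1.2 ((hJ _).mpr (by
    rw [mul_smul, algebraMap_smul, algebraMap_smul]
    exact hcx))
  have hPprime : P.IsPrime := hP.1.1
  exact (hPprime.mem_or_mem hcs).resolve_left fun h =>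
    hc ((comap_fiberIdeal p q).le (hPq h))

/-- An element of `N ⊗ Q` cannot have its annihilator minimally contained in a prime at which the
fibre module has an element of the prime acting regularly. -/
theorem fiberIdeal_mem_associatedPrimes_of_mem_weakAss {R S : Type u} [CommRing R] [CommRing S]
    [Algebra R S] [Algebra.FinitePresentation R S] {N : Type u} [AddCommGroup N] [Module S N]
    [Module R N] [IsScalarTower R S N] [Module.FinitePresentation S N] [Module.Flat R N]
    (Q : Type u) [AddCommGroup Q] [Module R Q] (p : Ideal R) [p.IsPrime] (q : Ideal S) [q.IsPrime]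
    [q.LiesOver p] (hq : q ∈ FlatCA.weakAss S (N ⊗[R] Q)) :
    FlatCA.fiberIdeal p q ∈ associatedPrimes (p.Fiber S) (FlatCA.fiberMod p S N) := by
  by_contra hna
  obtain ⟨z, hz⟩ := hq
  obtain ⟨s, hsq, hs⟩ := exists_fiber_regular p q hna
  obtain ⟨c, hc, n, hn⟩ := exists_mul_pow_mem hz hsq
  have key : ∀ n, ∀ c ∉ q, c • s ^ n • z = 0 → ∃ c ∉ q, c • z = 0 := by
    intro n
    induction n with
    | zero => exact fun c hc h => ⟨c, hc, by simpa using h⟩
    | succ n ih =>
      intro c hc h
      have h' : s • (c • s ^ n • z) = 0 := by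
        rw [smul_comm, ← mul_smul s, ← pow_succ']
        exact h
      obtain ⟨d, hd, hdz⟩ := smul_regular p q s hs Q (c • s ^ n • z) h'
      exact ih (d * c) (fun hh => (Ideal.IsPrime.mem_or_mem ‹q.IsPrime› hh).elim hd hc)
        (by rw [mul_smul]; exact hdz)
  obtain ⟨d, hd, hdz⟩ := key n c hc (by
    rw [← mul_smul]
    exact (Submodule.mem_annihilator_span_singleton z _).mp hn)
  exact hd (hz.1.2 ((Submodule.mem_annihilator_span_singleton z d).mpr hdz))

/-- The annihilator of an element dying in a flat base change generates the unit ideal. -/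
theorem map_annihilator_eq_top {F F' M M' : Type u} [CommRing F] [CommRing F'] [Algebra F F']
    [Module.Flat F F'] [AddCommGroup M] [Module F M] [AddCommGroup M'] [Module F' M'] [Module F M']
    [IsScalarTower F F' M'] {g : M →ₗ[F] M'} (hg : IsBaseChange F' g) {x : M} (hx : g x = 0) :
    (Submodule.span F {x}).annihilator.map (algebraMap F F') = ⊤ := by
  rw [Ideal.eq_top_iff_one]
  exact mem_map_annihilator hg x (c := 1) (by rw [one_smul]; exact hx)

/-- A flat base change covering the weakly associated primes is injective. -/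
theorem injective_of_cover {F F' M M' : Type u} [CommRing F] [CommRing F'] [Algebra F F']
    [Module.Flat F F'] [AddCommGroup M] [Module F M] [AddCommGroup M'] [Module F' M'] [Module F M']
    [IsScalarTower F F' M'] {g : M →ₗ[F] M'} (hg : IsBaseChange F' g)
    (h : ∀ q ∈ FlatCA.weakAss F M, ∃ q' : Ideal F', q'.IsPrime ∧ q'.comap (algebraMap F F') = q) :
    Function.Injective g := by
  rw [injective_iff_map_eq_zero]
  intro z hz
  by_contra hne
  have hne' : (Submodule.span F {z}).annihilator ≠ ⊤ := fun e => hne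
    ((one_smul F z).symm.trans ((Submodule.mem_annihilator_span_singleton z 1).mp
      (e.ge Submodule.mem_top)))
  obtain ⟨M, hM, hle⟩ := Ideal.exists_le_maximal _ hne'
  obtain ⟨q, hqmin, -⟩ := Ideal.exists_minimalPrimes_le hle
  obtain ⟨q', hq', hcomap⟩ := h q ⟨z, hqmin⟩
  have h1 := map_annihilator_eq_top hg hz
  exact hq'.ne_top (top_le_iff.mp
    (h1.ge.trans (Ideal.map_le_iff_le_comap.mpr (hqmin.1.2.trans hcomap.ge))))

/-- A nonzero element of `N ⊗ Q` survives in a flat algebra covering the associated points of the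
fibres. -/
theorem univInj_of_cover {R S S' : Type u} [CommRing R] [CommRing S] [CommRing S'] [Algebra R S]
    [Algebra S S'] [Algebra R S'] [IsScalarTower R S S']
    [Algebra.FinitePresentation R S] [Module.Flat S S']
    (N : Type u) [AddCommGroup N] [Module S N] [Module R N] [IsScalarTower R S N]
    [Module.FinitePresentation S N] [Module.Flat R N]
    (h : ∀ (p : Ideal R) (q : Ideal S) [p.IsPrime] [q.IsPrime] [q.LiesOver p],
      FlatCA.fiberIdeal p q ∈ associatedPrimes (p.Fiber S) (FlatCA.fiberMod p S N) →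
      ∃ q' : Ideal S', q'.IsPrime ∧ q'.comap (algebraMap S S') = q) :
    FlatCA.UnivInj R ((TensorProduct.mk S S' N 1).restrictScalars R) := by
  intro Q _ _
  let ν : N →ₗ[S] S' ⊗[S] N := TensorProduct.mk S S' N 1
  let g : N ⊗[R] Q →ₗ[S] (S' ⊗[S] N) ⊗[R] Q := AlgebraTensorModule.rTensor R Q ν
  have hg : IsBaseChange S' g := by
    refine IsBaseChange.of_equiv (AlgebraTensorModule.assoc R S S' S' N Q).symm fun y => ?_
    induction y using TensorProduct.induction_on with
    | zero => simp
    | tmul a b => simp [g, ν]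
    | add a b ha hb => simp only [TensorProduct.tmul_add, map_add, ha, hb]
  have hinj : Function.Injective g := by
    refine injective_of_cover (F := S) (F' := S') (M := N ⊗[R] Q) (M' := (S' ⊗[S] N) ⊗[R] Q) hg fun q hq => ?_
    have : q.IsPrime := hq.choose_spec.1.1
    let p := q.comap (algebraMap R S)
    have : q.LiesOver p := ⟨rfl⟩
    exact h p q (fiberIdeal_mem_associatedPrimes_of_mem_weakAss Q p q hq)
  have h2 : Function.Injective ((ν.restrictScalars R).rTensor Q) := hinj
  rw [LinearMap.lTensor_inj_iff_rTensor_inj]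
  exact h2

end Groth.Agent.H7Flat.UnivInjCover
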