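import Groth.Agent.H7Flat.ModMax
import Groth.Agent.H7Flat.UnivInjCover
import Mathlib.RingTheory.Ideal.AssociatedPrime.Localization

/-!
Flatness at a point is detected at the associated points of the fibre generalizing it.
-/

set_option autoImplicit false
universe u

namespace Groth.Agent.H7Flat.FlatAtAssoc

open TensorProduct FlatMor ImpurityDescend UnivInjCover IsLocalRing
open Groth.Agent.H02CA.FibreAss (fiber_smul toFiberMod_eq_zero_iff annEl_fiber_eq)

attribute [local instance] Algebra.TensorProduct.rightAlgebra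

set_option backward.isDefEq.respectTransparency false
set_option maxHeartbeats 1000000
set_option synthInstance.maxHeartbeats 400000

/-- Elements of an extended submodule in a localization come from the extended submodule. -/
theorem exists_smul_mem {S X Y : Type u} [CommRing S] [AddCommGroup X] [Module S X] [AddCommGroup Y]
    [Module S Y] (T : Submonoid S) (f : X →ₗ[S] Y) [IsLocalizedModule T f] (J : Ideal S) (y : Y)
    (hy : y ∈ J • (⊤ : Submodule S Y)) :
    ∃ t ∈ T, ∃ w ∈ J • (⊤ : Submodule S X), t • y = f w := by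
  induction hy using Submodule.smul_induction_on' with
  | smul j hj m _ =>
    obtain ⟨⟨x, t⟩, h⟩ := IsLocalizedModule.surj T f m
    exact ⟨t, t.2, j • x, Submodule.smul_mem_smul hj trivial, by
      rw [smul_comm, map_smul]; exact congrArg (j • ·) h⟩
  | add a _ b _ ha hb =>
    obtain ⟨t, ht, w, hw, h⟩ := ha
    obtain ⟨t', ht', w', hw', h'⟩ := hb
    exact ⟨t' * t, T.mul_mem ht' ht, t' • w + t • w',
      add_mem (Submodule.smul_mem _ _ hw) (Submodule.smul_mem _ _ hw'), by
      rw [smul_add, mul_smul, h, mul_comm, mul_smul, h', map_add, map_smul, map_smul]⟩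

/-- An element of the fibre module killed near all associated points below a prime is killed near
that prime. -/
theorem exists_notMem_smul_eq_zero_of_assoc {R S : Type u} [CommRing R] [CommRing S] [Algebra R S]
    [Algebra.FiniteType R S] (N : Type u) [AddCommGroup N] [Module S N] [Module R N]
    [IsScalarTower R S N] (p : Ideal R) [p.IsPrime] (q : Ideal S) [q.IsPrime] [q.LiesOver p]
    (v : FlatCA.fiberMod p S N)
    (h : ∀ (q' : Ideal S) [q'.IsPrime], q' ≤ q → q'.LiesOver p →
      FlatCA.fiberIdeal p q' ∈ associatedPrimes (p.Fiber S) (FlatCA.fiberMod p S N) →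
      ∃ t ∉ q', t • v = 0) : ∃ c ∉ q, c • v = 0 := by
  by_contra! hne
  let F := p.Fiber S
  have : IsNoetherianRing F := Algebra.FiniteType.isNoetherianRing p.ResidueField _
  let X : Submodule F (FlatCA.fiberMod p S N) := Submodule.span F {v}
  have : Module.Finite F X := Module.Finite.span_singleton F v
  have := isPrime_fiberIdeal p q
  have hle : Module.annihilator F X ≤ FlatCA.fiberIdeal p q := by
    rw [← fiberIdeal_comap p (Module.annihilator F X)]
    refine Ideal.map_mono fun s hs => ?_
    by_contra hsq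
    refine hne s hsq ?_
    rw [fiber_smul]
    exact congrArg Subtype.val (Module.mem_annihilator.mp hs ⟨v, Submodule.mem_span_singleton_self v⟩)
  obtain ⟨Q, hQ, hQle⟩ := Ideal.exists_minimalPrimes_le hle
  have hass : Q ∈ associatedPrimes F (FlatCA.fiberMod p S N) :=
    associatedPrimes.subset_of_injective (f := X.subtype) X.injective_subtype
      (Module.associatedPrimes.minimalPrimes_annihilator_subset_associatedPrimes F X hQ)
  have : Q.IsPrime := hQ.1.1
  let q' := Q.comap (algebraMap S F)
  have hq' : q' ≤ q := (Ideal.comap_mono hQle).trans (comap_fiberIdeal p q).le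
  have : q'.LiesOver p := ⟨le_antisymm (fun a ha => by
    change algebraMap S F (algebraMap R S a) ∈ Q
    rw [← IsScalarTower.algebraMap_apply, IsScalarTower.algebraMap_apply R p.ResidueField F,
      Ideal.algebraMap_residueField_eq_zero.mpr ha, map_zero]
    exact zero_mem Q) (fun a ha => (Ideal.over_def q p).ge (hq' ha))⟩
  obtain ⟨t, ht, htv⟩ := h q' hq' this (by rw [fiberIdeal_comap]; exact hass)
  refine ht ?_
  refine hQ.1.2 (Module.mem_annihilator.mpr fun ⟨y, hy⟩ => ?_)
  obtain ⟨c, rfl⟩ := Submodule.mem_span_singleton.mp hy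
  refine Subtype.ext ?_
  change algebraMap S F t • c • v = 0
  rw [fiber_smul] at htv
  rw [smul_comm]
  exact (congrArg (c • ·) htv).trans (smul_zero c)

/-- A finite module is flat at a prime if it is flat at the associated points of the fibre
generalizing it. -/
theorem flatAt_of_assoc {R S : Type u} [CommRing R] [CommRing S] [Algebra R S]
    [Algebra.FiniteType R S] (N : Type u) [AddCommGroup N] [Module S N] [Module R N]
    [IsScalarTower R S N] [Module.Finite S N] (p : Ideal R) [p.IsPrime] (q : Ideal S) [q.IsPrime]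
    [q.LiesOver p]
    (h : ∀ (q' : Ideal S) [q'.IsPrime], q' ≤ q → q'.LiesOver p →
      FlatCA.fiberIdeal p q' ∈ associatedPrimes (p.Fiber S) (FlatCA.fiberMod p S N) →
      FlatCA.FlatAt R q' N) :
    FlatCA.FlatAt R q N := by
  classical
  let A := Localization.AtPrime p
  let B := Localization.AtPrime q
  let NB := LocalizedModule q.primeCompl N
  have : IsNoetherianRing (p.Fiber S) := Algebra.FiniteType.isNoetherianRing p.ResidueField _
  have : Module.Finite (p.Fiber S) (FlatCA.fiberMod p S N) :=
    inferInstanceAs (Module.Finite (p.Fiber S) ((p.Fiber S) ⊗[S] N))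
  let s := {q' : Ideal S | ∃ _ : q'.IsPrime, q' ≤ q ∧ q'.LiesOver p ∧
    FlatCA.fiberIdeal p q' ∈ associatedPrimes (p.Fiber S) (FlatCA.fiberMod p S N)}
  have hs : s.Finite := by
    refine Set.Finite.of_finite_image ((associatedPrimes.finite (p.Fiber S)
      (FlatCA.fiberMod p S N)).subset ?_) (f := FlatCA.fiberIdeal p) ?_
    · rintro _ ⟨q', ⟨_, -, -, hq'⟩, rfl⟩; exact hq'
    · rintro q₁ ⟨h₁, -, ho₁, -⟩ q₂ ⟨h₂, -, ho₂, -⟩ he
      rw [← comap_fiberIdeal p q₁, ← comap_fiberIdeal p q₂, he]
  have := hs.to_subtype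
  have hprime : ∀ i : s, (i : Ideal S).IsPrime := fun i => i.2.1
  have hle : ∀ i : s, q.primeCompl ≤ (i : Ideal S).primeCompl := fun i x hx hxi => hx (i.2.2.1 hxi)
  let M' := ∀ i : s, LocalizedModule (i : Ideal S).primeCompl N
  have : ∀ i : s, Module.Flat R (LocalizedModule (i : Ideal S).primeCompl N) := fun i =>
    h (i : Ideal S) i.2.2.1 i.2.2.2.1 i.2.2.2.2
  have : Module.Flat R M' := by
    have : Fintype s := Fintype.ofFinite s
    exact Module.Flat.of_linearEquiv
      (DirectSum.linearEquivFunOnFintype R s fun i : s => LocalizedModule (i : Ideal S).primeCompl N).symm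
  let u₀ : NB →ₗ[S] M' := LinearMap.pi fun i : s =>
    IsLocalizedModule.lift q.primeCompl (LocalizedModule.mkLinearMap q.primeCompl N)
      (LocalizedModule.mkLinearMap (i : Ideal S).primeCompl N)
      (fun x => IsLocalizedModule.map_units (LocalizedModule.mkLinearMap (i : Ideal S).primeCompl N)
        ⟨x, hle i x.2⟩)
  have hover : p = q.comap (algebraMap R S) := q.over_def p
  let : Algebra A B := (Localization.localRingHom p q (algebraMap R S) hover).toAlgebra
  have : IsScalarTower R A B := IsScalarTower.of_algebraMap_eq fun r => by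
    rw [RingHom.algebraMap_toAlgebra, Localization.localRingHom_to_map,
      ← IsScalarTower.algebraMap_apply R S B]
  have : IsLocalHom (algebraMap A B) := by
    rw [RingHom.algebraMap_toAlgebra]; exact Localization.isLocalHom_localRingHom p q _ hover
  have : Algebra.EssFiniteType S B := Algebra.EssFiniteType.of_isLocalization B q.primeCompl
  have : Algebra.EssFiniteType R B := Algebra.EssFiniteType.comp R S B
  have : Algebra.EssFiniteType A B := Algebra.EssFiniteType.of_comp R A B
  let : Module A NB := Module.compHom NB (algebraMap A B)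
  have : IsScalarTower A B NB := IsScalarTower.of_algebraMap_smul fun _ _ => rfl
  have : IsScalarTower R A NB := IsScalarTower.of_algebraMap_smul fun r y => by
    change algebraMap A B (algebraMap R A r) • y = r • y
    rw [← IsScalarTower.algebraMap_apply, algebraMap_smul]
  let ν : M' →ₗ[R] A ⊗[R] M' := TensorProduct.mk R A M' 1
  have : IsLocalizedModule p.primeCompl ν :=
    (isLocalizedModule_iff_isBaseChange p.primeCompl A ν).mpr (TensorProduct.isBaseChange R M' A)
  let u : NB →ₗ[A] A ⊗[R] M' :=
    (ν ∘ₗ u₀.restrictScalars R).extendScalarsOfIsLocalization p.primeCompl A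
  suffices hflat : Module.Flat A NB from Module.Flat.trans R A NB
  refine (ModMax.main (B := B) u fun x hx => ?_).2.2
  have hm : maximalIdeal A = p.map (algebraMap R A) := (IsLocalization.AtPrime.map_eq_maximalIdeal p A).symm
  have hresA : ∀ {X : Type u} [AddCommGroup X] [Module R X] [Module A X] [IsScalarTower R A X] (x : X),
      x ∈ maximalIdeal A • (⊤ : Submodule A X) ↔ x ∈ p • (⊤ : Submodule R X) := fun x => by
    rw [hm, ← Submodule.restrictScalars_mem R, Ideal.smul_restrictScalars, Submodule.restrictScalars_top]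
  have hresS : ∀ {X : Type u} [AddCommGroup X] [Module R X] [Module S X] [IsScalarTower R S X] (x : X),
      x ∈ p.map (algebraMap R S) • (⊤ : Submodule S X) ↔ x ∈ p • (⊤ : Submodule R X) := fun x => by
    rw [← Submodule.restrictScalars_mem R, Ideal.smul_restrictScalars, Submodule.restrictScalars_top]
  rw [hresA] at hx ⊢
  rw [← hresS]
  obtain ⟨r, hr, w, hw, hrw⟩ := exists_smul_mem p.primeCompl ν p _ hx
  obtain ⟨⟨r', hr'⟩, hr'w⟩ := (IsLocalizedModule.eq_iff_exists p.primeCompl ν
    (x₁ := r • u₀ x) (x₂ := w)).mp (by rw [map_smul]; exact hrw)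
  obtain ⟨⟨n, a⟩, hna⟩ := IsLocalizedModule.surj q.primeCompl (LocalizedModule.mkLinearMap q.primeCompl N) x
  have hpu : (r' * r) • u₀ x ∈ p • (⊤ : Submodule R M') := by
    rw [mul_smul]
    change (⟨r', hr'⟩ : p.primeCompl) • r • u₀ x ∈ _
    rw [hr'w]
    exact Submodule.smul_mem _ r' hw
  have key : ∀ (q' : Ideal S) [q'.IsPrime], q' ≤ q → q'.LiesOver p →
      FlatCA.fiberIdeal p q' ∈ associatedPrimes (p.Fiber S) (FlatCA.fiberMod p S N) →
      ∃ t ∉ q', t • FlatCA.toFiberMod p S N n = 0 := by
    intro q' _ hq' ho hass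
    let i : s := ⟨q', ‹_›, hq', ho, hass⟩
    let fi := LocalizedModule.mkLinearMap q'.primeCompl N
    have hi : (r' * r) • u₀ x i ∈ p • (⊤ : Submodule R (LocalizedModule q'.primeCompl N)) := by
      have h2 := Submodule.mem_map_of_mem
        (f := LinearMap.proj (R := R) (φ := fun i : s => LocalizedModule (i : Ideal S).primeCompl N) i) hpu
      rw [Submodule.map_smul''] at h2
      exact Submodule.smul_mono le_rfl le_top h2
    rw [← hresS, ← algebraMap_smul S (r' * r)] at hi
    have hi2 := Submodule.smul_mem _ (a : S) hi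
    have hun : (a : S) • u₀ x i = fi n := by
      rw [← Pi.smul_apply, ← map_smul, show (a : S) • x = LocalizedModule.mkLinearMap q.primeCompl N n from hna]
      exact LinearMap.congr_fun (IsLocalizedModule.lift_comp q.primeCompl (LocalizedModule.mkLinearMap q.primeCompl N)
        fi (fun y => IsLocalizedModule.map_units fi ⟨y, hle i y.2⟩)) n
    rw [smul_comm, hun, ← map_smul] at hi2
    obtain ⟨t, ht, w', hw', htw⟩ := exists_smul_mem q'.primeCompl fi _ _ hi2
    rw [← map_smul] at htw
    obtain ⟨⟨t', ht'⟩, htt⟩ := (IsLocalizedModule.eq_iff_exists q'.primeCompl fi).mp htw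
    have hrq : algebraMap R S (r' * r) ∉ q' := fun h =>
      (p.primeCompl.mul_mem hr' hr) (ho.over.ge h)
    refine ⟨t' * t * algebraMap R S (r' * r),
      q'.primeCompl.mul_mem (q'.primeCompl.mul_mem ht' ht) hrq, ?_⟩
    rw [← map_smul, toFiberMod_eq_zero_iff]
    refine ⟨1, fun h1 => Ideal.IsPrime.ne_top ‹p.IsPrime› ((Ideal.eq_top_iff_one p).mpr h1), ?_⟩
    rw [map_one, one_smul, mul_smul, mul_smul]
    exact htt ▸ Submodule.smul_mem _ t' hw'
  obtain ⟨c, hc, hcn⟩ := exists_notMem_smul_eq_zero_of_assoc N p q _ key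
  rw [← map_smul, toFiberMod_eq_zero_iff] at hcn
  obtain ⟨r₁, hr₁, hr₁n⟩ := hcn
  have hu : IsUnit (algebraMap S (Module.End S NB) (algebraMap R S r₁ * (c * a))) := by
    refine IsLocalizedModule.map_units (LocalizedModule.mkLinearMap q.primeCompl N)
      ⟨_, q.primeCompl.mul_mem ?_ (q.primeCompl.mul_mem hc a.2)⟩
    exact fun h => hr₁ (hover.ge h)
  obtain ⟨e, he⟩ := hu
  have h3 : (algebraMap R S r₁ * (c * a)) • x ∈ p.map (algebraMap R S) • (⊤ : Submodule S NB) := by
    have h2 := Submodule.mem_map_of_mem (f := LocalizedModule.mkLinearMap q.primeCompl N) hr₁n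
    rw [Submodule.map_smul'', map_smul, map_smul] at h2
    rw [mul_smul, mul_smul, show (a : S) • x = LocalizedModule.mkLinearMap q.primeCompl N n from hna]
    exact Submodule.smul_mono le_rfl le_top h2
  have h4 : (↑e⁻¹ : Module.End S NB) ((algebraMap R S r₁ * (c * a)) • x) ∈
      p.map (algebraMap R S) • (⊤ : Submodule S NB) := by
    have h := Submodule.mem_map_of_mem (f := (↑e⁻¹ : Module.End S NB)) h3
    rw [Submodule.map_smul''] at h
    exact Submodule.smul_mono le_rfl le_top h
  rw [show (algebraMap R S r₁ * (c * a)) • x = (e : Module.End S NB) x by rw [he]; rfl] at h4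
  rwa [← Module.End.mul_apply, e.inv_mul, Module.End.one_apply] at h4

end Groth.Agent.H7Flat.FlatAtAssoc
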