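import Groth.Agent.S1223
import Groth.Agent.H7Flat.UnivInjCover
import Groth.Agent.H7Flat.ModMax
import Groth.Agent.H7Flat.FlatAtAssoc
import Groth.Agent.H7Flat.FlatAtFinite
import Groth.Agent.H06EGA11.KernelFP
import Groth.Agent.H8Props.FlatLocus.Module
import Groth.Agent.H06Mod.StalkExact

/-!
Maps from free modules to finite modules which are bases at the generic point of a fibre, for flat
algebras with geometrically integral fibres.
-/

set_option autoImplicit false
universe u
open TensorProduct

namespace Groth.Agent.H7Flat.FiberBasis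

attribute [local instance] Algebra.TensorProduct.rightAlgebra

set_option backward.isDefEq.respectTransparency false
set_option maxHeartbeats 800000

section Basis

variable {S N : Type u} [CommRing S] [AddCommGroup N] [Module S N] [Module.Finite S N]
  (P : Ideal S) [P.IsPrime]

/-- A basis at a residue field comes from a map from a free module. -/
theorem exists_basis :
    ∃ (r : ℕ) (α : (Fin r → S) →ₗ[S] N), Function.Bijective (α.baseChange P.ResidueField) := by
  classical
  let V := P.ResidueField ⊗[S] N
  let ι : N →ₗ[S] V := TensorProduct.mk S P.ResidueField N 1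
  obtain ⟨b, hb, hspan, hli⟩ := exists_linearIndependent P.ResidueField (Set.range ι)
  haveI : Fintype b := hli.setFinite.fintype
  choose n hn using fun x : b => hb x.2
  let e := Fintype.equivFin b
  refine ⟨Fintype.card b, Fintype.linearCombination S fun i => n (e.symm i), ?_⟩
  let bas : Module.Basis b P.ResidueField V := Module.Basis.mk hli (by
    rw [Subtype.range_coe, hspan]
    rintro z -
    induction z using TensorProduct.induction_on with
    | zero => exact zero_mem _
    | add a b ha hb => exact add_mem ha hb
    | tmul c m =>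
      rw [← mul_one c, ← smul_eq_mul, ← smul_tmul']
      exact Submodule.smul_mem _ _ (Submodule.subset_span ⟨m, rfl⟩))
  let bas' := bas.reindex e
  let β := (Pi.basisFun S (Fin (Fintype.card b))).baseChange P.ResidueField
  rw [show (Fintype.linearCombination S fun i => n (e.symm i)).baseChange P.ResidueField =
    (β.equiv bas' (Equiv.refl _)).toLinearMap from β.ext fun i => by
      rw [LinearEquiv.coe_coe, Module.Basis.equiv_apply]
      simp [β, bas', bas, ι, ← hn]
      rfl]
  exact (β.equiv bas' (Equiv.refl _)).bijective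

/-- Surjectivity at the residue field is surjectivity at the local ring. -/
theorem exists_smul_mem_range {r : ℕ} (α : (Fin r → S) →ₗ[S] N)
    (hα : Function.Surjective (α.baseChange P.ResidueField)) (n : N) :
    ∃ s ∉ P, s • n ∈ LinearMap.range α := by
  let C := N ⧸ LinearMap.range α
  have hsub : Subsingleton (P.ResidueField ⊗[S] C) := by
    refine subsingleton_of_forall_eq 0 fun z => ?_
    obtain ⟨w, rfl⟩ := LinearMap.lTensor_surjective P.ResidueField (LinearMap.range α).mkQ_surjective z
    obtain ⟨v, rfl⟩ := hα w
    show (LinearMap.range α).mkQ.lTensor P.ResidueField (α.lTensor P.ResidueField v) = 0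
    rw [← LinearMap.lTensor_comp_apply, LinearMap.range_mkQ_comp, LinearMap.lTensor_zero, LinearMap.zero_apply]
  have hP : (⟨P, inferInstance⟩ : PrimeSpectrum S) ∉ Module.support S C := fun h =>
    not_subsingleton_iff_nontrivial.mpr ((Module.mem_support_iff_nontrivial_residueField_tensorProduct _).mp h) hsub
  obtain ⟨s, hs, hs0⟩ := Module.notMem_support_iff'.mp hP (Submodule.Quotient.mk n)
  exact ⟨s, hs, (Submodule.Quotient.mk_eq_zero _).mp (by rw [Submodule.Quotient.mk_smul]; exact hs0)⟩

omit [Module.Finite S N] in
/-- Injectivity at the residue field, on elements. -/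
theorem apply_mem_of_injective {r : ℕ} (α : (Fin r → S) →ₗ[S] N)
    (hα : Function.Injective (α.baseChange P.ResidueField)) (f : Fin r → S)
    (hf : α f ∈ P • (⊤ : Submodule S N)) (i : Fin r) : f i ∈ P := by
  have h0 : ∀ x ∈ P • (⊤ : Submodule S N), (1 : P.ResidueField) ⊗ₜ[S] x = 0 := by
    intro x hx
    induction hx using Submodule.smul_induction_on' with
    | smul p hp y _ =>
      rw [← smul_tmul, ← Algebra.algebraMap_eq_smul_one, Ideal.algebraMap_residueField_eq_zero.mpr hp, zero_tmul]
    | add a _ b _ ha hb => rw [tmul_add, ha, hb, add_zero]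
  have h1 : (1 : P.ResidueField) ⊗ₜ[S] f = 0 := hα (by rw [LinearMap.baseChange_tmul, h0 _ hf, map_zero])
  have h2 := congrArg ((TensorProduct.rid S P.ResidueField).toLinearMap ∘ₗ
    (LinearMap.proj i : (Fin r → S) →ₗ[S] S).lTensor P.ResidueField) h1
  rw [map_zero] at h2
  refine Ideal.algebraMap_residueField_eq_zero.mp ?_
  rw [Algebra.algebraMap_eq_smul_one]
  simpa using h2

end Basis

variable {R S : Type u} [CommRing R] [CommRing S] [Algebra R S]

/-- For fibres which are domains, weakly associated primes of free modules tensored with a module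
are extended from the base. -/
theorem eq_map_of_mem_weakAss [Algebra.FinitePresentation R S] [Module.Flat R S]
    (hgi : FlatCA.GeomIntegralFibres R S) {r : ℕ} (Q : Type u) [AddCommGroup Q] [Module R Q]
    (q₁ : Ideal S) [q₁.IsPrime] (hq₁ : q₁ ∈ FlatCA.weakAss S ((Fin r → S) ⊗[R] Q)) :
    (q₁.comap (algebraMap R S)).map (algebraMap R S) = q₁ := by
  classical
  let p := q₁.comap (algebraMap R S)
  haveI : q₁.LiesOver p := ⟨rfl⟩
  haveI : Module.Flat R (Fin r → S) := Module.Flat.trans R S (Fin r → S)
  have hass := UnivInjCover.fiberIdeal_mem_associatedPrimes_of_mem_weakAss Q p q₁ hq₁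
  haveI : IsDomain (p.Fiber S) := Groth.Agent.S1223.isDomain_fiber hgi R S p
  let M := FlatCA.fiberMod p S (Fin r → S)
  let e : M ≃ₗ[p.Fiber S] (Fin r → p.Fiber S) :=
    TensorProduct.piScalarRight S (p.Fiber S) (p.Fiber S) (Fin r)
  rw [LinearEquiv.AssociatedPrimes.eq e] at hass
  have hbot : FlatCA.fiberIdeal p q₁ = ⊥ := by
    obtain ⟨hQ, x, hx⟩ := hass
    by_cases hx0 : x = 0
    · exfalso
      refine hQ.ne_top ?_
      rw [hx, eq_top_iff]
      intro c _
      exact Ideal.le_radical (by simp [Submodule.mem_colon_singleton, hx0])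
    · obtain ⟨i, hi⟩ := Function.ne_iff.mp hx0
      rw [hx, show Submodule.colon (⊥ : Submodule (p.Fiber S) (Fin r → p.Fiber S)) {x} = (⊥ : Ideal _) from ?_,
        Ideal.radical_eq_iff.mpr Ideal.isPrime_bot.isRadical]
      rw [eq_bot_iff]
      intro c hc
      rw [Submodule.mem_colon_singleton, Submodule.mem_bot] at hc
      exact (mul_eq_zero.mp (congrFun hc i)).resolve_right hi
  refine le_antisymm Ideal.map_comap_le fun s hs => ?_
  have h0 : algebraMap S (p.Fiber S) s = 0 := by
    rw [← ImpurityDescend.comap_fiberIdeal p q₁, Ideal.mem_comap, hbot, Ideal.mem_bot] at hs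
    exact hs
  let ι : (R ⧸ p) →ₗ[R] p.ResidueField := (IsScalarTower.toAlgHom R (R ⧸ p) p.ResidueField).toLinearMap
  have hι : Function.Injective ι := IsFractionRing.injective (R ⧸ p) p.ResidueField
  have h1 : (Ideal.Quotient.mk p 1) ⊗ₜ[R] s = 0 := by
    refine Module.Flat.rTensor_preserves_injective_linearMap (M := S) ι hι ?_
    rw [map_zero, LinearMap.rTensor_tmul, show ι (Ideal.Quotient.mk p 1) = 1 from map_one (IsScalarTower.toAlgHom R (R ⧸ p) p.ResidueField)]
    exact h0
  have h2 := congrArg (TensorProduct.quotTensorEquivQuotSMul S p) h1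
  rw [TensorProduct.quotTensorEquivQuotSMul_mk_tmul, one_smul, map_zero, Submodule.Quotient.mk_eq_zero,
    Ideal.smul_top_eq_map] at h2
  exact h2

variable [Algebra.FinitePresentation R S] [Module.Flat R S] (hgi : FlatCA.GeomIntegralFibres R S)

include hgi in
/-- Annihilation in a free module tensored with a module can be moved between monoids. -/
theorem exists_smul_eq_zero {r : ℕ} {Q : Type u} [AddCommGroup Q] [Module R Q] (T U : Submonoid S)
    (hTU : ∀ p : Ideal R, p.IsPrime → (p.map (algebraMap R S)).IsPrime →
      (p.map (algebraMap R S)).comap (algebraMap R S) = p →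
      Disjoint (T : Set S) (p.map (algebraMap R S) : Ideal S) →
      Disjoint (U : Set S) (p.map (algebraMap R S) : Ideal S))
    (w : (Fin r → S) ⊗[R] Q) (u : S) (hu : u ∈ U) (huw : u • w = 0) : ∃ t ∈ T, t • w = 0 := by
  by_contra! hne
  let J := H02CA.annEl (R := S) w
  obtain ⟨P, hP, hJP, hd⟩ := Ideal.exists_le_prime_disjoint J T
    (Set.disjoint_left.mpr fun x hx hxT => hne x hxT (H02CA.mem_annEl.mp hx))
  haveI := hP
  obtain ⟨q₁, hq₁, hq₁P⟩ := Ideal.exists_minimalPrimes_le hJP
  haveI : q₁.IsPrime := hq₁.1.1
  have hmem : q₁ ∈ FlatCA.weakAss S ((Fin r → S) ⊗[R] Q) := by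
    refine H02CA.mem_weakAss.mpr ⟨hq₁.1.1, w, hq₁.1.2, fun x hx => ?_⟩
    obtain ⟨c, hc, n, hcn⟩ := UnivInjCover.exists_mul_pow_mem hq₁ hx
    exact ⟨n, c, hc, H02CA.mem_annEl.mp hcn⟩
  have he := eq_map_of_mem_weakAss hgi Q q₁ hmem
  have hd' : Disjoint (T : Set S) (q₁ : Set S) := Set.disjoint_left.mpr fun x hxT hx => Set.disjoint_left.mp hd (hq₁P hx) hxT
  have := hTU (q₁.comap (algebraMap R S)) (Ideal.comap_isPrime _ _) (by rw [he]; infer_instance)
    (by rw [he]) (by rw [he]; exact hd')
  rw [he] at this
  exact Set.disjoint_left.mp this hu (hq₁.1.2 (H02CA.mem_annEl.mpr huw))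

/-- The kernel of a map after tensoring with any module is killed by the monoid. -/
def Kills (R : Type u) {S F N : Type u} [CommRing R] [CommRing S] [Algebra R S] [AddCommGroup F]
    [Module S F] [Module R F] [IsScalarTower R S F] [AddCommGroup N] [Module S N] [Module R N]
    [IsScalarTower R S N] (T : Submonoid S) (α : F →ₗ[S] N) : Prop :=
  ∀ (Q : Type u) [AddCommGroup Q] [Module R Q] (w : F ⊗[R] Q),
    (α.restrictScalars R).rTensor Q w = 0 → ∃ t ∈ T, t • w = 0

section Kills

omit [Algebra.FinitePresentation R S] [Module.Flat R S]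

variable {F N : Type u} [AddCommGroup F] [Module S F] [Module R F] [IsScalarTower R S F]
  [AddCommGroup N] [Module S N] [Module R N] [IsScalarTower R S N]

theorem univInj_iff (T : Submonoid S) (α : F →ₗ[S] N) :
    FlatCA.UnivInj R ((LocalizedModule.map T α).restrictScalars R) ↔ Kills R T α := by
  let mkF := LocalizedModule.mkLinearMap T F
  let mkN := LocalizedModule.mkLinearMap T N
  let u := (LocalizedModule.map T α).restrictScalars R
  have hu : ∀ x, u (mkF x) = mkN (α x) := fun x => by
    simp [u, mkF, mkN, LocalizedModule.map_mk]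
  have hcomm : ∀ (Q : Type u) [AddCommGroup Q] [Module R Q] (w : F ⊗[R] Q),
      u.rTensor Q (AlgebraTensorModule.rTensor R Q mkF w) =
        AlgebraTensorModule.rTensor R Q mkN ((α.restrictScalars R).rTensor Q w) := fun Q _ _ w => by
    induction w using TensorProduct.induction_on with
    | zero => simp
    | add a b ha hb => simp only [map_add, ha, hb]
    | tmul x q => simp [hu]
  constructor
  · intro h Q _ _ w hw
    have h' := (LinearMap.lTensor_inj_iff_rTensor_inj Q u).mp (h Q)
    have h0 : AlgebraTensorModule.rTensor R Q mkF w = 0 := h' (by rw [hcomm, hw, map_zero, map_zero])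
    obtain ⟨t, ht⟩ := (IsLocalizedModule.eq_zero_iff T (AlgebraTensorModule.rTensor R Q mkF)).mp h0
    exact ⟨t, t.2, ht⟩
  · intro h Q _ _
    rw [LinearMap.lTensor_inj_iff_rTensor_inj, injective_iff_map_eq_zero]
    intro z hz
    obtain ⟨⟨w, s⟩, hsw⟩ := IsLocalizedModule.surj T (AlgebraTensorModule.rTensor R Q mkF) z
    have hlin : ∀ v, u.rTensor Q ((s : S) • v) = (s : S) • u.rTensor Q v := fun v =>
      (AlgebraTensorModule.rTensor R Q ((LocalizedModule.map T α).restrictScalars S)).map_smul _ v
    have h0 : AlgebraTensorModule.rTensor R Q mkN ((α.restrictScalars R).rTensor Q w) = 0 := by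
      rw [← hcomm, ← show (s : S) • z = AlgebraTensorModule.rTensor R Q mkF w from hsw, hlin, hz, smul_zero]
    obtain ⟨t, ht⟩ := (IsLocalizedModule.eq_zero_iff T (AlgebraTensorModule.rTensor R Q mkN)).mp h0
    obtain ⟨v, hv, hvw⟩ := h Q ((t : S) • w)
      (((AlgebraTensorModule.rTensor R Q α).map_smul (t : S) w).trans ht)
    refine ((Module.End.isUnit_iff _).mp (IsLocalizedModule.map_units
      (AlgebraTensorModule.rTensor R Q mkF) (⟨v, hv⟩ * t * s))).injective ?_
    rw [Module.algebraMap_end_apply, Module.algebraMap_end_apply, smul_zero, Submonoid.coe_mul, mul_smul,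
      show (s : S) • z = AlgebraTensorModule.rTensor R Q mkF w from hsw, Submonoid.coe_mul, mul_smul,
      ← map_smul, ← map_smul, hvw, map_zero]

omit [Algebra R S] [Module R F] [IsScalarTower R S F] [Module R N] [IsScalarTower R S N] in
theorem injective_map_iff (T : Submonoid S) (α : F →ₗ[S] N) :
    Function.Injective (LocalizedModule.map T α) ↔ ∀ x, α x = 0 → ∃ t ∈ T, t • x = 0 := by
  constructor
  · intro h x hx
    have h0 : LocalizedModule.mkLinearMap T F x = 0 := h (by
      rw [map_zero, LocalizedModule.mkLinearMap_apply, LocalizedModule.map_mk, hx]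
      exact LocalizedModule.zero_mk 1)
    obtain ⟨t, ht⟩ := (IsLocalizedModule.eq_zero_iff T (LocalizedModule.mkLinearMap T F)).mp h0
    exact ⟨t, t.2, ht⟩
  · intro h
    rw [injective_iff_map_eq_zero]
    intro z hz
    induction z using LocalizedModule.induction_on with
    | _ m s =>
      rw [LocalizedModule.map_mk, ← LocalizedModule.zero_mk (1 : T), LocalizedModule.mk_eq] at hz
      obtain ⟨c, hc⟩ := hz
      obtain ⟨t, ht, htm⟩ := h ((c : S) • m) (by simpa [map_smul, Submonoid.smul_def] using hc)
      rw [← LocalizedModule.zero_mk (1 : T), LocalizedModule.mk_eq]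
      exact ⟨⟨t, ht⟩ * c, by simp [Submonoid.smul_def, mul_smul, htm]⟩

theorem kills_injective (T : Submonoid S) (α : F →ₗ[S] N) (h : Kills R T α) :
    Function.Injective (LocalizedModule.map T α) := by
  refine (injective_map_iff T α).mpr fun x hx => ?_
  obtain ⟨t, ht, h0⟩ := h R (x ⊗ₜ 1) (by
    rw [LinearMap.rTensor_tmul, LinearMap.restrictScalars_apply, hx, zero_tmul])
  refine ⟨t, ht, (TensorProduct.rid R F).symm.injective ?_⟩
  rw [map_zero, TensorProduct.rid_symm_apply, ← smul_tmul']
  exact h0

/-- Flatness of the middle of a sequence which is exact after localization. -/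
theorem flatAt_of_injective (q : Ideal S) [q.IsPrime] (α : F →ₗ[S] N) [Module.Flat R F]
    (hinj : Function.Injective (LocalizedModule.map q.primeCompl α))
    (hC : FlatCA.FlatAt R q (N ⧸ LinearMap.range α)) : FlatCA.FlatAt R q N := by
  haveI : Module.Flat R (LocalizedModule q.primeCompl (N ⧸ LinearMap.range α)) := hC
  haveI : Module.Flat R (LocalizedModule q.primeCompl F) :=
    (FlatAtFinite.flat_localizedModule_iff R q.primeCompl F).mpr fun a z hz => ⟨1, one_mem _, by
      rw [one_smul]
      exact Module.Flat.lTensor_preserves_injective_linearMap a.subtype a.subtype_injective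
        (hz.trans (map_zero _).symm)⟩
  exact H06Mod.flat_of_exact_middle ((LocalizedModule.map q.primeCompl α).restrictScalars R)
    ((LocalizedModule.map q.primeCompl (LinearMap.range α).mkQ).restrictScalars R) hinj
    (LocalizedModule.map_exact q.primeCompl α _ (LinearMap.exact_map_mkQ_range α))
    (LocalizedModule.map_surjective q.primeCompl _ (LinearMap.range α).mkQ_surjective)

/-- The cokernel of a map which is universally injective at a prime into a module flat there. -/
theorem flatAt_coker (q : Ideal S) [q.IsPrime] (α : F →ₗ[S] N) (hN : FlatCA.FlatAt R q N)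
    (h : Kills R q.primeCompl α) : FlatCA.FlatAt R q (N ⧸ LinearMap.range α) := by
  haveI : Module.Flat R (LocalizedModule q.primeCompl N) := hN
  let u := (LocalizedModule.map q.primeCompl α).restrictScalars R
  let π := (LocalizedModule.map q.primeCompl (LinearMap.range α).mkQ).restrictScalars R
  have hex : Function.Exact u π :=
    LocalizedModule.map_exact q.primeCompl α _ (LinearMap.exact_map_mkQ_range α)
  have hπ : Function.Surjective π :=
    LocalizedModule.map_surjective q.primeCompl _ (LinearMap.range α).mkQ_surjective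
  have hu := (univInj_iff q.primeCompl α).mpr h
  unfold FlatCA.FlatAt
  rw [Module.Flat.iff_lTensor_injective']
  intro I
  rw [injective_iff_map_eq_zero]
  intro z hz
  obtain ⟨w, rfl⟩ := LinearMap.rTensor_surjective I hπ z
  have h1 : π.rTensor R (I.subtype.lTensor _ w) = 0 := by
    rw [← LinearMap.comp_apply, LinearMap.rTensor_comp_lTensor, ← LinearMap.lTensor_comp_rTensor,
      LinearMap.comp_apply, hz]
  obtain ⟨y, hy⟩ := (rTensor_exact R hex hπ _).mp h1
  have h3 : (I.mkQ).lTensor _ y = 0 := by
    refine (LinearMap.lTensor_inj_iff_rTensor_inj (R ⧸ I) u).mp (hu _) ?_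
    rw [map_zero, ← LinearMap.comp_apply, LinearMap.rTensor_comp_lTensor, ← LinearMap.lTensor_comp_rTensor,
      LinearMap.comp_apply, hy, ← LinearMap.lTensor_comp_apply,
      show I.mkQ.comp I.subtype = 0 from LinearMap.ext fun x => (Submodule.Quotient.mk_eq_zero I).mpr x.2,
      LinearMap.lTensor_zero, LinearMap.zero_apply]
  obtain ⟨y', rfl⟩ := (lTensor_exact _ (LinearMap.exact_subtype_mkQ I) I.mkQ_surjective y).mp h3
  have h4 : w = u.rTensor I y' := by
    refine Module.Flat.lTensor_preserves_injective_linearMap (M := LocalizedModule q.primeCompl N)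
      I.subtype I.subtype_injective ?_
    rw [← hy, ← LinearMap.comp_apply, LinearMap.rTensor_comp_lTensor, ← LinearMap.lTensor_comp_rTensor]
    rfl
  rw [h4, ← LinearMap.rTensor_comp_apply, hex.linearMap_comp_eq_zero, LinearMap.rTensor_zero,
    LinearMap.zero_apply]

/-- Injectivity and flatness of the cokernel give universal injectivity. -/
theorem kills_of_flat_coker (T : Submonoid S) (α : F →ₗ[S] N)
    (hinj : Function.Injective (LocalizedModule.map T α))
    [Module.Flat R (LocalizedModule T (N ⧸ LinearMap.range α))] : Kills R T α :=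
  (univInj_iff T α).mp fun Q _ _ => LinearMap.lTensor_injective_of_exact_of_flat
    ((LocalizedModule.map T (LinearMap.range α).mkQ).restrictScalars R)
    (LocalizedModule.map_surjective T _ (LinearMap.range α).mkQ_surjective) _ hinj
    (LocalizedModule.map_exact T α _ (LinearMap.exact_map_mkQ_range α)) Q

end Kills

include hgi in
theorem kills_of_kills {r : ℕ} {N : Type u} [AddCommGroup N] [Module S N] [Module R N]
    [IsScalarTower R S N] (T U : Submonoid S)
    (hTU : ∀ p : Ideal R, p.IsPrime → (p.map (algebraMap R S)).IsPrime →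
      (p.map (algebraMap R S)).comap (algebraMap R S) = p →
      Disjoint (T : Set S) (p.map (algebraMap R S) : Ideal S) →
      Disjoint (U : Set S) (p.map (algebraMap R S) : Ideal S))
    (α : (Fin r → S) →ₗ[S] N) (h : Kills R U α) : Kills R T α := fun Q _ _ w hw => by
  obtain ⟨u, hu, huw⟩ := h Q w hw
  exact exists_smul_eq_zero hgi T U hTU w u hu huw

include hgi in
theorem injective_of_injective {r : ℕ} {N : Type u} [AddCommGroup N] [Module S N] (T U : Submonoid S)
    (hTU : ∀ p : Ideal R, p.IsPrime → (p.map (algebraMap R S)).IsPrime →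
      (p.map (algebraMap R S)).comap (algebraMap R S) = p →
      Disjoint (T : Set S) (p.map (algebraMap R S) : Ideal S) →
      Disjoint (U : Set S) (p.map (algebraMap R S) : Ideal S))
    (α : (Fin r → S) →ₗ[S] N) (h : Function.Injective (LocalizedModule.map U α)) :
    Function.Injective (LocalizedModule.map T α) := by
  rw [injective_map_iff] at h ⊢
  intro x hx
  obtain ⟨u, hu, hux⟩ := h x hx
  obtain ⟨t, ht, htx⟩ := exists_smul_eq_zero hgi T U hTU (x ⊗ₜ[R] (1 : R)) u hu
    (by rw [smul_tmul', hux, zero_tmul])
  refine ⟨t, ht, (TensorProduct.rid R (Fin r → S)).symm.injective ?_⟩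
  rw [map_zero, TensorProduct.rid_symm_apply, ← smul_tmul']
  exact htx

omit hgi in
/-- At a prime where the target is flat, a map which is injective at the generic point of the closed
fibre is universally injective. -/
theorem kills_of_flatAt {r : ℕ} {N : Type u} [AddCommGroup N] [Module S N] [Module R N]
    [IsScalarTower R S N] (rr : Ideal R) [rr.IsPrime] (q : Ideal S) [q.IsPrime] [q.LiesOver rr]
    [(rr.map (algebraMap R S)).IsPrime] (α : (Fin r → S) →ₗ[S] N)
    (hα : Function.Injective (α.baseChange (rr.map (algebraMap R S)).ResidueField))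
    (hN : FlatCA.FlatAt R q N) : Kills R q.primeCompl α := by
  refine (univInj_iff q.primeCompl α).mp fun Q _ _ => ?_
  haveI : Module.Flat R (LocalizedModule q.primeCompl N) := hN
  let J := rr.map (algebraMap R S)
  have hJq : J ≤ q := Ideal.map_le_iff_le_comap.mpr (Ideal.LiesOver.over (p := rr) (P := q)).le
  let A := Localization.AtPrime rr
  let B := Localization.AtPrime q
  letI : Algebra A B := (Localization.localRingHom rr q (algebraMap R S) Ideal.LiesOver.over).toAlgebra
  haveI : IsLocalHom (algebraMap A B) := Localization.isLocalHom_localRingHom _ _ _ _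
  haveI : IsScalarTower R A B := IsScalarTower.of_algebraMap_eq fun x => by
    rw [RingHom.algebraMap_toAlgebra, Localization.localRingHom_to_map, ← IsScalarTower.algebraMap_apply]
  haveI : Algebra.EssFiniteType S B := Algebra.EssFiniteType.of_isLocalization B q.primeCompl
  haveI : Algebra.EssFiniteType R B := Algebra.EssFiniteType.comp R S B
  haveI : Algebra.EssFiniteType A B := Algebra.EssFiniteType.of_comp R A B
  let X := LocalizedModule q.primeCompl (Fin r → S)
  let Y := LocalizedModule q.primeCompl N
  letI : Module A X := Module.compHom X (algebraMap A B)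
  letI : Module A Y := Module.compHom Y (algebraMap A B)
  haveI : IsScalarTower A B X := .of_algebraMap_smul fun _ _ => rfl
  haveI : IsScalarTower A B Y := .of_algebraMap_smul fun _ _ => rfl
  haveI : IsScalarTower R A X := .of_algebraMap_smul fun x y => by
    show algebraMap A B (algebraMap R A x) • y = x • y
    rw [← IsScalarTower.algebraMap_apply, algebraMap_smul]
  haveI : IsScalarTower R A Y := .of_algebraMap_smul fun x y => by
    show algebraMap A B (algebraMap R A x) • y = x • y
    rw [← IsScalarTower.algebraMap_apply, algebraMap_smul]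
  haveI : Module.Flat A Y := Algebra.FormallyUnramified.flat_of_restrictScalars R A Y
  haveI : Module.Finite B X := Module.Finite.equiv (IsLocalizedModule.isBaseChange q.primeCompl B
    (LocalizedModule.mkLinearMap q.primeCompl (Fin r → S))).equiv
  let u : X →ₗ[A] Y := (LocalizedModule.map q.primeCompl α).restrictScalars A
  have hmax : ∀ {M : Type u} [AddCommGroup M] [Module R M] [Module A M] [IsScalarTower R A M] (z : M),
      z ∈ IsLocalRing.maximalIdeal A • (⊤ : Submodule A M) ↔ z ∈ rr • (⊤ : Submodule R M) := fun z => by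
    rw [← Localization.AtPrime.map_eq_maximalIdeal, ← Submodule.restrictScalars_mem R,
      Ideal.smul_restrictScalars, Submodule.restrictScalars_top]
  have key := (ModMax.main (A := A) (B := B) (N := X) (M := Y) u fun x hx => ?_).1 (A ⊗[R] Q)
  · let e : ∀ (Z : Type u) [AddCommGroup Z] [Module R Z] [Module A Z] [IsScalarTower R A Z],
        Z ⊗[A] (A ⊗[R] Q) ≃ₗ[R] Z ⊗[R] Q := fun Z _ _ _ _ =>
      (AlgebraTensorModule.cancelBaseChange R A A Z Q).restrictScalars R
    rw [LinearMap.lTensor_inj_iff_rTensor_inj]
    have hcomm : ∀ z, ((LocalizedModule.map q.primeCompl α).restrictScalars R).rTensor Q (e X z) =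
        e Y (u.rTensor (A ⊗[R] Q) z) := fun z => by
      induction z using TensorProduct.induction_on with
      | zero => simp
      | add a b ha hb => simp only [map_add, ha, hb]
      | tmul x w =>
        induction w using TensorProduct.induction_on with
        | zero => simp
        | add a b ha hb => simp only [tmul_add, map_add, ha, hb]
        | tmul a m => simp [e, u]; rfl
    intro z z' h
    obtain ⟨z, rfl⟩ := (e X).surjective z
    obtain ⟨z', rfl⟩ := (e X).surjective z'
    rw [hcomm, hcomm] at h
    rw [key ((e Y).injective h)]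
  · obtain ⟨⟨f, s⟩, hsf⟩ := IsLocalizedModule.surj q.primeCompl (LocalizedModule.mkLinearMap q.primeCompl (Fin r → S)) x
    have hsm : (s : S) • u x = LocalizedModule.mkLinearMap q.primeCompl N (α f) := by
      show (s : S) • LocalizedModule.map q.primeCompl α x = _
      rw [← LinearMap.map_smul_of_tower, show (s : S) • x =
        LocalizedModule.mkLinearMap q.primeCompl (Fin r → S) f from hsf]
      simp [LocalizedModule.map_mk]
    have hJ : ∀ {M : Type u} [AddCommGroup M] [Module R M] [Module S M] [IsScalarTower R S M] (z : M),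
        z ∈ rr • (⊤ : Submodule R M) ↔ z ∈ J • (⊤ : Submodule S M) := fun z => by
      rw [← Submodule.restrictScalars_mem R (J • ⊤), Ideal.smul_restrictScalars, Submodule.restrictScalars_top]
    have h1 : LocalizedModule.mkLinearMap q.primeCompl N (α f) ∈ J • (⊤ : Submodule S Y) := by
      rw [← hsm]; exact Submodule.smul_mem _ _ ((hJ _).mp ((hmax _).mp hx))
    obtain ⟨t, ht, w, hw, htw⟩ := FlatAtAssoc.exists_smul_mem q.primeCompl
      (LocalizedModule.mkLinearMap q.primeCompl N) J _ h1
    rw [← map_smul] at htw
    obtain ⟨c, hc⟩ := IsLocalizedModule.exists_of_eq (S := q.primeCompl) htw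
    have h2 : α (((c : S) * t) • f) ∈ J • (⊤ : Submodule S N) := by
      rw [map_smul, mul_smul]
      exact hc ▸ Submodule.smul_mem _ _ hw
    have h3 : ∀ i, f i ∈ J := fun i => by
      refine (Ideal.IsPrime.mem_or_mem inferInstance
        (apply_mem_of_injective J α hα _ h2 i)).resolve_left fun h => ?_
      exact (Ideal.IsPrime.mem_or_mem inferInstance h).elim (fun h => c.2 (hJq h)) (fun h => ht (hJq h))
    have h4 : f ∈ J • (⊤ : Submodule S (Fin r → S)) := by
      classical
      rw [pi_eq_sum_univ f]
      exact Submodule.sum_mem _ fun i _ => Submodule.smul_mem_smul (h3 i) trivial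
    have h5 : (s : S) • x ∈ J • (⊤ : Submodule S X) := by
      rw [show (s : S) • x = LocalizedModule.mkLinearMap q.primeCompl (Fin r → S) f from hsf]
      exact Submodule.smul_top_le_comap_smul_top J _ h4
    refine (hmax _).mpr ((hJ _).mpr ?_)
    have hu : IsUnit (algebraMap S B s) := IsLocalization.map_units B s
    obtain ⟨v, hv⟩ := hu.exists_left_inv
    have hx' : x = v • ((s : S) • x) := by
      rw [← algebraMap_smul B (s : S) x, smul_smul, hv, one_smul]
    rw [hx']
    refine Submodule.smul_induction_on h5 (fun j hj y _ => ?_) fun a b ha hb => ?_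
    · rw [smul_comm]; exact Submodule.smul_mem_smul hj trivial
    · rw [smul_add]; exact add_mem ha hb

end Groth.Agent.H7Flat.FiberBasis
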