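import Groth.Agent.H7Flat.GenericFreeness
import Groth.Agent.H7Flat.FibreRegular
import Groth.Agent.H7Flat.WeakAssTensor
import Groth.Agent.H28Top.Noeth
import Mathlib.RingTheory.Spectrum.Prime.ConstructibleSet

/-!
The locus where a family in a flat finitely presented module is independent on the fibre is open.
-/

set_option autoImplicit false
universe u

namespace Groth.Agent.H7Flat.FibreIndependence

open TensorProduct FlatMor

attribute [local instance] Algebra.TensorProduct.rightAlgebra

set_option backward.isDefEq.respectTransparency false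
set_option maxHeartbeats 1000000
set_option synthInstance.maxHeartbeats 400000

/-- The independence of the family `y` on the fibre at a prime. -/
def Indep {R M : Type u} [CommRing R] [AddCommGroup M] [Module R M] {ι : Type*} (y : ι → M)
    (p : PrimeSpectrum R) : Prop :=
  LinearIndependent p.asIdeal.ResidueField fun i => (1 : p.asIdeal.ResidueField) ⊗ₜ[R] y i

/-- Relations descend along field extensions. -/
theorem linearIndependent_of_extend {A k K N : Type u} [CommRing A] [Field k] [Field K]
    [Algebra A k] [Algebra A K] [Algebra k K] [IsScalarTower A k K] [AddCommGroup N] [Module A N]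
    {ι : Type*} [Fintype ι] {y : ι → N}
    (hy : LinearIndependent K fun i => (1 : K) ⊗ₜ[A] y i) :
    LinearIndependent k fun i => (1 : k) ⊗ₜ[A] y i := by
  rw [Fintype.linearIndependent_iff] at hy ⊢
  intro c hc i
  have h1 : ((IsScalarTower.toAlgHom A k K).toLinearMap.rTensor N)
      (∑ i, c i • ((1 : k) ⊗ₜ[A] y i)) = ∑ i, algebraMap k K (c i) • ((1 : K) ⊗ₜ[A] y i) := by
    rw [map_sum]
    refine Finset.sum_congr rfl fun j _ => ?_
    simp [smul_tmul', ← Algebra.algebraMap_eq_smul_one]
  rw [hc, map_zero] at h1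
  exact (algebraMap k K).injective ((hy _ h1.symm i).trans (map_zero _).symm)

/-- Independence on fibres is insensitive to base change of the base. -/
theorem indep_baseChange_iff {R₁ R N₁ N : Type u} [CommRing R₁] [CommRing R] [Algebra R₁ R]
    [AddCommGroup N₁] [Module R₁ N₁] [AddCommGroup N] [Module R N] [Module R₁ N]
    [IsScalarTower R₁ R N] {γ : N₁ →ₗ[R₁] N} (hγ : IsBaseChange R γ) {ι : Type*} [Fintype ι]
    (y : ι → N₁) (p : PrimeSpectrum R) :
    Indep (fun i => γ (y i)) p ↔ Indep y (PrimeSpectrum.comap (algebraMap R₁ R) p) := by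
  let p₁ := (PrimeSpectrum.comap (algebraMap R₁ R) p).asIdeal
  let K := p.asIdeal.ResidueField
  have : p.asIdeal.LiesOver p₁ := ⟨rfl⟩
  let ν : p₁.ResidueField →ₐ[R₁] K :=
    Ideal.ResidueField.mapₐ p₁ p.asIdeal (Algebra.ofId R₁ R) (p.asIdeal.over_def p₁)
  let : Algebra p₁.ResidueField K := ν.toRingHom.toAlgebra
  have : IsScalarTower R₁ p₁.ResidueField K :=
    IsScalarTower.of_algebraMap_eq fun r => (ν.commutes r).symm
  let e := (hγ.tensorEquiv K).symm
  have he : ∀ (k : K) (x : N₁), e (k ⊗ₜ x) = k ⊗ₜ γ x := fun k x => by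
    simp [e, IsBaseChange.tensorEquiv, IsBaseChange.equiv_tmul]
  have hK : Indep (fun i => γ (y i)) p ↔
      LinearIndependent K fun i => (1 : K) ⊗ₜ[R₁] y i := by
    unfold Indep
    rw [Fintype.linearIndependent_iff, Fintype.linearIndependent_iff]
    refine forall_congr' fun c => ?_
    have hsum : ∑ i, c i • ((1 : K) ⊗ₜ[R] γ (y i)) = e (∑ i, c i • ((1 : K) ⊗ₜ[R₁] y i)) := by
      rw [map_sum]
      refine Finset.sum_congr rfl fun i _ => ?_
      rw [smul_tmul', smul_tmul', he]
    rw [hsum, e.map_eq_zero_iff]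
  rw [hK]
  exact ⟨linearIndependent_of_extend (k := p₁.ResidueField),
    WeakAssTensor.linearIndependent_extend (k := p₁.ResidueField)⟩

/-- A retraction of a family up to a scalar invertible at a prime gives independence there. -/
theorem indep_of_retraction {R M : Type u} [CommRing R] [AddCommGroup M] [Module R M]
    {ι : Type u} [Fintype ι] [DecidableEq ι] (y : ι → M) (q : PrimeSpectrum R)
    (Φ : M →ₗ[R] (ι → q.asIdeal.ResidueField)) (r : q.asIdeal.ResidueField) (hr : r ≠ 0)
    (hΦ : ∀ i, Φ (y i) = Pi.single i r) : Indep y q := by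
  unfold Indep
  rw [Fintype.linearIndependent_iff]
  intro c hc j
  have h1 := congrArg (fun z => (Φ.liftBaseChange q.asIdeal.ResidueField z) j) hc
  simp only [map_sum, map_smul, LinearMap.liftBaseChange_tmul, one_smul, hΦ, map_zero,
    Finset.sum_apply, Pi.smul_apply, Pi.zero_apply, smul_eq_mul, Pi.single_apply, mul_ite,
    mul_zero, Finset.sum_ite_eq, Finset.mem_univ, if_true] at h1
  exact (mul_eq_zero.mp h1).resolve_right hr

/-- A family independent at the generic point of a closed irreducible set is independent on a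
nonempty open of it, for modules generically free. -/
theorem exists_retraction {R L K M F : Type u} [CommRing R] [CommRing L] [Field K] [Algebra R L]
    [Algebra R K] [Algebra L K] [IsScalarTower R L K] (hinj : Function.Injective (algebraMap L K))
    (hfrac : ∀ {κ : Type u} [Finite κ] (c : κ → K), ∃ r : R, algebraMap R K r ≠ 0 ∧
      ∃ l : κ → L, ∀ i, algebraMap R K r * c i = algebraMap L K (l i))
    [AddCommGroup M] [Module R M] [AddCommGroup F] [Module L F] [Module R F] [IsScalarTower R L F]
    [Module.Free L F] {ψ : M →ₗ[R] F} (hψ : IsBaseChange L ψ) {ι : Type u} [Fintype ι]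
    [DecidableEq ι] (y : ι → M) (hy : LinearIndependent K fun i => (1 : K) ⊗ₜ[R] y i) :
    ∃ r : R, algebraMap R K r ≠ 0 ∧ ∃ φ : F →ₗ[L] (ι → L),
      ∀ i, φ (ψ (y i)) = Pi.single i (algebraMap R L r) := by
  classical
  let f : (ι → K) →ₗ[K] K ⊗[R] M := Fintype.linearCombination K fun i => (1 : K) ⊗ₜ[R] y i
  obtain ⟨g, hg⟩ := f.exists_leftInverse_of_injective
    (LinearMap.ker_eq_bot.mpr hy.fintypeLinearCombination_injective)
  let G := hψ.tensorEquiv K
  let h : F →ₗ[L] (ι → K) :=
    (g.restrictScalars L) ∘ₗ G.toLinearMap.restrictScalars L ∘ₗ TensorProduct.mk L K F 1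
  have hG : ∀ i, G ((1 : K) ⊗ₜ[L] ψ (y i)) = (1 : K) ⊗ₜ[R] y i := fun i => by
    apply G.symm.injective
    rw [G.symm_apply_apply]
    simp [G, IsBaseChange.tensorEquiv, IsBaseChange.equiv_tmul]
  have hh : ∀ i, h (ψ (y i)) = Pi.single i 1 := fun i => by
    change g (G ((1 : K) ⊗ₜ[L] ψ (y i))) = _
    rw [hG, show (1 : K) ⊗ₜ[R] y i = f (Pi.single i 1) by
      simp [f, Fintype.linearCombination_apply_single]]
    exact LinearMap.congr_fun hg _
  let b := Module.Free.chooseBasis L F
  let J := Finset.univ.biUnion fun i => (b.repr (ψ (y i))).support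
  obtain ⟨r, hr, l, hl⟩ := hfrac fun x : J × ι => h (b x.1) x.2
  refine ⟨r, hr, b.constr L fun j => if hj : j ∈ J then fun m => l (⟨j, hj⟩, m) else 0,
    fun i => funext fun m => hinj ?_⟩
  have h2 : algebraMap R K r * h (ψ (y i)) m = ∑ j ∈ (b.repr (ψ (y i))).support,
      algebraMap L K (b.repr (ψ (y i)) j) * (algebraMap R K r * h (b j) m) := by
    conv_lhs => rw [← b.linearCombination_repr (ψ (y i)), Finsupp.linearCombination_apply,
      Finsupp.sum, map_sum, Finset.sum_apply, Finset.mul_sum]
    refine Finset.sum_congr rfl fun j _ => ?_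
    rw [map_smul, Pi.smul_apply, Algebra.smul_def]
    ring
  rw [Module.Basis.constr_apply, Finsupp.sum, Finset.sum_apply, map_sum]
  refine Eq.trans ?_ ((h2.symm).trans (by
    rw [hh, Pi.single_apply, Pi.single_apply]
    split <;> simp [← IsScalarTower.algebraMap_apply]))
  refine Finset.sum_congr rfl fun j hj => ?_
  have hjJ : j ∈ J := Finset.mem_biUnion.mpr ⟨i, Finset.mem_univ i, hj⟩
  rw [dif_pos hjJ, Pi.smul_apply, smul_eq_mul, map_mul, hl (⟨j, hjJ⟩, m)]

/-- Denominators of residue fields, in an intermediate algebra. -/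
theorem exists_scale' {R L : Type u} [CommRing R] [CommRing L] [Algebra R L] (p : Ideal R)
    [p.IsPrime] [Algebra L p.ResidueField] [IsScalarTower R L p.ResidueField] {κ : Type u}
    [Finite κ] (c : κ → p.ResidueField) : ∃ r : R, algebraMap R p.ResidueField r ≠ 0 ∧
      ∃ l : κ → L, ∀ i, algebraMap R p.ResidueField r * c i = algebraMap L p.ResidueField (l i) := by
  obtain ⟨r, hr, l, hl⟩ := WeakAssTensor.exists_scale p c
  exact ⟨r, mt Ideal.algebraMap_residueField_eq_zero.mp hr, fun i => algebraMap R L (l i),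
    fun i => (hl i).trans (IsScalarTower.algebraMap_apply R L p.ResidueField (l i))⟩

/-- Generic freeness of a base change. -/
theorem exists_away_free_baseChange (R' : Type u) {R S M : Type u} [CommRing R] [CommRing R']
    [IsReduced R'] [Nontrivial R'] [Algebra R R'] [CommRing S] [Algebra R S]
    [Algebra.FiniteType R S] [AddCommGroup M] [Module S M] [Module R M] [IsScalarTower R S M]
    [Module.Finite S M] :
    ∃ f : R', f ≠ 0 ∧ ∃ (F : Type u) (_ : AddCommGroup F) (_ : Module (Localization.Away f) F)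
      (_ : Module R F) (_ : IsScalarTower R (Localization.Away f) F) (ψ : M →ₗ[R] F),
      Module.Free (Localization.Away f) F ∧ IsBaseChange (Localization.Away f) ψ := by
  let S' := R' ⊗[R] S
  let M' := S' ⊗[S] M
  have : IsScalarTower R R' M' := IsScalarTower.of_algebraMap_smul fun r x => by
    rw [← algebraMap_smul S' (algebraMap R R' r) x, ← IsScalarTower.algebraMap_apply,
      algebraMap_smul]
  have hb : IsBaseChange R' ((TensorProduct.mk S S' M 1).restrictScalars R) :=
    Groth.Agent.H8Props.FlatAtBC.isBaseChange_restrictScalars (R := R) (R' := R') (S := S)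
      (S' := S') (TensorProduct.mk S S' M 1) (TensorProduct.isBaseChange S M S')
  obtain ⟨f, hf, -, hfree⟩ :=
    Groth.Agent.H7Flat.exists_free_baseChange (R := R') S' M' 1 one_ne_zero
  exact ⟨f, hf, Localization.Away f ⊗[R'] M', inferInstance, inferInstance, inferInstance,
    inferInstance, _, hfree f dvd_rfl,
    IsBaseChange.comp hb (TensorProduct.isBaseChange R' M' (Localization.Away f))⟩

/-- A family independent at a prime is independent at the nearby primes of its closure. -/
theorem exists_open_indep {R S M : Type u} [CommRing R] [CommRing S] [Algebra R S]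
    [Algebra.FiniteType R S] [AddCommGroup M] [Module S M] [Module R M] [IsScalarTower R S M]
    [Module.Finite S M] {ι : Type u} [Fintype ι] (y : ι → M) (p : PrimeSpectrum R)
    (hp : Indep y p) :
    ∃ a ∉ p.asIdeal, ∀ q : PrimeSpectrum R, p.asIdeal ≤ q.asIdeal → a ∉ q.asIdeal → Indep y q := by
  classical
  let R' := R ⧸ p.asIdeal
  obtain ⟨f, hf, F, _, hmod, _, _, ψ, hfree, hψ⟩ :=
    exists_away_free_baseChange R' (R := R) (S := S) (M := M)
  obtain ⟨f₀, rfl⟩ := Ideal.Quotient.mk_surjective f
  have hf₀ : f₀ ∉ p.asIdeal := fun h => hf (Ideal.Quotient.eq_zero_iff_mem.mpr h)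
  let L := Localization.Away (Ideal.Quotient.mk p.asIdeal f₀)
  have key : ∀ q : PrimeSpectrum R, p.asIdeal ≤ q.asIdeal → f₀ ∉ q.asIdeal →
      ∃ g : L →+* q.asIdeal.ResidueField,
        ∀ r : R, g (algebraMap R L r) = algebraMap R _ r := by
    intro q hpq hq
    let g₀ : R' →+* q.asIdeal.ResidueField :=
      Ideal.Quotient.lift p.asIdeal (algebraMap R q.asIdeal.ResidueField)
        fun a ha => Ideal.algebraMap_residueField_eq_zero.mpr (hpq ha)
    have hu : IsUnit (g₀ (Ideal.Quotient.mk p.asIdeal f₀)) := by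
      rw [Ideal.Quotient.lift_mk]
      exact IsUnit.mk0 _ (mt Ideal.algebraMap_residueField_eq_zero.mp hq)
    refine ⟨IsLocalization.Away.lift _ hu, fun r => ?_⟩
    rw [IsScalarTower.algebraMap_apply R R' L, IsLocalization.Away.lift_eq]
    exact Ideal.Quotient.lift_mk _ _ _
  obtain ⟨gp, hgp⟩ := key p le_rfl hf₀
  let : Algebra L p.asIdeal.ResidueField := gp.toAlgebra
  have : IsScalarTower R L p.asIdeal.ResidueField :=
    IsScalarTower.of_algebraMap_eq fun r => (hgp r).symm
  have hinj : Function.Injective (algebraMap L p.asIdeal.ResidueField) := by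
    rw [injective_iff_map_eq_zero]
    intro x hx
    obtain ⟨n, a, ha⟩ := IsLocalization.Away.surj (Ideal.Quotient.mk p.asIdeal f₀) x
    obtain ⟨a, rfl⟩ := Ideal.Quotient.mk_surjective a
    have h1 := congrArg (algebraMap L p.asIdeal.ResidueField) ha
    rw [map_mul, hx, zero_mul] at h1
    have h2 : algebraMap R p.asIdeal.ResidueField a = 0 := by
      rw [IsScalarTower.algebraMap_apply R L, h1, IsScalarTower.algebraMap_apply R R' L]
      rfl
    have h3 : Ideal.Quotient.mk p.asIdeal a = 0 :=
      Ideal.Quotient.eq_zero_iff_mem.mpr (Ideal.algebraMap_residueField_eq_zero.mp h2)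
    rw [h3, map_zero] at ha
    refine (IsUnit.mul_left_eq_zero ?_).mp ha
    exact (IsLocalization.Away.algebraMap_isUnit _).pow n
  obtain ⟨r, hr, φ, hφ⟩ := exists_retraction (L := L) (K := p.asIdeal.ResidueField)
    hinj (fun c => exists_scale' p.asIdeal c) hψ y hp
  refine ⟨f₀ * r, fun h => (Ideal.IsPrime.mem_or_mem inferInstance h).elim hf₀
    fun h => hr (Ideal.algebraMap_residueField_eq_zero.mpr h), fun q hpq hq => ?_⟩
  obtain ⟨g, hg⟩ := key q hpq fun h => hq (q.asIdeal.mul_mem_right _ h)
  let : Algebra L q.asIdeal.ResidueField := g.toAlgebra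
  have : IsScalarTower R L q.asIdeal.ResidueField :=
    IsScalarTower.of_algebraMap_eq fun r => (hg r).symm
  refine indep_of_retraction y q
    (((LinearMap.pi fun i => (Algebra.linearMap L q.asIdeal.ResidueField) ∘ₗ LinearMap.proj i) ∘ₗ
      φ).restrictScalars R ∘ₗ ψ)
    (algebraMap R _ r) (fun h => hq (q.asIdeal.mul_mem_left _
      (Ideal.algebraMap_residueField_eq_zero.mp h))) fun i => funext fun j => ?_
  have h1 := congrFun (hφ i) j
  change algebraMap L q.asIdeal.ResidueField (φ _ j) = _
  rw [h1, Pi.single_apply, Pi.single_apply]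
  split
  · exact (hg r)
  · exact map_zero _

/-- A family dependent at a prime is dependent at the nearby primes of its closure. -/
theorem exists_open_not_indep {R M : Type u} [CommRing R] [AddCommGroup M] [Module R M]
    {ι : Type u} [Fintype ι] (y : ι → M) (p : PrimeSpectrum R) (hp : ¬ Indep y p) :
    ∃ a ∉ p.asIdeal, ∀ q : PrimeSpectrum R, p.asIdeal ≤ q.asIdeal → a ∉ q.asIdeal →
      ¬ Indep y q := by
  unfold Indep at hp
  rw [Fintype.linearIndependent_iff] at hp
  push Not at hp
  obtain ⟨c, hc, j, hj⟩ := hp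
  obtain ⟨r, hr, l, hl⟩ := WeakAssTensor.exists_scale p.asIdeal c
  have h0 : (1 : p.asIdeal.ResidueField) ⊗ₜ[R] (∑ i, l i • y i) = 0 := by
    have h1 := congrArg (algebraMap R p.asIdeal.ResidueField r • ·) hc
    simp only [Finset.smul_sum, smul_smul, hl, smul_zero] at h1
    rw [← h1, tmul_sum]
    refine Finset.sum_congr rfl fun i _ => ?_
    rw [tmul_smul, algebraMap_smul]
  have hlj : l j ∉ p.asIdeal := fun h => by
    have h1 := hl j
    rw [Ideal.algebraMap_residueField_eq_zero.mpr h] at h1
    exact (mul_eq_zero.mp h1).elim (mt Ideal.algebraMap_residueField_eq_zero.mp hr) hj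
  obtain ⟨d, hd, hdn⟩ := (Groth.Agent.H02CA.FibreAss.toFiberMod_eq_zero_iff (S := R) p.asIdeal _).mp
    (WeakAssTensor.fiber_eq_zero_of_one_tmul (S := R) p.asIdeal _ h0)
  rw [Algebra.algebraMap_self, Ideal.map_id, RingHom.id_apply] at hdn
  refine ⟨d * l j, fun h => (Ideal.IsPrime.mem_or_mem inferInstance h).elim hd hlj,
    fun q hpq hq hind => ?_⟩
  unfold Indep at hind
  rw [Fintype.linearIndependent_iff] at hind
  have hq0 : ∀ w ∈ p.asIdeal • (⊤ : Submodule R M), (1 : q.asIdeal.ResidueField) ⊗ₜ[R] w = 0 := by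
    intro w hw
    refine Submodule.smul_induction_on hw (fun a ha n _ => ?_)
      (fun a b ha hb => by rw [tmul_add, ha, hb, add_zero])
    rw [tmul_smul, smul_tmul', Algebra.smul_def, mul_one,
      Ideal.algebraMap_residueField_eq_zero.mpr (hpq ha), zero_tmul]
  have h2 : ∑ i, algebraMap R q.asIdeal.ResidueField (d * l i) •
      ((1 : q.asIdeal.ResidueField) ⊗ₜ[R] y i) = 0 := by
    rw [← hq0 _ hdn, Finset.smul_sum, tmul_sum]
    refine Finset.sum_congr rfl fun i _ => ?_
    rw [algebraMap_smul, ← tmul_smul, mul_smul]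
  exact hq (Ideal.algebraMap_residueField_eq_zero.mp (hind _ h2 j))

/-- Over a Noetherian ring the independence locus is constructible. -/
theorem isConstructible_indep_noetherian {R S M : Type u} [CommRing R] [IsNoetherianRing R]
    [CommRing S] [Algebra R S] [Algebra.FiniteType R S] [AddCommGroup M] [Module S M] [Module R M]
    [IsScalarTower R S M] [Module.Finite S M] {ι : Type u} [Fintype ι] (y : ι → M) :
    Topology.IsConstructible {q : PrimeSpectrum R | Indep y q} := by
  refine H28Top.isConstructible_of_forall_irreducible fun Y hY hirr hdense => ?_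
  obtain ⟨p, hp⟩ := QuasiSober.sober hirr hY
  have hgen : ∀ q ∈ Y, p.asIdeal ≤ q.asIdeal := fun q hq =>
    (PrimeSpectrum.le_iff_specializes p q).mpr (hp.specializes hq)
  have hopen : ∀ a : R, IsOpen {q : PrimeSpectrum R | a ∉ q.asIdeal} := fun a =>
    (PrimeSpectrum.basicOpen a).2
  by_cases h : Indep y p
  · obtain ⟨a, ha, hq⟩ := exists_open_indep (S := S) y p h
    exact ⟨_, hopen a, ⟨p, ha, hp.mem⟩, fun q hq' => hq q (hgen q hq'.2) hq'.1⟩
  · exfalso
    obtain ⟨a, ha, hq⟩ := exists_open_not_indep y p h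
    obtain ⟨q, hqa, hqE, hqY⟩ := mem_closure_iff.mp (hdense hp.mem) _ (hopen a) ha
    exact hq q (hgen q hqY) hqa hqE

/-- The independence locus is stable under generalisation. -/
theorem indep_of_le {R N : Type u} [CommRing R] [AddCommGroup N] [Module R N] [Module.Flat R N]
    {ι : Type u} [Fintype ι] (y : ι → N) {p q : PrimeSpectrum R} (hqp : q.asIdeal ≤ p.asIdeal)
    (hp : Indep y p) : Indep y q := by
  have hyp : ∀ l : ι → R, (1 : p.asIdeal.ResidueField) ⊗ₜ[R] (∑ i, l i • y i) = 0 →
      ∀ i, l i ∈ p.asIdeal := by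
    intro l hl i
    refine Ideal.algebraMap_residueField_eq_zero.mp
      (Fintype.linearIndependent_iff.mp hp (fun i => algebraMap R _ (l i)) ?_ i)
    rw [← hl, tmul_sum]
    exact Finset.sum_congr rfl fun i _ => by rw [algebraMap_smul, tmul_smul]
  by_contra hq
  unfold Indep at hq
  rw [Fintype.linearIndependent_iff] at hq
  push Not at hq
  obtain ⟨c, hc, j, hj⟩ := hq
  obtain ⟨r, hr, l, hl⟩ := WeakAssTensor.exists_scale q.asIdeal c
  have h0 : (1 : q.asIdeal.ResidueField) ⊗ₜ[R] (∑ i, l i • y i) = 0 := by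
    have h1 := congrArg (algebraMap R q.asIdeal.ResidueField r • ·) hc
    simp only [Finset.smul_sum, smul_smul, hl, smul_zero] at h1
    rw [← h1, tmul_sum]
    refine Finset.sum_congr rfl fun i _ => ?_
    rw [tmul_smul, algebraMap_smul]
  obtain ⟨d, hd, hdn⟩ := (Groth.Agent.H02CA.FibreAss.toFiberMod_eq_zero_iff (S := R) q.asIdeal _).mp
    (WeakAssTensor.fiber_eq_zero_of_one_tmul (S := R) q.asIdeal _ h0)
  rw [Algebra.algebraMap_self, Ideal.map_id, RingHom.id_apply, Finset.smul_sum] at hdn
  simp only [smul_smul] at hdn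
  have hsum : ∑ i, y i ⊗ₜ[R] Ideal.Quotient.mk q.asIdeal (d * l i) = 0 := by
    apply (TensorProduct.tensorQuotEquivQuotSMul N q.asIdeal).injective
    rw [map_sum, map_zero]
    simp only [TensorProduct.tensorQuotEquivQuotSMul_tmul_mk, ← Submodule.mkQ_apply, ← map_sum]
    rw [Submodule.mkQ_apply, Submodule.Quotient.mk_eq_zero]
    exact hdn
  obtain ⟨e, he, hej⟩ := WeakAssTensor.exists_notMem_smul_eq_zero p.asIdeal y _ hyp hsum
  have hmem : e * (d * l j) ∈ q.asIdeal := Ideal.Quotient.eq_zero_iff_mem.mp (hej j)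
  have hlj : l j ∉ q.asIdeal := fun h => by
    have h1 := hl j
    rw [Ideal.algebraMap_residueField_eq_zero.mpr h] at h1
    exact (mul_eq_zero.mp h1).elim (mt Ideal.algebraMap_residueField_eq_zero.mp hr) hj
  rcases Ideal.IsPrime.mem_or_mem inferInstance hmem with h | h
  · exact he (hqp h)
  · exact (Ideal.IsPrime.mem_or_mem inferInstance h).elim hd hlj

/-- The independence locus is constructible, given a model. -/
theorem isConstructible_indep_of_model {R R₁ S₁ N N₁ : Type u} [CommRing R] [CommRing R₁]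
    [IsNoetherianRing R₁] [CommRing S₁] [Algebra R₁ S₁] [Algebra.FiniteType R₁ S₁] [Algebra R₁ R]
    [AddCommGroup N₁] [Module S₁ N₁] [Module R₁ N₁] [IsScalarTower R₁ S₁ N₁] [Module.Finite S₁ N₁]
    [AddCommGroup N] [Module R N] [Module R₁ N] [IsScalarTower R₁ R N] {γ : N₁ →ₗ[R₁] N}
    (hγ : IsBaseChange R γ) {ι : Type u} [Fintype ι] (y₁ : ι → N₁) :
    Topology.IsConstructible {q : PrimeSpectrum R | Indep (fun i => γ (y₁ i)) q} := by
  obtain ⟨C, hC⟩ := PrimeSpectrum.exists_constructibleSetData_iff.mpr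
    (isConstructible_indep_noetherian (R := R₁) (S := S₁) (M := N₁) y₁)
  rw [show {q : PrimeSpectrum R | Indep (fun i => γ (y₁ i)) q} = (C.map (algebraMap R₁ R)).toSet by
    rw [PrimeSpectrum.ConstructibleSetData.toSet_map, hC]
    ext q
    exact indep_baseChange_iff hγ y₁ q]
  exact PrimeSpectrum.ConstructibleSetData.isConstructible_toSet _

/-- A family generated over a Noetherian stage has constructible independence locus. -/
theorem isConstructible_indep_of_stage {R R₀ S₀ R₁ N N₀ : Type u} [CommRing R] [CommRing R₀]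
    [CommRing S₀] [Algebra R₀ S₀] [Algebra.FiniteType R₀ S₀] [Algebra R₀ R] [CommRing R₁]
    [IsNoetherianRing R₁] [Algebra R₀ R₁] [Algebra R₁ R] [IsScalarTower R₀ R₁ R]
    [AddCommGroup N₀] [Module S₀ N₀] [Module R₀ N₀] [IsScalarTower R₀ S₀ N₀] [Module.Finite S₀ N₀]
    [AddCommGroup N] [Module R N] [Module R₀ N] [IsScalarTower R₀ R N] {g : N₀ →ₗ[R₀] N}
    (hg : IsBaseChange R g) {ι : Type u} [Fintype ι] (y : ι → N)
    (hy : ∀ i, ∃ (s : Finset (R × N₀)) (c : R × N₀ → R₁) (m : R × N₀ → N₀),
      ∑ x ∈ s, algebraMap R₁ R (c x) • g (m x) = y i) :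
    Topology.IsConstructible {q : PrimeSpectrum R | Indep y q} := by
  let S₁ := R₁ ⊗[R₀] S₀
  let g₁ : N₀ →ₗ[S₀] S₁ ⊗[S₀] N₀ := TensorProduct.mk S₀ S₁ N₀ 1
  have : IsScalarTower R₀ R₁ (S₁ ⊗[S₀] N₀) := IsScalarTower.of_algebraMap_smul fun r x => by
    rw [← algebraMap_smul S₁ (algebraMap R₀ R₁ r) x, ← IsScalarTower.algebraMap_apply,
      algebraMap_smul]
  have : IsScalarTower R₀ S₀ (S₁ ⊗[S₀] N₀) := IsScalarTower.of_algebraMap_smul fun r x => by
    rw [← algebraMap_smul S₁ (algebraMap R₀ S₀ r) x, ← IsScalarTower.algebraMap_apply,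
      algebraMap_smul]
  have hb₁ : IsBaseChange R₁ (g₁.restrictScalars R₀) :=
    Groth.Agent.H8Props.FlatAtBC.isBaseChange_restrictScalars (R := R₀) (R' := R₁) g₁
      (TensorProduct.isBaseChange S₀ N₀ S₁)
  let : Module R₁ N := Module.compHom N (algebraMap R₁ R)
  have : IsScalarTower R₁ R N := IsScalarTower.of_algebraMap_smul fun _ _ => rfl
  have : IsScalarTower R₀ R₁ N := IsScalarTower.of_algebraMap_smul fun r x => by
    change algebraMap R₁ R (algebraMap R₀ R₁ r) • x = r • x
    rw [← IsScalarTower.algebraMap_apply, algebraMap_smul]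
  let γ : S₁ ⊗[S₀] N₀ →ₗ[R₁] N := hb₁.lift g
  have hγ₀ : ∀ x, γ (g₁ x) = g x := fun x => hb₁.lift_eq g x
  have hγ : IsBaseChange R γ := by
    refine IsBaseChange.of_comp hb₁ ?_
    rw [show γ.restrictScalars R₀ ∘ₗ g₁.restrictScalars R₀ = g from LinearMap.ext hγ₀]
    exact hg
  choose s c m hcm using hy
  have h := isConstructible_indep_of_model (R := R) (R₁ := R₁) (S₁ := S₁) (N := N)
    (N₁ := S₁ ⊗[S₀] N₀) hγ (fun i => ∑ x ∈ s i, c i x • g₁ (m i x))
  have e : (fun i => γ (∑ x ∈ s i, c i x • g₁ (m i x))) = y := funext fun i => by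
    rw [map_sum, ← hcm i]
    exact Finset.sum_congr rfl fun x _ => by rw [map_smul, hγ₀, algebraMap_smul]
  rwa [e] at h

/-- A family in a base change from a stage comes from a Noetherian polynomial stage. -/
theorem isConstructible_indep_of_baseChange {R R₀ S₀ N N₀ : Type u} [CommRing R] [CommRing R₀]
    [IsNoetherianRing R₀] [CommRing S₀] [Algebra R₀ S₀] [Algebra.FiniteType R₀ S₀] [Algebra R₀ R]
    [AddCommGroup N₀] [Module S₀ N₀] [Module R₀ N₀] [IsScalarTower R₀ S₀ N₀] [Module.Finite S₀ N₀]
    [AddCommGroup N] [Module R N] [Module R₀ N] [IsScalarTower R₀ R N] {g : N₀ →ₗ[R₀] N}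
    (hg : IsBaseChange R g) {ι : Type u} [Fintype ι] (y : ι → N) :
    Topology.IsConstructible {q : PrimeSpectrum R | Indep y q} := by
  classical
  choose w hw using fun i => hg.equiv.surjective (y i)
  choose T hT using fun i => TensorProduct.exists_finset (w i)
  let U := Finset.univ.biUnion T
  let : Algebra (MvPolynomial U R₀) R :=
    (MvPolynomial.aeval fun x : U => (x : R × N₀).1).toRingHom.toAlgebra
  have : IsScalarTower R₀ (MvPolynomial U R₀) R :=
    IsScalarTower.of_algebraMap_eq fun x => (AlgHom.commutes _ x).symm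
  refine isConstructible_indep_of_stage (R₁ := MvPolynomial U R₀) (S₀ := S₀) hg y fun i =>
    ⟨T i, fun x => if h : x ∈ T i then
      MvPolynomial.X ⟨x, Finset.mem_biUnion.mpr ⟨i, Finset.mem_univ i, h⟩⟩ else 0, Prod.snd, ?_⟩
  rw [← hw i, hT i, map_sum]
  refine Finset.sum_congr rfl fun x hx => ?_
  simp only [dif_pos hx, IsBaseChange.equiv_tmul]
  simp [RingHom.algebraMap_toAlgebra]

/-- The independence locus is open. -/
theorem isOpen_indep {R S : Type u} [CommRing R] [CommRing S] [Algebra R S]
    [Algebra.FinitePresentation R S] {N : Type u} [AddCommGroup N] [Module S N] [Module R N]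
    [IsScalarTower R S N] [Module.FinitePresentation S N] [Module.Flat R N] {ι : Type u}
    [Fintype ι] (y : ι → N) : IsOpen {q : PrimeSpectrum R | Indep y q} := by
  classical
  refine PrimeSpectrum.isOpen_of_stableUnderGeneralization_of_isConstructible
    (fun p q h hp => indep_of_le y ((PrimeSpectrum.le_iff_specializes q p).mpr h) hp) ?_
  obtain ⟨n, π, hπ, hker⟩ := Algebra.FinitePresentation.out (R := R) (A := S)
  let P := MvPolynomial (Fin n) R
  let : Algebra P S := π.toRingHom.toAlgebra
  have : IsScalarTower R P S := IsScalarTower.of_algebraMap_eq fun x => (π.commutes x).symm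
  have : Module.FinitePresentation P S :=
    Module.finitePresentation_of_surjective (Algebra.linearMap P S) hπ hker
  let : Module P N := Module.compHom N π.toRingHom
  have : IsScalarTower P S N := IsScalarTower.of_algebraMap_smul fun _ _ => rfl
  have : IsScalarTower R P N := IsScalarTower.of_algebraMap_smul fun a x => by
    change π (algebraMap R _ a) • x = a • x
    rw [π.commutes, algebraMap_smul]
  have : Module.FinitePresentation P N := Module.FinitePresentation.trans P N S
  let : Module Pᵐᵒᵖ N := Module.compHom N ((RingHom.id P).fromOpposite mul_comm)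
  have : IsCentralScalar P N := ⟨fun _ _ => rfl⟩
  obtain ⟨R₀, _, _, S₀, _, _, _, _, _, _, N₀, _, _, _, _, _, _, f, hR₀, hS₀, hN₀, -, hpush, hf⟩ :=
    Groth.Agent.H02CA.FlatModel.exists_model (M := N) π hπ (fun _ _ => rfl) hker
  have : IsNoetherianRing R₀ := Algebra.FiniteType.isNoetherianRing ℤ R₀
  let : Module R₀ N := Module.compHom N (algebraMap R₀ R)
  have : IsScalarTower R₀ R N := IsScalarTower.of_algebraMap_smul fun _ _ => rfl
  have : IsScalarTower R₀ S₀ N := IsScalarTower.of_algebraMap_smul fun r x => by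
    change algebraMap R₀ S₀ r • x = algebraMap R₀ R r • x
    rw [← algebraMap_smul S (algebraMap R₀ R r) x, ← algebraMap_smul S (algebraMap R₀ S₀ r) x,
      ← IsScalarTower.algebraMap_apply, ← IsScalarTower.algebraMap_apply]
  have : Algebra.IsPushout R₀ S₀ R S := hpush.symm
  exact isConstructible_indep_of_baseChange (S₀ := S₀)
    (Groth.Agent.H8Props.FlatAtBC.isBaseChange_restrictScalars (R := R₀) (R' := R) f hf) y

end Groth.Agent.H7Flat.FibreIndependence
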