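import Groth.Agent.H7Flat.PushoutRing
import Mathlib.AlgebraicGeometry.AffineScheme
import Mathlib.AlgebraicGeometry.Gluing
import Mathlib.AlgebraicGeometry.Cover.Open

/-!
# The spectrum of a fibre product of rings along a surjection is a pushout of schemes
-/

set_option autoImplicit false
set_option backward.isDefEq.respectTransparency false

universe u

open CategoryTheory AlgebraicGeometry Limits TopologicalSpace

namespace Groth.Agent.H7Flat

variable {R A' B A : Type u} [CommRing R] [CommRing A'] [CommRing B] [CommRing A]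
  {pa : R →+* A'} {pb : R →+* B} {p : A' →+* A} {q : B →+* A}

/-- `Spec` of a ring map. -/
noncomputable abbrev sm {S T : Type u} [CommRing S] [CommRing T] (f : S →+* T) :
    Spec (CommRingCat.of T) ⟶ Spec (CommRingCat.of S) := Spec.map (CommRingCat.ofHom f)

theorem sm_comp {S T U : Type u} [CommRing S] [CommRing T] [CommRing U] (f : S →+* T) (g : T →+* U) :
    sm (g.comp f) = sm g ≫ sm f := by
  rw [sm, sm, sm, ← Spec.map_comp, ← CommRingCat.ofHom_comp]

/-- `Spec` of the localization map. -/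
noncomputable abbrev smAway {S : Type u} [CommRing S] (r : S) :
    Spec (CommRingCat.of (Localization.Away r)) ⟶ Spec (CommRingCat.of S) :=
  sm (algebraMap S (Localization.Away r))

theorem range_smAway {S : Type u} [CommRing S] (r : S) :
    Set.range (smAway r) = (PrimeSpectrum.basicOpen r : Set (PrimeSpectrum S)) :=
  PrimeSpectrum.localization_away_comap_range _ r

instance {S : Type u} [CommRing S] (r : S) : IsOpenImmersion (smAway r) :=
  IsOpenImmersion.of_isLocalization r

theorem smAway_naturality {S T : Type u} [CommRing S] [CommRing T] (f : S →+* T) (r : S) (s : T) (h : f r = s) :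
    smAway s ≫ sm f = sm (awMap f r s h) ≫ smAway r := by
  rw [← sm_comp, ← sm_comp]
  congr 1
  ext x
  simp

/-- Every point of `Spec R` comes from `Spec A'` or `Spec B`. -/
theorem RingSq.exists_preimage (h : RingSq pa pb p q) (r : PrimeSpectrum R) :
    (∃ β : PrimeSpectrum B, PrimeSpectrum.comap pb β = r) ∨
      ∃ α : PrimeSpectrum A', PrimeSpectrum.comap pa α = r ∧ ∃ j, p j = 0 ∧ j ∉ α.asIdeal := by
  classical
  by_cases hr : RingHom.ker pb ≤ r.asIdeal
  · left
    have : r ∈ Set.range (PrimeSpectrum.comap pb) := by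
      rw [range_comap_of_surjective _ _ h.snd_surjective]
      exact hr
    exact this
  · right
    obtain ⟨j, hj, hjr⟩ := SetLike.not_le_iff_exists.1 hr
    have hlift : ∀ x : A', ∃ z, pa z = pa j * x ∧ pb z = 0 := fun x =>
      h.exists_lift _ 0 (by rw [map_mul, h.comm, show pb j = 0 from hj]; simp)
    choose ψ hψ₁ hψ₂ using hlift
    have hadd : ∀ x y, ψ (x + y) = ψ x + ψ y := fun x y =>
      h.ext _ _ (by rw [map_add, hψ₁, hψ₁, hψ₁, mul_add]) (by rw [map_add, hψ₂, hψ₂, hψ₂, add_zero])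
    have hmul : ∀ z x, ψ (pa z * x) = z * ψ x := fun z x =>
      h.ext _ _ (by rw [map_mul, hψ₁, hψ₁]; ring) (by rw [map_mul, hψ₂, hψ₂, mul_zero])
    have hψψ : ∀ x y, ψ x * ψ y = j * ψ (x * y) := fun x y =>
      h.ext _ _ (by rw [map_mul, map_mul, hψ₁, hψ₁, hψ₁]; ring) (by rw [map_mul, map_mul, hψ₂, hψ₂, hψ₂, mul_zero, mul_zero])
    have hψ1 : ψ 1 = j := h.ext _ _ (by rw [hψ₁, mul_one]) (by rw [hψ₂]; exact hj.symm)
    let P : Ideal A' :=
      { carrier := {x | ψ x ∈ r.asIdeal}
        add_mem' := fun {x y} hx hy => by show ψ (x + y) ∈ r.asIdeal; rw [hadd]; exact add_mem hx hy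
        zero_mem' := by
          show ψ 0 ∈ r.asIdeal
          have : ψ 0 = 0 := by
            have := hmul 0 1
            rw [map_zero, zero_mul, zero_mul] at this
            exact this
          rw [this]; exact zero_mem _
        smul_mem' := fun c x hx => by
          show ψ (c • x) ∈ r.asIdeal
          have h2 : ψ c * ψ x ∈ r.asIdeal := Ideal.mul_mem_left _ _ hx
          rw [hψψ] at h2
          exact (r.isPrime.mem_or_mem h2).resolve_left hjr }
    haveI : P.IsPrime := by
      refine ⟨?_, fun {x y} hxy => ?_⟩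
      · rw [Ideal.ne_top_iff_one]
        show ψ 1 ∉ r.asIdeal
        rwa [hψ1]
      · have h2 : ψ x * ψ y ∈ r.asIdeal := by rw [hψψ]; exact Ideal.mul_mem_left _ _ hxy
        exact r.isPrime.mem_or_mem h2
    refine ⟨⟨P, inferInstance⟩, ?_, pa j, by rw [h.comm, show pb j = 0 from hj, map_zero], ?_⟩
    · ext z
      show ψ (pa z) ∈ r.asIdeal ↔ z ∈ r.asIdeal
      rw [← mul_one (pa z), hmul, hψ1]
      exact ⟨fun hz => (r.isPrime.mem_or_mem hz).resolve_right hjr, fun hz => Ideal.mul_mem_right _ _ hz⟩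
    · show ψ (pa j) ∉ r.asIdeal
      rw [← mul_one (pa j), hmul, hψ1]
      exact fun hz => (r.isPrime.mem_or_mem hz).elim hjr hjr

variable {T : Scheme.{u}}

/-- Into an affine scheme: existence and uniqueness of the induced morphism. -/
theorem RingSq.existsUnique_of_isAffine [IsAffine T] (h : RingSq pa pb p q)
    (g : Spec (CommRingCat.of A') ⟶ T) (g' : Spec (CommRingCat.of B) ⟶ T) (hg : sm p ≫ g = sm q ≫ g') :
    ∃! φ : Spec (CommRingCat.of R) ⟶ T, sm pa ≫ φ = g ∧ sm pb ≫ φ = g' := by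
  obtain ⟨u, hu⟩ := Spec.homEquiv.symm.surjective (g ≫ T.isoSpec.hom)
  obtain ⟨v, hv⟩ := Spec.homEquiv.symm.surjective (g' ≫ T.isoSpec.hom)
  replace hu : Spec.map u = g ≫ T.isoSpec.hom := hu
  replace hv : Spec.map v = g' ≫ T.isoSpec.hom := hv
  have huv : u ≫ CommRingCat.ofHom p = v ≫ CommRingCat.ofHom q := by
    apply Spec.map_injective
    rw [Spec.map_comp, Spec.map_comp, hu, hv, ← Category.assoc, ← Category.assoc, hg]
  have hw : ∀ x, ∃ z, pa z = u x ∧ pb z = v x := fun x =>
    h.exists_lift _ _ (ConcreteCategory.congr_hom huv x)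
  choose w hw₁ hw₂ using hw
  let W : Γ(T, ⊤) →+* R :=
    { toFun := w
      map_one' := h.ext _ _ (by rw [hw₁, map_one, map_one]) (by rw [hw₂, map_one, map_one])
      map_mul' := fun x y => h.ext _ _ (by rw [hw₁, map_mul, map_mul, hw₁, hw₁]) (by rw [hw₂, map_mul, map_mul, hw₂, hw₂])
      map_zero' := h.ext _ _ (by rw [hw₁, map_zero, map_zero]) (by rw [hw₂, map_zero, map_zero])
      map_add' := fun x y => h.ext _ _ (by rw [hw₁, map_add, map_add, hw₁, hw₁]) (by rw [hw₂, map_add, map_add, hw₂, hw₂]) }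
  refine ⟨Spec.map (CommRingCat.ofHom W) ≫ T.isoSpec.inv, ⟨?_, ?_⟩, fun φ hφ => ?_⟩
  · rw [← Category.assoc, Iso.comp_inv_eq, ← hu, sm, ← Spec.map_comp]
    congr 1
    exact CommRingCat.hom_ext (RingHom.ext hw₁)
  · rw [← Category.assoc, Iso.comp_inv_eq, ← hv, sm, ← Spec.map_comp]
    congr 1
    exact CommRingCat.hom_ext (RingHom.ext hw₂)
  · obtain ⟨W', hW'⟩ := Spec.homEquiv.symm.surjective (φ ≫ T.isoSpec.hom)
    replace hW' : Spec.map W' = φ ≫ T.isoSpec.hom := hW'
    have e1 : W' ≫ CommRingCat.ofHom pa = u := by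
      apply Spec.map_injective
      rw [Spec.map_comp, hW', hu, ← Category.assoc]
      exact congrArg (· ≫ T.isoSpec.hom) hφ.1
    have e2 : W' ≫ CommRingCat.ofHom pb = v := by
      apply Spec.map_injective
      rw [Spec.map_comp, hW', hv, ← Category.assoc]
      exact congrArg (· ≫ T.isoSpec.hom) hφ.2
    have : W' = CommRingCat.ofHom W := CommRingCat.hom_ext (RingHom.ext fun x => h.ext _ _
      ((ConcreteCategory.congr_hom e1 x).trans (hw₁ x).symm)
      ((ConcreteCategory.congr_hom e2 x).trans (hw₂ x).symm))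
    rw [← this, hW', Category.assoc, Iso.hom_inv_id, Category.comp_id]

/-- A morphism out of `Spec R` is determined by its restrictions. -/
theorem RingSq.hom_ext (h : RingSq pa pb p q) {φ₁ φ₂ : Spec (CommRingCat.of R) ⟶ T}
    (ha : sm pa ≫ φ₁ = sm pa ≫ φ₂) (hb : sm pb ≫ φ₁ = sm pb ≫ φ₂) : φ₁ = φ₂ := by
  have hpt : ∀ r, φ₁ r = φ₂ r := by
    intro r
    obtain ⟨β, hβ⟩ | ⟨α, hα, -⟩ := h.exists_preimage r
    · rw [← hβ]; exact congrArg (fun m : Spec (CommRingCat.of B) ⟶ T => m β) hb
    · rw [← hα]; exact congrArg (fun m : Spec (CommRingCat.of A') ⟶ T => m α) ha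
  have hloc : ∀ r, ∃ (e : R) (W : T.Opens), IsAffineOpen W ∧ r ∈ PrimeSpectrum.basicOpen e ∧
      (PrimeSpectrum.basicOpen e : Set (PrimeSpectrum R)) ⊆ φ₁ ⁻¹' W := by
    intro r
    obtain ⟨W, hW, hrW, -⟩ := exists_isAffineOpen_mem_and_subset (Set.mem_univ (φ₁ r)) (U := (⊤ : T.Opens))
    obtain ⟨_, ⟨e, rfl⟩, hre, he⟩ := PrimeSpectrum.isTopologicalBasis_basic_opens.exists_subset_of_mem_open
      (show r ∈ φ₁ ⁻¹' W from hrW) (W.2.preimage φ₁.continuous)
    exact ⟨e, W, hW, hre, he⟩
  choose e W hW hre he using hloc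
  have hspan : Ideal.span (Set.range e) = ⊤ := by
    rw [← PrimeSpectrum.iSup_basicOpen_eq_top_iff]
    exact top_le_iff.1 fun r _ => Opens.mem_iSup.2 ⟨r, hre r⟩
  refine (Scheme.affineOpenCoverOfSpanRangeEqTop (R := CommRingCat.of R) e hspan).openCover.hom_ext _ _ fun r => ?_
  show smAway (e r) ≫ φ₁ = smAway (e r) ≫ φ₂
  haveI : IsAffine (W r) := hW r
  have hrange : ∀ {S : Type u} [CommRing S] (m : Spec (CommRingCat.of S) ⟶ Spec (CommRingCat.of (Localization.Away (e r))))
      (φ : Spec (CommRingCat.of R) ⟶ T), (∀ x, φ x = φ₁ x) → Set.range ((m ≫ smAway (e r) ≫ φ : Spec (CommRingCat.of S) ⟶ T)) ⊆ Set.range (W r).ι := by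
    intro S _ m φ hφ
    rw [Scheme.Opens.range_ι]
    rintro _ ⟨x, rfl⟩
    show φ (smAway (e r) (m x)) ∈ W r
    rw [hφ]
    exact he r (by rw [← range_smAway]; exact ⟨_, rfl⟩)
  have h1 : Set.range (smAway (e r) ≫ φ₁) ⊆ Set.range (W r).ι := by
    simpa using hrange (𝟙 _) φ₁ (fun _ => rfl)
  have h2 : Set.range (smAway (e r) ≫ φ₂) ⊆ Set.range (W r).ι := by
    simpa using hrange (𝟙 _) φ₂ (fun x => (hpt x).symm)
  rw [← IsOpenImmersion.lift_fac (W r).ι _ h1, ← IsOpenImmersion.lift_fac (W r).ι _ h2]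
  congr 1
  have hsq := h.localization (e r) (pa (e r)) (pb (e r)) (p (pa (e r))) rfl rfl rfl (h.comm (e r)).symm
  have ea : sm (awMap pa (e r) _ rfl) ≫ IsOpenImmersion.lift (W r).ι _ h2 =
      sm (awMap pa (e r) _ rfl) ≫ IsOpenImmersion.lift (W r).ι _ h1 := by
    rw [← cancel_mono (W r).ι, Category.assoc, Category.assoc, IsOpenImmersion.lift_fac,
      IsOpenImmersion.lift_fac, ← Category.assoc, ← Category.assoc, ← smAway_naturality, Category.assoc,
      Category.assoc, ha]
  have eb : sm (awMap pb (e r) _ rfl) ≫ IsOpenImmersion.lift (W r).ι _ h2 =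
      sm (awMap pb (e r) _ rfl) ≫ IsOpenImmersion.lift (W r).ι _ h1 := by
    rw [← cancel_mono (W r).ι, Category.assoc, Category.assoc, IsOpenImmersion.lift_fac,
      IsOpenImmersion.lift_fac, ← Category.assoc, ← Category.assoc, ← smAway_naturality, Category.assoc,
      Category.assoc, hb]
  obtain ⟨ψ, -, huniq⟩ := hsq.existsUnique_of_isAffine
    (sm (awMap pa (e r) _ rfl) ≫ IsOpenImmersion.lift (W r).ι _ h1)
    (sm (awMap pb (e r) _ rfl) ≫ IsOpenImmersion.lift (W r).ι _ h1) (by
      rw [← Category.assoc, ← Category.assoc, ← sm_comp, ← sm_comp]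
      congr 2
      exact RingHom.ext hsq.comm)
  exact (huniq _ ⟨rfl, rfl⟩).trans (huniq _ ⟨ea, eb⟩).symm

/-- The induced morphism out of `Spec R`. -/
theorem RingSq.exists_desc (h : RingSq pa pb p q)
    (g : Spec (CommRingCat.of A') ⟶ T) (g' : Spec (CommRingCat.of B) ⟶ T) (hg : sm p ≫ g = sm q ≫ g') :
    ∃ φ : Spec (CommRingCat.of R) ⟶ T, sm pa ≫ φ = g ∧ sm pb ≫ φ = g' := by
  classical
  have hpre : ∀ x : PrimeSpectrum A, g (PrimeSpectrum.comap p x) = g' (PrimeSpectrum.comap q x) :=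
    fun x => congrArg (fun m : Spec (CommRingCat.of A) ⟶ T => m x) hg
  -- standard opens of `Spec R` whose traces map into an affine open of `T`
  have hloc : ∀ r : PrimeSpectrum R, ∃ (e : R) (W : T.Opens), IsAffineOpen W ∧ r ∈ PrimeSpectrum.basicOpen e ∧
      (∀ x : PrimeSpectrum A', pa e ∉ x.asIdeal → g x ∈ W) ∧
      (∀ y : PrimeSpectrum B, pb e ∉ y.asIdeal → g' y ∈ W) := by
    intro r
    obtain ⟨β, rfl⟩ | ⟨α, rfl, j, hj, hjα⟩ := h.exists_preimage r
    · obtain ⟨W, hW, hβW, -⟩ := exists_isAffineOpen_mem_and_subset (Set.mem_univ (g' β)) (U := (⊤ : T.Opens))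
      obtain ⟨_, ⟨b₁, rfl⟩, hb₁, hb₁W⟩ := PrimeSpectrum.isTopologicalBasis_basic_opens.exists_subset_of_mem_open
        (show β ∈ g' ⁻¹' W from hβW) (W.2.preimage g'.continuous)
      obtain ⟨a₁, ha₁⟩ := h.surj (q b₁)
      obtain ⟨K, hK⟩ := (PrimeSpectrum.isClosed_iff_zeroLocus_ideal _).1 (W.2.preimage g.continuous).isClosed_compl
      obtain ⟨N₀, hN₀⟩ : a₁ ∈ (K ⊔ RingHom.ker p).radical := by
        rw [Ideal.radical_eq_sInf, Ideal.mem_sInf]
        rintro P ⟨hle, hP⟩
        by_contra ha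
        have hPker : RingHom.ker p ≤ P := le_sup_right.trans hle
        obtain ⟨x, hx⟩ : (⟨P, hP⟩ : PrimeSpectrum A') ∈ Set.range (PrimeSpectrum.comap p) := by
          rw [range_comap_of_surjective _ _ h.surj]; exact hPker
        have hxb : b₁ ∉ (PrimeSpectrum.comap q x).asIdeal := by
          show q b₁ ∉ x.asIdeal
          rw [← ha₁]
          show a₁ ∉ (PrimeSpectrum.comap p x).asIdeal
          rw [hx]; exact ha
        have hxW : g (PrimeSpectrum.comap p x) ∈ W := by
          rw [hpre]; exact hb₁W hxb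
        have h3 : (⟨P, hP⟩ : PrimeSpectrum A') ∈ PrimeSpectrum.zeroLocus (K : Set A') := le_sup_left.trans hle
        exact (hK.symm.le h3 : _) (hx ▸ hxW)
      obtain ⟨N, hN0, hN⟩ : ∃ N, 0 < N ∧ a₁ ^ N ∈ K ⊔ RingHom.ker p :=
        ⟨N₀ + 1, Nat.succ_pos _, by rw [pow_succ]; exact Ideal.mul_mem_right _ _ hN₀⟩
      obtain ⟨k, hk, c, hc, hkc⟩ := Submodule.mem_sup.1 hN
      obtain ⟨e, he₁, he₂⟩ := h.exists_lift k (b₁ ^ N) (by
        rw [map_pow, ← ha₁, ← map_pow, ← hkc, map_add, show p c = 0 from hc, add_zero])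
      refine ⟨e, W, hW, ?_, fun x hx => ?_, fun y hy => ?_⟩
      · show pb e ∉ β.asIdeal
        rw [he₂]; exact fun hh => hb₁ (β.isPrime.mem_of_pow_mem _ hh)
      · by_contra hxW
        apply hx
        rw [he₁]
        exact (hK.le hxW : _) hk
      · refine hb₁W ?_
        show b₁ ∉ y.asIdeal
        intro hh
        apply hy
        rw [he₂]
        exact Ideal.pow_mem_of_mem _ hh N hN0
    · obtain ⟨W, hW, hαW, -⟩ := exists_isAffineOpen_mem_and_subset (Set.mem_univ (g α)) (U := (⊤ : T.Opens))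
      obtain ⟨_, ⟨c, rfl⟩, hc, hcW⟩ := PrimeSpectrum.isTopologicalBasis_basic_opens.exists_subset_of_mem_open
        (show α ∈ g ⁻¹' W from hαW) (W.2.preimage g.continuous)
      obtain ⟨e, he₁, he₂⟩ := h.exists_lift (j * c) 0 (by rw [map_mul, hj, zero_mul, map_zero])
      refine ⟨e, W, hW, ?_, fun x hx => hcW ?_, fun y hy => ?_⟩
      · show pa e ∉ α.asIdeal
        rw [he₁]; exact fun hh => (α.isPrime.mem_or_mem hh).elim hjα hc
      · show c ∉ x.asIdeal
        intro hh; apply hx; rw [he₁]; exact Ideal.mul_mem_left _ _ hh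
      · exact absurd (by rw [he₂]; exact zero_mem _) hy
  choose e W hW hre hA hB using hloc
  have hspan : Ideal.span (Set.range e) = ⊤ := by
    rw [← PrimeSpectrum.iSup_basicOpen_eq_top_iff]
    exact top_le_iff.1 fun r _ => Opens.mem_iSup.2 ⟨r, hre r⟩
  have hpiece : ∀ r, ∃ ψ : Spec (CommRingCat.of (Localization.Away (e r))) ⟶ T,
      sm (awMap pa (e r) (pa (e r)) rfl) ≫ ψ = smAway (pa (e r)) ≫ g ∧
      sm (awMap pb (e r) (pb (e r)) rfl) ≫ ψ = smAway (pb (e r)) ≫ g' := by
    intro r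
    haveI : IsAffine (W r) := hW r
    have h1 : Set.range (smAway (pa (e r)) ≫ g) ⊆ Set.range (W r).ι := by
      rw [Scheme.Opens.range_ι]; rintro _ ⟨x, rfl⟩
      have : smAway (pa (e r)) x ∈ Set.range (smAway (pa (e r))) := ⟨x, rfl⟩
      rw [range_smAway] at this
      exact hA r _ this
    have h2 : Set.range (smAway (pb (e r)) ≫ g') ⊆ Set.range (W r).ι := by
      rw [Scheme.Opens.range_ι]; rintro _ ⟨x, rfl⟩
      have : smAway (pb (e r)) x ∈ Set.range (smAway (pb (e r))) := ⟨x, rfl⟩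
      rw [range_smAway] at this
      exact hB r _ this
    obtain ⟨ψ, ⟨hψ₁, hψ₂⟩, -⟩ :=
      (h.localization (e r) (pa (e r)) (pb (e r)) (p (pa (e r))) rfl rfl rfl (h.comm (e r)).symm).existsUnique_of_isAffine
        (IsOpenImmersion.lift (W r).ι _ h1) (IsOpenImmersion.lift (W r).ι _ h2) (by
          rw [← cancel_mono (W r).ι]
          simp only [Category.assoc, IsOpenImmersion.lift_fac]
          rw [← Category.assoc, ← smAway_naturality, Category.assoc, hg, ← Category.assoc,
            smAway_naturality q (pb (e r)) (p (pa (e r))) (h.comm (e r)).symm, Category.assoc])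
    refine ⟨ψ ≫ (W r).ι, ?_, ?_⟩
    · rw [← Category.assoc, hψ₁, IsOpenImmersion.lift_fac]
    · rw [← Category.assoc, hψ₂, IsOpenImmersion.lift_fac]
  choose ψ hψ₁ hψ₂ using hpiece
  let 𝒰 := (Scheme.affineOpenCoverOfSpanRangeEqTop (R := CommRingCat.of R) e hspan).openCover
  have hcompat : ∀ i j, pullback.fst (𝒰.f i) (𝒰.f j) ≫ ψ i = pullback.snd (𝒰.f i) (𝒰.f j) ≫ ψ j := by
    intro i j
    change pullback.fst (smAway (e i)) (smAway (e j)) ≫ ψ i = pullback.snd (smAway (e i)) (smAway (e j)) ≫ ψ j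
    let c := pullback.fst (smAway (e i)) (smAway (e j)) ≫ smAway (e i)
    have hrange : Set.range (smAway (e i * e j)) = Set.range c := by
      rw [IsOpenImmersion.range_pullback_to_base_of_left, range_smAway, range_smAway, range_smAway,
        PrimeSpectrum.basicOpen_mul]
      rfl
    let ε := IsOpenImmersion.isoOfRangeEq (smAway (e i * e j)) c hrange
    rw [← cancel_epi ε.hom]
    have hsq := h.localization (e i * e j) (pa (e i * e j)) (pb (e i * e j)) (p (pa (e i * e j))) rfl rfl rfl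
      (h.comm (e i * e j)).symm
    have key : ∀ {S : Type u} [CommRing S] (m : R →+* S) (g₀ : Spec (CommRingCat.of S) ⟶ T)
        (_ : ∀ k, sm (awMap m (e k) (m (e k)) rfl) ≫ ψ k = smAway (m (e k)) ≫ g₀),
        sm (awMap m (e i * e j) (m (e i * e j)) rfl) ≫ ε.hom ≫ pullback.fst (smAway (e i)) (smAway (e j)) ≫ ψ i =
        sm (awMap m (e i * e j) (m (e i * e j)) rfl) ≫ ε.hom ≫ pullback.snd (smAway (e i)) (smAway (e j)) ≫ ψ j := by
      intro S _ m g₀ hm
      have hl : ∀ k, Set.range (smAway (m (e i * e j))) ⊆ Set.range (smAway (m (e k))) ∨ (k ≠ i ∧ k ≠ j) := by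
        intro k
        by_cases hk : k = i ∨ k = j
        · left
          rw [range_smAway, range_smAway, map_mul, PrimeSpectrum.basicOpen_mul]
          rcases hk with rfl | rfl
          · exact Set.inter_subset_left
          · exact Set.inter_subset_right
        · right; exact not_or.1 hk
      have step : ∀ k, (k = i ∨ k = j) → ∀ (v : pullback (smAway (e i)) (smAway (e j)) ⟶ Spec (CommRingCat.of (Localization.Away (e k))))
          (_ : v ≫ smAway (e k) = c),
          sm (awMap m (e i * e j) (m (e i * e j)) rfl) ≫ ε.hom ≫ v ≫ ψ k = smAway (m (e i * e j)) ≫ g₀ := by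
        intro k hk v hv
        have hsub : Set.range (smAway (m (e i * e j))) ⊆ Set.range (smAway (m (e k))) :=
          (hl k).resolve_right (fun h' => hk.elim h'.1 h'.2)
        let l := IsOpenImmersion.lift (smAway (m (e k))) (smAway (m (e i * e j))) hsub
        have hl' : l ≫ sm (awMap m (e k) (m (e k)) rfl) =
            sm (awMap m (e i * e j) (m (e i * e j)) rfl) ≫ ε.hom ≫ v := by
          rw [← cancel_mono (smAway (e k))]
          simp only [Category.assoc, hv]
          rw [← smAway_naturality m (e k), IsOpenImmersion.lift_fac_assoc, IsOpenImmersion.isoOfRangeEq_hom_fac,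
            ← smAway_naturality]
        rw [← Category.assoc _ v, ← Category.assoc, ← hl', Category.assoc, hm k, IsOpenImmersion.lift_fac_assoc]
      rw [step i (Or.inl rfl) _ rfl, step j (Or.inr rfl) _ pullback.condition.symm]
    exact hsq.hom_ext (key pa g hψ₁) (key pb g' hψ₂)
  refine ⟨𝒰.glueMorphisms ψ hcompat, ?_, ?_⟩
  · have hspan' : Ideal.span (Set.range fun r => pa (e r)) = ⊤ := by
      rw [show (fun r => pa (e r)) = pa ∘ e from rfl, Set.range_comp, ← Ideal.map_span, hspan, Ideal.map_top]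
    refine (Scheme.affineOpenCoverOfSpanRangeEqTop (R := CommRingCat.of A') _ hspan').openCover.hom_ext _ _ fun r => ?_
    show smAway (pa (e r)) ≫ sm pa ≫ _ = smAway (pa (e r)) ≫ g
    rw [← Category.assoc, smAway_naturality pa (e r) (pa (e r)) rfl, Category.assoc,
      show smAway (e r) ≫ 𝒰.glueMorphisms ψ hcompat = ψ r from 𝒰.ι_glueMorphisms ψ hcompat r, hψ₁]
  · have hspan' : Ideal.span (Set.range fun r => pb (e r)) = ⊤ := by
      rw [show (fun r => pb (e r)) = pb ∘ e from rfl, Set.range_comp, ← Ideal.map_span, hspan, Ideal.map_top]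
    refine (Scheme.affineOpenCoverOfSpanRangeEqTop (R := CommRingCat.of B) _ hspan').openCover.hom_ext _ _ fun r => ?_
    show smAway (pb (e r)) ≫ sm pb ≫ _ = smAway (pb (e r)) ≫ g'
    rw [← Category.assoc, smAway_naturality pb (e r) (pb (e r)) rfl, Category.assoc,
      show smAway (e r) ≫ 𝒰.glueMorphisms ψ hcompat = ψ r from 𝒰.ι_glueMorphisms ψ hcompat r, hψ₂]

/-- `Spec` of a fibre product along a surjection is a pushout. -/
theorem RingSq.isPushout (h : RingSq pa pb p q) :
    IsPushout (sm p) (sm q) (sm pa) (sm pb) := by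
  have w : sm p ≫ sm pa = sm q ≫ sm pb := by
    rw [← sm_comp, ← sm_comp]; congr 1; exact RingHom.ext h.comm
  refine ⟨⟨w⟩, ⟨PushoutCocone.isColimitAux' _ fun s => ?_⟩⟩
  refine ⟨(h.exists_desc s.inl s.inr s.condition).choose, (h.exists_desc s.inl s.inr s.condition).choose_spec.1,
    (h.exists_desc s.inl s.inr s.condition).choose_spec.2, fun {m} ha hb => h.hom_ext ?_ ?_⟩
  · exact ha.trans (h.exists_desc s.inl s.inr s.condition).choose_spec.1.symm
  · exact hb.trans (h.exists_desc s.inl s.inr s.condition).choose_spec.2.symm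

end Groth.Agent.H7Flat
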