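import Mathlib.RingTheory.Localization.Away.Basic
import Mathlib.Tactic.LinearCombination
import Mathlib.Tactic.Ring

/-!
# Fibre products of rings along a surjection, and their localizations
-/

set_option autoImplicit false

universe u

namespace Groth.Agent.H7Flat

variable {R A' B A : Type u} [CommRing R] [CommRing A'] [CommRing B] [CommRing A]

/-- `R = A' ×_A B` with `A' → A` surjective. -/
structure RingSq (pa : R →+* A') (pb : R →+* B) (p : A' →+* A) (q : B →+* A) : Prop where
  comm : ∀ z, p (pa z) = q (pb z)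
  surj : Function.Surjective p
  ext : ∀ z z', pa z = pa z' → pb z = pb z' → z = z'
  exists_lift : ∀ x y, p x = q y → ∃ z, pa z = x ∧ pb z = y

/-- The map of localizations induced by `f`, for `f r = s`. -/
noncomputable def awMap {S T : Type u} [CommRing S] [CommRing T] (f : S →+* T) (r : S) (s : T) (h : f r = s) :
    Localization.Away r →+* Localization.Away s :=
  IsLocalization.Away.lift r (S := Localization.Away r) (g := (algebraMap T (Localization.Away s)).comp f)
    (by rw [RingHom.comp_apply, h]; exact IsLocalization.Away.algebraMap_isUnit s)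

@[simp]
theorem awMap_algebraMap {S T : Type u} [CommRing S] [CommRing T] (f : S →+* T) (r : S) (s : T) (h : f r = s)
    (x : S) : awMap f r s h (algebraMap S _ x) = algebraMap T _ (f x) :=
  IsLocalization.Away.lift_eq _ _ _

/-- Elements of a localization in the form `z * r ^ n = a`. -/
theorem exists_pow_mul (r : R) (z : Localization.Away r) :
    ∃ (n : ℕ) (a : R), z * algebraMap R _ (r ^ n) = algebraMap R _ a := by
  obtain ⟨n, a, h⟩ := IsLocalization.Away.surj r z
  exact ⟨n, a, by rw [map_pow]; exact h⟩

theorem mul_pow_cancel (r : R) (n : ℕ) {z z' : Localization.Away r}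
    (h : z * algebraMap R _ (r ^ n) = z' * algebraMap R _ (r ^ n)) : z = z' := by
  have : IsUnit (algebraMap R (Localization.Away r) (r ^ n)) := by
    rw [map_pow]; exact (IsLocalization.Away.algebraMap_isUnit r).pow n
  exact this.mul_left_injective h

theorem exists_mul_pow_eq (r : R) (n : ℕ) (a : R) :
    ∃ z : Localization.Away r, z * algebraMap R _ (r ^ n) = algebraMap R _ a := by
  have : IsUnit (algebraMap R (Localization.Away r) (r ^ n)) := by
    rw [map_pow]; exact (IsLocalization.Away.algebraMap_isUnit r).pow n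
  obtain ⟨v, hv⟩ := this
  exact ⟨algebraMap R _ a * ↑v⁻¹, by rw [← hv, Units.inv_mul_cancel_right]⟩

/-- The image of a presentation `z * r ^ n = a`. -/
theorem awMap_rep {S T : Type u} [CommRing S] [CommRing T] (f : S →+* T) (r : S) (s : T) (h : f r = s)
    {z : Localization.Away r} {n : ℕ} {a : S} (hz : z * algebraMap S _ (r ^ n) = algebraMap S _ a) :
    awMap f r s h z * algebraMap T _ (s ^ n) = algebraMap T _ (f a) := by
  have h1 := congrArg (awMap f r s h) hz
  rwa [map_mul, awMap_algebraMap, awMap_algebraMap, map_pow f, h] at h1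

variable {pa : R →+* A'} {pb : R →+* B} {p : A' →+* A} {q : B →+* A}

theorem RingSq.snd_surjective (h : RingSq pa pb p q) : Function.Surjective pb := by
  intro y
  obtain ⟨x, hx⟩ := h.surj (q y)
  obtain ⟨z, -, hz⟩ := h.exists_lift x y hx
  exact ⟨z, hz⟩

/-- The square localized at `e ∈ R`. -/
theorem RingSq.localization (h : RingSq pa pb p q) (e : R) (α : A') (β : B) (γ : A)
    (hα : pa e = α) (hβ : pb e = β) (hαγ : p α = γ) (hβγ : q β = γ) :
    RingSq (awMap pa e α hα) (awMap pb e β hβ) (awMap p α γ hαγ) (awMap q β γ hβγ) := by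
  refine ⟨fun z => ?_, fun z => ?_, fun z z' h1 h2 => ?_, fun x y hxy => ?_⟩
  · obtain ⟨n, a, ha⟩ := exists_pow_mul e z
    refine mul_pow_cancel γ n ?_
    rw [awMap_rep p α γ hαγ (awMap_rep pa e α hα ha), awMap_rep q β γ hβγ (awMap_rep pb e β hβ ha), h.comm]
  · obtain ⟨n, a, ha⟩ := exists_pow_mul γ z
    obtain ⟨b, rfl⟩ := h.surj a
    obtain ⟨w, hw⟩ := exists_mul_pow_eq α n b
    exact ⟨w, mul_pow_cancel γ n ((awMap_rep p α γ hαγ hw).trans ha.symm)⟩
  · obtain ⟨n, a, ha⟩ := exists_pow_mul e z
    obtain ⟨n', a', ha'⟩ := exists_pow_mul e z'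
    have k1 : algebraMap A' (Localization.Away α) (pa a * α ^ n') = algebraMap A' _ (pa a' * α ^ n) := by
      rw [map_mul (algebraMap A' _), map_mul (algebraMap A' _), ← awMap_rep pa e α hα ha,
        ← awMap_rep pa e α hα ha', h1]
      ring
    have k2 : algebraMap B (Localization.Away β) (pb a * β ^ n') = algebraMap B _ (pb a' * β ^ n) := by
      rw [map_mul (algebraMap B _), map_mul (algebraMap B _), ← awMap_rep pb e β hβ ha,
        ← awMap_rep pb e β hβ ha', h2]
      ring
    obtain ⟨m1, hm1⟩ := IsLocalization.Away.exists_of_eq α k1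
    obtain ⟨m2, hm2⟩ := IsLocalization.Away.exists_of_eq β k2
    have hz : e ^ (m1 + m2) * (a * e ^ n') = e ^ (m1 + m2) * (a' * e ^ n) := by
      refine h.ext _ _ ?_ ?_
      · simp only [map_mul, map_pow, hα, pow_add]
        linear_combination (α ^ m2) * hm1
      · simp only [map_mul, map_pow, hβ, pow_add]
        linear_combination (β ^ m1) * hm2
    refine mul_pow_cancel e (m1 + m2 + n + n') ?_
    have hz' := congrArg (algebraMap R (Localization.Away e)) hz
    simp only [map_mul, map_pow, ← ha, ← ha'] at hz'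
    simp only [map_pow, map_mul, pow_add] at hz' ⊢
    linear_combination hz'
  · obtain ⟨n, a, ha⟩ := exists_pow_mul α x
    obtain ⟨n', b, hb⟩ := exists_pow_mul β y
    have k : algebraMap A (Localization.Away γ) (p a * γ ^ n') = algebraMap A _ (q b * γ ^ n) := by
      rw [map_mul (algebraMap A _), map_mul (algebraMap A _), ← awMap_rep p α γ hαγ ha,
        ← awMap_rep q β γ hβγ hb, hxy]
      ring
    obtain ⟨m, hm⟩ := IsLocalization.Away.exists_of_eq γ k
    obtain ⟨z, hz1, hz2⟩ := h.exists_lift (α ^ m * (a * α ^ n')) (β ^ m * (b * β ^ n)) (by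
      simp only [map_mul, map_pow, hαγ, hβγ]
      exact hm)
    obtain ⟨w, hw⟩ := exists_mul_pow_eq e (m + n + n') z
    refine ⟨w, ?_, ?_⟩
    · refine mul_pow_cancel α (m + n + n') ?_
      rw [awMap_rep pa e α hα hw, hz1]
      simp only [map_mul, map_pow, ← ha, pow_add]
      ring
    · refine mul_pow_cancel β (m + n + n') ?_
      rw [awMap_rep pb e β hβ hw, hz2]
      simp only [map_mul, map_pow, ← hb, pow_add]
      ring

end Groth.Agent.H7Flat
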