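import Groth.Agent.H7Lim.IntegralApprox
import Groth.Agent.H7Lim.IdealSystem
import Groth.Agent.S1378
import Mathlib.AlgebraicGeometry.IdealSheaf.Subscheme

/-!
# An fppf cover of a qcqs scheme is dominated by a finite finitely presented surjection
-/

set_option autoImplicit false
set_option backward.isDefEq.respectTransparency false
set_option linter.style.haveILetI false

universe u

open CategoryTheory AlgebraicGeometry TopologicalSpace Limits

namespace Groth.Agent.H7Flat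

/-- A map from a finitely presented algebra to a localisation is controlled by finitely many elements. -/
theorem exists_lift_data {R B A : Type u} [CommRing R] [CommRing B] [CommRing A] [Algebra R B] [Algebra R A]
    [Algebra.FinitePresentation R B] (a : A) (φ : B →ₐ[R] Localization.Away a) :
    ∃ cs : Finset A, ∀ (C : Type u) [CommRing C] [Algebra R C] (τ : C →ₐ[R] A) (a' : C), τ a' = a →
      (∀ x ∈ cs, x ∈ Set.range τ) → ∃ E : Finset C, (∀ e ∈ E, τ e = 0) ∧
        ∀ (C' : Type u) [CommRing C'] [Algebra R C'] (q : C →ₐ[R] C'), (∀ e ∈ E, q e = 0) →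
          Nonempty (B →ₐ[R] Localization.Away (q a')) := by
  classical
  obtain ⟨n, f, hf, G, hG⟩ := Algebra.FinitePresentation.out (R := R) (A := B)
  choose k c hc using fun i : Fin n => IsLocalization.Away.surj a (φ (f (MvPolynomial.X i)))
  refine ⟨Finset.univ.image c, fun C _ _ τ a' ha hcs => ?_⟩
  choose c' hc' using fun i : Fin n => hcs (c i) (Finset.mem_image_of_mem c (Finset.mem_univ i))
  let ψ : MvPolynomial (Fin n) R →ₐ[R] Localization.Away a' :=
    MvPolynomial.aeval fun i => algebraMap C _ (c' i) * IsLocalization.Away.invSelf a' ^ k i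
  have hu : IsUnit ((algebraMap A (Localization.Away a)).comp τ.toRingHom a') := by
    show IsUnit (algebraMap A (Localization.Away a) (τ a'))
    rw [ha]
    exact IsLocalization.Away.algebraMap_isUnit a
  let w₀ : Localization.Away a' →+* Localization.Away a := IsLocalization.Away.lift a' hu
  have hw₀ : ∀ x, w₀ (algebraMap C _ x) = algebraMap A _ (τ x) := fun x => IsLocalization.Away.lift_eq _ hu x
  let w : Localization.Away a' →ₐ[R] Localization.Away a := ⟨w₀, fun r => by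
    show w₀ (algebraMap R _ r) = _
    rw [IsScalarTower.algebraMap_apply R C (Localization.Away a'), hw₀, τ.commutes,
      ← IsScalarTower.algebraMap_apply]⟩
  have hwinv : algebraMap A (Localization.Away a) a * w₀ (IsLocalization.Away.invSelf a') = 1 := by
    have h : w₀ (algebraMap C _ a') * w₀ (IsLocalization.Away.invSelf a') = 1 := by
      rw [← map_mul, IsLocalization.Away.mul_invSelf, map_one]
    rwa [hw₀, ha] at h
  have hwψ : w.comp ψ = φ.comp f := MvPolynomial.algHom_ext fun i => by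
    show w₀ (ψ (MvPolynomial.X i)) = φ (f (MvPolynomial.X i))
    rw [MvPolynomial.aeval_X, map_mul, map_pow, hw₀, hc', ← hc, mul_assoc, ← mul_pow, hwinv, one_pow, mul_one]
  have hrel : ∀ g ∈ G, ∃ d : C, τ d = 0 ∧
      ψ g ∈ Ideal.span {algebraMap C (Localization.Away a') d} := by
    intro g hg
    have h0 : w₀ (ψ g) = 0 := by
      have h1 : f g = 0 := by
        have : g ∈ RingHom.ker f.toRingHom := hG ▸ Ideal.subset_span hg
        exact this
      exact (AlgHom.congr_fun hwψ g).trans ((congrArg φ h1).trans (map_zero φ))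
    obtain ⟨m, d, hd⟩ := IsLocalization.Away.surj a' (ψ g)
    have h2 : algebraMap A (Localization.Away a) (τ d) = 0 := by
      rw [← hw₀, ← hd, map_mul, h0, zero_mul]
    obtain ⟨⟨_, l, rfl⟩, hl⟩ := (IsLocalization.map_eq_zero_iff (Submonoid.powers a) _ _).1 h2
    refine ⟨a' ^ l * d, by rw [map_mul, map_pow, ha]; exact hl, ?_⟩
    have hu' := IsLocalization.Away.algebraMap_isUnit (S := Localization.Away a') a'
    rw [Ideal.mem_span_singleton, map_mul, map_pow, ← hd, mul_left_comm]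
    obtain ⟨v, hv⟩ := ((hu'.pow l).mul (hu'.pow m)).exists_right_inv
    exact ⟨v, by linear_combination (-(ψ g)) * hv⟩
  choose! d hd₀ hd₁ using hrel
  refine ⟨G.image d, fun e he => ?_, fun C' _ _ q hq => ?_⟩
  · obtain ⟨g, hg, rfl⟩ := Finset.mem_image.1 he
    exact hd₀ g hg
  have hu2 : IsUnit ((algebraMap C' (Localization.Away (q a'))).comp q.toRingHom a') :=
    IsLocalization.Away.algebraMap_isUnit (q a')
  let v₀ : Localization.Away a' →+* Localization.Away (q a') := IsLocalization.Away.lift a' hu2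
  have hv₀ : ∀ x, v₀ (algebraMap C _ x) = algebraMap C' _ (q x) := fun x => IsLocalization.Away.lift_eq _ hu2 x
  let v : Localization.Away a' →ₐ[R] Localization.Away (q a') := ⟨v₀, fun r => by
    show v₀ (algebraMap R _ r) = _
    rw [IsScalarTower.algebraMap_apply R C (Localization.Away a'), hv₀, q.commutes,
      ← IsScalarTower.algebraMap_apply]⟩
  have hker : RingHom.ker f.toRingHom ≤ RingHom.ker (v.comp ψ).toRingHom := by
    rw [← hG, Ideal.span_le]
    intro g hg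
    show v₀ (ψ g) = 0
    obtain ⟨y, hy⟩ := Ideal.mem_span_singleton.1 (hd₁ g hg)
    rw [hy, map_mul, hv₀, hq (d g) (Finset.mem_image_of_mem d hg), map_zero, zero_mul]
  exact ⟨AlgHom.liftOfSurjective f hf (v.comp ψ) hker⟩

/-- Refinement of an fppf cover by a finite finitely presented surjection. -/
theorem exists_finite_refinement {U S : Scheme.{u}} (g : U ⟶ S) [Flat g] [LocallyOfFinitePresentation g]
    [Surjective g] [CompactSpace S] [QuasiSeparatedSpace S] :
    ∃ (S' : Scheme.{u}) (π : S' ⟶ S), Surjective π ∧ IsFinite π ∧ LocallyOfFinitePresentation π ∧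
      ∀ y : S', ∃ (V : S'.Opens) (h : V.toScheme ⟶ U), y ∈ V ∧ h ≫ g = V.ι ≫ π := by
  classical
  obtain ⟨T, π, hπs, hπi, hloc⟩ := Groth.Agent.S1378.result g
  haveI : CompactSpace T := QuasiCompact.compactSpace_of_compactSpace π
  -- local lifts on basic opens of affine preimages
  have step : ∀ t : T, ∃ (W : S.affineOpens) (V : U.affineOpens) (_ : V.1 ≤ g ⁻¹ᵁ W.1)
      (a : Γ(T, π ⁻¹ᵁ W.1)), t ∈ T.basicOpen a ∧
      ∃ φ : Γ(U, V.1) →+* Localization.Away a,
        φ.comp (g.appLE W.1 V.1 ‹_›).hom = (algebraMap _ _).comp (π.app W.1).hom := by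
    intro t
    obtain ⟨O, r, htO, hr⟩ := hloc t
    obtain ⟨W, hW, htW, -⟩ := exists_isAffineOpen_mem_and_subset (Set.mem_univ (π t)) (U := (⊤ : S.Opens))
    have hrt : r ⟨t, htO⟩ ∈ g ⁻¹ᵁ W := by
      show g (r ⟨t, htO⟩) ∈ W
      rw [← Scheme.Hom.comp_apply, hr]
      exact htW
    obtain ⟨V, hV, hrV, hVle⟩ := exists_isAffineOpen_mem_and_subset hrt
    have hle : V ≤ g ⁻¹ᵁ W := hVle
    let O' : T.Opens := O.ι ''ᵁ (r ⁻¹ᵁ V) ⊓ π ⁻¹ᵁ W
    obtain ⟨a, haO, hta⟩ := (hW.preimage π).exists_basicOpen_le (V := O') ⟨t, ⟨⟨t, htO⟩, hrV, rfl⟩, htW⟩ htW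
    have ha1 : T.basicOpen a ≤ O.ι ''ᵁ (r ⁻¹ᵁ V) := haO.trans inf_le_left
    haveI := (hW.preimage π).isLocalization_basicOpen a
    let e : Γ(T, T.basicOpen a) ≃ₐ[Γ(T, π ⁻¹ᵁ W)] Localization.Away a :=
      IsLocalization.algEquiv (Submonoid.powers a) _ _
    have hDO : T.basicOpen a ≤ O := ha1.trans (by rintro _ ⟨z, -, rfl⟩; exact z.2)
    let ι' : (T.basicOpen a).toScheme ⟶ O.toScheme := T.homOfLE hDO
    have hle2 : (⊤ : (T.basicOpen a).toScheme.Opens) ≤ (ι' ≫ r) ⁻¹ᵁ V := by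
      intro z _
      obtain ⟨y, hy, hyz⟩ := ha1 z.2
      show r (ι' z) ∈ V
      have : ι' z = y := Subtype.ext (by rw [Scheme.homOfLE_apply]; exact hyz.symm)
      rw [this]; exact hy
    let θ : Γ(U, V) ⟶ Γ(T, T.basicOpen a) :=
      (ι' ≫ r).appLE V ⊤ hle2 ≫ (T.basicOpen a).topIso.hom
    refine ⟨⟨W, hW⟩, ⟨V, hV⟩, hle, a, hta, e.toRingEquiv.toRingHom.comp θ.hom, ?_⟩
    have h1 : g.appLE W V hle ≫ θ = π.app W ≫ T.presheaf.map (homOfLE (T.basicOpen_le a)).op := by
      have h2 : (ι' ≫ r) ≫ g = (T.basicOpen a).ι ≫ π := by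
        rw [Category.assoc, hr, Scheme.homOfLE_ι_assoc]
      have key : ∀ h, ((ι' ≫ r) ≫ g).appLE W ⊤ h ≫ (T.basicOpen a).topIso.hom =
          π.app W ≫ T.presheaf.map (homOfLE (T.basicOpen_le a)).op := by
        rw [h2]
        intro h
        rw [Scheme.Hom.comp_appLE, Category.assoc]
        congr 1
        simp only [Scheme.Opens.topIso_hom, Scheme.Hom.appLE, Scheme.Opens.ι_app,
          Scheme.Opens.toScheme_presheaf_map, ← Functor.map_comp, Category.assoc]
        rfl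
      show g.appLE W V hle ≫ (ι' ≫ r).appLE V ⊤ hle2 ≫ _ = _
      rw [← Category.assoc, Scheme.Hom.appLE_comp_appLE]
      exact key _
    ext x
    show e (θ (g.appLE W V hle x)) = algebraMap _ _ (π.app W x)
    rw [← CommRingCat.comp_apply, h1, ← e.commutes]
    rfl
  choose W V hle a hta φ hφ using step
  obtain ⟨s, hs⟩ := isCompact_univ.elim_finite_subcover (fun t => (T.basicOpen (a t) : Set T))
    (fun t => (T.basicOpen (a t)).2) (fun t _ => Set.mem_iUnion.2 ⟨t, hta t⟩)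
  -- sections to catch
  letI algA : ∀ t, Algebra Γ(S, (W t).1) Γ(T, π ⁻¹ᵁ (W t).1) := fun t => (π.app _).hom.toAlgebra
  letI algB : ∀ t, Algebra Γ(S, (W t).1) Γ(U, (V t).1) := fun t => (g.appLE _ _ (hle t)).hom.toAlgebra
  haveI : ∀ t, Algebra.FinitePresentation Γ(S, (W t).1) Γ(U, (V t).1) := fun t =>
    g.finitePresentation_appLE (W t).2 (V t).2 (hle t)
  let φA : ∀ t, Γ(U, (V t).1) →ₐ[Γ(S, (W t).1)] Localization.Away (a t) := fun t =>
    ⟨φ t, fun r => (RingHom.congr_fun (hφ t) r).trans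
      (IsScalarTower.algebraMap_apply Γ(S, (W t).1) Γ(T, π ⁻¹ᵁ (W t).1) (Localization.Away (a t)) r).symm⟩
  choose cs hcs using fun t => exists_lift_data (a t) (φA t)
  obtain ⟨P, p, τ, hp, hτp, hsec⟩ := H7Lim.exists_factor_sections (f := π)
    (s.toList.flatMap fun t => (insert (a t) (cs t)).toList.map fun x =>
      (⟨W t, x⟩ : Σ W : S.affineOpens, Γ(T, π ⁻¹ᵁ W.1)))
  haveI := hp.1; haveI := hp.2
  haveI : CompactSpace P := QuasiCompact.compactSpace_of_compactSpace p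
  haveI : QuasiSeparatedSpace P := quasiSeparatedSpace_of_quasiSeparated p
  haveI : IsIntegralHom τ := by
    haveI : IsIntegralHom (τ ≫ p) := hτp ▸ hπi
    exact IsIntegralHom.of_comp τ p
  have hmem : ∀ t ∈ s, ∀ x ∈ insert (a t) (cs t), H7Lim.HasSec π p τ (W t).1 x := fun t ht x hx =>
    hsec ⟨W t, x⟩ (List.mem_flatMap.2 ⟨t, Finset.mem_toList.2 ht,
      List.mem_map.2 ⟨x, Finset.mem_toList.2 hx, rfl⟩⟩)
  have hleτ : ∀ t, π ⁻¹ᵁ (W t).1 ≤ τ ⁻¹ᵁ (p ⁻¹ᵁ (W t).1) := fun t => by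
    rw [← Scheme.Hom.comp_preimage, hτp]
  letI algP : ∀ t, Algebra Γ(S, (W t).1) Γ(P, p ⁻¹ᵁ (W t).1) := fun t => (p.app _).hom.toAlgebra
  let τA : ∀ t, Γ(P, p ⁻¹ᵁ (W t).1) →ₐ[Γ(S, (W t).1)] Γ(T, π ⁻¹ᵁ (W t).1) := fun t =>
    ⟨(τ.appLE _ _ (hleτ t)).hom, fun r => by
      show (p.app _ ≫ τ.appLE _ _ (hleτ t)) r = π.app _ r
      subst hτp
      rw [← Scheme.Hom.comp_appLE, Scheme.Hom.app_eq_appLE]⟩
  have hrange : ∀ t ∈ s, ∀ x ∈ insert (a t) (cs t), x ∈ Set.range (τA t) := fun t ht x hx => by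
    obtain ⟨_, c, hc⟩ := hmem t ht x hx
    exact ⟨c, hc⟩
  choose! a' ha' using fun t (ht : t ∈ s) => hrange t ht (a t) (Finset.mem_insert_self _ _)
  choose! E hE₀ hE using fun t (ht : t ∈ s) => hcs t _ (τA t) (a' t) (ha' t ht)
    (fun x hx => hrange t ht x (Finset.mem_insert_of_mem hx))
  -- the ideal
  let K := τ.ker
  let A : T → P.affineOpens := fun t => ⟨p ⁻¹ᵁ (W t).1, (W t).2.preimage p⟩
  have hEK : ∀ t ∈ s, (E t : Set Γ(P, p ⁻¹ᵁ (W t).1)) ⊆ K.ideal (A t) := by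
    intro t ht e he
    rw [Scheme.Hom.ker_apply]
    show τ.app (p ⁻¹ᵁ (W t).1) e = 0
    have h1 : τ.appLE _ _ (hleτ t) e = 0 := hE₀ t ht e he
    subst hτp
    rwa [Scheme.Hom.app_eq_appLE]
  choose! J hJK hJfg hJE using fun t (ht : t ∈ s) => H7Lim.exists_finiteType_le K (A t) (E t) (hEK t ht)
  have hcover : ∃ J₀ : P.IdealSheafData, J₀ ≤ K ∧ (∀ B : P.affineOpens, (J₀.ideal B).FG) ∧
      (J₀.support : Set P) ⊆ ⋃ t ∈ s, (P.basicOpen (a' t) : Set P) := by
    let O : Set P := ⋃ t ∈ s, (P.basicOpen (a' t) : Set P)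
    have hO : IsOpen O := isOpen_biUnion fun t _ => (P.basicOpen (a' t)).2
    have hKO : (K.support : Set P) ⊆ O := by
      intro x hx
      obtain ⟨z, rfl⟩ : x ∈ Set.range τ := by
        rw [Scheme.Hom.support_ker] at hx
        rwa [τ.isClosedMap.isClosed_range.closure_eq] at hx
      obtain ⟨t, ht, hz⟩ := Set.mem_iUnion₂.1 (hs (Set.mem_univ z))
      refine Set.mem_iUnion₂.2 ⟨t, ht, ?_⟩
      have h1 := Scheme.Hom.preimage_basicOpen τ (a' t)
      have h2 : T.basicOpen (a t) ≤ τ ⁻¹ᵁ P.basicOpen (a' t) := by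
        rw [h1, ← ha' t ht]
        show T.basicOpen (τ.appLE _ _ (hleτ t) (a' t)) ≤ _
        rw [Scheme.Hom.appLE, CommRingCat.comp_apply, Scheme.basicOpen_res]
        exact inf_le_right
      exact h2 hz
    rw [← H7Lim.iSup_finiteType_eq K, Scheme.IdealSheafData.support_iSup] at hKO
    obtain ⟨J₀, hJ₀⟩ := hO.isClosed_compl.isCompact.elim_directed_family_closed
      (fun J : H7Lim.FTIdeal K => (J.1.support : Set P)) (fun J => J.1.support.isClosed)
      (by
        refine Set.eq_empty_iff_forall_notMem.2 fun x hx => hx.1 (hKO ?_)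
        have h := Set.mem_iInter.1 hx.2
        simpa using h)
      (fun J J' => by
        obtain ⟨J'', h1, h2⟩ := exists_ge_ge J J'
        exact ⟨J'', Scheme.IdealSheafData.support_antitone h1, Scheme.IdealSheafData.support_antitone h2⟩)
    exact ⟨J₀.1, J₀.2.1, J₀.2.2, fun x hx => by_contra fun h =>
      (Set.eq_empty_iff_forall_notMem.1 hJ₀) x ⟨h, hx⟩⟩
  obtain ⟨J₀, hJ₀K, hJ₀fg, hJ₀⟩ := hcover
  let JJ : P.IdealSheafData := J₀ ⊔ s.sup J
  have hsupK : s.sup J ≤ K := Finset.sup_le fun t ht => hJK t ht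
  have hsupfg : ∀ B : P.affineOpens, ((s.sup J).ideal B).FG := by
    intro B
    refine Finset.sup_induction (p := fun I : P.IdealSheafData => (I.ideal B).FG) Submodule.fg_bot
      (fun a ha b hb => ?_) (fun t ht => hJfg t ht B)
    rw [Scheme.IdealSheafData.ideal_sup]
    exact Submodule.FG.sup ha hb
  have hJJK : JJ ≤ K := sup_le hJ₀K hsupK
  haveI : LocallyOfFinitePresentation JJ.subschemeι :=
    H7Lim.locallyOfFinitePresentation_of_ker_fg _ fun B => by
      rw [Scheme.IdealSheafData.ker_subschemeι]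
      show ((J₀ ⊔ s.sup J).ideal B).FG
      rw [Scheme.IdealSheafData.ideal_sup]
      exact Submodule.FG.sup (hJ₀fg B) (hsupfg B)
  refine ⟨JJ.subscheme, JJ.subschemeι ≫ p, ⟨fun x => ?_⟩, inferInstance, inferInstance, fun y => ?_⟩
  · obtain ⟨z, rfl⟩ := hπs.surj x
    refine ⟨(τ.toImage ≫ Scheme.IdealSheafData.inclusion hJJK) z, ?_⟩
    rw [← Scheme.Hom.comp_apply, Category.assoc]
    congr 1
    rw [← Category.assoc, Category.assoc, ← Category.assoc (Scheme.IdealSheafData.inclusion hJJK),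
      Scheme.IdealSheafData.inclusion_subschemeι]
    rw [← Category.assoc, Scheme.Hom.toImage_imageι, hτp]
  have hy : JJ.subschemeι y ∈ ⋃ t ∈ s, (P.basicOpen (a' t) : Set P) :=
    hJ₀ (Scheme.IdealSheafData.support_antitone le_sup_left
      (JJ.range_subschemeι.le ⟨y, rfl⟩))
  obtain ⟨t, ht, hyt⟩ := Set.mem_iUnion₂.1 hy
  let π' := JJ.subschemeι ≫ p
  letI : Algebra Γ(S, (W t).1) Γ(JJ.subscheme, π' ⁻¹ᵁ (W t).1) := (π'.app _).hom.toAlgebra
  let q : Γ(P, p ⁻¹ᵁ (W t).1) →ₐ[Γ(S, (W t).1)] Γ(JJ.subscheme, π' ⁻¹ᵁ (W t).1) :=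
    ⟨(JJ.subschemeι.app (p ⁻¹ᵁ (W t).1)).hom, fun r => rfl⟩
  have hq : ∀ e ∈ E t, q e = 0 := by
    intro e he
    have h1 : e ∈ JJ.ideal (A t) := by
      refine (le_sup_of_le_right (Finset.le_sup ht) : J t ≤ JJ) (A t) ?_
      exact hJE t ht he
    rw [← Scheme.IdealSheafData.ker_subschemeι JJ, Scheme.Hom.ker_apply] at h1
    exact h1
  obtain ⟨ψ⟩ := hE t ht _ q hq
  have hA : IsAffineOpen (π' ⁻¹ᵁ (W t).1) := (W t).2.preimage π'
  let a'' : Γ(JJ.subscheme, π' ⁻¹ᵁ (W t).1) := q (a' t)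
  let D := JJ.subscheme.basicOpen a''
  haveI := hA.isLocalization_basicOpen a''
  let e : Localization.Away a'' ≃ₐ[Γ(JJ.subscheme, π' ⁻¹ᵁ (W t).1)] Γ(JJ.subscheme, D) :=
    IsLocalization.algEquiv (Submonoid.powers a'') _ _
  let θ : Γ(U, (V t).1) ⟶ Γ(JJ.subscheme, D) :=
    CommRingCat.ofHom (e.toRingEquiv.toRingHom.comp ψ.toRingHom)
  have hDle : D ≤ π' ⁻¹ᵁ (W t).1 := JJ.subscheme.basicOpen_le a''
  have hθ : g.appLE (W t).1 (V t).1 (hle t) ≫ θ = π'.appLE (W t).1 D hDle := by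
    ext r
    show e (ψ (algebraMap Γ(S, (W t).1) Γ(U, (V t).1) r)) = _
    rw [ψ.commutes, IsScalarTower.algebraMap_apply Γ(S, (W t).1) Γ(JJ.subscheme, π' ⁻¹ᵁ (W t).1)
      (Localization.Away a''), e.commutes]
    rfl
  refine ⟨D, (hA.basicOpen a'').isoSpec.hom ≫ Spec.map θ ≫ (V t).2.fromSpec, ?_, ?_⟩
  · have h1 := Scheme.Hom.preimage_basicOpen JJ.subschemeι (a' t)
    exact h1.le hyt
  · rw [Category.assoc, Category.assoc, ← (W t).2.SpecMap_appLE_fromSpec g (V t).2 (hle t),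
      ← Category.assoc (Spec.map θ), ← Spec.map_comp, hθ,
      (W t).2.SpecMap_appLE_fromSpec π' (hA.basicOpen a'') hDle, ← Category.assoc,
      IsAffineOpen.isoSpec_hom_fromSpec]

end Groth.Agent.H7Flat
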