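import Groth.Agent.H7Flat.RelFlatLocusRing
import Groth.Agent.H06EGA9.ModuleCriterion
import Groth.Agent.H06EGA9.FlatFibreBC
import Groth.Agent.H8Props.FreeLocus.Fibrewise

/-!
# The fibrewise criterion of flatness for modules, with the target locally of finite type
-/

set_option autoImplicit false
set_option linter.style.haveILetI false
set_option maxHeartbeats 1000000
universe u

open CategoryTheory AlgebraicGeometry TensorProduct IsLocalRing

namespace Groth.Agent.H7Flat.RelFlatLocus

/-- Local rings of a morphism locally of finite presentation are essentially of finite presentation. -/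
theorem isEssFP_stalkMap {X S : Scheme.{u}} (k : X ⟶ S) [LocallyOfFinitePresentation k] (x : X) :
    letI := (k.stalkMap x).hom.toAlgebra
    CAlgX.IsEssFinitePresentation (S.presheaf.stalk (k x)) (X.presheaf.stalk x) := by
  obtain ⟨U, hU, hsU, -⟩ := exists_isAffineOpen_mem_and_subset (show k x ∈ (⊤ : S.Opens) from trivial)
  obtain ⟨W, hW, hxW, hWU⟩ := exists_isAffineOpen_mem_and_subset (show x ∈ k ⁻¹ᵁ U from hsU)
  replace hWU : W ≤ k ⁻¹ᵁ U := hWU
  letI := (k.stalkMap x).hom.toAlgebra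
  letI := (k.appLE U W hWU).hom.toAlgebra
  haveI : Algebra.FinitePresentation Γ(S, U) Γ(X, W) := k.finitePresentation_appLE hU hW hWU
  letI := TopCat.Presheaf.algebra_section_stalk S.presheaf (⟨k x, hsU⟩ : U)
  letI := TopCat.Presheaf.algebra_section_stalk X.presheaf (⟨x, hxW⟩ : W)
  haveI := hU.isLocalization_stalk ⟨k x, hsU⟩
  haveI := hW.isLocalization_stalk ⟨x, hxW⟩
  letI : Algebra Γ(S, U) (X.presheaf.stalk x) :=
    ((algebraMap Γ(X, W) (X.presheaf.stalk x)).comp (algebraMap Γ(S, U) Γ(X, W))).toAlgebra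
  haveI : IsScalarTower Γ(S, U) Γ(X, W) (X.presheaf.stalk x) := IsScalarTower.of_algebraMap_eq fun _ => rfl
  have hcomm : ∀ a, k.stalkMap x (S.presheaf.germ U (k x) hsU a) = X.presheaf.germ W x hxW (k.appLE U W hWU a) := by
    intro a
    rw [← CommRingCat.comp_apply, ← CommRingCat.comp_apply, Scheme.Hom.germ_stalkMap, Scheme.Hom.appLE,
      Category.assoc, X.presheaf.germ_res]
  haveI : IsScalarTower Γ(S, U) (S.presheaf.stalk (k x)) (X.presheaf.stalk x) :=
    IsScalarTower.of_algebraMap_eq fun a => (hcomm a).symm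
  refine NilFibreFlat.isEssFP_atPrime (R := Γ(S, U)) (A := Γ(X, W))
    (hW.primeIdealOf ⟨x, hxW⟩).asIdeal (hU.primeIdealOf ⟨k x, hsU⟩).asIdeal ?_
  rw [← IsLocalization.AtPrime.comap_maximalIdeal (X.presheaf.stalk x) (hW.primeIdealOf ⟨x, hxW⟩).asIdeal,
    ← IsLocalization.AtPrime.comap_maximalIdeal (S.presheaf.stalk (k x)) (hU.primeIdealOf ⟨k x, hsU⟩).asIdeal,
    Ideal.comap_comap]
  conv_rhs => rw [← maximalIdeal_comap (k.stalkMap x).hom, Ideal.under, Ideal.comap_comap]
  congr 1
  exact RingHom.ext fun a => (hcomm a).symm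

/-- Flat over `S` and flat on the fibre implies flat over `Y`, for `Y` locally of finite type over `S`. -/
theorem isFlatOverAt_of_fibFlatAt {X Y S : Scheme.{u}} (f : X ⟶ Y) (h : Y ⟶ S)
    [LocallyOfFinitePresentation (f ≫ h)] [LocallyOfFiniteType h] (F : X.Modules) (hF : CohB1.IsFP F) (x : X)
    (hS : FlatMod.IsFlatOverAt (f ≫ h) F x) (hfib : H06EGA9.FibFlatAt f h F x) :
    FlatMod.IsFlatOverAt f F x := by
  letI := (h.stalkMap (f x)).hom.toAlgebra
  letI : Module (S.presheaf.stalk (h (f x))) (F.presheaf.stalk x) :=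
    FlatMod.moduleStalkOver (f ≫ h) F x
  letI := FlatMod.moduleStalkOver f F x
  letI := (f.stalkMap x).hom.toAlgebra
  letI : Algebra (S.presheaf.stalk (h (f x))) (X.presheaf.stalk x) := ((f ≫ h).stalkMap x).hom.toAlgebra
  haveI := H06EGA9.isScalarTower_stalks f h F x
  haveI : IsScalarTower (Y.presheaf.stalk (f x)) (X.presheaf.stalk x) (F.presheaf.stalk x) :=
    .of_algebraMap_smul fun _ _ => rfl
  haveI : IsScalarTower (S.presheaf.stalk (h (f x))) (X.presheaf.stalk x) (F.presheaf.stalk x) :=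
    .of_algebraMap_smul fun _ _ => rfl
  haveI : IsScalarTower (S.presheaf.stalk (h (f x))) (Y.presheaf.stalk (f x)) (X.presheaf.stalk x) :=
    IsScalarTower.of_algebraMap_eq fun a => by
      show ((f ≫ h).stalkMap x).hom a = (f.stalkMap x).hom ((h.stalkMap (f x)).hom a)
      rw [Scheme.Hom.stalkMap_comp]
      rfl
  haveI : IsLocalHom (algebraMap (S.presheaf.stalk (h (f x))) (Y.presheaf.stalk (f x))) :=
    inferInstanceAs (IsLocalHom (h.stalkMap (f x)).hom)
  haveI : IsLocalHom (algebraMap (Y.presheaf.stalk (f x)) (X.presheaf.stalk x)) :=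
    inferInstanceAs (IsLocalHom (f.stalkMap x).hom)
  haveI : Module.Flat (S.presheaf.stalk (h (f x))) (F.presheaf.stalk x) := hS
  haveI : Algebra.EssFiniteType (S.presheaf.stalk (h (f x))) (Y.presheaf.stalk (f x)) :=
    LocallyOfFiniteType.stalkMap h (f x)
  haveI : Module.FinitePresentation (X.presheaf.stalk x) (F.presheaf.stalk x) :=
    H8Props.FreeLocus.finitePresentation_stalk F hF x
  have hEFP : CAlgX.IsEssFinitePresentation (S.presheaf.stalk (h (f x))) (X.presheaf.stalk x) :=
    isEssFP_stalkMap (f ≫ h) x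
  let J : Ideal (Y.presheaf.stalk (f x)) :=
    Ideal.map (algebraMap (S.presheaf.stalk (h (f x))) (Y.presheaf.stalk (f x))) (maximalIdeal (S.presheaf.stalk (h (f x))))
  have hfib0 : H06EGA9.QuotFlat (Y.presheaf.stalk (f x)) J (F.presheaf.stalk x) := hfib
  have hfib' : Module.Flat (Y.presheaf.stalk (f x) ⧸ J)
      ((Y.presheaf.stalk (f x) ⧸ J) ⊗[Y.presheaf.stalk (f x)] F.presheaf.stalk x) :=
    (H06EGA9.quotFlat_iff_flat_tensor (B := Y.presheaf.stalk (f x)) (M := F.presheaf.stalk x) J).1 hfib0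
  exact flat_of_fibre (R := S.presheaf.stalk (h (f x))) (S := Y.presheaf.stalk (f x))
    (S' := X.presheaf.stalk x) (M := F.presheaf.stalk x) hEFP hfib'

end Groth.Agent.H7Flat.RelFlatLocus
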