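import Groth.Agent.H26Blow.Exists
import Groth.Agent.H29Blow.Basic
import Groth.Agent.H7Lim.IdealSystem
import Groth.Agent.H7Lim.Topology

/-!
# Separating closed constructible subsets by an admissible blow-up
-/

set_option autoImplicit false
set_option backward.isDefEq.respectTransparency false
set_option linter.style.haveILetI false

universe u

open AlgebraicGeometry CategoryTheory TopologicalSpace Topology

namespace Groth.Agent.H7Flat

variable {X : Scheme.{u}} [CompactSpace X] [QuasiSeparatedSpace X] (U : X.Opens)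

/-- A closed constructible subset of a qc open is cut out by an ideal of finite type. -/
theorem exists_ftIdeal_support_inter (hU : IsCompact (U : Set X)) (T : Set U) (hT : IsClosed T)
    (hc : IsConstructible T) :
    ∃ I : X.IdealSheafData, BlowUp.IsFiniteTypeIdeal I ∧
      (I.support : Set X) ∩ U = Subtype.val '' T := by
  haveI : CompactSpace U.toScheme := isCompact_iff_compactSpace.mp hU
  haveI : QuasiSeparatedSpace U.toScheme :=
    (isQuasiSeparated_iff_quasiSeparatedSpace _ U.2).mp (.of_quasiSeparatedSpace _)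
  let J := Scheme.IdealSheafData.vanishingIdeal ⟨closure (Subtype.val '' T : Set X), isClosed_closure⟩
  have hJ : (J.support : Set X) = closure (Subtype.val '' T : Set X) := by simp [J]
  have hJU : (J.support : Set X) ∩ U = Subtype.val '' T := by
    rw [hJ]
    refine Set.Subset.antisymm (fun x ⟨hx, hxU⟩ => ⟨⟨x, hxU⟩, ?_, rfl⟩)
      (fun x hx => ⟨subset_closure hx, by obtain ⟨y, -, rfl⟩ := hx; exact y.2⟩)
    have h1 : (⟨x, hxU⟩ : U) ∈ closure T :=
      (IsInducing.subtypeVal.closure_eq_preimage_closure_image T).ge hx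
    rwa [hT.closure_eq] at h1
  have hcpt : IsCompact ((U : Set X) \ Subtype.val '' T) := by
    have h1 : IsCompact (Tᶜ : Set U.toScheme) :=
      (H7Lim.qcImage_of_isLocallyConstructible hc.compl.isLocallyConstructible).isCompact
    have h2 : (Subtype.val '' (Tᶜ : Set U)) = (U : Set X) \ Subtype.val '' T := by
      ext x
      constructor
      · rintro ⟨y, hy, rfl⟩
        exact ⟨y.2, fun ⟨z, hz, e⟩ => hy (Subtype.ext e ▸ hz)⟩
      · rintro ⟨hxU, hx⟩
        exact ⟨⟨x, hxU⟩, fun h => hx ⟨_, h, rfl⟩, rfl⟩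
    rw [← h2]
    exact h1.image continuous_subtype_val
  obtain ⟨F, hF⟩ := hcpt.elim_directed_cover
    (fun F : H7Lim.FTIdeal J => ((F.1.support : Set X))ᶜ) (fun F => F.1.support.2.isOpen_compl)
    (fun x ⟨hxU, hx⟩ => by
      have h1 : x ∉ J.support := fun h => hx (hJU.le ⟨h, hxU⟩)
      rw [← H7Lim.iSup_finiteType_eq J, Scheme.IdealSheafData.support_iSup] at h1
      obtain ⟨F, hF⟩ : ∃ F : H7Lim.FTIdeal J, x ∉ F.1.support := by
        by_contra h
        push Not at h
        exact h1 (Closeds.mem_iInf.mpr h)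
      exact Set.mem_iUnion.mpr ⟨F, hF⟩)
    (fun F G => ⟨⟨F.1 ⊔ G.1, sup_le F.2.1 G.2.1, fun A => by
        rw [Scheme.IdealSheafData.ideal_sup]; exact Submodule.FG.sup (F.2.2 A) (G.2.2 A)⟩,
      Set.compl_subset_compl.mpr (Scheme.IdealSheafData.support_antitone le_sup_left),
      Set.compl_subset_compl.mpr (Scheme.IdealSheafData.support_antitone le_sup_right)⟩)
  refine ⟨F.1, F.2.2, Set.Subset.antisymm (fun x ⟨hx, hxU⟩ => by
    by_contra h
    exact hF ⟨hxU, h⟩ hx) (fun x hx => ?_)⟩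
  have := hJU.ge hx
  exact ⟨Scheme.IdealSheafData.support_antitone F.2.1 this.1, this.2⟩

theorem exists_blowUp_separating (hU : IsCompact (U : Set X)) (T₁ T₂ : Set U) (h₁ : IsClosed T₁)
    (h₂ : IsClosed T₂) (c₁ : IsConstructible T₁) (c₂ : IsConstructible T₂) (hd : Disjoint T₁ T₂) :
    ∃ (𝓘 : X.IdealSheafData) (X' : Scheme.{u}) (b : X' ⟶ X), BlowUp.IsBlowUp b 𝓘 ∧
      BlowUp.IsAdmissibleFor U 𝓘 ∧
      Disjoint (closure (b.base ⁻¹' (Subtype.val '' T₁))) (closure (b.base ⁻¹' (Subtype.val '' T₂))) := by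
  obtain ⟨I₁, hI₁, hs₁⟩ := exists_ftIdeal_support_inter U hU T₁ h₁ c₁
  obtain ⟨I₂, hI₂, hs₂⟩ := exists_ftIdeal_support_inter U hU T₂ h₂ c₂
  obtain ⟨X', b, hb⟩ := H26Blow.exists_isBlowUp (I₁ ⊔ I₂)
  have hdis : Disjoint ((I₁ ⊔ I₂).support : Set X) (U : Set X) := by
    rw [Set.disjoint_left]
    intro x hx hxU
    rw [Scheme.IdealSheafData.support_sup] at hx
    obtain ⟨y, hy, rfl⟩ := hs₁.le ⟨hx.1, hxU⟩
    obtain ⟨y', hy', e⟩ := hs₂.le ⟨hx.2, hxU⟩
    exact Set.disjoint_left.mp hd hy (Subtype.ext e ▸ hy')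
  refine ⟨I₁ ⊔ I₂, X', b, hb, ⟨fun A => by
    rw [Scheme.IdealSheafData.ideal_sup]; exact Submodule.FG.sup (hI₁ A) (hI₂ A), hdis⟩, ?_⟩
  rw [Set.disjoint_left]
  intro z hz₁ hz₂
  obtain ⟨V, hzV, e, he, heq⟩ := hb.1 z
  have hsplit : e ∈ (I₁.comap b).ideal V ⊔ (I₂.comap b).ideal V := by
    rw [← Pi.sup_apply, ← Scheme.IdealSheafData.ideal_sup, ← Scheme.IdealSheafData.comap_sup, heq]
    exact Ideal.mem_span_singleton_self e
  obtain ⟨k₁, hk₁, k₂, hk₂, hk⟩ := Submodule.mem_sup.mp hsplit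
  have hle : ∀ {I : X.IdealSheafData}, I ≤ I₁ ⊔ I₂ → ∀ {k}, k ∈ (I.comap b).ideal V → ∃ a, a * e = k := by
    intro I hI k hk'
    have : k ∈ Ideal.span {e} := heq ▸ Scheme.IdealSheafData.comap_mono b hI V hk'
    exact Ideal.mem_span_singleton'.mp this
  obtain ⟨a₁, ha₁⟩ := hle le_sup_left hk₁
  obtain ⟨a₂, ha₂⟩ := hle le_sup_right hk₂
  have hone : a₁ + a₂ = 1 := by
    refine (mem_nonZeroDivisors_iff_right.mp he (a₁ + a₂ - 1) ?_ |> sub_eq_zero.mp)
    rw [sub_mul, add_mul, ha₁, ha₂, hk, one_mul, sub_self]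
  have key : ∀ {I : X.IdealSheafData} {T : Set U}, (I.support : Set X) ∩ U = Subtype.val '' T →
      I ≤ I₁ ⊔ I₂ → ∀ {a}, a * e ∈ (I.comap b).ideal V → ∀ {z : X'}, z ∈ V.1 →
      z ∈ closure (b.base ⁻¹' (Subtype.val '' T)) → z ∉ X'.basicOpen a := by
    intro I T hs _ a ha z hzV hz hza
    obtain ⟨w, hwa, hwT⟩ := mem_closure_iff.mp hz (X'.basicOpen a) (X'.basicOpen a).2 hza
    have hw := hs.ge hwT
    have hwV : w ∈ V.1 := X'.basicOpen_le a hwa
    have hwe : w ∈ X'.basicOpen e := by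
      by_contra hwe
      have : w ∈ ((I₁ ⊔ I₂).comap b).support := by
        rw [Scheme.IdealSheafData.mem_support_iff_of_mem (U := V) hwV, Scheme.mem_zeroLocus_iff]
        intro f hf
        rw [heq] at hf
        obtain ⟨g, rfl⟩ := Ideal.mem_span_singleton'.mp hf
        rw [Scheme.basicOpen_mul]
        exact fun h => hwe h.2
      rw [Scheme.IdealSheafData.support_comap] at this
      exact Set.disjoint_left.mp hdis this hw.2
    have h3 : w ∉ (I.comap b).support := H29Blow.basicOpen_disjoint_support ha (by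
      rw [Scheme.basicOpen_mul]; exact ⟨hwa, hwe⟩)
    rw [Scheme.IdealSheafData.support_comap] at h3
    exact h3 hw.1
  have h01 := key hs₁ le_sup_left (ha₁.symm ▸ hk₁) hzV hz₁
  have h02 := key hs₂ le_sup_right (ha₂.symm ▸ hk₂) hzV hz₂
  have h1 : z ∈ X'.basicOpen (a₁ + a₂) := by
    rw [hone, Scheme.basicOpen_of_isUnit _ isUnit_one]; exact hzV
  rw [Scheme.mem_basicOpen X' _ z hzV] at h1 h01 h02
  rw [map_add] at h1
  exact (IsLocalRing.isUnit_or_isUnit_of_isUnit_add h1).elim h01 h02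

end Groth.Agent.H7Flat
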