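import Groth.Agent.H7Flat.PureProjectiveLocal
import Groth.Agent.H7Flat.FibreIndependence
import Groth.Agent.H1CAlg.LocalFree
import Mathlib.LinearAlgebra.Basis.SMul

/-!
Universally pure flat finitely presented modules are projective; globalisation of local
projectivity.
-/

set_option autoImplicit false
universe u

namespace Groth.Agent.H7Flat.PureProjective

open TensorProduct FlatMor FibreIndependence

attribute [local instance] Algebra.TensorProduct.rightAlgebra

set_option backward.isDefEq.respectTransparency false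
set_option maxHeartbeats 1000000
set_option synthInstance.maxHeartbeats 400000

/-- If a tensor is a combination of a family independent on `D(f)`, the coefficients are torsion
modulo every submodule capturing the tensor. -/
theorem exists_pow_smul_mem {R N M : Type u} [CommRing R] [AddCommGroup N] [Module R N]
    [Module.Flat R N] [AddCommGroup M] [Module R M] {k : ℕ} (y : ULift.{u} (Fin k) → N) (f : R)
    (hy : ∀ q : PrimeSpectrum R, f ∉ q.asIdeal → Indep y q) (e : ULift.{u} (Fin k) → M)
    (F : Submodule R M) (h : ∑ i, F.mkQ (e i) ⊗ₜ[R] y i = 0) (i : ULift.{u} (Fin k)) :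
    ∃ m : ℕ, f ^ m • e i ∈ F := by
  by_contra hne
  push Not at hne
  let J : Ideal R := (⊥ : Submodule R (M ⧸ F)).colon {F.mkQ (e i)}
  have hJ : ∀ a, a ∈ J ↔ a • F.mkQ (e i) = 0 := fun a => by
    simp [J, Submodule.mem_colon_singleton]
  obtain ⟨q, hq, hJq, hdisj⟩ := Ideal.exists_le_prime_disjoint J (Submonoid.powers f) (by
    rw [Set.disjoint_left]
    rintro a ha ⟨m, rfl⟩
    refine hne m ?_
    rw [← Submodule.Quotient.mk_eq_zero, Submodule.Quotient.mk_smul]
    exact (hJ _).mp ha)
  have hfq : f ∉ q := fun h => Set.disjoint_left.mp hdisj h (Submonoid.mem_powers f)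
  have h' : ∑ j, y j ⊗ₜ[R] F.mkQ (e j) = 0 := by
    have := congrArg (TensorProduct.comm R (M ⧸ F) N) h
    simpa [map_sum] using this
  have hind := hy ⟨q, hq⟩ hfq
  obtain ⟨d, hd, hde⟩ := WeakAssTensor.exists_notMem_smul_eq_zero q y (fun j => F.mkQ (e j))
    (fun l hl j => Ideal.algebraMap_residueField_eq_zero.mp
      (Fintype.linearIndependent_iff.mp hind (fun j => algebraMap R _ (l j)) (by
        rw [← hl, tmul_sum]
        exact Finset.sum_congr rfl fun j _ => by rw [algebraMap_smul, tmul_smul]) j)) h'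
  exact hd (hJq ((hJ d).mpr (hde i)))

/-- A tensor locally expressed through families independent on the fibres has a smallest
submodule. -/
theorem exists_smallest {R N M : Type u} [CommRing R] [AddCommGroup N] [Module R N]
    [Module.Flat R N] [AddCommGroup M] [Module R M]
    (hopen : ∀ (k : ℕ) (y : ULift.{u} (Fin k) → N), IsOpen {q : PrimeSpectrum R | Indep y q})
    (z : M ⊗[R] N)
    (h : ∀ p : PrimeSpectrum R, ∃ d ∉ p.asIdeal, ∃ (k : ℕ) (y : ULift.{u} (Fin k) → N)
      (e : ULift.{u} (Fin k) → M), Indep y p ∧ d • z = ∑ i, e i ⊗ₜ[R] y i) :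
    ∃ F' : Submodule R M, z ∈ LinearMap.range (F'.subtype.rTensor N) ∧
      ∀ F'' : Submodule R M, z ∈ LinearMap.range (F''.subtype.rTensor N) → F' ≤ F'' := by
  classical
  have h' : ∀ p : PrimeSpectrum R, ∃ f d f' : R, f ∉ p.asIdeal ∧ f = f' * d ∧
      ∃ (k : ℕ) (y : ULift.{u} (Fin k) → N) (e : ULift.{u} (Fin k) → M),
        (∀ q : PrimeSpectrum R, f ∉ q.asIdeal → Indep y q) ∧ d • z = ∑ i, e i ⊗ₜ[R] y i := by
    intro p
    obtain ⟨d, hd, k, y, e, hy, hz⟩ := h p
    obtain ⟨_, ⟨f', rfl⟩, hpf', hsub⟩ :=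
      PrimeSpectrum.isTopologicalBasis_basic_opens.exists_subset_of_mem_open
        (show p ∈ {q : PrimeSpectrum R | Indep y q} from hy) (hopen k y)
    exact ⟨f' * d, d, f', fun hh => (Ideal.IsPrime.mem_or_mem inferInstance hh).elim hpf' hd, rfl,
      k, y, e, fun q hq => hsub (fun hh => hq (q.asIdeal.mul_mem_right _ hh)), hz⟩
  choose f d f' hf hfd k y e hy hz using h'
  have hspan : Ideal.span (Set.range f) = ⊤ := by
    by_contra hne
    obtain ⟨m, hm, hle⟩ := Ideal.exists_le_maximal _ hne
    exact hf ⟨m, hm.isPrime⟩ (hle (Ideal.subset_span ⟨_, rfl⟩))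
  obtain ⟨s, hs, hstop⟩ := (Ideal.span_eq_top_iff_finite _).mp hspan
  choose idx hidx using fun x : s => hs x.2
  let sat : PrimeSpectrum R → Submodule R M := fun p =>
    { carrier := {x | ∃ m : ℕ, f p ^ m • x ∈ Submodule.span R (Set.range (e p))}
      zero_mem' := ⟨0, by simp⟩
      add_mem' := fun {a b} ⟨m, ha⟩ ⟨n, hb⟩ => ⟨m + n, by
        rw [smul_add]
        refine add_mem ?_ ?_
        · rw [pow_add, mul_comm, mul_smul]; exact Submodule.smul_mem _ _ ha
        · rw [pow_add, mul_smul]; exact Submodule.smul_mem _ _ hb⟩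
      smul_mem' := fun c a ⟨m, ha⟩ => ⟨m, by rw [smul_comm]; exact Submodule.smul_mem _ _ ha⟩ }
  have he : ∀ p i, e p i ∈ sat p := fun p i =>
    ⟨0, by rw [pow_zero, one_smul]; exact Submodule.subset_span ⟨i, rfl⟩⟩
  have hsat : ∀ p x (m : ℕ), f p ^ m • x ∈ sat p → x ∈ sat p := fun p x m ⟨n, hn⟩ =>
    ⟨n + m, by rw [pow_add, mul_smul]; exact hn⟩
  have hQ : ∀ (p : PrimeSpectrum R) (F : Submodule R M),
      d p • F.mkQ.rTensor N z = ∑ i, F.mkQ (e p i) ⊗ₜ[R] y p i := fun p F => by
    rw [← map_smul, hz p, map_sum]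
    exact Finset.sum_congr rfl fun i _ => rfl
  have hzero : ∀ p, f p • (sat p).mkQ.rTensor N z = 0 := fun p => by
    rw [hfd p, mul_smul, hQ, Finset.sum_eq_zero fun i _ => ?_, smul_zero]
    rw [Submodule.mkQ_apply, (Submodule.Quotient.mk_eq_zero _).mpr (he p i), zero_tmul]
  have key : ∀ p q i, ∃ m : ℕ, f p ^ m • e p i ∈ sat q := by
    intro p q i
    obtain ⟨m, hm⟩ := exists_pow_smul_mem (y p) (f p) (hy p) (fun i => f q • e p i) (sat q) (by
      have h1 := congrArg (d p • ·) (hzero q)
      rw [smul_zero, smul_comm, hQ, Finset.smul_sum] at h1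
      rw [← h1]
      exact Finset.sum_congr rfl fun i _ => by rw [map_smul, smul_tmul']) i
    refine ⟨m, hsat q _ 1 ?_⟩
    rwa [pow_one, smul_comm]
  choose mm hmm using key
  let C : Submodule R M := ⨅ x : s, sat (idx x)
  refine ⟨C, (rTensor_exact N (LinearMap.exact_subtype_mkQ C) C.mkQ_surjective z).mp ?_, ?_⟩
  · let I : Ideal R := LinearMap.ker (LinearMap.toSpanSingleton R _ (C.mkQ.rTensor N z))
    have hI : ∀ x : s, ∃ n : ℕ, (x : R) ^ n ∈ I := by
      intro x
      let p := idx x
      refine ⟨(Finset.univ.sup fun j : s × ULift.{u} (Fin (k p)) => mm p (idx j.1) j.2) + 1, ?_⟩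
      rw [LinearMap.mem_ker, LinearMap.toSpanSingleton_apply, ← hidx x, pow_succ, mul_smul,
        show f p = f' p * d p from hfd p, mul_smul (f' p), hQ, smul_comm, Finset.smul_sum]
      rw [Finset.sum_eq_zero fun i _ => ?_, smul_zero]
      rw [smul_tmul', ← map_smul, Submodule.mkQ_apply, (Submodule.Quotient.mk_eq_zero _).mpr ?_,
        zero_tmul]
      refine (Submodule.mem_iInf _).mpr fun j => ?_
      obtain ⟨r, hr⟩ := Nat.exists_eq_add_of_le (Finset.le_sup
        (f := fun j : s × ULift.{u} (Fin (k p)) => mm p (idx j.1) j.2) (Finset.mem_univ (j, i)))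
      rw [← hfd p, hr, pow_add, mul_comm, mul_smul]
      exact Submodule.smul_mem _ _ (hmm p (idx j) i)
    choose n hn using hI
    have htop : Ideal.span (Set.range fun x : s => (x : R) ^ n x) = ⊤ :=
      Ideal.span_range_pow_eq_top (s : Set R) hstop n
    have h1 : (1 : R) ∈ I := (htop.ge.trans (Ideal.span_le.mpr (by rintro _ ⟨x, rfl⟩; exact hn x)))
      Submodule.mem_top
    simpa [I, LinearMap.mem_ker] using h1
  · intro F hF x hx
    have hF0 : F.mkQ.rTensor N z = 0 :=
      (rTensor_exact N (LinearMap.exact_subtype_mkQ F) F.mkQ_surjective z).mpr hF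
    let I : Ideal R := LinearMap.ker (LinearMap.toSpanSingleton R _ (F.mkQ x))
    have hI : ∀ j : s, ∃ n : ℕ, (j : R) ^ n ∈ I := by
      intro j
      let p := idx j
      obtain ⟨m, hm⟩ := (Submodule.mem_iInf _).mp hx j
      choose l hl using fun i => exists_pow_smul_mem (y p) (f p) (hy p) (e p) F (by
        rw [← hQ, hF0, smul_zero]) i
      refine ⟨Finset.univ.sup l + m, ?_⟩
      rw [LinearMap.mem_ker, LinearMap.toSpanSingleton_apply, ← map_smul, ← hidx j,
        Submodule.mkQ_apply, Submodule.Quotient.mk_eq_zero, pow_add, mul_smul]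
      obtain ⟨c, hc⟩ := (Submodule.mem_span_range_iff_exists_fun R).mp hm
      rw [← hc, Finset.smul_sum]
      refine Submodule.sum_mem _ fun i _ => ?_
      rw [smul_comm]
      refine Submodule.smul_mem _ _ ?_
      obtain ⟨r, hr⟩ := Nat.exists_eq_add_of_le (Finset.le_sup (f := l) (Finset.mem_univ i))
      rw [hr, pow_add, mul_comm, mul_smul]
      exact Submodule.smul_mem _ _ (hl i)
    choose n hn using hI
    have htop : Ideal.span (Set.range fun x : s => (x : R) ^ n x) = ⊤ :=
      Ideal.span_range_pow_eq_top (s : Set R) hstop n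
    have h1 : (1 : R) ∈ I := (htop.ge.trans (Ideal.span_le.mpr (by rintro _ ⟨x, rfl⟩; exact hn x)))
      Submodule.mem_top
    simpa [I, LinearMap.mem_ker, Submodule.Quotient.mk_eq_zero] using h1

/-- Over a prime where the localisation is free, a tensor is a combination of a family independent
on the fibre. -/
theorem exists_repr {R Rp N Np : Type u} [CommRing R] [CommRing Rp] [IsLocalRing Rp] [Algebra R Rp]
    (p : PrimeSpectrum R) [IsLocalization.AtPrime Rp p.asIdeal] [AddCommGroup N] [Module R N]
    [AddCommGroup Np] [Module Rp Np] [Module R Np] [IsScalarTower R Rp Np] [Module.Free Rp Np]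
    {ν : N →ₗ[R] Np} (hν : IsBaseChange Rp ν) (n : ℕ) (z : (Fin n → R) ⊗[R] N) :
    ∃ d ∉ p.asIdeal, ∃ (k : ℕ) (y : ULift.{u} (Fin k) → N) (e : ULift.{u} (Fin k) → (Fin n → R)),
      Indep y p ∧ d • z = ∑ i, e i ⊗ₜ[R] y i := by
  classical
  have : IsLocalizedModule p.asIdeal.primeCompl ν :=
    (isLocalizedModule_iff_isBaseChange p.asIdeal.primeCompl Rp ν).mpr hν
  let b := Module.Free.chooseBasis Rp Np
  let zi : Fin n → N := fun i => TensorProduct.piScalarRight R R N (Fin n) (TensorProduct.comm R _ _ z) i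
  have hz : z = ∑ i, Pi.single i (1 : R) ⊗ₜ zi i := by
    simp only [zi]
    clear zi
    induction z with
    | zero => simp
    | add a b ha hb =>
      simp only [map_add, Pi.add_apply, tmul_add, Finset.sum_add_distrib, ← ha, ← hb]
    | tmul v w =>
      simp only [TensorProduct.comm_tmul, TensorProduct.piScalarRight_apply,
        TensorProduct.piScalarRightHom_tmul, tmul_smul, smul_tmul']
      rw [← sum_tmul]
      congr 1
      ext j
      simp [Pi.single_apply]
  choose ys hys using fun j => IsLocalizedModule.surj p.asIdeal.primeCompl ν (b j)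
  have hu : ∀ j, IsUnit (algebraMap R Rp ((ys j).2 : R)) := fun j =>
    IsLocalization.map_units Rp (ys j).2
  let b' := b.isUnitSMul hu
  have hb' : ∀ j, b' j = ν (ys j).1 := fun j => by
    rw [Module.Basis.isUnitSMul_apply, algebraMap_smul]
    exact hys j
  let J := Finset.univ.biUnion fun i => (b'.repr (ν (zi i))).support
  let σ : ULift.{u} (Fin J.card) ≃ J := Equiv.ulift.trans J.equivFin.symm
  let y : ULift.{u} (Fin J.card) → N := fun m => (ys (σ m)).1
  obtain ⟨t, ht⟩ := IsLocalization.exist_integer_multiples_of_finite p.asIdeal.primeCompl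
    (fun x : Fin n × ULift.{u} (Fin J.card) => b'.repr (ν (zi x.1)) (σ x.2))
  choose c hc using ht
  have hν0 : ∀ i, ν ((t : R) • zi i - ∑ m, c (i, m) • y m) = 0 := by
    intro i
    have h1 : ∑ m, b'.repr (ν (zi i)) (σ m) • ν (y m) = ν (zi i) := by
      have h0 := Finsupp.sum_of_support_subset (b'.repr (ν (zi i)))
        (show (b'.repr (ν (zi i))).support ⊆ J from
          Finset.subset_biUnion_of_mem (fun i => (b'.repr (ν (zi i))).support) (Finset.mem_univ i))
        (fun j a => a • b' j) (fun j _ => zero_smul _ _)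
      conv_rhs => rw [← b'.linearCombination_repr (ν (zi i)), Finsupp.linearCombination_apply, h0]
      rw [← Finset.sum_coe_sort J, ← σ.sum_comp]
      simp only [y, hb']
    rw [map_sub, map_smul, map_sum, sub_eq_zero]
    conv_lhs => rw [← h1, Finset.smul_sum]
    refine Finset.sum_congr rfl fun m _ => ?_
    rw [map_smul, ← algebraMap_smul Rp (c (i, m)), hc (i, m), smul_assoc]
  choose r hr using fun i => (IsLocalizedModule.eq_zero_iff p.asIdeal.primeCompl ν).mp (hν0 i)
  refine ⟨(∏ i, (r i : R)) * t, fun h => (Ideal.IsPrime.mem_or_mem inferInstance h).elim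
    (fun h => (prod_mem (S := p.asIdeal.primeCompl) fun i _ => (r i).2) h) t.2, J.card, y,
    fun m => ∑ i, ((∏ i, (r i : R)) * c (i, m)) • (Pi.single i (1 : R) : Fin n → R), ?_, ?_⟩
  · have hmax : PrimeSpectrum.comap (algebraMap R Rp) (IsLocalRing.closedPoint Rp) = p :=
      PrimeSpectrum.ext (IsLocalization.AtPrime.under_maximalIdeal Rp p.asIdeal)
    rw [← hmax, ← indep_baseChange_iff hν]
    unfold Indep
    have h1 := (b'.baseChange (IsLocalRing.closedPoint Rp).asIdeal.ResidueField).linearIndependent.comp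
      (fun m => (σ m : _)) (Subtype.val_injective.comp σ.injective)
    convert h1 using 1
    funext m
    simp only [Function.comp_apply, Module.Basis.baseChange_apply, hb', y]
  · rw [hz, Finset.smul_sum]
    simp only [sum_tmul]
    rw [Finset.sum_comm]
    refine Finset.sum_congr rfl fun i _ => ?_
    have h2 : (∏ i, (r i : R)) • ((t : R) • zi i - ∑ m, c (i, m) • y m) = 0 := by
      rw [← Finset.prod_erase_mul _ _ (Finset.mem_univ i), mul_smul]
      erw [hr i]
      rw [smul_zero]
    rw [smul_sub, sub_eq_zero, smul_smul, Finset.smul_sum] at h2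
    rw [← tmul_smul, h2, tmul_sum]
    refine Finset.sum_congr rfl fun m _ => ?_
    rw [smul_tmul, smul_smul]

/-- A module flat and finitely presented over a finitely presented algebra, whose localisations
at the primes of the base are free, is projective. -/
theorem projective_of_free_localizations {R S : Type u} [CommRing R] [CommRing S] [Algebra R S]
    [Algebra.FinitePresentation R S] (N : Type u) [AddCommGroup N] [Module S N] [Module R N]
    [IsScalarTower R S N] [Module.FinitePresentation S N] [Module.Flat R N]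
    (h : ∀ (n : ℕ) (z : (Fin n → R) ⊗[R] N) (p : PrimeSpectrum R), ∃ d ∉ p.asIdeal,
      ∃ (k : ℕ) (y : ULift.{u} (Fin k) → N) (e : ULift.{u} (Fin k) → (Fin n → R)),
        Indep y p ∧ d • z = ∑ i, e i ⊗ₜ[R] y i) : Module.Projective R N :=
  H1CAlg.projective_of_countablyGenerated
    (H1CAlg.isMittagLeffler_of_exists_smallest fun n z =>
      exists_smallest (fun _ y => isOpen_indep (S := S) y) z (h n z))
    (PureProjectiveLocal.isCountablyGenerated (S := S) N)

/-- An impurity is witnessed as such. -/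
theorem hasImpurity_of_not_univPureAlong {A B N : Type u} [CommRing A] [CommRing B] [Algebra A B]
    [AddCommGroup N] [Module B N] (p : Ideal A) [p.IsPrime]
    (h : ¬ FlatCA.IsUnivPureAlong A B N p) :
    FlatCA.HasImpurity A B N p (fun _ _ _ _ => True) := by
  unfold FlatCA.IsUnivPureAlong at h
  push Not at h
  obtain ⟨A', B', N', i₁, i₂, i₃, i₄, i₅, i₆, i₇, i₈, i₉, i₁₀, i₁₁, i₁₂, i₁₃, i₁₄, f, t', t, j₁,
    j₂, P, j₃, himp⟩ := h
  exact ⟨A', B', N', i₁, i₂, i₃, i₄, i₅, i₆, i₇, i₈, i₉, i₁₀, i₁₁, i₁₂, i₁₃, i₁₄, f, t', t, j₁,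
    j₂, P, j₃, himp, trivial⟩

/-- Universal purity along a prime passes to base changes. -/
theorem isUnivPureAlong_baseChange {A B N A' B' N' : Type u} [CommRing A] [CommRing B] [Algebra A B]
    [AddCommGroup N] [Module B N] [CommRing A'] [CommRing B'] [Algebra A A'] [Algebra B B']
    [Algebra A' B'] [Algebra A B'] [IsScalarTower A B B'] [IsScalarTower A A' B']
    [Algebra.IsPushout A B A' B'] [AddCommGroup N'] [Module B' N'] [Module B N']
    [IsScalarTower B B' N'] {f : N →ₗ[B] N'} (hf : IsBaseChange B' f) (p : Ideal A) [p.IsPrime]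
    (p' : Ideal A') [p'.IsPrime] [p'.LiesOver p] (h : FlatCA.IsUnivPureAlong A B N p) :
    FlatCA.IsUnivPureAlong A' B' N' p' := by
  by_contra hne
  obtain ⟨A'', B'', N'', _, _, _, _, _, _, _, _, _, _, _, _, _, _, g, t', t, _, _, P, _, himp, -⟩ :=
    ImpurityRebase.hasImpurity_restrict (p := p) hf p' (fun _ _ _ _ => True) (fun _ _ _ _ => True)
      (fun _ _ _ _ _ _ _ _ _ => trivial) (hasImpurity_of_not_univPureAlong p' hne)
  exact h A'' B'' N'' g t' t P himp

/-- The localisation of a universally pure module at a prime is free. -/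
theorem exists_repr_of_univPureAlong {R S Rp : Type u} [CommRing R] [CommRing S] [Algebra R S]
    [Algebra.FinitePresentation R S] (N : Type u) [AddCommGroup N] [Module S N] [Module R N]
    [IsScalarTower R S N] [Module.FinitePresentation S N] [Module.Flat R N] (p : PrimeSpectrum R)
    [CommRing Rp] [IsLocalRing Rp] [Algebra R Rp] [IsLocalization.AtPrime Rp p.asIdeal]
    (h : FlatCA.IsUnivPureAlong R S N p.asIdeal) (n : ℕ) (z : (Fin n → R) ⊗[R] N) :
    ∃ d ∉ p.asIdeal, ∃ (k : ℕ) (y : ULift.{u} (Fin k) → N) (e : ULift.{u} (Fin k) → (Fin n → R)),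
      Indep y p ∧ d • z = ∑ i, e i ⊗ₜ[R] y i := by
  let Sp := Rp ⊗[R] S
  have : Algebra.IsPushout R S Rp Sp := Algebra.IsPushout.symm inferInstance
  let Np := Sp ⊗[S] N
  let gN : N →ₗ[S] Np := TensorProduct.mk S Sp N 1
  have hgN : IsBaseChange Sp gN := TensorProduct.isBaseChange S N Sp
  have : IsScalarTower R Rp Np := IsScalarTower.of_algebraMap_smul fun r x => by
    rw [← algebraMap_smul Sp (algebraMap R Rp r) x, ← IsScalarTower.algebraMap_apply,
      algebraMap_smul]
  have : IsScalarTower R S Np := IsScalarTower.of_algebraMap_smul fun r x => by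
    rw [← algebraMap_smul Sp (algebraMap R S r) x, ← IsScalarTower.algebraMap_apply,
      algebraMap_smul]
  have hbR : IsBaseChange Rp (gN.restrictScalars R) :=
    Groth.Agent.H8Props.FlatAtBC.isBaseChange_restrictScalars (R := R) (R' := Rp) gN hgN
  have : Module.Flat Rp Np := Module.Flat.isBaseChange R Rp N Np hbR
  have : (IsLocalRing.maximalIdeal Rp).LiesOver p.asIdeal :=
    ⟨(IsLocalization.AtPrime.under_maximalIdeal Rp p.asIdeal).symm⟩
  have : Module.Projective Rp Np := PureProjectiveLocal.projective_of_univPureAlong (S := Sp) Np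
    (isUnivPureAlong_baseChange hgN p.asIdeal _ h)
  have : Module.Free Rp Np := H1CAlg.free_of_projective_isLocalRing (R := Rp) Np
  exact exists_repr p hbR n z

/-- A universally pure flat finitely presented module is projective. -/
theorem projective_of_univPure {R S : Type u} [CommRing R] [CommRing S] [Algebra R S]
    [Algebra.FinitePresentation R S] (N : Type u) [AddCommGroup N] [Module S N] [Module R N]
    [IsScalarTower R S N] [Module.FinitePresentation S N] [Module.Flat R N]
    (h : FlatCA.IsUnivPure R S N) : Module.Projective R N :=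
  projective_of_free_localizations (S := S) N fun n z p =>
    exists_repr_of_univPureAlong (Rp := Localization.AtPrime p.asIdeal) N p (h p.asIdeal) n z

end Groth.Agent.H7Flat.PureProjective
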