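import Groth.Agent.H7Flat.ImpurityDescend

/-!
An impurity descends to every algebra hitting a suitable finite set of elements of its base change
ring.
-/

set_option autoImplicit false
universe u

namespace Groth.Agent.H7Flat.ImpurityStage

open TensorProduct FlatMor

set_option backward.isDefEq.respectTransparency false
set_option maxHeartbeats 1000000
set_option synthInstance.maxHeartbeats 400000

section

variable {A B : Type u} [CommRing A] [CommRing B] [Algebra A B]
  {A' B' : Type u} [CommRing A'] [CommRing B'] [Algebra A A'] [Algebra B B'] [Algebra A' B']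
  [Algebra A B'] [IsScalarTower A B B'] [IsScalarTower A A' B']

/-- The comparison map from a stage. -/
noncomputable def stageHom (G : Type u) [CommRing G] [Algebra A G] (ψ : G →ₐ[A] A') :
    G ⊗[A] B →ₐ[A] B' :=
  Algebra.TensorProduct.lift ((IsScalarTower.toAlgHom A A' B').comp ψ)
    (IsScalarTower.toAlgHom A B B') (fun _ _ => mul_comm _ _)

@[simp] theorem stageHom_tmul (G : Type u) [CommRing G] [Algebra A G] (ψ : G →ₐ[A] A') (x : G)
    (b : B) : stageHom (B := B) (B' := B') G ψ (x ⊗ₜ[A] b) =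
      algebraMap A' B' (ψ x) * algebraMap B B' b := by
  simp [stageHom]

/-- Every element of the base change comes from an algebra containing finitely many given elements. -/
theorem exists_finset_mem_range (hpush : Algebra.IsPushout A B A' B') (y : B') :
    ∃ s : Finset A', ∀ (G : Type u) [CommRing G] [Algebra A G] (ψ : G →ₐ[A] A'),
      (∀ x ∈ s, x ∈ Set.range ψ) → ∃ z, stageHom (B := B) G ψ z = y := by
  classical
  refine hpush.out.inductionOn y (fun y => ∃ s : Finset A', ∀ (G : Type u) [CommRing G]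
    [Algebra A G] (ψ : G →ₐ[A] A'), (∀ x ∈ s, x ∈ Set.range ψ) →
      ∃ z, stageHom (B := B) G ψ z = y) ?_ ?_ ?_ ?_
  · exact ⟨∅, fun G _ _ ψ _ => ⟨0, map_zero _⟩⟩
  · intro a
    refine ⟨{a}, fun G _ _ ψ h => ?_⟩
    obtain ⟨x, hx⟩ := h a (Finset.mem_singleton_self a)
    exact ⟨x ⊗ₜ 1, by simp [hx]⟩
  · rintro b y ⟨s, hs⟩
    refine ⟨s, fun G _ _ ψ h => ?_⟩
    obtain ⟨z, hz⟩ := hs G ψ h
    exact ⟨1 ⊗ₜ b * z, by rw [map_mul, hz, Algebra.smul_def]; simp⟩
  · rintro y₁ y₂ ⟨s₁, h₁⟩ ⟨s₂, h₂⟩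
    refine ⟨s₁ ∪ s₂, fun G _ _ ψ h => ?_⟩
    obtain ⟨z₁, rfl⟩ := h₁ G ψ fun x hx => h x (Finset.mem_union_left _ hx)
    obtain ⟨z₂, rfl⟩ := h₂ G ψ fun x hx => h x (Finset.mem_union_right _ hx)
    exact ⟨z₁ + z₂, map_add _ _ _⟩

/-- Elements of an extended ideal come from the extended ideal at a stage. -/
theorem exists_finset_mem_map (hpush : Algebra.IsPushout A B A' B') (t : Ideal A') {y : B'}
    (hy : y ∈ t.map (algebraMap A' B')) :
    ∃ s : Finset A', ∀ (G : Type u) [CommRing G] [Algebra A G] (ψ : G →ₐ[A] A'),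
      (∀ x ∈ s, x ∈ Set.range ψ) →
        ∃ z ∈ (t.comap ψ).map (algebraMap G (G ⊗[A] B)), stageHom (B := B) G ψ z = y := by
  classical
  induction hy using Submodule.span_induction with
  | mem y hy =>
    obtain ⟨a, ha, rfl⟩ := hy
    refine ⟨{a}, fun G _ _ ψ h => ?_⟩
    obtain ⟨x, hx⟩ := h a (Finset.mem_singleton_self a)
    refine ⟨x ⊗ₜ 1, Ideal.mem_map_of_mem (algebraMap G (G ⊗[A] B)) ?_, by simp [hx]⟩
    rw [Ideal.mem_comap, hx]
    exact ha
  | zero => exact ⟨∅, fun G _ _ ψ _ => ⟨0, zero_mem _, map_zero _⟩⟩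
  | add y₁ y₂ _ _ h₁ h₂ =>
    obtain ⟨s₁, h₁⟩ := h₁
    obtain ⟨s₂, h₂⟩ := h₂
    refine ⟨s₁ ∪ s₂, fun G _ _ ψ h => ?_⟩
    obtain ⟨z₁, hz₁, rfl⟩ := h₁ G ψ fun x hx => h x (Finset.mem_union_left _ hx)
    obtain ⟨z₂, hz₂, rfl⟩ := h₂ G ψ fun x hx => h x (Finset.mem_union_right _ hx)
    exact ⟨z₁ + z₂, add_mem hz₁ hz₂, map_add _ _ _⟩
  | smul c y _ hy =>
    obtain ⟨s₁, h₁⟩ := hy
    obtain ⟨s₂, h₂⟩ := exists_finset_mem_range hpush c
    refine ⟨s₁ ∪ s₂, fun G _ _ ψ h => ?_⟩
    obtain ⟨z₁, hz₁, rfl⟩ := h₁ G ψ fun x hx => h x (Finset.mem_union_left _ hx)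
    obtain ⟨z₂, rfl⟩ := h₂ G ψ fun x hx => h x (Finset.mem_union_right _ hx)
    exact ⟨z₂ * z₁, Ideal.mul_mem_left _ _ hz₁, by rw [map_mul, smul_eq_mul]⟩

end

/-- Given an impurity, there is a finite set of elements of its base change ring such that every
algebra whose image contains them carries an element `a` with an impurity at every prime which
lies over `p`, contains the contraction of `t` and misses `a`. -/
theorem exists_finset_hasImpurity {A B : Type u} [CommRing A] [CommRing B] [Algebra A B]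
    {N : Type u} [AddCommGroup N] [Module B N] {p : Ideal A} [p.IsPrime]
    {A' B' N' : Type u} [CommRing A'] [CommRing B'] [Algebra A A'] [Algebra B B'] [Algebra A' B']
    [Algebra A B'] [IsScalarTower A B B'] [IsScalarTower A A' B']
    [AddCommGroup N'] [Module B' N'] [Module B N'] [IsScalarTower B B' N'] [Module A' N']
    [IsScalarTower A' B' N'] {f : N →ₗ[B] N'} {t' t : Ideal A'} [t'.IsPrime] [t.IsPrime]
    {P : Ideal B'} [P.IsPrime] (himp : FlatCA.IsImpurity A B N p A' B' N' f t' t P) :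
    ∃ s : Finset A', ∀ (G : Type u) [CommRing G] [Algebra A G] (ψ : G →ₐ[A] A'),
      (∀ x ∈ s, x ∈ Set.range ψ) → ∃ a ∉ t.comap ψ, ∀ (t₂ : Ideal G) [t₂.IsPrime],
        t₂.LiesOver p → t.comap ψ ≤ t₂ → a ∉ t₂ →
          ∀ Q : (∀ (A'' : Type u) [CommRing A''] [Algebra A A''], Ideal A'' → Prop),
            Q G t₂ → FlatCA.HasImpurity A B N p Q := by
  classical
  obtain ⟨hpush, hbc, htt, htp, hPt', hass, hnone⟩ := himp
  have hmeet : ∃ a ∉ t, algebraMap A' B' a ∈ P ⊔ t.map (algebraMap A' B') := by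
    by_contra hcon
    push_neg at hcon
    obtain ⟨P', hP', hle, hdisj⟩ := Ideal.exists_le_prime_disjoint _
      (Algebra.algebraMapSubmonoid B' t.primeCompl) (Set.disjoint_left.mpr fun y hy hy' => by
        obtain ⟨a, ha, rfl⟩ := hy'
        exact hcon a ha hy)
    have := hP'
    refine hnone P' (le_sup_left.trans hle) ⟨le_antisymm ?_ ?_⟩
    · intro a ha
      exact Ideal.map_le_iff_le_comap.mp (le_sup_right.trans hle) ha
    · intro a ha
      by_contra hat
      exact Set.disjoint_left.mp hdisj ha ⟨a, hat, rfl⟩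
  obtain ⟨a, ha, hmem⟩ := hmeet
  obtain ⟨π, hπ, y, hy, hsum⟩ := Submodule.mem_sup.mp hmem
  obtain ⟨s, hs⟩ := exists_finset_mem_map hpush t hy
  refine ⟨insert a s, fun G _ _ ψ hψ => ?_⟩
  obtain ⟨a₀, ha₀⟩ := hψ a (Finset.mem_insert_self a s)
  obtain ⟨z, hz, hzy⟩ := hs G ψ fun x hx => hψ x (Finset.mem_insert_of_mem hx)
  refine ⟨a₀, fun h => ha (ha₀ ▸ h), fun t₂ _ ht₂ hle hat₂ Q hQ => ?_⟩
  let φ : G ⊗[A] B →ₐ[A] B' := stageHom (B := B) G ψ
  have hφl : ∀ x, φ (x ⊗ₜ[A] 1) = algebraMap A' B' (ψ x) := fun x => by simp [φ]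
  have hφr : ∀ b, φ (1 ⊗ₜ[A] b) = algebraMap B B' b := fun b => by simp [φ]
  let : Algebra B (G ⊗[A] B) := Algebra.TensorProduct.rightAlgebra
  have hB : IsScalarTower A B (G ⊗[A] B) := IsScalarTower.of_algebraMap_eq fun a => by
    exact ((Algebra.TensorProduct.includeRight : B →ₐ[A] G ⊗[A] B).commutes a).symm
  let : Algebra G A' := ψ.toRingHom.toAlgebra
  have : IsScalarTower A G A' := IsScalarTower.of_algebraMap_eq fun a => (ψ.commutes a).symm
  let : Algebra (G ⊗[A] B) B' := φ.toRingHom.toAlgebra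
  let : Algebra G B' := ((algebraMap A' B').comp ψ.toRingHom).toAlgebra
  have : IsScalarTower G A' B' := IsScalarTower.of_algebraMap_eq fun _ => rfl
  have : IsScalarTower G (G ⊗[A] B) B' :=
    IsScalarTower.of_algebraMap_eq fun x => (hφl x).symm
  have : IsScalarTower B (G ⊗[A] B) B' :=
    IsScalarTower.of_algebraMap_eq fun b => (hφr b).symm
  have : IsScalarTower A G B' := IsScalarTower.of_algebraMap_eq fun c => by
    change _ = algebraMap A' B' (ψ (algebraMap A G c))
    rw [ψ.commutes, ← IsScalarTower.algebraMap_apply A A' B']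
  have : IsScalarTower A (G ⊗[A] B) B' :=
    IsScalarTower.of_algebraMap_eq fun c => (φ.commutes c).symm
  have hpo : Algebra.IsPushout A B G (G ⊗[A] B) := Algebra.IsPushout.symm inferInstance
  have : Algebra.IsPushout G (G ⊗[A] B) A' B' := by
    have : Algebra.IsPushout A G B (G ⊗[A] B) := inferInstance
    have h2 : Algebra.IsPushout A A' B B' := Algebra.IsPushout.symm hpush
    exact ((Algebra.IsPushout.comp_iff A G B (G ⊗[A] B) (T := A') (T' := B')).mp h2).symm
  let fi : N →ₗ[B] (G ⊗[A] B) ⊗[B] N := TensorProduct.mk B _ N 1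
  have hfi : IsBaseChange (G ⊗[A] B) fi := TensorProduct.isBaseChange B N (G ⊗[A] B)
  let : Module (G ⊗[A] B) N' := Module.compHom N' (algebraMap (G ⊗[A] B) B')
  have : IsScalarTower (G ⊗[A] B) B' N' := IsScalarTower.of_algebraMap_smul fun _ _ => rfl
  have : IsScalarTower B (G ⊗[A] B) N' := IsScalarTower.of_algebraMap_smul fun b n => by
    change algebraMap (G ⊗[A] B) B' (algebraMap B (G ⊗[A] B) b) • n = b • n
    rw [← IsScalarTower.algebraMap_apply, algebraMap_smul]
  let γ : (G ⊗[A] B) ⊗[B] N →ₗ[G ⊗[A] B] N' := hfi.lift f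
  have hγ : IsBaseChange B' γ := by
    refine IsBaseChange.of_comp hfi ?_
    rw [show γ.restrictScalars B ∘ₗ fi = f from hfi.lift_comp f]
    exact hbc
  let Pi : Ideal (G ⊗[A] B) := P.comap (algebraMap (G ⊗[A] B) B')
  let t'i : Ideal G := t'.comap (algebraMap G A')
  have : Pi.IsPrime := Ideal.comap_isPrime _ _
  have : t'i.IsPrime := Ideal.comap_isPrime _ _
  have : t'.LiesOver t'i := ⟨rfl⟩
  have := hPt'
  have hass' :=
    ImpurityDescend.fiberIdeal_comap_mem_associatedPrimes hγ t'i t' P hass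
  refine ⟨G, G ⊗[A] B, (G ⊗[A] B) ⊗[B] N, inferInstance, inferInstance, inferInstance,
    inferInstance, inferInstance, inferInstance, hB, inferInstance, inferInstance, inferInstance,
    inferInstance, inferInstance, inferInstance, inferInstance, fi, t'i, t₂,
    inferInstance, inferInstance, Pi, inferInstance, ?_, hQ⟩
  refine ⟨hpo, hfi, le_trans (Ideal.comap_mono htt) hle, ht₂, ⟨?_⟩, hass', ?_⟩
  · rw [Ideal.under, Ideal.comap_comap, ← IsScalarTower.algebraMap_eq,
      IsScalarTower.algebraMap_eq G A' B', ← Ideal.comap_comap]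
    exact congrArg (Ideal.comap (algebraMap G A')) hPt'.over
  · intro P' _ hPP' hlie
    have ht : t₂ = P'.comap (algebraMap G (G ⊗[A] B)) := hlie.over
    have hπi : algebraMap G (G ⊗[A] B) a₀ - z ∈ P' := by
      refine hPP' ?_
      change φ (a₀ ⊗ₜ[A] 1 - z) ∈ P
      rw [map_sub, hφl, ha₀, show φ z = y from hzy, ← hsum, add_sub_cancel_right]
      exact hπ
    have hzP : z ∈ P' :=
      (Ideal.map_le_iff_le_comap.mpr (hle.trans ht.le)) hz
    refine hat₂ ?_
    rw [ht, Ideal.mem_comap]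
    simpa using add_mem hπi hzP

end Groth.Agent.H7Flat.ImpurityStage

namespace Groth.Agent.H7Flat.ImpurityStage

open TensorProduct

attribute [local instance] Algebra.TensorProduct.rightAlgebra

set_option backward.isDefEq.respectTransparency false in
/-- Contractions of primes of the fibre ring lie over the base prime. -/
theorem liesOver_comap_fiber {R S : Type u} [CommRing R] [CommRing S] [Algebra R S] (p : Ideal R)
    [p.IsPrime] (Q : Ideal (p.Fiber S)) [Q.IsPrime] :
    (Q.comap (algebraMap S (p.Fiber S))).LiesOver p := by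
  constructor
  ext c
  rw [Ideal.under, Ideal.mem_comap, Ideal.mem_comap,
    show algebraMap S (p.Fiber S) (algebraMap R S c) =
      algebraMap p.ResidueField (p.Fiber S) (algebraMap R p.ResidueField c) from
      ((Algebra.TensorProduct.includeRight (R := R) (A := p.ResidueField) (B := S)).commutes c).trans
        (IsScalarTower.algebraMap_apply R p.ResidueField (p.Fiber S) c)]
  refine ⟨fun hc => ?_, fun hc => ?_⟩
  · rw [Ideal.algebraMap_residueField_eq_zero.mpr hc, map_zero]
    exact zero_mem _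
  · by_contra hcp
    exact Ideal.IsPrime.ne_top ‹Q.IsPrime› (Ideal.eq_top_of_isUnit_mem _ hc
      ((IsUnit.mk0 _ (mt Ideal.algebraMap_residueField_eq_zero.mp hcp)).map _))

end Groth.Agent.H7Flat.ImpurityStage
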