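import Groth.Agent.H3CAlg.FittBlowupExists
import Groth.Agent.H7Flat.FiberBasis
import Groth.Agent.H7Flat.PureProjective
import Groth.Agent.S1223
import Mathlib

/-!
# An affine blow-up making a module free near the generic points of the fibres
-/

set_option autoImplicit false
set_option linter.style.haveILetI false
set_option backward.isDefEq.respectTransparency false
set_option maxHeartbeats 1000000

universe u

open TensorProduct

namespace Groth.Agent.H7Flat.AffineBlowupRank

attribute [local instance] Algebra.TensorProduct.rightAlgebra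

open H3CAlg.FittBlowup (mem_powTorsion_iff)

/-- The extension of a prime to a flat algebra with integral fibre. -/
theorem isPrime_map {R S : Type u} [CommRing R] [CommRing S] [Algebra R S] [Module.Flat R S]
    (p : Ideal R) [p.IsPrime] [IsDomain (p.Fiber S)] :
    (p.map (algebraMap R S)).IsPrime ∧ (p.map (algebraMap R S)).comap (algebraMap R S) = p := by
  have hcb : (⊥ : Ideal (p.Fiber S)).comap (algebraMap S (p.Fiber S)) = p.map (algebraMap R S) := by
    refine le_antisymm (fun x hx => ?_) (Ideal.map_le_iff_le_comap.mpr fun r hr => ?_)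
    · let j : R ⧸ p →ₗ[R] p.ResidueField :=
        (IsScalarTower.toAlgHom R (R ⧸ p) p.ResidueField).toLinearMap
      have hj : Function.Injective j := IsFractionRing.injective (R ⧸ p) p.ResidueField
      have hinj : Function.Injective (j.lTensor S) :=
        Module.Flat.lTensor_preserves_injective_linearMap j hj
      have h0 : j.lTensor S (x ⊗ₜ[R] (1 : R ⧸ p)) = 0 := by
        rw [LinearMap.lTensor_tmul, show j 1 = 1 from map_one (IsScalarTower.toAlgHom R (R ⧸ p) p.ResidueField)]
        apply (TensorProduct.comm R S p.ResidueField).injective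
        rw [map_zero]
        exact hx
      rw [← Ideal.Quotient.eq_zero_iff_mem]
      apply (Algebra.TensorProduct.quotIdealMapEquivTensorQuot S p).injective
      rw [map_zero]
      exact hinj (h0.trans (map_zero _).symm)
    · rw [Ideal.mem_comap, Ideal.mem_comap, ← IsScalarTower.algebraMap_apply, Ideal.mem_bot,
        IsScalarTower.algebraMap_apply R p.ResidueField (p.Fiber S),
        Ideal.algebraMap_residueField_eq_zero.mpr hr, map_zero]
  rw [← hcb]
  refine ⟨Ideal.comap_isPrime _ _, ?_⟩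
  exact ((⊥ : Ideal (p.Fiber S)).comap (algebraMap S (p.Fiber S)) |>.over_def p).symm

section Fibres

variable {R S : Type u} [CommRing R] [CommRing S] [Algebra R S] [Algebra.FinitePresentation R S]
  [Module.Flat R S] (hgi : FlatCA.GeomIntegralFibres R S)

include hgi in
/-- An element killed near every generic point of a fibre over `D(f)` is killed by a power of `f`. -/
theorem exists_pow_mul_eq_zero (f : R) (x : S)
    (h : ∀ (p : Ideal R) [p.IsPrime], f ∉ p → ∃ u : S, u ∉ p.map (algebraMap R S) ∧ u * x = 0) :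
    ∃ n : ℕ, algebraMap R S f ^ n * x = 0 := by
  let w : (Fin 1 → S) ⊗[R] R := (fun _ : Fin 1 => x) ⊗ₜ[R] (1 : R)
  suffices ∃ t ∈ Submonoid.powers (algebraMap R S f), t • w = 0 by
    obtain ⟨_, ⟨n, rfl⟩, hn⟩ := this
    refine ⟨n, ?_⟩
    have h1 := congrArg (TensorProduct.rid R (Fin 1 → S)) hn
    rw [TensorProduct.smul_tmul', TensorProduct.rid_tmul, one_smul, map_zero] at h1
    exact congrFun h1 0
  by_contra! hne
  let J := H02CA.annEl (R := S) w
  obtain ⟨P, hP, hJP, hd⟩ := Ideal.exists_le_prime_disjoint J (Submonoid.powers (algebraMap R S f))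
    (Set.disjoint_left.mpr fun z hz hzT => hne z hzT (H02CA.mem_annEl.mp hz))
  haveI := hP
  obtain ⟨q₁, hq₁, hq₁P⟩ := Ideal.exists_minimalPrimes_le hJP
  haveI : q₁.IsPrime := hq₁.1.1
  have hmem : q₁ ∈ FlatCA.weakAss S ((Fin 1 → S) ⊗[R] R) := by
    refine H02CA.mem_weakAss.mpr ⟨hq₁.1.1, w, hq₁.1.2, fun z hz => ?_⟩
    obtain ⟨c, hc, n, hcn⟩ := UnivInjCover.exists_mul_pow_mem hq₁ hz
    exact ⟨n, c, hc, H02CA.mem_annEl.mp hcn⟩
  have he := FiberBasis.eq_map_of_mem_weakAss hgi R q₁ hmem
  have hf : f ∉ q₁.comap (algebraMap R S) := fun hm =>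
    Set.disjoint_left.mp hd (hq₁P (Ideal.mem_comap.mp hm)) (Submonoid.mem_powers _)
  obtain ⟨v, hv, hvx⟩ := h (q₁.comap (algebraMap R S)) hf
  rw [he] at hv
  refine hv (hq₁.1.2 (H02CA.mem_annEl.mpr ?_))
  show v • ((fun _ : Fin 1 => x) ⊗ₜ[R] (1 : R)) = 0
  rw [TensorProduct.smul_tmul']
  convert TensorProduct.zero_tmul (Fin 1 → S) (1 : R)
  funext i
  exact hvx

end Fibres

/-- Coefficients with respect to a projective algebra. -/
theorem exists_coeffs (R S : Type u) [CommRing R] [AddCommGroup S] [Module R S] [Module.Projective R S] :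
    ∃ (ι : Type u) (c : S →ₗ[R] ι →₀ R) (e : ι → S), ∀ x, x = (c x).sum fun i r => r • e i := by
  classical
  obtain ⟨s, hs⟩ := Module.projective_def.mp (inferInstance : Module.Projective R S)
  refine ⟨S, s, id, fun x => ?_⟩
  have := hs x
  rw [Finsupp.linearCombination_apply] at this
  exact this.symm

/-- A family which is a basis up to powers after localisation gives one before. -/
theorem isBasisUpTo_descend {S L Q QL : Type u} [CommRing S] [CommRing L] [Algebra S L] (c : S)
    [IsLocalization.Away c L] [AddCommGroup Q] [Module S Q] [AddCommGroup QL] [Module L QL] [Module S QL]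
    [IsScalarTower S L QL] (ρ : Q →ₗ[S] QL) (hsurj : ∀ z : QL, ∃ (k : ℕ) (x : Q), c ^ k • z = ρ x)
    (hker : ∀ x : Q, ρ x = 0 → ∃ k : ℕ, c ^ k • x = 0) (g : L) {r : ℕ} (y : Fin r → QL)
    (hy : H3CAlg.FittPrincipal.IsBasisUpTo g y) (q : Ideal S) [q.IsPrime] (hcq : c ∉ q)
    (hgq : ∀ h ∈ q, ∀ k : ℕ, g * algebraMap S L c ^ k ≠ algebraMap S L h) :
    ∃ g' : S, g' ∉ q ∧ ∃ y' : Fin r → Q, H3CAlg.FittPrincipal.IsBasisUpTo g' y' := by
  classical
  obtain ⟨k, g₀, hg₀⟩ := IsLocalization.Away.surj c g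
  have hg₀q : g₀ ∉ q := fun hm => hgq g₀ hm k hg₀
  choose e x hx using fun i => hsurj (y i)
  refine ⟨c * g₀, fun hm => (‹q.IsPrime›.mem_or_mem hm).elim hcq hg₀q, x, fun z => ?_, fun a ha => ?_⟩
  · obtain ⟨s, hs⟩ := hy.1 (ρ z)
    obtain ⟨b, hb⟩ := (Submodule.mem_span_range_iff_exists_fun L).mp hs
    obtain ⟨⟨_, t, rfl⟩, ht⟩ := IsLocalization.exist_integer_multiples_of_finite (Submonoid.powers c) b
    choose b' hb' using ht
    let E := Finset.univ.sup e
    let w : Q := ∑ i, (b' i * c ^ (E - e i)) • x i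
    have h1 : ρ ((c ^ E * c ^ t * g₀ ^ s) • z - c ^ (k * s) • w) = 0 := by
      rw [map_sub, map_smul, map_smul, sub_eq_zero, map_sum]
      have h2 : ∀ i, ρ ((b' i * c ^ (E - e i)) • x i) = (c ^ E * c ^ t) • (b i • y i) := by
        intro i
        rw [map_smul, ← hx, smul_smul, mul_assoc, ← pow_add,
          Nat.sub_add_cancel (Finset.le_sup (f := e) (Finset.mem_univ i)), mul_comm, mul_smul, mul_smul]
        refine congrArg _ ?_
        rw [← algebraMap_smul L (b' i) (y i), hb' i, smul_assoc]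
      simp only [h2, ← Finset.smul_sum, hb]
      rw [mul_smul, smul_comm (c ^ (k * s))]
      refine congrArg _ ?_
      rw [← algebraMap_smul L (g₀ ^ s), map_pow, ← hg₀, mul_pow, mul_smul, ← pow_mul, ← map_pow,
        algebraMap_smul]
      exact smul_comm _ _ _
    obtain ⟨l, hl⟩ := hker _ h1
    refine ⟨E + t + s + l, ?_⟩
    rw [smul_sub, sub_eq_zero, smul_smul] at hl
    have e1 : (c * g₀) ^ (E + t + s + l) = (c ^ s * g₀ ^ (E + t + l)) * (c ^ l * (c ^ E * c ^ t * g₀ ^ s)) := by
      ring
    rw [e1, mul_smul, hl]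
    exact Submodule.smul_mem _ _ (Submodule.smul_mem _ _ (Submodule.smul_mem _ _
      (Submodule.sum_mem _ fun i _ => Submodule.smul_mem _ _ (Submodule.subset_span ⟨i, rfl⟩))))
  · have h0 : ∑ i, (algebraMap S L (a i * c ^ e i)) • y i = 0 := by
      rw [← ρ.map_zero, ← ha, map_sum]
      refine Finset.sum_congr rfl fun i _ => ?_
      rw [map_smul, ← hx, algebraMap_smul, mul_smul]
    obtain ⟨s, hs⟩ := hy.2 _ h0
    have h2 : ∀ i, ∃ l, (c * g₀) ^ l * a i = 0 := by
      intro i
      have h3 : g ^ s * algebraMap S L (a i * c ^ e i) = 0 := congrFun hs i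
      have h4 : algebraMap S L (g₀ ^ s * (a i * c ^ e i)) = 0 := by
        rw [map_mul, map_pow, ← hg₀, mul_pow, mul_comm (g ^ s), mul_assoc, h3, mul_zero]
      obtain ⟨⟨_, l, rfl⟩, hl⟩ := (IsLocalization.map_eq_zero_iff (Submonoid.powers c) L _).mp h4
      refine ⟨l + e i + s, ?_⟩
      linear_combination (g₀ ^ (l + e i) * c ^ s) * hl
    choose l hl using h2
    refine ⟨Finset.univ.sup l, funext fun i => ?_⟩
    obtain ⟨d, hd⟩ := Nat.exists_eq_add_of_le (Finset.le_sup (f := l) (Finset.mem_univ i))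
    rw [Pi.smul_apply, smul_eq_mul, hd, pow_add, mul_comm (_ ^ l i), mul_assoc, hl i, mul_zero,
      Pi.zero_apply]

/-- A module whose Fitting ideal is principal near `q`: the quotient by the torsion is free near `q`. -/
theorem exists_free_near {S M : Type u} [CommRing S] [AddCommGroup M] [Module S M] [Module.Finite S M]
    (r : ℕ) (a : S) (ha : a ∈ nonZeroDivisors S) (y w c : S) (hy : y ∈ Fitt.ideal S M r)
    (hac : a * c = y * w) (hJ : ∀ x ∈ Fitt.ideal S M r, ∃ t, x * w = a * t)
    (hk : r = 0 ∨ ∀ x ∈ Fitt.ideal S M (r - 1), ∃ n : ℕ, a ^ n * x = 0)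
    (q : Ideal S) [q.IsPrime] (hcq : c ∉ q) :
    ∃ g : S, g ∉ q ∧
      Module.Free (Localization.Away g) (LocalizedModule (Submonoid.powers g) (M ⧸ FlatCA.powTorsion S a M)) ∧
      Module.rank (Localization.Away g) (LocalizedModule (Submonoid.powers g) (M ⧸ FlatCA.powTorsion S a M)) = r := by
  classical
  let L := Localization.Away c
  let ML := L ⊗[S] M
  let ℓ : M →ₗ[S] ML := TensorProduct.mk S L M 1
  haveI : IsLocalizedModule (Submonoid.powers c) ℓ :=
    (isLocalizedModule_iff_isBaseChange (Submonoid.powers c) L _).mpr (TensorProduct.isBaseChange S M L)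
  have haL : algebraMap S L a ∈ nonZeroDivisors L :=
    mem_nonZeroDivisors_iff_right.mpr fun z hz => by
      obtain ⟨⟨z₀, s⟩, rfl⟩ := IsLocalization.mk'_surjective (Submonoid.powers c) z
      rw [← IsLocalization.mk'_one (M := Submonoid.powers c) L a, ← IsLocalization.mk'_mul,
        IsLocalization.mk'_eq_zero_iff] at hz
      obtain ⟨u, hu⟩ := hz
      rw [IsLocalization.mk'_eq_zero_iff]
      exact ⟨u, mem_nonZeroDivisors_iff_right.mp ha _ (by rw [mul_assoc]; exact hu)⟩
  have hcu : IsUnit (algebraMap S L c) := IsLocalization.Away.algebraMap_isUnit c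
  have hyw : algebraMap S L y * algebraMap S L w ∈ nonZeroDivisors L := by
    rw [← map_mul, ← hac, map_mul]
    exact mul_mem haL hcu.mem_nonZeroDivisors
  have hyn : algebraMap S L y ∈ nonZeroDivisors L := (mul_mem_nonZeroDivisors.mp hyw).1
  have hwn : algebraMap S L w ∈ nonZeroDivisors L := (mul_mem_nonZeroDivisors.mp hyw).2
  have hF : Fitt.ideal L ML r = Ideal.span {algebraMap S L y} := by
    rw [H29Fitt.ideal_baseChange]
    refine le_antisymm (Ideal.map_le_iff_le_comap.mpr fun x hx => ?_) ?_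
    · obtain ⟨t, ht⟩ := hJ x hx
      obtain ⟨u, hu⟩ := hcu
      rw [Ideal.mem_comap, Ideal.mem_span_singleton']
      refine ⟨algebraMap S L t * ↑u⁻¹, sub_eq_zero.mp (mem_nonZeroDivisors_iff_right.mp hwn _ ?_)⟩
      have h1 : algebraMap S L a * ↑u = algebraMap S L y * algebraMap S L w := by rw [hu, ← map_mul, hac, map_mul]
      rw [sub_mul, mul_assoc _ (algebraMap S L y), ← h1, ← map_mul (algebraMap S L) x w, ht, map_mul]
      rw [mul_mul_mul_comm, mul_comm (algebraMap S L t) (algebraMap S L a), Units.inv_mul, mul_one, sub_self]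
    · rw [Ideal.span_le, Set.singleton_subset_iff]
      exact Ideal.mem_map_of_mem _ hy
  have hk' : r = 0 ∨ Fitt.ideal L ML (r - 1) = ⊥ := by
    refine hk.imp id fun h => ?_
    rw [H29Fitt.ideal_baseChange, Ideal.map_eq_bot_iff_le_ker]
    intro x hx
    obtain ⟨n, hn⟩ := h x hx
    rw [RingHom.mem_ker]
    refine mem_nonZeroDivisors_iff_right.mp (pow_mem haL n) _ ?_
    rw [← map_pow, ← map_mul, mul_comm, hn, map_zero]
  let T := LinearMap.ker (algebraMap S L y • (LinearMap.id : ML →ₗ[L] ML))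
  let ρ₀ : M →ₗ[S] ML ⧸ T := (T.mkQ.restrictScalars S) ∘ₗ ℓ
  have hT : FlatCA.powTorsion S a M ≤ LinearMap.ker ρ₀ := by
    intro m hm
    obtain ⟨n, hn⟩ := (mem_powTorsion_iff a m).mp hm
    refine LinearMap.mem_ker.mpr (H3CAlg.FittBlowup.eq_zero_of_smul_eq_zero r _ hyn hF hk' (pow_mem haL n) _ ?_)
    rw [← map_pow (algebraMap S L) a n, algebraMap_smul L (a ^ n) (ρ₀ m), ← map_smul, hn, map_zero]
  let ρ : (M ⧸ FlatCA.powTorsion S a M) →ₗ[S] ML ⧸ T := (FlatCA.powTorsion S a M).liftQ ρ₀ hT
  have hsurj : ∀ z : ML ⧸ T, ∃ (k : ℕ) (x : M ⧸ FlatCA.powTorsion S a M), c ^ k • z = ρ x := by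
    intro z
    obtain ⟨z, rfl⟩ := T.mkQ_surjective z
    obtain ⟨⟨m, ⟨_, k, rfl⟩⟩, hm⟩ := IsLocalizedModule.surj (Submonoid.powers c) ℓ z
    refine ⟨k, Submodule.Quotient.mk m, ?_⟩
    show c ^ k • T.mkQ z = T.mkQ (ℓ m)
    rw [← hm, Submonoid.smul_def, LinearMap.map_smul_of_tower]
  have hker : ∀ x : M ⧸ FlatCA.powTorsion S a M, ρ x = 0 → ∃ k : ℕ, c ^ k • x = 0 := by
    intro x hx
    obtain ⟨m, rfl⟩ := Submodule.Quotient.mk_surjective _ x
    have h1 : algebraMap S L y • ℓ m = 0 := by
      have := (Submodule.Quotient.mk_eq_zero T).mp hx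
      simpa [T] using this
    rw [algebraMap_smul, ← map_smul, IsLocalizedModule.eq_zero_iff (Submonoid.powers c) ℓ] at h1
    obtain ⟨⟨_, k, rfl⟩, hk1⟩ := h1
    refine ⟨k + 1, ?_⟩
    rw [← Submodule.Quotient.mk_smul, Submodule.Quotient.mk_eq_zero]
    refine (mem_powTorsion_iff a _).mpr ⟨1, ?_⟩
    rw [pow_one, smul_smul, show a * c ^ (k + 1) = w * (c ^ k * y) by linear_combination (c ^ k) * hac,
      mul_smul, mul_smul]
    rw [show c ^ k • y • m = 0 from hk1, smul_zero]
  let qL : Ideal L := q.map (algebraMap S L)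
  have hdis : Disjoint (Submonoid.powers c : Set S) q := by
    rw [Set.disjoint_left]
    rintro _ ⟨k, rfl⟩ h
    exact hcq (‹q.IsPrime›.mem_of_pow_mem k h)
  haveI : qL.IsPrime := IsLocalization.isPrime_of_isPrime_disjoint (Submonoid.powers c) L q ‹_› hdis
  obtain ⟨n, x, hx⟩ := Module.Finite.exists_fin (R := L) (M := ML)
  obtain ⟨g, hg, ⟨z, hz⟩, -⟩ := H3CAlg.FittPrincipal.exists_local_data r _ hyn hF hk' x hx qL
  obtain ⟨g', hg', y', hy'⟩ := isBasisUpTo_descend (L := L) c ρ hsurj hker g z hz q hcq fun h hh k he => by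
    have : g * algebraMap S L c ^ k ∈ qL := he ▸ Ideal.mem_map_of_mem _ hh
    exact (‹qL.IsPrime›.mem_or_mem this).elim hg fun h' =>
      ‹qL.IsPrime›.ne_top (Ideal.eq_top_of_isUnit_mem _ (‹qL.IsPrime›.mem_of_pow_mem k h') hcu)
  obtain ⟨b⟩ := H3CAlg.FittPrincipal.nonempty_basis hy'
  have : Nontrivial (Localization.Away g') := by
    refine ⟨1, 0, fun h => ?_⟩
    rw [← map_one (algebraMap S (Localization.Away g')), IsLocalization.map_eq_zero_iff (Submonoid.powers g')] at h
    obtain ⟨⟨_, j, rfl⟩, hj⟩ := h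
    simp only [mul_one] at hj
    exact hg' (‹q.IsPrime›.mem_of_pow_mem j (hj ▸ q.zero_mem))
  exact ⟨g', hg', Module.Free.of_basis b, by rw [rank_eq_card_basis b, Fintype.card_fin]⟩

/-- A finite module which is finitely presented over `D(f)` is, up to `f`-power torsion, finitely
presented. -/
theorem exists_fp_cover {S M : Type u} [CommRing S] [AddCommGroup M] [Module S M] [Module.Finite S M] (f : S)
    [Module.FinitePresentation (Localization.Away f) (LocalizedModule (Submonoid.powers f) M)] :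
    ∃ (M₀ : Type u) (_ : AddCommGroup M₀) (_ : Module S M₀) (_ : Module.FinitePresentation S M₀)
      (φ₀ : M₀ →ₗ[S] M), Function.Surjective φ₀ ∧ ∀ x ∈ LinearMap.ker φ₀, ∃ n : ℕ, f ^ n • x = 0 := by
  classical
  obtain ⟨n, π, hπ⟩ := Module.Finite.exists_fin' S M
  let Lf := Localization.Away f
  let ℓ := LocalizedModule.mkLinearMap (Submonoid.powers f) (Fin n → S)
  let πL := LocalizedModule.map (Submonoid.powers f) π
  have hπL : Function.Surjective πL := LocalizedModule.map_surjective _ _ hπ
  haveI : Module.Finite Lf (LocalizedModule (Submonoid.powers f) (Fin n → S)) :=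
    Module.Finite.of_isLocalizedModule (Submonoid.powers f) ℓ
  obtain ⟨Z, hZ⟩ := Module.FinitePresentation.fg_ker (R := Lf) πL hπL
  have hz : ∀ z : Z, ∃ (x : Fin n → S) (u : Lf), π x = 0 ∧ (z : LocalizedModule (Submonoid.powers f) (Fin n → S)) = u • ℓ x := by
    rintro ⟨z, hz⟩
    have h0 : πL z = 0 := LinearMap.mem_ker.mp (hZ ▸ Submodule.subset_span hz)
    induction z using LocalizedModule.induction_on with
    | _ x s =>
      rw [LocalizedModule.map_mk, ← LocalizedModule.zero_mk (1 : Submonoid.powers f), LocalizedModule.mk_eq] at h0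
      obtain ⟨t, ht⟩ := h0
      simp only [one_smul, smul_zero] at ht
      refine ⟨(t : S) • x, Localization.mk 1 (t * s), by rw [map_smul]; exact ht, ?_⟩
      show LocalizedModule.mk x s = _
      rw [LocalizedModule.mkLinearMap_apply, LocalizedModule.mk_smul_mk, one_smul, mul_one, LocalizedModule.mk_eq]
      exact ⟨1, by simp [Submonoid.smul_def, mul_smul, smul_comm (s : S)]⟩
  choose x u hx hzx using hz
  let K' := Submodule.span S (Set.range x)
  have hK' : K' ≤ LinearMap.ker π := by
    rw [Submodule.span_le]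
    rintro _ ⟨z, rfl⟩
    exact hx z
  haveI : Module.FinitePresentation S ((Fin n → S) ⧸ K') :=
    Module.finitePresentation_of_surjective K'.mkQ K'.mkQ_surjective
      (by rw [Submodule.ker_mkQ]; exact Submodule.fg_span (Set.finite_range x))
  refine ⟨(Fin n → S) ⧸ K', inferInstance, inferInstance, inferInstance, K'.liftQ π hK', ?_, ?_⟩
  · intro m
    obtain ⟨w, rfl⟩ := hπ m
    exact ⟨Submodule.Quotient.mk w, rfl⟩
  · intro y hy
    obtain ⟨w, rfl⟩ := Submodule.Quotient.mk_surjective _ y
    have hw : π w = 0 := hy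
    have hmem : ℓ w ∈ Submodule.span Lf (Set.range fun z : Z => ℓ (x z)) := by
      have h1 : ℓ w ∈ LinearMap.ker πL := by
        rw [LinearMap.mem_ker, LocalizedModule.mkLinearMap_apply, LocalizedModule.map_mk, hw,
          LocalizedModule.zero_mk]
      rw [← hZ] at h1
      refine Submodule.span_le.mpr (fun z hz => ?_) h1
      rw [SetLike.mem_coe, show z = _ from hzx ⟨z, hz⟩]
      exact Submodule.smul_mem _ _ (Submodule.subset_span ⟨⟨z, hz⟩, rfl⟩)
    obtain ⟨b, hb⟩ := (Submodule.mem_span_range_iff_exists_fun Lf).mp hmem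
    obtain ⟨t, ht⟩ := IsLocalization.exist_integer_multiples_of_finite (Submonoid.powers f) b
    choose b' hb' using ht
    have h2 : ℓ ((t : S) • w - ∑ z, b' z • x z) = 0 := by
      rw [map_sub, map_smul, map_sum, ← hb, Finset.smul_sum, sub_eq_zero]
      refine Finset.sum_congr rfl fun z _ => ?_
      rw [map_smul, ← algebraMap_smul Lf (b' z), hb' z, smul_assoc]
    obtain ⟨⟨_, k, rfl⟩, hk⟩ := (IsLocalizedModule.eq_zero_iff (Submonoid.powers f) ℓ).mp h2
    obtain ⟨j, hj⟩ := t.2
    refine ⟨k + j, ?_⟩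
    rw [← Submodule.Quotient.mk_smul, Submodule.Quotient.mk_eq_zero]
    rw [Submonoid.smul_def, smul_sub, sub_eq_zero] at hk
    rw [pow_add, mul_smul, show f ^ j = (t : S) from hj, hk]
    exact Submodule.smul_mem _ _ (Submodule.sum_mem _ fun z _ =>
      Submodule.smul_mem _ _ (Submodule.subset_span ⟨z, rfl⟩))

/-- Modules differing by torsion have isomorphic quotients by the torsion. -/
theorem free_rank_congr {S M N : Type u} [CommRing S] [AddCommGroup M] [Module S M] [AddCommGroup N]
    [Module S N] (a : S) (ψ : M →ₗ[S] N) (hψ : Function.Surjective ψ)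
    (hker : ∀ m ∈ LinearMap.ker ψ, ∃ n : ℕ, a ^ n • m = 0) (g : S) (r : ℕ)
    (h : Module.Free (Localization.Away g) (LocalizedModule (Submonoid.powers g) (M ⧸ FlatCA.powTorsion S a M)) ∧
      Module.rank (Localization.Away g) (LocalizedModule (Submonoid.powers g) (M ⧸ FlatCA.powTorsion S a M)) = r) :
    Module.Free (Localization.Away g) (LocalizedModule (Submonoid.powers g) (N ⧸ FlatCA.powTorsion S a N)) ∧
      Module.rank (Localization.Away g) (LocalizedModule (Submonoid.powers g) (N ⧸ FlatCA.powTorsion S a N)) = r := by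
  have hle : FlatCA.powTorsion S a M ≤ (FlatCA.powTorsion S a N).comap ψ := fun m hm => by
    obtain ⟨n, hn⟩ := (mem_powTorsion_iff a m).mp hm
    exact (mem_powTorsion_iff a _).mpr ⟨n, by rw [← map_smul, hn, map_zero]⟩
  let Φ := Submodule.mapQ _ _ ψ hle
  have hΦ : Function.Bijective Φ := by
    refine ⟨(injective_iff_map_eq_zero _).mpr fun z hz => ?_, fun z => ?_⟩
    · obtain ⟨m, rfl⟩ := Submodule.Quotient.mk_surjective _ z
      have hm : ψ m ∈ FlatCA.powTorsion S a N := (Submodule.Quotient.mk_eq_zero _).mp hz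
      obtain ⟨n, hn⟩ := (mem_powTorsion_iff a _).mp hm
      obtain ⟨k, hk⟩ := hker (a ^ n • m) (LinearMap.mem_ker.mpr (by rw [map_smul, hn]))
      rw [Submodule.Quotient.mk_eq_zero]
      exact (mem_powTorsion_iff a m).mpr ⟨k + n, by rw [pow_add, mul_smul, hk]⟩
    · obtain ⟨z, rfl⟩ := Submodule.Quotient.mk_surjective _ z
      obtain ⟨m, rfl⟩ := hψ z
      exact ⟨Submodule.Quotient.mk m, rfl⟩
  let e := LinearEquiv.ofBijective (LocalizedModule.map (Submonoid.powers g) Φ)
    ⟨LocalizedModule.map_injective _ _ hΦ.1, LocalizedModule.map_surjective _ _ hΦ.2⟩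
  obtain ⟨h1, h2⟩ := h
  haveI := h1
  exact ⟨Module.Free.of_equiv e, e.rank_eq.symm.trans h2⟩

/-- The ideal whose blow-up makes a module free of rank `r` near the generic points of the fibres. -/
theorem exists_ideal {R S : Type u} [CommRing R] [CommRing S] [Algebra R S] [Algebra.FinitePresentation R S]
    [Module.Flat R S] (hgi : FlatCA.GeomIntegralFibres R S) (f : R) (r : ℕ)
    (M : Type u) [AddCommGroup M] [Module S M] [Module.Finite S M]
    [Module.FinitePresentation (Localization.Away (algebraMap R S f))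
      (LocalizedModule (Submonoid.powers (algebraMap R S f)) M)]
    (hfree : ∀ (p : Ideal R) [p.IsPrime] [(p.map (algebraMap R S)).IsPrime], f ∉ p →
      Module.Free (Localization.AtPrime (p.map (algebraMap R S))) (LocalizedModule (p.map (algebraMap R S)).primeCompl M) ∧
      Module.rank (Localization.AtPrime (p.map (algebraMap R S))) (LocalizedModule (p.map (algebraMap R S)).primeCompl M) = r) :
    ∃ I : Ideal R, I.FG ∧ I.radical = (Ideal.span {f}).radical ∧ ∀ a ∈ I,
      ∀ (A : Type u) [CommRing A] [Algebra R A], algebraMap R A a ∈ nonZeroDivisors A →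
        I.map (algebraMap R A) = Ideal.span {algebraMap R A a} →
      ∀ (S' M' : Type u) [CommRing S'] [Algebra S S'] [Algebra A S'] [Algebra R S']
        [IsScalarTower R S S'] [IsScalarTower R A S'] [Algebra.IsPushout R S A S']
        [AddCommGroup M'] [Module S' M'] [Module S M'] [IsScalarTower S S' M']
        (φ : M →ₗ[S] M'), IsBaseChange S' φ →
        ∀ (p' : Ideal A) [p'.IsPrime],
          ∃ g : S', g ∉ p'.map (algebraMap A S') ∧
            Module.Free (Localization.Away g)
              (LocalizedModule (Submonoid.powers g) (M' ⧸ FlatCA.powTorsion S' (algebraMap R S' a) M')) ∧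
            Module.rank (Localization.Away g)
              (LocalizedModule (Submonoid.powers g) (M' ⧸ FlatCA.powTorsion S' (algebraMap R S' a) M')) = r := by
  classical
  obtain ⟨M₀, _, _, _, φ₀, hφ₀, hker₀⟩ := exists_fp_cover (M := M) (algebraMap R S f)
  have hprime : ∀ (p : Ideal R) [p.IsPrime],
      (p.map (algebraMap R S)).IsPrime ∧ (p.map (algebraMap R S)).comap (algebraMap R S) = p := fun p _ => by
    haveI : IsDomain (p.Fiber S) := Groth.Agent.S1223.isDomain_fiber hgi R S p
    exact isPrime_map p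
  -- the module at the generic point of a fibre over `D(f)`
  have hgen : ∀ (p : Ideal R) [p.IsPrime], f ∉ p →
      ¬ Fitt.ideal S M₀ r ≤ p.map (algebraMap R S) ∧ ∀ j < r, ∀ x ∈ Fitt.ideal S M₀ j,
        ∃ u : S, u ∉ p.map (algebraMap R S) ∧ u * x = 0 := by
    intro p _ hfp
    obtain ⟨hP, hPc⟩ := hprime p
    haveI := hP
    let P := p.map (algebraMap R S)
    have hfP : algebraMap R S f ∉ P := fun h => hfp (hPc ▸ Ideal.mem_comap.mpr h)
    obtain ⟨hfr, hrk⟩ := hfree p hfp
    haveI := hfr
    let Sp := Localization.AtPrime P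
    let v := LocalizedModule.map P.primeCompl φ₀
    have hv : Function.Bijective v := by
      refine ⟨(FiberBasis.injective_map_iff _ φ₀).mpr fun x hx => ?_, LocalizedModule.map_surjective _ _ hφ₀⟩
      obtain ⟨n, hn⟩ := hker₀ x hx
      exact ⟨_, fun h => hfP (hP.mem_of_pow_mem n h), hn⟩
    let e : (Sp ⊗[S] M₀) ≃ₗ[Sp] LocalizedModule P.primeCompl M :=
      (IsLocalizedModule.isBaseChange P.primeCompl Sp
        (LocalizedModule.mkLinearMap P.primeCompl M₀)).equiv ≪≫ₗ LinearEquiv.ofBijective v hv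
    haveI : Module.Free Sp (Sp ⊗[S] M₀) := Module.Free.of_equiv e.symm
    let b : Module.Basis (Fin r) Sp (Sp ⊗[S] M₀) :=
      Module.finBasisOfFinrankEq Sp _ (Module.finrank_eq_of_rank_eq (e.rank_eq.trans hrk))
    refine ⟨fun hle => ?_, fun j hj x hx => ?_⟩
    · have htop := H29Fitt.ideal_eq_top_of_span (⇑b) b.span_eq (le_refl r)
      rw [H29Fitt.ideal_baseChange] at htop
      have := Ideal.map_mono (f := algebraMap S Sp) hle
      rw [htop, Localization.AtPrime.map_eq_maximalIdeal] at this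
      exact (IsLocalRing.maximalIdeal.isMaximal Sp).ne_top (top_le_iff.mp this)
    · have hbot : Fitt.ideal Sp (Sp ⊗[S] M₀) j = ⊥ := by
        rw [H29Fitt.ideal_eq b b.span_eq, eq_bot_iff]
        refine H29Fitt.J_le fun z e hz => ?_
        haveI : Nonempty (Fin (r - j)) := ⟨⟨0, by omega⟩⟩
        rw [Matrix.det_eq_zero_of_column_eq_zero (Classical.arbitrary _) fun i =>
          Fintype.linearIndependent_iff.mp b.linearIndependent (z _) (hz _) (e i)]
        exact Submodule.zero_mem _
      have h0 : algebraMap S Sp x = 0 := by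
        have : algebraMap S Sp x ∈ (Fitt.ideal S M₀ j).map (algebraMap S Sp) := Ideal.mem_map_of_mem _ hx
        rwa [← H29Fitt.ideal_baseChange, hbot, Ideal.mem_bot] at this
      obtain ⟨⟨u, hu⟩, hux⟩ := (IsLocalization.map_eq_zero_iff P.primeCompl Sp x).mp h0
      exact ⟨u, hu, hux⟩
  -- the content
  haveI : Module.Projective R S :=
    PureProjective.projective_of_univPure (S := S) S (Groth.Agent.S1223.result hgi)
  obtain ⟨ι, co, e, hco⟩ := exists_coeffs R S
  obtain ⟨X, hX⟩ := H29Fitt.ideal_fg (R := S) (M := M₀) r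
  let I : Ideal R := Ideal.span ((X.biUnion fun y => (co (f • y)).support.image (co (f • y)) : Finset R) : Set R)
  have hcoI : ∀ y ∈ X, ∀ i, co (f • y) i ∈ I := fun y hy i => by
    by_cases hi : i ∈ (co (f • y)).support
    · exact Ideal.subset_span (Finset.mem_coe.mpr (Finset.mem_biUnion.mpr ⟨y, hy, Finset.mem_image_of_mem _ hi⟩))
    · rw [Finsupp.notMem_support_iff.mp hi]
      exact zero_mem _
  have hIf : I ≤ Ideal.span {f} := by
    rw [Ideal.span_le]
    intro z hz
    obtain ⟨y, -, hz⟩ := Finset.mem_biUnion.mp (Finset.mem_coe.mp hz)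
    obtain ⟨i, -, rfl⟩ := Finset.mem_image.mp hz
    rw [map_smul, Finsupp.smul_apply, smul_eq_mul]
    exact Ideal.mul_mem_right _ _ (Ideal.mem_span_singleton_self f)
  have hXI : ∀ y ∈ X, f • y ∈ I.map (algebraMap R S) := fun y hy => by
    rw [hco (f • y)]
    refine Ideal.sum_mem _ fun i _ => ?_
    show co (f • y) i • e i ∈ _
    rw [Algebra.smul_def (co (f • y) i) (e i)]
    exact Ideal.mul_mem_right _ _ (Ideal.mem_map_of_mem (algebraMap R S) (hcoI y hy i))
  refine ⟨I, Submodule.fg_span (Finset.finite_toSet _), le_antisymm (Ideal.radical_mono hIf) ?_, ?_⟩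
  · rw [Ideal.radical_le_radical_iff, Ideal.span_le, Set.singleton_subset_iff, SetLike.mem_coe,
      Ideal.radical_eq_sInf, Ideal.mem_sInf]
    rintro p ⟨hle, hp⟩
    by_contra hfp
    obtain ⟨hP, hPc⟩ := hprime p
    refine (hgen p hfp).1 ?_
    rw [← hX]
    refine Submodule.span_le.mpr fun y hy => (hP.mem_or_mem (x := algebraMap R S f) ?_).resolve_left
      fun h => hfp (hPc ▸ Ideal.mem_comap.mpr h)
    rw [← Algebra.smul_def]
    exact Ideal.map_mono hle (hXI y hy)
  intro a ha A _ _ haA hIA S' M' _ _ _ _ _ _ hpush _ _ _ _ φ hφ p' _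
  obtain ⟨a₀, rfl⟩ := Ideal.mem_span_singleton'.mp (hIf ha)
  haveI : Algebra.IsPushout R A S S' := hpush.symm
  haveI : Module.Flat A S' := Module.Flat.isBaseChange R A S S'
    (Algebra.IsPushout.out : IsBaseChange A (IsScalarTower.toAlgHom R S S').toLinearMap)
  haveI : IsDomain (p'.Fiber S') := Groth.Agent.S1223.isDomain_fiber hgi A S' p'
  obtain ⟨hq', -⟩ := isPrime_map (S := S') p'
  have haS : algebraMap R S' (a₀ * f) ∈ nonZeroDivisors S' := by
    rw [IsScalarTower.algebraMap_apply R A S']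
    refine mem_nonZeroDivisors_iff_right.mpr fun z hz => ?_
    refine Module.Flat.isSMulRegular_of_isRegular (M := S') (isRegular_iff_mem_nonZeroDivisors.mpr haA) ?_
    show algebraMap R A (a₀ * f) • z = algebraMap R A (a₀ * f) • 0
    rw [smul_zero, Algebra.smul_def, mul_comm, hz]
  have hIS : I.map (algebraMap R S') = Ideal.span {algebraMap R S' (a₀ * f)} := by
    rw [IsScalarTower.algebraMap_eq R A S', ← Ideal.map_map, hIA, Ideal.map_span, Set.image_singleton]
    rfl
  let c' : S' →ₗ[A] ι →₀ A :=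
    (Algebra.IsPushout.out : IsBaseChange A (IsScalarTower.toAlgHom R S S').toLinearMap).lift
      ((Finsupp.mapRange.linearMap (Algebra.linearMap R A)) ∘ₗ co)
  have hc' : ∀ x i, c' (algebraMap S S' x) i = algebraMap R A (co x i) := fun x i => by
    have h1 := (Algebra.IsPushout.out : IsBaseChange A (IsScalarTower.toAlgHom R S S').toLinearMap).lift_eq
      ((Finsupp.mapRange.linearMap (Algebra.linearMap R A)) ∘ₗ co) x
    exact (DFunLike.congr_fun h1 i).trans rfl
  have hdiv : ∀ y ∈ X, ∃ t : S', t * algebraMap R S' (a₀ * f) = algebraMap S S' (f • y) := fun y hy => by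
    rw [← Ideal.mem_span_singleton', ← hIS, IsScalarTower.algebraMap_eq R S S', ← Ideal.map_map]
    exact Ideal.mem_map_of_mem _ (hXI y hy)
  choose t ht using hdiv
  obtain ⟨y, hy, hty⟩ : ∃ (y : S) (hy : y ∈ X), t y hy ∉ p'.map (algebraMap A S') := by
    by_contra! hall
    have hle : I.map (algebraMap R A) ≤ Ideal.span {algebraMap R A (a₀ * f)} * p' := by
      rw [Ideal.map_le_iff_le_comap, Ideal.span_le]
      intro z hz
      obtain ⟨y, hy, hz⟩ := Finset.mem_biUnion.mp (Finset.mem_coe.mp hz)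
      obtain ⟨i, -, rfl⟩ := Finset.mem_image.mp hz
      rw [SetLike.mem_coe, Ideal.mem_comap, ← hc', ← ht y hy]
      have hmem : ∀ s ∈ p' • (⊤ : Submodule A S'), c' s i ∈ p' := by
        intro s hs
        refine Submodule.smul_induction_on hs (fun x hx s _ => ?_) (fun x z hx hz => ?_)
        · rw [map_smul, Finsupp.smul_apply, smul_eq_mul]
          exact Ideal.mul_mem_right _ _ hx
        · rw [map_add, Finsupp.add_apply]
          exact add_mem hx hz
      rw [mul_comm (t y hy), IsScalarTower.algebraMap_apply R A S', ← Algebra.smul_def, map_smul,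
        Finsupp.smul_apply, smul_eq_mul]
      refine Ideal.mul_mem_mul (Ideal.mem_span_singleton_self _) (hmem _ ?_)
      rw [Ideal.smul_top_eq_map]
      exact hall y hy
    obtain ⟨z, hz, hzf⟩ := Ideal.mem_span_singleton_mul.mp (hle (Ideal.mem_map_of_mem _ ha))
    have hz1 : z = 1 := sub_eq_zero.mp (mem_nonZeroDivisors_iff_right.mp haA _ (by
      rw [sub_mul, one_mul, mul_comm, hzf, sub_self]))
    exact ‹p'.IsPrime›.ne_top ((Ideal.eq_top_iff_one p').mpr (hz1 ▸ hz))
  haveI := hq'
  let M₀' := S' ⊗[S] M₀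
  obtain ⟨g, hg, hfree'⟩ := exists_free_near (M := M₀') r (algebraMap R S' (a₀ * f)) haS (algebraMap S S' y)
    (algebraMap R S' f) (t y hy)
    (by rw [H29Fitt.ideal_baseChange]; exact Ideal.mem_map_of_mem _ (hX ▸ Submodule.subset_span hy))
    (by rw [mul_comm, ht, Algebra.smul_def, map_mul, ← IsScalarTower.algebraMap_apply, mul_comm])
    (by
      intro x hx
      rw [H29Fitt.ideal_baseChange] at hx
      suffices hle : (Fitt.ideal S M₀ r).map (algebraMap S S') ≤
          Submodule.comap (LinearMap.mulLeft S' (algebraMap R S' f)) (Ideal.span {algebraMap R S' (a₀ * f)}) by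
        obtain ⟨s, hs⟩ := Ideal.mem_span_singleton'.mp (hle hx)
        exact ⟨s, by rw [mul_comm (algebraMap R S' (a₀ * f)), hs]; exact mul_comm _ _⟩
      rw [← hX, Ideal.map_span, Ideal.span_le]
      rintro _ ⟨y, hy, rfl⟩
      rw [SetLike.mem_coe, Submodule.mem_comap, LinearMap.mulLeft_apply]
      have e2 : algebraMap R S' f * algebraMap S S' y = algebraMap S S' (f • y) := by
        rw [IsScalarTower.algebraMap_apply R S S', ← map_mul, ← Algebra.smul_def]
      rw [e2, ← ht y hy]
      exact Ideal.mul_mem_left _ _ (Ideal.mem_span_singleton_self _))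
    (by
      rcases Nat.eq_zero_or_pos r with h | h
      · exact Or.inl h
      refine Or.inr fun x hx => ?_
      rw [H29Fitt.ideal_baseChange] at hx
      suffices hle : (Fitt.ideal S M₀ (r - 1)).map (algebraMap S S') ≤
          FlatCA.powTorsion S' (algebraMap R S' (a₀ * f)) S' by
        obtain ⟨n, hn⟩ := (mem_powTorsion_iff _ _).mp (hle hx)
        exact ⟨n, hn⟩
      rw [Ideal.map_le_iff_le_comap]
      intro z hz
      obtain ⟨n, hn⟩ := exists_pow_mul_eq_zero hgi f z fun p _ hfp => (hgen p hfp).2 (r - 1) (by omega) z hz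
      refine (mem_powTorsion_iff _ _).mpr ⟨n, ?_⟩
      rw [smul_eq_mul, map_mul, mul_pow, mul_assoc, IsScalarTower.algebraMap_apply R S S' f, ← map_pow _ (algebraMap R S f),
        ← map_mul, hn, map_zero, mul_zero])
    (p'.map (algebraMap A S')) hty
  refine ⟨g, hg, free_rank_congr _ (hφ.equiv.toLinearMap ∘ₗ φ₀.baseChange S') ?_ ?_ g r hfree'⟩
  · exact hφ.equiv.surjective.comp (LinearMap.lTensor_surjective S' hφ₀)
  · intro m hm
    have hm' : φ₀.lTensor S' m = 0 := hφ.equiv.injective ((LinearMap.mem_ker.mp hm).trans (map_zero _).symm)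
    obtain ⟨w, rfl⟩ := (lTensor_exact S' (LinearMap.exact_subtype_ker_map φ₀) hφ₀ m).mp hm'
    have : LinearMap.lTensor S' (LinearMap.ker φ₀).subtype w ∈
        FlatCA.powTorsion S' (algebraMap R S' (a₀ * f)) M₀' := by
      clear hm hm'
      induction w using TensorProduct.induction_on with
      | zero => simp
      | add a b ha hb => rw [map_add]; exact add_mem ha hb
      | tmul s x =>
        obtain ⟨n, hn⟩ := hker₀ x.1 x.2
        refine (mem_powTorsion_iff _ _).mpr ⟨n, ?_⟩
        rw [LinearMap.lTensor_tmul, Submodule.subtype_apply, map_mul, mul_pow, mul_smul,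
          IsScalarTower.algebraMap_apply R S S' f, ← map_pow _ (algebraMap R S f), algebraMap_smul,
          ← TensorProduct.tmul_smul, hn, TensorProduct.tmul_zero, smul_zero]
    exact (mem_powTorsion_iff _ _).mp this

end Groth.Agent.H7Flat.AffineBlowupRank

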