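import Groth.Agent.H7Flat.UnivInjCover

/-!
Weakly associated primes and associated points of fibres: dependence on the module near the prime
only, and comparison along ring maps which are surjective up to units.
-/

set_option autoImplicit false
universe u

namespace Groth.Agent.H7Flat.AssLocal

open TensorProduct FlatMor ImpurityDescend UnivInjCover
open Groth.Agent.H02CA (annEl mem_annEl mem_weakAss)
open Groth.Agent.H02CA.FibreAss

attribute [local instance] Algebra.TensorProduct.rightAlgebra

set_option backward.isDefEq.respectTransparency false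
set_option maxHeartbeats 1000000
set_option synthInstance.maxHeartbeats 400000

/-- A map is an isomorphism near a prime. -/
def IsLocIso {S X Y : Type u} [CommRing S] [AddCommGroup X] [Module S X] [AddCommGroup Y]
    [Module S Y] (q : Ideal S) (f : X →ₗ[S] Y) : Prop :=
  (∀ x, f x = 0 → ∃ c ∉ q, c • x = 0) ∧ ∀ y, ∃ c ∉ q, ∃ x, c • y = f x

theorem isLocIso_surjective {S X Y : Type u} [CommRing S] [AddCommGroup X] [Module S X]
    [AddCommGroup Y] [Module S Y] (q : Ideal S) [q.IsPrime] (f : X →ₗ[S] Y) (hf : Function.Surjective f)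
    (hk : ∀ x, f x = 0 → ∃ c ∉ q, c • x = 0) : IsLocIso q f :=
  ⟨hk, fun y => ⟨1, fun h => Ideal.IsPrime.ne_top ‹_› ((Ideal.eq_top_iff_one q).mpr h),
    (hf y).choose, by rw [one_smul, (hf y).choose_spec]⟩⟩

theorem isLocIso_localization {S X Y : Type u} [CommRing S] [AddCommGroup X] [Module S X]
    [AddCommGroup Y] [Module S Y] (q : Ideal S) (T : Submonoid S) (hT : ∀ t ∈ T, t ∉ q)
    (f : X →ₗ[S] Y) [IsLocalizedModule T f] : IsLocIso q f := by
  refine ⟨fun x hx => ?_, fun y => ?_⟩
  · obtain ⟨t, ht⟩ := (IsLocalizedModule.eq_zero_iff T f).mp hx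
    exact ⟨t, hT _ t.2, ht⟩
  · obtain ⟨⟨x, t⟩, h⟩ := IsLocalizedModule.surj T f y
    exact ⟨t, hT _ t.2, x, h⟩

/-- Weakly associated primes only depend on the module near the prime. -/
theorem mem_weakAss_iff {S X Y : Type u} [CommRing S] [AddCommGroup X] [Module S X] [AddCommGroup Y]
    [Module S Y] (q : Ideal S) [hq : q.IsPrime] (f : X →ₗ[S] Y) (hf : IsLocIso q f) :
    q ∈ FlatCA.weakAss S X ↔ q ∈ FlatCA.weakAss S Y := by
  rw [mem_weakAss, mem_weakAss]
  refine and_congr_right fun _ => ⟨fun ⟨z, hle, hz⟩ => ⟨f z, fun s hs => ?_, fun x hx => ?_⟩,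
    fun ⟨w, hle, hw⟩ => ?_⟩
  · rw [mem_annEl, ← map_smul] at hs
    obtain ⟨c, hc, hcs⟩ := hf.1 _ hs
    rw [smul_smul] at hcs
    exact (hq.mem_or_mem (hle (mem_annEl.mpr hcs))).resolve_left hc
  · obtain ⟨n, y, hy, h⟩ := hz x hx
    exact ⟨n, y, hy, by rw [← map_smul, h, map_zero]⟩
  · obtain ⟨c, hc, z, hz⟩ := hf.2 w
    refine ⟨z, fun s hs => hle ?_ |> fun h => (hq.mem_or_mem h).resolve_right hc, fun x hx => ?_⟩
    · rw [mem_annEl, mul_smul, hz, ← map_smul, mem_annEl.mp hs, map_zero]
    · obtain ⟨n, y, hy, h⟩ := hw x hx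
      obtain ⟨d, hd, hdz⟩ := hf.1 ((y * x ^ n) • z) (by
        rw [map_smul, ← hz, smul_comm, h, smul_zero])
      exact ⟨n, d * y, fun h' => (hq.mem_or_mem h').elim hd hy, by
        rw [show d * y * x ^ n = d * (y * x ^ n) by ring, mul_smul]; exact hdz⟩

/-- Weakly associated primes along a ring map surjective up to units. -/
theorem mem_weakAss_comap_iff {P S X : Type u} [CommRing P] [CommRing S] [Algebra P S]
    [AddCommGroup X] [Module S X] [Module P X] [IsScalarTower P S X]
    (hPS : ∀ s : S, ∃ u, IsUnit u ∧ ∃ p, u * s = algebraMap P S p) (q : Ideal S) [hq : q.IsPrime] :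
    q ∈ FlatCA.weakAss S X ↔ q.comap (algebraMap P S) ∈ FlatCA.weakAss P X := by
  rw [mem_weakAss, mem_weakAss]
  have hann : ∀ (z : X) (p : P), algebraMap P S p ∈ annEl S z ↔ p ∈ annEl P z := fun z p => by
    rw [mem_annEl, mem_annEl, algebraMap_smul]
  refine and_congr ⟨fun _ => Ideal.comap_isPrime _ _, fun _ => hq⟩ (exists_congr fun z => and_congr
    ⟨fun h p hp => h ((hann z p).mpr hp), fun h s hs => ?_⟩ ⟨fun h x hx => ?_, fun h s hs => ?_⟩)
  · obtain ⟨v, hv, p, hp⟩ := hPS s
    have h1 : algebraMap P S p ∈ q := h ((hann z p).mp (hp ▸ Ideal.mul_mem_left _ v hs))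
    rw [← hp] at h1
    exact (Ideal.unit_mul_mem_iff_mem q hv).mp h1
  · obtain ⟨n, y, hy, hyz⟩ := h (algebraMap P S x) hx
    obtain ⟨v, hv, p, hp⟩ := hPS y
    refine ⟨n, p, fun hp' => hy ?_, ?_⟩
    · have h1 : algebraMap P S p ∈ q := hp'
      rw [← hp] at h1
      exact (Ideal.unit_mul_mem_iff_mem q hv).mp h1
    · rw [← algebraMap_smul S, map_mul, map_pow, ← hp, mul_assoc, mul_smul, hyz, smul_zero]
  · obtain ⟨v, hv, p, hp⟩ := hPS s
    have hpq : algebraMap P S p ∈ q := hp ▸ Ideal.mul_mem_left _ v hs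
    obtain ⟨n, y, hy, hyz⟩ := h p hpq
    refine ⟨n, algebraMap P S y, hy, ?_⟩
    rw [← algebraMap_smul S, map_mul, map_pow, ← hp, mul_pow, mul_left_comm, mul_smul] at hyz
    exact (hv.pow n).smul_eq_zero.mp hyz

/-- The associated-point condition on fibres, in terms of the module. -/
def AssCond {R S : Type u} [CommRing R] [CommRing S] [Algebra R S] (N : Type u) [AddCommGroup N]
    [Module S N] [Module R N] (p : Ideal R) (q : Ideal S) : Prop :=
  ∃ n : N, ∀ s : S, s ∈ q ↔ ∃ r ∉ p, r • s • n ∈ p • (⊤ : Submodule R N)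

theorem assoc_iff {R S : Type u} [CommRing R] [CommRing S] [Algebra R S] [Algebra.FiniteType R S]
    (N : Type u) [AddCommGroup N] [Module S N] [Module R N] [IsScalarTower R S N]
    (p : Ideal R) [p.IsPrime] (q : Ideal S) [q.IsPrime] [q.LiesOver p] :
    FlatCA.fiberIdeal p q ∈ associatedPrimes (p.Fiber S) (FlatCA.fiberMod p S N) ↔ AssCond N p q := by
  have : IsNoetherianRing (p.Fiber S) := Algebra.FiniteType.isNoetherianRing p.ResidueField _
  have hres : ∀ w : N, w ∈ p.map (algebraMap R S) • (⊤ : Submodule S N) ↔ w ∈ p • (⊤ : Submodule R N) :=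
    fun w => by
      rw [← Submodule.restrictScalars_mem R, Ideal.smul_restrictScalars, Submodule.restrictScalars_top]
  have hzero : ∀ (s : S) (n : N), s • FlatCA.toFiberMod p S N n = 0 ↔
      ∃ r ∉ p, r • s • n ∈ p • (⊤ : Submodule R N) := fun s n => by
    rw [← map_smul, toFiberMod_eq_zero_iff]
    simp only [algebraMap_smul, hres]
  constructor
  · intro h
    obtain ⟨-, Y, hY⟩ := isAssociatedPrime_iff.mp h
    obtain ⟨r₀, hr₀, n, hn⟩ := exists_rep p Y
    refine ⟨n, fun s => ?_⟩
    rw [← hzero, ← hn, smul_comm]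
    refine ⟨fun hs => ?_, fun hs => ?_⟩
    · rw [show s • Y = 0 from ?_, smul_zero]
      have : algebraMap S (p.Fiber S) s ∈ FlatCA.fiberIdeal p q := Ideal.mem_map_of_mem _ hs
      rw [hY, Submodule.mem_colon_singleton, Submodule.mem_bot] at this
      rw [fiber_smul]
      exact this
    · have hsY : s • Y = 0 := fiber_smul_reg p hr₀ hs
      rw [← comap_fiberIdeal p q, Ideal.mem_comap, hY, Submodule.mem_colon_singleton, Submodule.mem_bot]
      rw [fiber_smul] at hsY
      exact hsY
  · rintro ⟨n, hn⟩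
    obtain ⟨Q, ⟨hQ, Y, hY⟩, hQq⟩ := (ass_fiber_iff p q).mp (⟨inferInstance, FlatCA.toFiberMod p S N n, by
      ext s
      rw [Submodule.mem_annihilator_span_singleton, hn, hzero]⟩ : q ∈ FlatCA.ass S (FlatCA.fiberMod p S N))
    have hQ' : FlatCA.fiberIdeal p q = Q := hQq ▸ fiberIdeal_comap p Q
    refine isAssociatedPrime_iff.mpr ⟨hQ' ▸ hQ, Y, ?_⟩
    rw [hQ', hY]
    ext x
    rw [Submodule.mem_annihilator_span_singleton, Submodule.mem_colon_singleton, Submodule.mem_bot]

/-- The associated-point condition along a ring map surjective up to units. -/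
theorem assCond_comap_iff {R P S : Type u} [CommRing R] [CommRing P] [CommRing S] [Algebra R P]
    [Algebra R S] [Algebra P S] [IsScalarTower R P S]
    (hPS : ∀ s : S, ∃ u, IsUnit u ∧ ∃ p, u * s = algebraMap P S p)
    (N : Type u) [AddCommGroup N] [Module S N] [Module P N] [Module R N] [IsScalarTower P S N]
    [IsScalarTower R S N] (p : Ideal R) (q : Ideal S) :
    AssCond N p q ↔ AssCond N p (q.comap (algebraMap P S)) := by
  refine exists_congr fun n => ⟨fun h t => ?_, fun h s => ?_⟩
  · rw [Ideal.mem_comap, h, algebraMap_smul]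
  · obtain ⟨v, hv, t, ht⟩ := hPS s
    rw [← Ideal.unit_mul_mem_iff_mem q hv, ht, ← Ideal.mem_comap, h]
    have hstab : ∀ (c : S) (w : N), w ∈ p • (⊤ : Submodule R N) → c • w ∈ p • (⊤ : Submodule R N) := by
      intro c w hw
      induction hw using Submodule.smul_induction_on' with
      | smul a ha m _ => rw [smul_comm]; exact Submodule.smul_mem_smul ha trivial
      | add x _ y _ hx hy => rw [smul_add]; exact add_mem hx hy
    refine exists_congr fun r => and_congr_right fun _ => ?_
    rw [← algebraMap_smul S t n, ← ht, mul_smul, smul_comm r v]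
    refine ⟨fun h => ?_, hstab v _⟩
    obtain ⟨e, rfl⟩ := hv
    have := hstab (↑e⁻¹ : S) _ h
    rwa [smul_smul, e.inv_mul, one_smul] at this

/-- The associated-point condition only depends on the module near the prime. -/
theorem assCond_iff {R S : Type u} [CommRing R] [CommRing S] [Algebra R S] [Algebra.FiniteType R S]
    {N N' : Type u} [AddCommGroup N] [Module S N] [Module R N] [IsScalarTower R S N]
    [AddCommGroup N'] [Module S N'] [Module R N'] [IsScalarTower R S N']
    (p : Ideal R) [p.IsPrime] (q : Ideal S) [q.IsPrime] [hqp : q.LiesOver p] (f : N →ₗ[S] N')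
    (hf : IsLocIso q f) : AssCond N p q ↔ AssCond N' p q := by
  classical
  have hmul : ∀ {a b : S}, a ∉ q → b ∉ q → a * b ∉ q := fun ha hb h =>
    (Ideal.IsPrime.mem_or_mem ‹q.IsPrime› h).elim ha hb
  have hrq : ∀ r ∉ p, algebraMap R S r ∉ q := fun r hr h => hr (hqp.over.ge h)
  have hlift : ∀ y ∈ p • (⊤ : Submodule R N'), ∃ c ∉ q, ∃ x ∈ p • (⊤ : Submodule R N), c • y = f x := by
    intro y hy
    induction hy using Submodule.smul_induction_on' with
    | smul a ha m _ =>
      obtain ⟨c, hc, x, hx⟩ := hf.2 m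
      exact ⟨c, hc, a • x, Submodule.smul_mem_smul ha trivial,
        by rw [smul_comm, hx, LinearMap.map_smul_of_tower]⟩
    | add y _ y' _ h h' =>
      obtain ⟨c, hc, x, hx, e⟩ := h
      obtain ⟨c', hc', x', hx', e'⟩ := h'
      refine ⟨c' * c, hmul hc' hc, c' • x + c • x', add_mem ?_ ?_, ?_⟩
      · clear e; induction hx using Submodule.smul_induction_on' with
        | smul a ha m _ => rw [smul_comm]; exact Submodule.smul_mem_smul ha trivial
        | add u _ v _ hu hv => rw [smul_add]; exact add_mem hu hv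
      · clear e'; induction hx' using Submodule.smul_induction_on' with
        | smul a ha m _ => rw [smul_comm]; exact Submodule.smul_mem_smul ha trivial
        | add u _ v _ hu hv => rw [smul_add]; exact add_mem hu hv
      · rw [smul_add, mul_smul, e, mul_comm, mul_smul, e', map_add, map_smul, map_smul]
  have hfp : ∀ w ∈ p • (⊤ : Submodule R N), f w ∈ p • (⊤ : Submodule R N') := fun w hw => by
    have h := Submodule.mem_map_of_mem (f := f.restrictScalars R) hw
    rw [Submodule.map_smul''] at h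
    exact Submodule.smul_mono le_rfl le_top h
  have hback : ∀ w, f w ∈ p • (⊤ : Submodule R N') → ∃ c ∉ q, c • w ∈ p • (⊤ : Submodule R N) := by
    intro w hw
    obtain ⟨c, hc, x, hx, e⟩ := hlift _ hw
    obtain ⟨d, hd, hdw⟩ := hf.1 (c • w - x) (by rw [map_sub, map_smul, e, sub_self])
    refine ⟨d * c, hmul hd hc, ?_⟩
    rw [smul_sub, sub_eq_zero] at hdw
    rw [mul_smul, hdw]
    clear e hdw
    induction hx using Submodule.smul_induction_on' with
    | smul a ha m _ => rw [smul_comm]; exact Submodule.smul_mem_smul ha trivial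
    | add u _ v _ hu hv => rw [smul_add]; exact add_mem hu hv
  constructor
  · rintro ⟨n, hn⟩
    refine ⟨f n, fun s => ⟨fun hs => ?_, fun ⟨r, hr, h⟩ => ?_⟩⟩
    · obtain ⟨r, hr, h⟩ := (hn s).mp hs
      exact ⟨r, hr, by rw [← map_smul, ← LinearMap.map_smul_of_tower]; exact hfp _ h⟩
    · rw [← map_smul, ← LinearMap.map_smul_of_tower] at h
      obtain ⟨c, hc, h'⟩ := hback _ h
      have h'' : (c * algebraMap R S r * s) ∈ q := (hn _).mpr ⟨1,
        fun h1 => Ideal.IsPrime.ne_top ‹p.IsPrime› ((Ideal.eq_top_iff_one p).mpr h1), by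
        rwa [one_smul, mul_smul, mul_smul, algebraMap_smul]⟩
      exact (Ideal.IsPrime.mem_or_mem ‹q.IsPrime› h'').resolve_left (hmul hc (hrq r hr))
  · rintro ⟨n', hn'⟩
    obtain ⟨c₁, hc₁, n, hn⟩ := hf.2 n'
    have : IsNoetherianRing (p.Fiber S) := Algebra.FiniteType.isNoetherianRing p.ResidueField _
    obtain ⟨T, hT, e⟩ := (Submodule.fg_span_iff_fg_span_finset_subset _).mp
      (IsNoetherian.noetherian (Ideal.span (algebraMap S (p.Fiber S) '' (q : Set S))))
    obtain ⟨G, hG, rfl⟩ := Finset.subset_set_image_iff.mp hT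
    have hex : ∀ s : G, ∃ c ∉ q, (c * (s : S)) • n ∈ p • (⊤ : Submodule R N) := fun s => by
      obtain ⟨r, hr, h⟩ := (hn' s).mp (hG s.2)
      have h1 : f ((algebraMap R S r * s) • n) ∈ p • (⊤ : Submodule R N') := by
        rw [map_smul, ← hn, smul_comm, mul_smul, algebraMap_smul]
        clear hn
        generalize r • (s : S) • n' = w at h ⊢
        induction h using Submodule.smul_induction_on' with
        | smul a ha m _ => rw [smul_comm]; exact Submodule.smul_mem_smul ha trivial
        | add u _ v _ hu hv => rw [smul_add]; exact add_mem hu hv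
      obtain ⟨c, hc, h'⟩ := hback _ h1
      exact ⟨c * algebraMap R S r, hmul hc (hrq r hr), by rw [mul_assoc, mul_smul]; exact h'⟩
    choose c hc hcn using hex
    let d := ∏ s : G, c s
    have hd : d ∉ q := prod_mem (S := q.primeCompl) fun s _ => hc s
    have hres : ∀ w : N, w ∈ p.map (algebraMap R S) • (⊤ : Submodule S N) ↔ w ∈ p • (⊤ : Submodule R N) :=
      fun w => by
        rw [← Submodule.restrictScalars_mem R, Ideal.smul_restrictScalars, Submodule.restrictScalars_top]
    refine ⟨d • n, fun s => ⟨fun hs => ?_, fun ⟨r, hr, h⟩ => ?_⟩⟩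
    · have h0 : algebraMap S (p.Fiber S) s ∈ Ideal.span (algebraMap S (p.Fiber S) '' (G : Set S)) := by
        have h1 : algebraMap S (p.Fiber S) s ∈ Ideal.span (algebraMap S (p.Fiber S) '' (q : Set S)) :=
          Ideal.subset_span ⟨s, hs, rfl⟩
        rw [Finset.coe_image] at e
        exact e.le h1
      let An : Ideal (p.Fiber S) :=
        (Submodule.span (p.Fiber S) {FlatCA.toFiberMod p S N (d • n)}).annihilator
      have hle : Ideal.span (algebraMap S (p.Fiber S) '' (G : Set S)) ≤ An := Ideal.span_le.mpr (by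
        rintro _ ⟨g, hg, rfl⟩
        rw [SetLike.mem_coe, Submodule.mem_annihilator_span_singleton]
        change (Algebra.TensorProduct.includeRight (R := R) (A := p.ResidueField) (B := S) g) • _ = 0
        rw [← fiber_smul, ← map_smul, toFiberMod_eq_zero_iff]
        refine ⟨1, fun h1 => Ideal.IsPrime.ne_top ‹p.IsPrime› ((Ideal.eq_top_iff_one p).mpr h1), ?_⟩
        rw [map_one, one_smul]
        obtain ⟨k, hk⟩ : c ⟨g, hg⟩ ∣ d := Finset.dvd_prod_of_mem c (Finset.mem_univ _)
        rw [hk, smul_smul, show g * (c ⟨g, hg⟩ * k) = k * (c ⟨g, hg⟩ * g) by ring, mul_smul]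
        exact Submodule.smul_mem _ k ((hres _).mpr (hcn ⟨g, hg⟩)))
      have h1 := (Submodule.mem_annihilator_span_singleton _ _).mp (hle h0)
      change (Algebra.TensorProduct.includeRight (R := R) (A := p.ResidueField) (B := S) s) • _ = 0 at h1
      rw [← fiber_smul, ← map_smul, toFiberMod_eq_zero_iff] at h1
      obtain ⟨r, hr, h⟩ := h1
      exact ⟨r, hr, by rw [← algebraMap_smul S r]; exact (hres _).mp h⟩
    · have h1 := hfp _ h
      rw [smul_smul, LinearMap.map_smul_of_tower, map_smul, ← hn, smul_smul] at h1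
      exact (Ideal.IsPrime.mem_or_mem ‹q.IsPrime› ((hn' _).mpr ⟨r, hr, h1⟩)).resolve_right hc₁
        |> fun h => (Ideal.IsPrime.mem_or_mem ‹q.IsPrime› h).resolve_right hd

end Groth.Agent.H7Flat.AssLocal
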