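import Mathlib

/-! Elements `a ≡ 1` modulo `I` act injectively on `N ⊗ M` for complete `N` or sums of finite modules. -/

set_option autoImplicit false
universe u

open scoped TensorProduct

namespace H7Flat.AssMeets

variable {R : Type u} [CommRing R]

/-- `1 - g` is bijective on an adically complete module if `g N ⊆ I N`. -/
theorem bijective_id_sub (I : Ideal R) (N : Type u) [AddCommGroup N] [Module R N] [IsAdicComplete I N]
    (g : N →ₗ[R] N) (hg : ∀ x, g x ∈ (I • ⊤ : Submodule R N)) :
    Function.Bijective ((LinearMap.id : N →ₗ[R] N) - g) := by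
  have hpow : ∀ (n : ℕ) (x : N), (g ^ n) x ∈ (I ^ n • ⊤ : Submodule R N) := by
    intro n
    induction n with
    | zero => intro x; simp
    | succ n ih =>
      intro x
      rw [pow_succ g n, Module.End.mul_apply]
      have : (I ^ (n + 1) • ⊤ : Submodule R N) = I • (I ^ n • ⊤) := by
        rw [pow_succ', mul_smul]
      refine Submodule.smul_induction_on (hg x) (fun r hr y _ => ?_) (fun y z hy hz => ?_)
      · rw [map_smul, this]
        exact Submodule.smul_mem_smul hr (ih y)
      · rw [map_add]; exact add_mem hy hz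
  constructor
  · rw [← LinearMap.ker_eq_bot, eq_bot_iff]
    intro x hx
    have hgx : g x = x := by
      rw [LinearMap.mem_ker, LinearMap.sub_apply, LinearMap.id_apply, sub_eq_zero] at hx
      exact hx.symm
    have hfix : ∀ n : ℕ, (g ^ n) x = x := by
      intro n
      induction n with
      | zero => rfl
      | succ n ih => rw [pow_succ, Module.End.mul_apply, hgx, ih]
    refine (Submodule.mem_bot R).2 (IsHausdorff.haus (I := I) inferInstance x fun n => ?_)
    rw [SModEq.zero, ← hfix n]
    exact hpow n x
  · intro y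
    let s : ℕ → N := fun n => ∑ i ∈ Finset.range n, (g ^ i) y
    obtain ⟨L, hL⟩ := IsPrecomplete.prec (I := I) inferInstance (f := s) (fun {m n} hmn => by
      rw [SModEq.sub_mem]
      have : s n - s m = ∑ i ∈ Finset.Ico m n, (g ^ i) y := by
        rw [Finset.sum_Ico_eq_sub _ hmn]
      rw [show s m - s n = -(s n - s m) from (neg_sub _ _).symm, this]
      refine Submodule.neg_mem _ (Submodule.sum_mem _ fun i hi => ?_)
      exact Submodule.smul_mono_left (Ideal.pow_le_pow_right (Finset.mem_Ico.1 hi).1) (hpow i y))
    refine ⟨L, ?_⟩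
    rw [← sub_eq_zero]
    refine IsHausdorff.haus (I := I) inferInstance _ fun n => ?_
    rw [SModEq.zero]
    have hs : s n - g (s n) = y - (g ^ n) y := by
      have hshift : g (s n) = ∑ i ∈ Finset.range n, (g ^ (i + 1)) y := by
        simp only [s, map_sum, pow_succ', Module.End.mul_apply]
      rw [hshift, ← Finset.sum_sub_distrib, Finset.sum_range_sub' (fun i => (g ^ i) y) n]
      rfl
    have h1 : ((LinearMap.id : N →ₗ[R] N) - g) L - y = ((LinearMap.id : N →ₗ[R] N) - g) (L - s n) - (g ^ n) y := by
      rw [map_sub, LinearMap.sub_apply LinearMap.id g (s n), LinearMap.id_apply, hs]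
      abel
    rw [h1]
    refine Submodule.sub_mem _ ?_ (hpow n y)
    have hLn : L - s n ∈ (I ^ n • ⊤ : Submodule R N) := by
      rw [← neg_sub]; exact Submodule.neg_mem _ (SModEq.sub_mem.1 (hL n))
    refine Submodule.smul_induction_on hLn (fun r hr y _ => ?_) (fun y z hy hz => ?_)
    · rw [map_smul]; exact Submodule.smul_mem_smul hr Submodule.mem_top
    · rw [map_add]; exact add_mem hy hz

variable {S : Type u} [CommRing S] [Algebra R S]

/-- multiplication by an element of `IS` lands in `IN` -/
theorem smul_mem_smul_top (I : Ideal R) {N : Type u} [AddCommGroup N] [Module S N] [Module R N]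
    [IsScalarTower R S N] {f : S} (hf : f ∈ I.map (algebraMap R S)) (x : N) :
    f • x ∈ (I • ⊤ : Submodule R N) := by
  rw [Ideal.map] at hf
  induction hf using Submodule.span_induction generalizing x with
  | mem y hy =>
    obtain ⟨r, hr, rfl⟩ := hy
    rw [algebraMap_smul]
    exact Submodule.smul_mem_smul hr Submodule.mem_top
  | zero => simp
  | add a b _ _ ha hb => rw [add_smul]; exact add_mem (ha x) (hb x)
  | smul s a _ ha => rw [smul_eq_mul, mul_comm, mul_smul]; exact ha (s • x)

/-- reformulation: to show `q + IS ≠ S` for `q` an annihilator -/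
theorem sup_ne_top_of_injective (I : Ideal R) {N : Type u} [AddCommGroup N] [Module S N] [Module R N]
    [IsScalarTower R S N] (M : Type u) [AddCommGroup M] [Module R M] (q : Ideal S) [q.IsPrime]
    (z : N ⊗[R] M) (hq : q = (Submodule.span S {z}).annihilator)
    (h : ∀ f ∈ I.map (algebraMap R S), f • z = z → z = 0) :
    q ⊔ I.map (algebraMap R S) ≠ ⊤ := by
  intro htop
  have h1 : (1 : S) ∈ q ⊔ I.map (algebraMap R S) := htop ▸ Submodule.mem_top
  obtain ⟨a, ha, f, hf, haf⟩ := Submodule.mem_sup.1 h1
  have haz : a • z = 0 := by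
    rw [hq, Submodule.mem_annihilator_span_singleton] at ha; exact ha
  have hfz : f • z = z := by
    have := congr($haf • z)
    rwa [add_smul, haz, zero_add, one_smul] at this
  have hz := h f hf hfz
  refine Ideal.IsPrime.ne_top (I := q) inferInstance ((Ideal.eq_top_iff_one _).2 ?_)
  rw [hq, Submodule.mem_annihilator_span_singleton, hz, smul_zero]

theorem smul_tensor_eq_rTensor {N : Type u} [AddCommGroup N] [Module S N] [Module R N]
    [IsScalarTower R S N] (M : Type u) [AddCommGroup M] [Module R M] (f : S) (z : N ⊗[R] M) :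
    f • z = ((DistribSMul.toLinearMap R N f).rTensor M) z := by
  induction z using TensorProduct.induction_on with
  | zero => simp
  | tmul x m => rfl
  | add x y hx hy => rw [smul_add, hx, hy, map_add]

/-- complete case -/
theorem eq_zero_of_smul_eq_self_of_complete (I : Ideal R) {N : Type u} [AddCommGroup N] [Module S N]
    [Module R N] [IsScalarTower R S N] [IsAdicComplete I N] (M : Type u) [AddCommGroup M] [Module R M]
    (z : N ⊗[R] M) {f : S} (hf : f ∈ I.map (algebraMap R S)) (hz : f • z = z) : z = 0 := by
  let g : N →ₗ[R] N := DistribSMul.toLinearMap R N f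
  let e := LinearEquiv.ofBijective ((LinearMap.id : N →ₗ[R] N) - g)
    (bijective_id_sub I N g fun x => smul_mem_smul_top I hf x)
  have hinj : Function.Injective (((LinearMap.id : N →ₗ[R] N) - g).rTensor M) := by
    exact (e.rTensor M).injective
  apply hinj
  rw [map_zero, LinearMap.rTensor_sub, LinearMap.sub_apply, LinearMap.rTensor_id, LinearMap.id_apply,
    ← smul_tensor_eq_rTensor M f z, hz, sub_self]

/-- core: `z` lives in a finite direct summand -/
theorem eq_zero_of_retract [IsLocalRing R] {N : Type u} [AddCommGroup N] [Module S N]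
    [Module R N] [IsScalarTower R S N] (P : Submodule R N) [Module.Finite R P] (π : N →ₗ[R] P)
    (hπ : π ∘ₗ P.subtype = LinearMap.id) (M : Type u) [AddCommGroup M] [Module R M]
    (z : N ⊗[R] M) (w : P ⊗[R] M) (hw : P.subtype.rTensor M w = z)
    {f : S} (hf : f ∈ (IsLocalRing.maximalIdeal R).map (algebraMap R S))
    (hz : f • z = z) : z = 0 := by
  let g : P →ₗ[R] P := π ∘ₗ DistribSMul.toLinearMap R N f ∘ₗ P.subtype
  have hg : ∀ x, g x ∈ (IsLocalRing.maximalIdeal R • ⊤ : Submodule R P) := by
    intro x
    have h := Submodule.mem_map_of_mem (f := π) (smul_mem_smul_top (IsLocalRing.maximalIdeal R) hf (x : N))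
    rw [Submodule.map_smul''] at h
    exact Submodule.smul_mono le_rfl le_top h
  have hsurj : Function.Surjective ((LinearMap.id : P →ₗ[R] P) - g) := by
    rw [← LinearMap.range_eq_top, eq_top_iff]
    refine Submodule.le_of_le_smul_of_le_jacobson_bot Module.Finite.fg_top
      (IsLocalRing.maximalIdeal_le_jacobson ⊥) ?_
    intro x _
    exact Submodule.mem_sup.2 ⟨((LinearMap.id : P →ₗ[R] P) - g) x, ⟨x, rfl⟩, g x, hg x, by simp⟩
  have hinj := OrzechProperty.injective_of_surjective_endomorphism _ hsurj
  let e := LinearEquiv.ofBijective ((LinearMap.id : P →ₗ[R] P) - g) ⟨hinj, hsurj⟩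
  have hinj' : Function.Injective (((LinearMap.id : P →ₗ[R] P) - g).rTensor M) := by
    exact (e.rTensor M).injective
  have hwz : (g.rTensor M) w = w := by
    have h1 := congr((π.rTensor M) $hz)
    rw [smul_tensor_eq_rTensor M f z, ← hw, ← LinearMap.comp_apply, ← LinearMap.rTensor_comp,
      ← LinearMap.comp_apply, ← LinearMap.rTensor_comp, ← LinearMap.comp_apply, ← LinearMap.rTensor_comp,
      hπ, LinearMap.rTensor_id, LinearMap.id_apply, LinearMap.comp_assoc] at h1
    exact h1
  have : w = 0 := hinj' (by
    rw [map_zero, LinearMap.rTensor_sub, LinearMap.sub_apply, LinearMap.rTensor_id,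
      LinearMap.id_apply, hwz, sub_self])
  rw [← hw, this, map_zero]


/-- a tensor lies in the image of a member of an exhausting monotone family -/
theorem exists_mem_range_rTensor {N : Type u} [AddCommGroup N] [Module R N] {ι : Type u}
    [DecidableEq ι] (M : Type u) [AddCommGroup M] [Module R M] (G : Finset ι → Submodule R N)
    (hmono : ∀ T T', T ⊆ T' → G T ≤ G T') (hexh : ∀ n, ∃ T, n ∈ G T) (x : N ⊗[R] M) :
    ∃ T, x ∈ LinearMap.range ((G T).subtype.rTensor M) := by
  induction x using TensorProduct.induction_on with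
  | zero => exact ⟨∅, 0, map_zero _⟩
  | tmul n m =>
    obtain ⟨T, hT⟩ := hexh n
    exact ⟨T, (⟨n, hT⟩ : G T) ⊗ₜ m, LinearMap.rTensor_tmul _ _ _ _⟩
  | add x y hx hy =>
    obtain ⟨T₁, x', rfl⟩ := hx
    obtain ⟨T₂, y', rfl⟩ := hy
    refine ⟨T₁ ∪ T₂, (Submodule.inclusion (hmono _ _ Finset.subset_union_left)).rTensor M x' +
      (Submodule.inclusion (hmono _ _ Finset.subset_union_right)).rTensor M y', ?_⟩
    rw [map_add, ← LinearMap.comp_apply, ← LinearMap.comp_apply, ← LinearMap.rTensor_comp,
      ← LinearMap.rTensor_comp, Submodule.subtype_comp_inclusion, Submodule.subtype_comp_inclusion]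

/-- direct sum of finite modules over a local ring -/
theorem eq_zero_of_smul_eq_self_of_isInternal [IsLocalRing R] {N : Type u} [AddCommGroup N] [Module S N]
    [Module R N] [IsScalarTower R S N] {ι : Type u} (F : ι → Submodule R N)
    (hind : iSupIndep F) (htop : iSup F = ⊤)
    (hfin : ∀ i, Module.Finite R (F i)) (M : Type u) [AddCommGroup M] [Module R M]
    (z : N ⊗[R] M) {f : S} (hf : f ∈ (IsLocalRing.maximalIdeal R).map (algebraMap R S))
    (hz : f • z = z) : z = 0 := by
  classical
  have hex := exists_mem_range_rTensor (R := R) M (fun T : Finset ι => ⨆ i ∈ T, F i)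
    (fun _ _ h => biSup_mono fun i hi => h hi)
    (fun n => Submodule.mem_iSup_iff_exists_finset.1 (htop ▸ Submodule.mem_top : n ∈ iSup F))
  obtain ⟨T, hT⟩ := hex z
  set P := ⨆ i ∈ T, F i with hP
  obtain ⟨w, hw⟩ := hT
  set Q := ⨆ i ∈ ((↑T : Set ι)ᶜ), F i with hQ
  have hcompl : IsCompl P Q := by
    constructor
    · exact hind.disjoint_biSup_biSup (s := (↑T : Set ι)) (t := (↑T : Set ι)ᶜ) disjoint_compl_right
    · rw [codisjoint_iff, eq_top_iff, ← htop]
      refine iSup_le fun i => ?_
      by_cases hi : i ∈ T
      · exact le_trans (le_biSup F hi) le_sup_left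
      · exact le_trans (le_biSup (s := ((↑T : Set ι)ᶜ)) F hi) le_sup_right
  haveI : Module.Finite R P := by
    rw [Module.Finite.iff_fg]
    exact Submodule.fg_biSup T F fun i _ => Module.Finite.iff_fg.1 (hfin i)
  exact eq_zero_of_retract P (Submodule.linearProjOfIsCompl P Q hcompl)
    (LinearMap.ext fun x => Submodule.linearProjOfIsCompl_apply_left hcompl x) M z w hw hf hz

end H7Flat.AssMeets
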