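import Mathlib.RingTheory.MvPolynomial.Localization
import Mathlib.RingTheory.Polynomial.Basic
import Mathlib.RingTheory.Localization.FractionRing
import Mathlib.LinearAlgebra.LinearIndependent.Basic
import Mathlib.RingTheory.Finiteness.Basic
import Mathlib.RingTheory.Noetherian.Basic
import Mathlib.RingTheory.PrincipalIdealDomain

/-!
# Generic freeness

`IsAwayFree f M` says that `M` becomes free after inverting `f`, witnessed in `M` itself.
-/

set_option autoImplicit false

universe u v

open MvPolynomial

namespace Groth.Agent.H7Flat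

/-- There is an independent subset of `M` spanning it up to powers of `f`. -/
def IsAwayFree {R : Type*} [CommRing R] (f : R) (M : Type*) [AddCommGroup M] [Module R M] : Prop :=
  ∃ B : Set M, LinearIndepOn R id B ∧ ∀ m : M, ∃ n : ℕ, f ^ n • m ∈ Submodule.span R B

variable {R : Type u} [CommRing R] [IsDomain R]

section basic

variable {M : Type v} [AddCommGroup M] [Module R M]

omit [IsDomain R] in
lemma IsAwayFree.of_dvd {f g : R} (h : IsAwayFree f M) (hfg : f ∣ g) : IsAwayFree g M := by
  obtain ⟨B, hB, hB'⟩ := h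
  obtain ⟨c, rfl⟩ := hfg
  refine ⟨B, hB, fun m ↦ ?_⟩
  obtain ⟨n, hn⟩ := hB' m
  refine ⟨n, ?_⟩
  rw [mul_comm, mul_pow, mul_smul]
  exact Submodule.smul_mem _ _ hn

/-- Transfer along surjections with torsion kernel. -/
lemma IsAwayFree.of_surjective {f : R} (h : IsAwayFree f M) {N : Type v} [AddCommGroup N]
    [Module R N] (u : M →ₗ[R] N) (hu : Function.Surjective u)
    (hker : ∀ x, u x = 0 → ∃ r : R, r ≠ 0 ∧ r • x = 0) : IsAwayFree f N := by
  obtain ⟨B, hB, hB'⟩ := h
  have hcomb : ∀ c : M →₀ R, c ∈ Finsupp.supported R R B →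
      u (Finsupp.linearCombination R id c) = 0 → c = 0 := by
    intro c hc h0
    obtain ⟨r, hr, hr'⟩ := hker _ h0
    have := linearIndepOn_iff.mp hB (r • c) (Submodule.smul_mem _ r hc) (by rw [map_smul, hr'])
    exact (smul_eq_zero.mp this).resolve_left hr
  refine ⟨u '' B, ?_, fun n ↦ ?_⟩
  · refine LinearIndepOn.id_image ?_
    rw [linearIndepOn_iff]
    intro c hc h0
    refine hcomb c hc ?_
    rw [← h0, Finsupp.linearCombination_apply, Finsupp.linearCombination_apply, map_finsuppSum]
    simp
  · obtain ⟨m, rfl⟩ := hu n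
    obtain ⟨k, hk⟩ := hB' m
    refine ⟨k, ?_⟩
    rw [← map_smul, ← Submodule.map_span]
    exact Submodule.mem_map_of_mem hk

/-- A surjection with torsion kernel from an `f`-away free module has `f`-torsion kernel. -/
lemma IsAwayFree.exists_pow_smul_eq_zero {f : R} (h : IsAwayFree f M) {x : M}
    (hx : ∃ r : R, r ≠ 0 ∧ r • x = 0) : ∃ n : ℕ, f ^ n • x = 0 := by
  obtain ⟨B, hB, hB'⟩ := h
  obtain ⟨r, hr, hrx⟩ := hx
  obtain ⟨n, hn⟩ := hB' x
  refine ⟨n, ?_⟩
  rw [← Set.image_id B, Finsupp.mem_span_image_iff_linearCombination] at hn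
  obtain ⟨c, hc, hc'⟩ := hn
  have := linearIndepOn_iff.mp hB (r • c) (Submodule.smul_mem _ r hc)
    (by rw [map_smul, hc', smul_comm, hrx, smul_zero])
  rw [← hc', (smul_eq_zero.mp this).resolve_left hr, map_zero]

omit [IsDomain R] in
/-- Union of a filtration with away free steps. -/
lemma isAwayFree_of_filtration {f : R} (F : ℕ → Submodule R M) (hmono : Monotone F)
    (htop : ∀ m, ∃ j, m ∈ F j) (h0 : IsAwayFree f (F 0))
    (hstep : ∀ j, IsAwayFree f (F (j + 1) ⧸ (F j).comap (F (j + 1)).subtype)) :
    IsAwayFree f M := by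
  classical
  suffices ∃ B : ℕ → Set M, Monotone B ∧ ∀ j, B j ⊆ F j ∧ LinearIndepOn R id (B j) ∧
      ∀ m ∈ F j, ∃ n : ℕ, f ^ n • m ∈ Submodule.span R (B j) by
    obtain ⟨B, hB, hB'⟩ := this
    refine ⟨⋃ j, B j, linearIndepOn_iUnion_of_directed hB.directed_le fun j ↦ (hB' j).2.1, fun m ↦ ?_⟩
    obtain ⟨j, hj⟩ := htop m
    obtain ⟨n, hn⟩ := (hB' j).2.2 m hj
    exact ⟨n, Submodule.span_mono (Set.subset_iUnion B j) hn⟩
  obtain ⟨B₀, hB₀, hB₀'⟩ := h0
  choose Bq hBq hBq' using hstep
  have hlift : ∀ j (q : F (j + 1) ⧸ (F j).comap (F (j + 1)).subtype),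
      ∃ m : F (j + 1), Submodule.Quotient.mk m = q := fun j ↦ Submodule.Quotient.mk_surjective _
  choose σ hσ using hlift
  let B : ℕ → Set M := fun j ↦
    Nat.rec (Subtype.val '' B₀) (fun k S ↦ S ∪ (fun q ↦ (σ k q : M)) '' Bq k) j
  refine ⟨B, monotone_nat_of_le_succ fun j ↦ Set.subset_union_left, fun j ↦ ?_⟩
  induction j with
  | zero =>
    refine ⟨fun _ ⟨y, _, hy⟩ ↦ hy ▸ y.2, ?_, fun m hm ↦ ?_⟩
    · exact LinearIndepOn.id_image (hB₀.map_injOn (F 0).subtype Subtype.val_injective.injOn)
    · obtain ⟨n, hn⟩ := hB₀' ⟨m, hm⟩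
      refine ⟨n, ?_⟩
      have := Submodule.mem_map_of_mem (f := (F 0).subtype) hn
      rw [Submodule.map_span] at this
      exact this
  | succ j ih =>
    obtain ⟨hsub, hind, hspan⟩ := ih
    refine ⟨Set.union_subset (hsub.trans (hmono (Nat.le_succ j))) ?_, ?_, fun m hm ↦ ?_⟩
    · rintro _ ⟨q, -, rfl⟩; exact (σ j q).2
    · refine hind.id_union ?_ ?_
      · refine LinearIndepOn.id_image ?_
        rw [linearIndepOn_iff]
        intro c hc h0
        refine linearIndepOn_iff.mp (hBq j) c hc ?_
        have h1 : ∑ x ∈ c.support, c x • σ j x = 0 := Subtype.ext (by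
          simpa [Finsupp.linearCombination_apply, Finsupp.sum] using h0)
        have h2 := congrArg ((F j).comap (F (j + 1)).subtype).mkQ h1
        simpa [Finsupp.linearCombination_apply, Finsupp.sum, hσ] using h2
      · rw [Submodule.disjoint_def]
        intro x hx hx'
        rw [Finsupp.mem_span_image_iff_linearCombination] at hx'
        obtain ⟨c, hc, rfl⟩ := hx'
        have hmem : Finsupp.linearCombination R (fun q ↦ (σ j q : M)) c ∈ F j :=
          Submodule.span_le.mpr hsub hx
        have : c = 0 := by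
          refine linearIndepOn_iff.mp (hBq j) c hc ?_
          have h2 : ((F j).comap (F (j + 1)).subtype).mkQ (∑ x ∈ c.support, c x • σ j x) = 0 := by
            rw [Submodule.mkQ_apply, Submodule.Quotient.mk_eq_zero]
            simpa [Finsupp.linearCombination_apply, Finsupp.sum] using hmem
          simpa [Finsupp.linearCombination_apply, Finsupp.sum, hσ] using h2
        simp [this]
    · obtain ⟨n, hn⟩ := hBq' j (Submodule.Quotient.mk ⟨m, hm⟩)
      rw [← Set.image_id (Bq j), Finsupp.mem_span_image_iff_linearCombination] at hn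
      obtain ⟨c, hc, hc'⟩ := hn
      let y : M := Finsupp.linearCombination R (fun q ↦ (σ j q : M)) c
      have hy : f ^ n • m - y ∈ F j := by
        have h2 : ((F j).comap (F (j + 1)).subtype).mkQ
            (f ^ n • (⟨m, hm⟩ : F (j + 1)) - ∑ x ∈ c.support, c x • σ j x) = 0 := by
          simp only [Submodule.mkQ_apply, Submodule.Quotient.mk_sub, Submodule.Quotient.mk_smul,
            sub_eq_zero]
          rw [← hc', Finsupp.linearCombination_apply, Finsupp.sum, ← Submodule.mkQ_apply, map_sum]
          exact Finset.sum_congr rfl fun x _ ↦ by rw [map_smul, Submodule.mkQ_apply, hσ]; rfl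
        rw [Submodule.mkQ_apply, Submodule.Quotient.mk_eq_zero] at h2
        simpa [y, Finsupp.linearCombination_apply, Finsupp.sum] using h2
      obtain ⟨k, hk⟩ := hspan _ hy
      refine ⟨k + n, ?_⟩
      have hy' : y ∈ Submodule.span R ((fun q ↦ (σ j q : M)) '' Bq j) :=
        (Finsupp.mem_span_image_iff_linearCombination R).mpr ⟨c, hc, rfl⟩
      rw [pow_add, mul_smul, show f ^ n • m = (f ^ n • m - y) + y by abel, smul_add]
      exact add_mem (Submodule.span_mono Set.subset_union_left hk)
        (Submodule.smul_mem _ _ (Submodule.span_mono Set.subset_union_right hy'))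

/-- The case of finite `R`-modules. -/
lemma exists_isAwayFree_of_finite [Module.Finite R M] : ∃ f : R, f ≠ 0 ∧ IsAwayFree f M := by
  classical
  obtain ⟨s, hs⟩ := (Module.Finite.fg_top : (⊤ : Submodule R M).FG)
  obtain ⟨B, hB, hmax⟩ := (s.powerset.filter fun B : Finset M ↦ LinearIndepOn R id (B : Set M)).exists_maximal
    ⟨∅, by simp⟩
  simp only [Finset.mem_filter, Finset.mem_powerset] at hB
  have hr : ∀ m : s, ∃ r : R, r ≠ 0 ∧ r • (m : M) ∈ Submodule.span R (B : Set M) := by
    intro ⟨m, hm⟩
    by_cases hmB : m ∈ B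
    · exact ⟨1, one_ne_zero, by simpa using Submodule.subset_span hmB⟩
    by_contra! H
    refine hmB (hmax (y := insert m B) ?_ (Finset.subset_insert _ _) (Finset.mem_insert_self m B))
    simp only [Finset.mem_filter, Finset.mem_powerset, Finset.coe_insert]
    refine ⟨Finset.insert_subset hm hB.1, ?_⟩
    rw [Set.insert_eq, Set.union_comm]
    refine hB.2.id_union ?_ ?_
    · rw [linearIndepOn_iff]
      intro c hc h0
      rw [Finsupp.mem_supported, Set.subset_singleton_iff] at hc
      obtain ⟨r, rfl⟩ : ∃ r, c = Finsupp.single m r :=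
        ⟨c m, Finsupp.ext fun x ↦ by
          by_cases hx : x = m
          · simp [hx]
          · rw [Finsupp.single_eq_of_ne hx]
            exact Finsupp.notMem_support_iff.mp fun h ↦ hx (hc x h)⟩
      by_contra hr
      rw [Finsupp.linearCombination_single] at h0
      exact H r (fun h ↦ hr (by rw [h, Finsupp.single_zero])) (by simpa using h0 ▸ zero_mem _)
    · rw [Submodule.disjoint_def]
      intro x hx hx'
      obtain ⟨r, rfl⟩ := Submodule.mem_span_singleton.mp hx'
      by_contra hr
      exact H r (fun h ↦ hr (by rw [h, zero_smul])) hx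
  choose r hr0 hr using hr
  refine ⟨∏ m, r m, Finset.prod_ne_zero_iff.mpr fun m _ ↦ hr0 m, B, hB.2, fun x ↦ ⟨1, ?_⟩⟩
  have hx : x ∈ Submodule.span R (s : Set M) := hs ▸ trivial
  rw [pow_one]
  induction hx using Submodule.span_induction with
  | mem y hy =>
    rw [← Finset.prod_erase_mul _ _ (Finset.mem_univ ⟨y, hy⟩), mul_smul]
    exact Submodule.smul_mem _ _ (hr ⟨y, hy⟩)
  | zero => simp
  | add a b _ _ ha hb => rw [smul_add]; exact add_mem ha hb
  | smul c a _ ha => rw [smul_comm]; exact Submodule.smul_mem _ _ ha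

end basic

section polynomial

variable {n r : ℕ}

/-- The map to polynomials over the fraction field. -/
noncomputable def genMap (R : Type u) [CommRing R] (n r : ℕ) :
    (Fin r → MvPolynomial (Fin n) R) → (Fin r → MvPolynomial (Fin n) (FractionRing R)) :=
  fun c k ↦ MvPolynomial.map (algebraMap R (FractionRing R)) (c k)

lemma exists_smul_eq_map (p : MvPolynomial (Fin n) (FractionRing R)) :
    ∃ (s : R) (q : MvPolynomial (Fin n) R), s ≠ 0 ∧
      MvPolynomial.map (algebraMap R (FractionRing R)) q =
        C (algebraMap R (FractionRing R) s) * p := by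
  induction p using MvPolynomial.induction_on with
  | C a =>
    obtain ⟨x, s, hs, rfl⟩ := IsFractionRing.div_surjective (A := R) a
    refine ⟨s, C x, nonZeroDivisors.ne_zero hs, ?_⟩
    rw [map_C, ← C_mul, mul_div_cancel₀]
    exact IsFractionRing.to_map_ne_zero_of_mem_nonZeroDivisors hs
  | add p p' hp hp' =>
    obtain ⟨s, q, hs, hq⟩ := hp
    obtain ⟨s', q', hs', hq'⟩ := hp'
    refine ⟨s * s', C s' * q + C s * q', mul_ne_zero hs hs', ?_⟩
    simp only [map_add, map_mul, map_C, hq, hq']
    ring
  | mul_X p i hp =>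
    obtain ⟨s, q, hs, hq⟩ := hp
    exact ⟨s, q * X i, hs, by rw [map_mul, map_X, hq, mul_assoc]⟩

/-- A submodule is determined up to torsion by finitely many of its elements. -/
lemma exists_finset_torsion (K : Submodule (MvPolynomial (Fin n) R) (Fin r → MvPolynomial (Fin n) R)) :
    ∃ t : Finset (Fin r → MvPolynomial (Fin n) R),
      Submodule.span (MvPolynomial (Fin n) (FractionRing R)) (genMap R n r '' (K : Set _)) =
        Submodule.span (MvPolynomial (Fin n) (FractionRing R)) (genMap R n r '' t) ∧
      (t : Set (Fin r → MvPolynomial (Fin n) R)) ⊆ (K : Set (Fin r → MvPolynomial (Fin n) R)) := by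
  obtain ⟨t, ht, he⟩ := (Submodule.fg_span_iff_fg_span_finset_subset _).mp
    (IsNoetherian.noetherian (Submodule.span (MvPolynomial (Fin n) (FractionRing R))
      (genMap R n r '' (K : Set _))))
  classical
  obtain ⟨u, hu, hut⟩ := Finset.subset_set_image_iff.mp ht
  exact ⟨u, by rw [he, ← hut, Finset.coe_image], hu⟩

lemma exists_smul_mem {K : Submodule (MvPolynomial (Fin n) R) (Fin r → MvPolynomial (Fin n) R)}
    {c : Fin r → MvPolynomial (Fin n) R}
    (hc : genMap R n r c ∈
      Submodule.span (MvPolynomial (Fin n) (FractionRing R)) (genMap R n r '' (K : Set _))) :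
    ∃ s : R, s ≠ 0 ∧ s • c ∈ K := by
  suffices ∀ v ∈ Submodule.span (MvPolynomial (Fin n) (FractionRing R)) (genMap R n r '' (K : Set _)),
      ∃ (s : R) (k : Fin r → MvPolynomial (Fin n) R), s ≠ 0 ∧ k ∈ K ∧
        genMap R n r k = fun i ↦ C (algebraMap R (FractionRing R) s) * v i by
    obtain ⟨s, k, hs, hk, hkv⟩ := this _ hc
    refine ⟨s, hs, ?_⟩
    convert hk
    funext i
    refine MvPolynomial.map_injective _ (IsFractionRing.injective R (FractionRing R)) ?_
    have := congrFun hkv i
    simp only [genMap] at this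
    rw [this, Pi.smul_apply, MvPolynomial.smul_eq_C_mul, map_mul, map_C]
  intro v hv
  induction hv using Submodule.span_induction with
  | mem y hy =>
    obtain ⟨k, hk, rfl⟩ := hy
    exact ⟨1, k, one_ne_zero, hk, by funext i; simp⟩
  | zero => exact ⟨1, 0, one_ne_zero, zero_mem _, by funext i; simp [genMap]⟩
  | add a b _ _ ha hb =>
    obtain ⟨s, k, hs, hk, hka⟩ := ha
    obtain ⟨s', k', hs', hk', hkb⟩ := hb
    refine ⟨s * s', (C s' : MvPolynomial (Fin n) R) • k + (C s : MvPolynomial (Fin n) R) • k',
      mul_ne_zero hs hs', add_mem (K.smul_mem _ hk) (K.smul_mem _ hk'), ?_⟩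
    funext i
    have h1 := congrFun hka i
    have h2 := congrFun hkb i
    simp only [genMap] at h1 h2
    simp only [genMap, Pi.add_apply, Pi.smul_apply, smul_eq_mul, map_add, map_mul, map_C, h1, h2]
    ring
  | smul p a _ ha =>
    obtain ⟨s, k, hs, hk, hka⟩ := ha
    obtain ⟨s', q, hs', hq⟩ := exists_smul_eq_map p
    refine ⟨s' * s, q • k, mul_ne_zero hs' hs, K.smul_mem _ hk, ?_⟩
    funext i
    have h1 := congrFun hka i
    simp only [genMap] at h1
    simp only [genMap, Pi.smul_apply, smul_eq_mul, map_mul, h1, hq]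
    ring

/-- Ascending chains stabilize up to torsion. -/
lemma exists_stable (K : ℕ →o Submodule (MvPolynomial (Fin n) R) (Fin r → MvPolynomial (Fin n) R)) :
    ∃ N, ∀ j, N ≤ j → ∀ c ∈ K j, ∃ s : R, s ≠ 0 ∧ s • c ∈ K N := by
  obtain ⟨N, hN⟩ := monotone_stabilizes_iff_noetherian.mpr
    (inferInstance : IsNoetherian (MvPolynomial (Fin n) (FractionRing R))
      (Fin r → MvPolynomial (Fin n) (FractionRing R)))
    ⟨fun j ↦ Submodule.span (MvPolynomial (Fin n) (FractionRing R))
      (genMap R n r '' (K j : Set (Fin r → MvPolynomial (Fin n) R))),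
      fun i j h ↦ Submodule.span_mono (Set.image_mono (K.monotone h))⟩
  refine ⟨N, fun j hj c hc ↦ exists_smul_mem ?_⟩
  exact (hN j hj).ge (Submodule.subset_span ⟨c, hc, rfl⟩)

end polynomial

section scalar

variable {S : Type u} [CommRing S] [Algebra R S] {M N : Type u} [AddCommGroup M] [Module R M]
  [Module S M] [IsScalarTower R S M] [AddCommGroup N] [Module R N] [Module S N]
  [IsScalarTower R S N]

/-- Passage to a bigger submodule with torsion difference. -/
lemma IsAwayFree.of_le {f : R} {A B : Submodule S N} (h : IsAwayFree f (N ⧸ A)) (hle : A ≤ B)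
    (htor : ∀ c ∈ B, ∃ s : R, s ≠ 0 ∧ s • c ∈ A) : IsAwayFree f (N ⧸ B) := by
  have hu : Function.Surjective ((Submodule.factor hle).restrictScalars R) := by
    intro y
    obtain ⟨z, rfl⟩ := Submodule.Quotient.mk_surjective _ y
    refine ⟨Submodule.Quotient.mk z, ?_⟩
    rw [LinearMap.restrictScalars_apply, ← Submodule.mkQ_apply, ← LinearMap.comp_apply,
      Submodule.factor_comp_mk, Submodule.mkQ_apply]
  refine h.of_surjective ((Submodule.factor hle).restrictScalars R) hu fun x hx ↦ ?_
  obtain ⟨c, rfl⟩ := Submodule.Quotient.mk_surjective _ x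
  have hx' : (Submodule.Quotient.mk c : N ⧸ B) = 0 := by
    rw [LinearMap.restrictScalars_apply, ← Submodule.mkQ_apply, ← LinearMap.comp_apply,
      Submodule.factor_comp_mk, Submodule.mkQ_apply] at hx
    exact hx
  obtain ⟨s, hs, hsc⟩ := htor c ((Submodule.Quotient.mk_eq_zero B).mp hx')
  refine ⟨s, hs, ?_⟩
  rw [← Submodule.Quotient.mk_smul]
  exact (Submodule.Quotient.mk_eq_zero A).mpr hsc

/-- Transfer to a step of a filtration. -/
lemma IsAwayFree.of_step {f : R} (A B : Submodule S M) (π : N →ₗ[S] B ⧸ A.comap B.subtype)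
    (hπ : Function.Surjective π) (h : IsAwayFree f (N ⧸ LinearMap.ker π)) :
    IsAwayFree f (B.restrictScalars R ⧸
      (A.restrictScalars R).comap (B.restrictScalars R).subtype) := by
  refine h.of_surjective ((LinearMap.quotKerEquivOfSurjective π hπ).toLinearMap.restrictScalars R)
    (LinearEquiv.surjective _) fun x hx ↦ ⟨1, one_ne_zero, ?_⟩
  rw [one_smul]
  exact (LinearEquiv.map_eq_zero_iff _).mp hx

end scalar

/-- Generic freeness over polynomial rings. -/
theorem exists_isAwayFree (n : ℕ) : ∀ (M : Type u) [AddCommGroup M] [Module R M]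
    [Module (MvPolynomial (Fin n) R) M] [IsScalarTower R (MvPolynomial (Fin n) R) M]
    [Module.Finite (MvPolynomial (Fin n) R) M], ∃ f : R, f ≠ 0 ∧ IsAwayFree f M := by
  induction n with
  | zero =>
    intro M _ _ _ _ _
    have : Module.Finite R (MvPolynomial (Fin 0) R) :=
      Module.Finite.equiv (MvPolynomial.isEmptyAlgEquiv R (Fin 0)).symm.toLinearEquiv
    have : Module.Finite R M := Module.Finite.trans (MvPolynomial (Fin 0) R) M
    exact exists_isAwayFree_of_finite
  | succ n ih =>
    intro M _ _ _ _ _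
    let P' := MvPolynomial (Fin n) R
    let P := MvPolynomial (Fin (n + 1)) R
    let ι : P' →ₐ[R] P := MvPolynomial.rename Fin.castSucc
    let _ : Module P' M := Module.compHom M ι.toRingHom
    have hι : ∀ (p : P') (m : M), p • m = ι p • m := fun _ _ ↦ rfl
    have : IsScalarTower R P' M := IsScalarTower.of_algebraMap_smul fun c m ↦ by
      rw [hι, AlgHom.commutes, algebraMap_smul]
    let t : P := X (Fin.last n)
    obtain ⟨r, m, hm⟩ := Module.Finite.exists_fin (R := P) (M := M)
    let L : ℕ → Submodule P' M := fun j ↦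
      Submodule.span P' ((fun x : ℕ × Fin r ↦ t ^ x.1 • m x.2) '' {x | x.1 ≤ j})
    have hLmono : Monotone L := fun i j h ↦ Submodule.span_mono
      (Set.image_mono fun x (hx : x.1 ≤ i) ↦ hx.trans h)
    have hgen : ∀ {i j : ℕ} (k : Fin r), i ≤ j → t ^ i • m k ∈ L j := fun {i j} k h ↦
      Submodule.subset_span ⟨(i, k), h, rfl⟩
    have htL : ∀ {j : ℕ} {x : M}, x ∈ L j → t • x ∈ L (j + 1) := by
      intro j x hx
      induction hx using Submodule.span_induction with
      | mem y hy =>
        obtain ⟨⟨i, k⟩, hi, rfl⟩ := hy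
        rw [smul_smul, ← pow_succ']
        exact hgen k (Nat.succ_le_succ hi)
      | zero => simp
      | add a b _ _ ha hb => rw [smul_add]; exact add_mem ha hb
      | smul p a _ ha =>
        rw [hι, smul_comm, ← hι]
        exact Submodule.smul_mem _ _ ha
    have htop : ∀ x, ∃ j, x ∈ L j := by
      have hp : ∀ (p : P) (j : ℕ) (x : M), x ∈ L j → ∃ i, p • x ∈ L i := by
        intro p
        induction p using MvPolynomial.induction_on with
        | C c =>
          intro j x hx
          exact ⟨j, by rw [← MvPolynomial.algebraMap_eq, algebraMap_smul, ← algebraMap_smul P' c x]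
                       exact Submodule.smul_mem _ _ hx⟩
        | add p q hp hq =>
          intro j x hx
          obtain ⟨a, ha⟩ := hp j x hx
          obtain ⟨b, hb⟩ := hq j x hx
          exact ⟨max a b, by
            rw [add_smul]
            exact add_mem (hLmono (le_max_left a b) ha) (hLmono (le_max_right a b) hb)⟩
        | mul_X p i hp =>
          intro j x hx
          rw [mul_smul]
          obtain ⟨i, rfl⟩ | rfl := i.eq_castSucc_or_eq_last
          · refine hp j _ ?_
            have : (X i.castSucc : P) • x = (X i : P') • x := by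
              rw [hι, show ι (X i : P') = X i.castSucc from MvPolynomial.rename_X _ _]
            rw [this]
            exact Submodule.smul_mem _ _ hx
          · exact hp (j + 1) _ (htL hx)
      intro x
      have hx : x ∈ Submodule.span P (Set.range m) := hm ▸ trivial
      induction hx using Submodule.span_induction with
      | mem y hy =>
        obtain ⟨k, rfl⟩ := hy
        exact ⟨0, by simpa using hgen (i := 0) k le_rfl⟩
      | zero => exact ⟨0, zero_mem _⟩
      | add a b _ _ ha hb =>
        obtain ⟨i, hi⟩ := ha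
        obtain ⟨j, hj⟩ := hb
        exact ⟨max i j, add_mem (hLmono (le_max_left i j) hi) (hLmono (le_max_right i j) hj)⟩
      | smul p a _ ha =>
        obtain ⟨i, hi⟩ := ha
        exact hp p i a hi
    let Q : ℕ → Submodule P' M := fun j ↦ L j
    let π : ∀ j, (Fin r → P') →ₗ[P'] L (j + 1) ⧸ (L j).comap (L (j + 1)).subtype := fun j ↦
      ((L j).comap (L (j + 1)).subtype).mkQ ∘ₗ
        Fintype.linearCombination P' (fun k ↦ (⟨t ^ (j + 1) • m k, hgen k le_rfl⟩ : L (j + 1)))
    have hπv : ∀ j (c : Fin r → P'),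
        π j c = 0 ↔ ∑ k, c k • (t ^ (j + 1) • m k) ∈ L j := by
      intro j c
      simp only [π, LinearMap.comp_apply, Submodule.mkQ_apply, Submodule.Quotient.mk_eq_zero,
        Submodule.mem_comap, Submodule.subtype_apply, Fintype.linearCombination_apply,
        Submodule.coe_sum, Submodule.coe_smul]
    have hπ : ∀ j, Function.Surjective (π j) := by
      intro j q
      obtain ⟨⟨x, hx⟩, rfl⟩ := Submodule.Quotient.mk_surjective _ q
      induction hx using Submodule.span_induction with
      | mem y hy =>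
        obtain ⟨⟨i, k⟩, hi, rfl⟩ := hy
        obtain hi | hi := lt_or_eq_of_le (show i ≤ j + 1 from hi)
        · exact ⟨0, by rw [map_zero, eq_comm, Submodule.Quotient.mk_eq_zero]
                       exact hgen k (Nat.lt_succ_iff.mp hi)⟩
        · subst hi
          exact ⟨Pi.single k 1, by simp [π, Fintype.linearCombination_apply_single]⟩
      | zero => exact ⟨0, by rw [map_zero]; rfl⟩
      | add a b _ _ ha hb =>
        obtain ⟨c, hc⟩ := ha; obtain ⟨d, hd⟩ := hb
        exact ⟨c + d, by rw [map_add, hc, hd]; rfl⟩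
      | smul p a _ ha =>
        obtain ⟨c, hc⟩ := ha
        exact ⟨p • c, by rw [map_smul, hc]; rfl⟩
    let K : ℕ →o Submodule P' (Fin r → P') :=
      ⟨fun j ↦ LinearMap.ker (π j), monotone_nat_of_le_succ fun j c hc ↦ by
        rw [LinearMap.mem_ker, hπv] at hc ⊢
        have := htL hc
        rw [Finset.smul_sum] at this
        convert this using 2 with k
        rw [hι, hι, smul_comm t, smul_smul t, ← pow_succ' t]⟩
    obtain ⟨N, hN⟩ := exists_stable K
    have : Module.Finite P' (L 0) := Module.Finite.iff_fg.mpr <| Submodule.fg_span <| by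
      refine ((Set.finite_range fun k ↦ m k).subset ?_)
      rintro _ ⟨⟨i, k⟩, hi, rfl⟩
      obtain rfl : i = 0 := Nat.le_zero.mp hi
      exact ⟨k, by simp⟩
    obtain ⟨f₀, hf₀, h₀⟩ := ih (L 0)
    choose g hg hgfree using fun j ↦ ih ((Fin r → P') ⧸ K j)
    let f := f₀ * ∏ j ∈ Finset.range (N + 1), g j
    refine ⟨f, mul_ne_zero hf₀ (Finset.prod_ne_zero_iff.mpr fun j _ ↦ hg j), ?_⟩
    have hK : ∀ j, IsAwayFree f ((Fin r → P') ⧸ K j) := by
      intro j
      obtain hj | hj := le_total j N
      · exact (hgfree j).of_dvd (dvd_mul_of_dvd_right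
          (Finset.dvd_prod_of_mem g (Finset.mem_range.mpr (Nat.lt_succ_iff.mpr hj))) _)
      · exact ((hgfree N).of_dvd (dvd_mul_of_dvd_right
          (Finset.dvd_prod_of_mem g (Finset.mem_range.mpr N.lt_succ_self)) _)).of_le
          (K.monotone hj) (hN j hj)
    exact isAwayFree_of_filtration (fun j ↦ (L j).restrictScalars R) (fun i j h ↦ hLmono h) htop
      (h₀.of_dvd (dvd_mul_right _ _)) fun j ↦ IsAwayFree.of_step (L j) (L (j + 1)) (π j) (hπ j) (hK j)

end Groth.Agent.H7Flat
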