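import Mathlib

/-!
Finite presentation of modules: change of rings along finite and flat maps and localizations.
-/

set_option autoImplicit false
universe u
open TensorProduct

namespace Groth.Agent.H7Flat.DevissageFP

set_option backward.isDefEq.respectTransparency false

/-- A finite module over a finitely presented finite algebra is finitely presented over it iff over
the base. -/
theorem fp_restrictScalars_iff {D C G : Type u} [CommRing D] [CommRing C] [Algebra D C]
    [Module.FinitePresentation D C] [AddCommGroup G] [Module C G] [Module D G] [IsScalarTower D C G]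
    [Module.Finite C G] : Module.FinitePresentation C G ↔ Module.FinitePresentation D G := by
  refine ⟨fun _ => Module.FinitePresentation.trans D G C, fun _ => ?_⟩
  obtain ⟨n, f, hf⟩ := Module.Finite.exists_fin' C G
  haveI : Module.Finite D C := inferInstance
  refine Module.finitePresentation_of_surjective f hf ?_
  have h := Module.FinitePresentation.fg_ker (f.restrictScalars D) hf
  rw [LinearMap.ker_restrictScalars] at h
  exact Submodule.FG.of_restrictScalars D h

/-- Finite presentation of modules descends along faithfully flat maps. -/
theorem fp_of_faithfullyFlat {R T M : Type u} [CommRing R] [CommRing T] [Algebra R T]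
    [Module.FaithfullyFlat R T] [AddCommGroup M] [Module R M]
    [Module.FinitePresentation T (T ⊗[R] M)] : Module.FinitePresentation R M := by
  haveI : Module.Finite R M := Module.Finite.of_finite_tensorProduct_of_faithfullyFlat T
  obtain ⟨n, f, hf⟩ := Module.Finite.exists_fin' R M
  refine Module.finitePresentation_of_surjective f hf (Module.Finite.iff_fg.mp ?_)
  haveI : Module.Finite T (T ⊗[R] LinearMap.ker f) := by
    let F := AlgebraTensorModule.lTensor T T f
    let ι := AlgebraTensorModule.lTensor T T (LinearMap.ker f).subtype
    have hF : Function.Surjective F := LinearMap.lTensor_surjective T hf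
    have hι : Function.Injective ι :=
      Module.Flat.lTensor_preserves_injective_linearMap _ Subtype.val_injective
    have hr : LinearMap.range ι = LinearMap.ker F := by
      ext x
      exact ((lTensor_exact T (LinearMap.exact_subtype_ker_map f) hf) x).symm
    haveI : Module.Finite T (LinearMap.ker F) :=
      Module.Finite.iff_fg.mpr (Module.FinitePresentation.fg_ker F hF)
    exact Module.Finite.equiv ((LinearEquiv.ofInjective ι hι).trans (LinearEquiv.ofEq _ _ hr)).symm
  exact Module.Finite.of_finite_tensorProduct_of_faithfullyFlat T

/-- A localization upstairs is one downstairs when the monoids agree up to divisibility. -/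
theorem isLocalizedModule_comap {S C G X : Type u} [CommRing S] [CommRing C] [Algebra S C]
    [AddCommGroup G] [Module C G] [Module S G] [IsScalarTower S C G] [AddCommGroup X] [Module C X]
    [Module S X] [IsScalarTower S C X] (T : Submonoid S) (T' : Submonoid C)
    (h1 : ∀ t ∈ T, algebraMap S C t ∈ T') (h2 : ∀ c ∈ T', ∃ t ∈ T, c ∣ algebraMap S C t)
    (ι : G →ₗ[C] X) [IsLocalizedModule T' ι] : IsLocalizedModule T (ι.restrictScalars S) := by
  refine ⟨fun t => ?_, fun y => ?_, fun {x₁ x₂} h => ?_⟩
  · rw [Module.End.isUnit_iff]
    have hb := (Module.End.isUnit_iff _).mp (IsLocalizedModule.map_units ι ⟨_, h1 t t.2⟩)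
    convert hb using 1
    ext x
    simp [Module.algebraMap_end_apply]
  · obtain ⟨⟨g, c⟩, hgc⟩ := IsLocalizedModule.surj T' ι y
    obtain ⟨t, ht, d, hd⟩ := h2 c c.2
    refine ⟨⟨d • g, ⟨t, ht⟩⟩, ?_⟩
    show t • y = ι (d • g)
    rw [map_smul, ← show (c : C) • y = ι g from hgc, smul_smul, mul_comm, ← hd, algebraMap_smul]
  · obtain ⟨c, hc⟩ := IsLocalizedModule.exists_of_eq (S := T') (f := ι) h
    obtain ⟨t, ht, d, hd⟩ := h2 c c.2
    refine ⟨⟨t, ht⟩, ?_⟩
    show t • x₁ = t • x₂
    rw [← algebraMap_smul C t x₁, ← algebraMap_smul C t x₂, hd, mul_comm, mul_smul, mul_smul,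
      show (c : C) • x₁ = (c : C) • x₂ from hc]

/-- Finite presentation of a localized module computed upstairs or downstairs of a finite map. -/
theorem fp_localized_comap {S C : Type u} [CommRing S] [CommRing C] [Algebra S C]
    [Module.FinitePresentation S C] (G : Type u) [AddCommGroup G] [Module C G] [Module S G]
    [IsScalarTower S C G] [Module.Finite C G] (T : Submonoid S) (T' : Submonoid C)
    (h1 : ∀ t ∈ T, algebraMap S C t ∈ T') (h2 : ∀ c ∈ T', ∃ t ∈ T, c ∣ algebraMap S C t) :
    Module.FinitePresentation (Localization T) (LocalizedModule T G) ↔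
      Module.FinitePresentation (Localization T') (LocalizedModule T' G) := by
  let A := Localization T
  let A' := Localization T'
  let φ : A →+* A' := IsLocalization.map A' (algebraMap S C) (show T ≤ T'.comap _ from h1)
  algebraize [φ]
  have hφ : ∀ s, algebraMap A A' (algebraMap S A s) = algebraMap C A' (algebraMap S C s) := fun s => by
    rw [RingHom.algebraMap_toAlgebra]; exact IsLocalization.map_eq _ s
  haveI : IsScalarTower S A A' := .of_algebraMap_eq fun s => by
    rw [hφ, ← IsScalarTower.algebraMap_apply S C A']
  let G' := LocalizedModule T' G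
  letI : Module A G' := Module.compHom G' φ
  haveI : IsScalarTower A A' G' := .of_algebraMap_smul fun _ _ => rfl
  haveI : IsScalarTower S A G' := .of_algebraMap_smul fun s x => by
    show algebraMap A A' (algebraMap S A s) • x = s • x
    rw [hφ, algebraMap_smul, algebraMap_smul]
  haveI := isLocalizedModule_comap T T' h1 h2 (LocalizedModule.mkLinearMap T' G)
  haveI := isLocalizedModule_comap T T' h1 h2 (Algebra.linearMap C A')
  haveI : Module.FinitePresentation A A' :=
    Module.FinitePresentation.of_equiv (IsLocalizedModule.isBaseChange T A
      ((Algebra.linearMap C A').restrictScalars S)).equiv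
  haveI : Module.Finite A' G' :=
    Module.Finite.equiv (IsLocalizedModule.isBaseChange T' A' (LocalizedModule.mkLinearMap T' G)).equiv
  rw [fp_restrictScalars_iff (D := A) (C := A') (G := G')]
  have e := LinearEquiv.extendScalarsOfIsLocalization T A
    (IsLocalizedModule.iso T ((LocalizedModule.mkLinearMap T' G).restrictScalars S))
  exact ⟨fun _ => .of_equiv e, fun _ => .of_equiv e.symm⟩

/-- Localizations of a base change of modules. -/
theorem fp_localized_baseChange {S S' N N' : Type u} [CommRing S] [CommRing S'] [Algebra S S']
    [AddCommGroup N] [Module S N] [AddCommGroup N'] [Module S' N'] [Module S N']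
    [IsScalarTower S S' N'] {ψ : N →ₗ[S] N'} (hψ : IsBaseChange S' ψ) (T : Submonoid S)
    (T' : Submonoid S') (h1 : ∀ t ∈ T, algebraMap S S' t ∈ T') :
    (Module.FinitePresentation (Localization T) (LocalizedModule T N) →
      Module.FinitePresentation (Localization T') (LocalizedModule T' N')) ∧
    (Module.Flat S S' → (∀ q : Ideal S, q.IsPrime → Disjoint (T : Set S) q →
        ∃ Q : Ideal S', Q.IsPrime ∧ Disjoint (T' : Set S') Q ∧ Q.comap (algebraMap S S') = q) →
      Module.FinitePresentation (Localization T') (LocalizedModule T' N') →
      Module.FinitePresentation (Localization T) (LocalizedModule T N)) := by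
  let A := Localization T
  let A' := Localization T'
  let φ : A →+* A' := IsLocalization.map A' (algebraMap S S') (show T ≤ T'.comap _ from h1)
  algebraize [φ]
  have hφ : ∀ s, algebraMap A A' (algebraMap S A s) = algebraMap S' A' (algebraMap S S' s) := fun s => by
    rw [RingHom.algebraMap_toAlgebra]; exact IsLocalization.map_eq _ s
  haveI : IsScalarTower S A A' := .of_algebraMap_eq fun s => by
    rw [hφ, ← IsScalarTower.algebraMap_apply S S' A']
  let M := LocalizedModule T N
  let M' := LocalizedModule T' N'
  letI : Module A M' := Module.compHom M' φ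
  haveI : IsScalarTower A A' M' := .of_algebraMap_smul fun _ _ => rfl
  haveI : IsScalarTower S A M' := .of_algebraMap_smul fun s x => by
    show algebraMap A A' (algebraMap S A s) • x = s • x
    rw [hφ, algebraMap_smul, algebraMap_smul]
  haveI : IsScalarTower S A' M' := .of_algebraMap_smul fun s x => by
    rw [IsScalarTower.algebraMap_apply S S' A', algebraMap_smul, algebraMap_smul]
  let g := (LocalizedModule.mkLinearMap T' N').restrictScalars S ∘ₗ ψ
  have hg : IsBaseChange A' g :=
    hψ.comp (IsLocalizedModule.isBaseChange T' A' (LocalizedModule.mkLinearMap T' N'))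
  have hu : ∀ t : T, IsUnit (algebraMap S (Module.End S M') t) := fun t => by
    rw [Module.End.isUnit_iff]
    have hb := (Module.End.isUnit_iff _).mp
      (IsLocalizedModule.map_units (LocalizedModule.mkLinearMap T' N') ⟨_, h1 t t.2⟩)
    convert hb using 1
    ext x
    simp [Module.algebraMap_end_apply]
  let h : M →ₗ[S] M' := IsLocalizedModule.lift T (LocalizedModule.mkLinearMap T N) g hu
  have hA : IsBaseChange A' (h.extendScalarsOfIsLocalization T A) := by
    refine IsBaseChange.of_comp (IsLocalizedModule.isBaseChange T A (LocalizedModule.mkLinearMap T N)) ?_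
    convert hg using 1
    exact IsLocalizedModule.lift_comp T (LocalizedModule.mkLinearMap T N) g hu
  refine ⟨fun hfp => ?_, fun hflat hsur hfp => ?_⟩
  · haveI : Module.FinitePresentation A M := hfp
    exact Module.FinitePresentation.of_equiv hA.equiv
  · haveI : Module.FinitePresentation A' M' := hfp
    haveI : Module.Flat S A' := Module.Flat.trans S S' A'
    haveI : Module.Flat A A' := Algebra.FormallyUnramified.flat_of_restrictScalars S A A'
    haveI : Module.FaithfullyFlat A A' := Module.FaithfullyFlat.of_comap_surjective fun P => by
      obtain ⟨hp, hd⟩ := (IsLocalization.isPrime_iff_isPrime_disjoint T A P.asIdeal).mp P.isPrime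
      obtain ⟨Q, hQ, hQd, hQc⟩ := hsur _ hp hd
      refine ⟨⟨Q.map (algebraMap S' A'), IsLocalization.isPrime_of_isPrime_disjoint T' A' Q hQ hQd⟩,
        PrimeSpectrum.ext ?_⟩
      show (Q.map (algebraMap S' A')).comap (algebraMap A A') = P.asIdeal
      rw [← IsLocalization.map_comap T A P.asIdeal, ← IsLocalization.map_comap T A
        ((Q.map (algebraMap S' A')).comap (algebraMap A A'))]
      simp only [Ideal.under_def]
      rw [Ideal.comap_comap]
      congr 1
      rw [show (algebraMap A A').comp (algebraMap S A) = (algebraMap S' A').comp (algebraMap S S') from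
        RingHom.ext hφ, ← Ideal.comap_comap, show (Q.map (algebraMap S' A')).comap (algebraMap S' A') = Q from
        IsLocalization.comap_map_of_isPrime_disjoint T' A' hQ hQd, hQc]
    haveI : Module.FinitePresentation A' (A' ⊗[A] M) := Module.FinitePresentation.of_equiv hA.equiv.symm
    exact fp_of_faithfullyFlat (T := A')

end Groth.Agent.H7Flat.DevissageFP
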