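import Groth.Agent.H7Flat.FiberBasis
import Groth.Agent.H7Flat.DevissageLoc
import Groth.Agent.H7Flat.DevissageFP
import Groth.Agent.H7Flat.PureProjective
import Groth.Agent.H19Grp.AbSchemeRigid
import Groth.Agent.H1CAlg.LocalFree
import Groth.Agent.S1204

/-!
Splitting of the steps of a complete dévissage at a point where the module is flat.
-/

set_option autoImplicit false
universe u
open TensorProduct

namespace Groth.Agent.H7Flat.DevissageChain

set_option backward.isDefEq.respectTransparency false

/-- Smooth algebras with geometrically irreducible fibres have geometrically integral fibres. -/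
theorem geomIntegralFibres {R B : Type u} [CommRing R] [CommRing B] [Algebra R B] [Algebra.Smooth R B]
    (h : FlatCA.GeomIrredFibres R B) : FlatCA.GeomIntegralFibres R B := by
  open AlgebraicGeometry in
  haveI : Smooth (Spec.map (CommRingCat.ofHom (algebraMap R B))) :=
    (HasRingHomProperty.Spec_iff (P := @Smooth)).mpr
      (RingHom.smooth_algebraMap.mpr ‹Algebra.Smooth R B›)
  open AlgebraicGeometry in
  haveI : GeometricallyReduced (Spec.map (CommRingCat.ofHom (algebraMap R B))) :=
    H19Grp.geometricallyReduced_of_smooth_hom _
  open AlgebraicGeometry in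
  haveI : GeometricallyIrreducible (Spec.map (CommRingCat.ofHom (algebraMap R B))) := h
  exact AlgebraicGeometry.GeometricallyIntegral.of_geometricallyReduced_of_geometricallyIrreducible _

/-- Smooth algebras with geometrically irreducible fibres are projective modules. -/
theorem projective {R B : Type u} [CommRing R] [CommRing B] [Algebra R B] [Algebra.Smooth R B]
    (h : FlatCA.GeomIrredFibres R B) : Module.Projective R B :=
  PureProjective.projective_of_univPure (S := B) B (Groth.Agent.S1223.result (geomIntegralFibres h))

/-- Flatness at a point passes to the unique point below it for a finite map. -/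
theorem flatAt_comap {R D C : Type u} [CommRing R] [CommRing D] [CommRing C] [Algebra R D] [Algebra D C]
    [Algebra R C] [IsScalarTower R D C] (G : Type u) [AddCommGroup G] [Module C G] [Module D G]
    [IsScalarTower D C G] [Module R G] [IsScalarTower R C G] [IsScalarTower R D G] (z : Ideal C) [z.IsPrime]
    (y : Ideal D) [y.IsPrime] (hzy : z.comap (algebraMap D C) = y)
    (hdvd : ∀ c ∉ z, ∃ d ∉ y, c ∣ algebraMap D C d) :
    FlatCA.FlatAt R y G ↔ FlatCA.FlatAt R z G :=
  DevissageLoc.flat_localizedModule_comap G _ _ (fun t ht h => ht (hzy ▸ h))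
    fun c hc => hdvd c hc

/-- Flatness at a point only depends on the module up to isomorphism. -/
theorem flatAt_congr {R S M M' : Type u} [CommRing R] [CommRing S] [Algebra R S] [AddCommGroup M]
    [Module S M] [Module R M] [IsScalarTower R S M] [AddCommGroup M'] [Module S M'] [Module R M']
    [IsScalarTower R S M'] (q : Ideal S) [q.IsPrime] (e : M ≃ₗ[S] M') (h : FlatCA.FlatAt R q M) :
    FlatCA.FlatAt R q M' := by
  haveI := IsLocalizedModule.of_linearEquiv_right q.primeCompl
    (LocalizedModule.mkLinearMap q.primeCompl M) e.symm
  haveI : Module.Flat R (LocalizedModule q.primeCompl M) := h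
  exact Module.Flat.of_linearEquiv ((IsLocalizedModule.iso q.primeCompl
    (LocalizedModule.mkLinearMap q.primeCompl M ∘ₗ e.symm.toLinearMap)).restrictScalars R)

/-- A module over a finite algebra which is finitely presented over the base is finitely presented. -/
theorem fp_of_restrictScalars {D C G : Type u} [CommRing D] [CommRing C] [Algebra D C] [Module.Finite D C]
    [AddCommGroup G] [Module C G] [Module D G] [IsScalarTower D C G] [Module.Finite C G]
    [Module.FinitePresentation D G] : Module.FinitePresentation C G := by
  obtain ⟨n, f, hf⟩ := Module.Finite.exists_fin' C G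
  refine Module.finitePresentation_of_surjective f hf ?_
  have h := Module.FinitePresentation.fg_ker (f.restrictScalars D) hf
  rw [LinearMap.ker_restrictScalars] at h
  exact Submodule.FG.of_restrictScalars D h

/-- A chain of extensions by projective modules splits. -/
theorem nonempty_equiv {R : Type u} [CommRing R] : ∀ (n : ℕ) (M F : ℕ → Type u)
    [∀ i, AddCommGroup (M i)] [∀ i, Module R (M i)] [∀ i, AddCommGroup (F i)] [∀ i, Module R (F i)],
    (∀ i, i + 1 < n + 1 → Nonempty (M i ≃ₗ[R] F i × M (i + 1))) → Nonempty (M n ≃ₗ[R] F n) →
      Nonempty (M 0 ≃ₗ[R] ∀ i : Fin (n + 1), F i) := by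
  intro n
  induction n with
  | zero =>
    intro M F _ _ _ _ _ hlast
    exact ⟨hlast.some ≪≫ₗ (LinearEquiv.piUnique R (fun i : Fin 1 => F i)).symm⟩
  | succ n ih =>
    intro M F _ _ _ _ hstep hlast
    obtain ⟨e⟩ := ih (fun i => M (i + 1)) (fun i => F (i + 1))
      (fun i hi => hstep (i + 1) (by omega)) hlast
    obtain ⟨e₀⟩ := hstep 0 (by omega)
    exact ⟨e₀ ≪≫ₗ (LinearEquiv.refl R (F 0)).prodCongr e ≪≫ₗ
      Fin.consLinearEquiv R (fun i : Fin (n + 2) => F i)⟩

end Groth.Agent.H7Flat.DevissageChain
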