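import Groth.Agent.H7Flat.ImpurityBaseChange

/-!
Impurities of a base change are impurities of the original module, and conversely.
-/

set_option autoImplicit false
universe u

namespace Groth.Agent.H7Flat.ImpurityRebase

open TensorProduct FlatMor

set_option backward.isDefEq.respectTransparency false
set_option maxHeartbeats 1000000
set_option synthInstance.maxHeartbeats 400000

variable {A B : Type u} [CommRing A] [CommRing B] [Algebra A B] {N : Type u} [AddCommGroup N]
  [Module B N] {p : Ideal A} [p.IsPrime]
  {A' B' N' : Type u} [CommRing A'] [CommRing B'] [Algebra A A'] [Algebra B B'] [Algebra A' B']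
  [Algebra A B'] [IsScalarTower A B B'] [IsScalarTower A A' B'] [Algebra.IsPushout A B A' B']
  [AddCommGroup N'] [Module B' N'] [Module B N'] [IsScalarTower B B' N'] {f : N →ₗ[B] N'}

omit [p.IsPrime] in
/-- An impurity of a base change is an impurity of the original module. -/
theorem hasImpurity_restrict (hf : IsBaseChange B' f) (p' : Ideal A') [p'.IsPrime] [p'.LiesOver p]
    (Q' : ∀ (A'' : Type u) [CommRing A''] [Algebra A' A''], Ideal A'' → Prop)
    (Q : ∀ (A'' : Type u) [CommRing A''] [Algebra A A''], Ideal A'' → Prop)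
    (hQ : ∀ (A'' : Type u) [CommRing A''] [Algebra A' A''] [Algebra A A''] [IsScalarTower A A' A'']
      (t : Ideal A''), t.IsPrime → t.LiesOver p' → Q' A'' t → Q A'' t)
    (h : FlatCA.HasImpurity A' B' N' p' Q') : FlatCA.HasImpurity A B N p Q := by
  obtain ⟨A'', B'', N'', _, _, _, _, _, _, _, _, _, _, _, _, _, _, g, t', t, _, _, P, _, himp, hQ'⟩ := h
  obtain ⟨hpush, hbc, htt, htp, hPt', hass, hnone⟩ := himp
  have := htp
  let : Algebra A A'' := ((algebraMap A' A'').comp (algebraMap A A')).toAlgebra
  have : IsScalarTower A A' A'' := IsScalarTower.of_algebraMap_eq fun _ => rfl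
  let : Algebra A B'' := ((algebraMap A'' B'').comp (algebraMap A A'')).toAlgebra
  let : Algebra B B'' := ((algebraMap B' B'').comp (algebraMap B B')).toAlgebra
  have : IsScalarTower B B' B'' := IsScalarTower.of_algebraMap_eq fun _ => rfl
  have : IsScalarTower A A'' B'' := IsScalarTower.of_algebraMap_eq fun _ => rfl
  have hAA'B'' : IsScalarTower A A' B'' := IsScalarTower.of_algebraMap_eq fun a => by
    change algebraMap A'' B'' (algebraMap A' A'' (algebraMap A A' a)) = _
    rw [← IsScalarTower.algebraMap_apply A' A'' B'']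
  have hAB'B'' : IsScalarTower A B' B'' := IsScalarTower.of_algebraMap_eq fun a => by
    rw [IsScalarTower.algebraMap_apply A A' B'', IsScalarTower.algebraMap_apply A A' B',
      IsScalarTower.algebraMap_apply A' B' B'']
  have : IsScalarTower A B B'' := IsScalarTower.of_algebraMap_eq fun a => by
    change _ = algebraMap B' B'' (algebraMap B B' (algebraMap A B a))
    rw [← IsScalarTower.algebraMap_apply A B B', ← IsScalarTower.algebraMap_apply A B' B'']
  have hpo : Algebra.IsPushout A B A'' B'' := by
    have h1 : Algebra.IsPushout A A' B B' := Algebra.IsPushout.symm inferInstance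
    exact ((Algebra.IsPushout.comp_iff A A' B B' (T := A'') (T' := B'')).mpr hpush.symm).symm
  let : Module B N'' := Module.compHom N'' (algebraMap B B')
  have : IsScalarTower B B' N'' := IsScalarTower.of_algebraMap_smul fun _ _ => rfl
  have : IsScalarTower B B'' N'' := IsScalarTower.of_algebraMap_smul fun b n => by
    change algebraMap B' B'' (algebraMap B B' b) • n = algebraMap B B' b • n
    rw [algebraMap_smul]
  have hbc' : IsBaseChange B'' ((g.restrictScalars B).comp f) := IsBaseChange.comp hf hbc
  exact ⟨A'', B'', N'', inferInstance, inferInstance, inferInstance, inferInstance, inferInstance,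
    inferInstance, inferInstance, inferInstance, inferInstance, inferInstance, inferInstance,
    inferInstance, inferInstance, inferInstance, (g.restrictScalars B).comp f, t', t, inferInstance,
    inferInstance, P, inferInstance,
    ⟨hpo, hbc', htt, Ideal.LiesOver.trans t p' p, hPt', hass, hnone⟩,
    hQ A'' t inferInstance htp hQ'⟩

omit [p.IsPrime] in
/-- An impurity over an algebra over `A'` is an impurity of the base change. -/
theorem hasImpurity_extend (hf : IsBaseChange B' f) (p' : Ideal A') [p'.IsPrime]
    (Q : ∀ (A'' : Type u) [CommRing A''] [Algebra A' A''], Ideal A'' → Prop)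
    (h : FlatCA.HasImpurity A B N p (fun A'' _ _ t => ∃ ψ : A' →ₐ[A] A'',
      t.comap ψ.toRingHom = p' ∧ @Q A'' _ ψ.toRingHom.toAlgebra t)) :
    FlatCA.HasImpurity A' B' N' p' Q := by
  obtain ⟨A₂, B₂, N₂, _, _, _, _, _, _, _, _, _, _, _, _, _, _, g, t', t, _, _, P, _, himp, ψ, hψt,
    hQ⟩ := h
  obtain ⟨hpush, hbc, htt, htp, hPt', hass, hnone⟩ := himp
  let : Algebra A' A₂ := ψ.toRingHom.toAlgebra
  have : IsScalarTower A A' A₂ := IsScalarTower.of_algebraMap_eq fun a => (ψ.commutes a).symm
  let gA : A' →ₐ[A] B₂ := (IsScalarTower.toAlgHom A A₂ B₂).comp ψ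
  let gB : B →ₐ[A] B₂ := IsScalarTower.toAlgHom A B B₂
  let φ : B' →ₐ[A] B₂ := Algebra.pushoutDesc B' gB gA fun _ _ => mul_comm _ _
  let : Algebra B' B₂ := φ.toRingHom.toAlgebra
  let : Algebra A' B₂ := gA.toRingHom.toAlgebra
  have hφA : ∀ x, φ (algebraMap A' B' x) = gA x := fun x => Algebra.pushoutDesc_right B' gB gA _ x
  have hφB : ∀ b, φ (algebraMap B B' b) = gB b := fun b => Algebra.pushoutDesc_left B' gB gA _ b
  have : IsScalarTower A' A₂ B₂ := IsScalarTower.of_algebraMap_eq fun _ => rfl
  have : IsScalarTower A' B' B₂ := IsScalarTower.of_algebraMap_eq fun x => (hφA x).symm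
  have : IsScalarTower B B' B₂ := IsScalarTower.of_algebraMap_eq fun b => (hφB b).symm
  have : IsScalarTower A A' B₂ := IsScalarTower.of_algebraMap_eq fun x => (gA.commutes x).symm
  have : IsScalarTower A B' B₂ := IsScalarTower.of_algebraMap_eq fun x => (φ.commutes x).symm
  have hpo : Algebra.IsPushout A' B' A₂ B₂ := by
    have h1 : Algebra.IsPushout A A' B B' := Algebra.IsPushout.symm inferInstance
    exact ((Algebra.IsPushout.comp_iff A A' B B' (T := A₂) (T' := B₂)).mp hpush.symm).symm
  let : Module B' N₂ := Module.compHom N₂ (algebraMap B' B₂)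
  have : IsScalarTower B' B₂ N₂ := IsScalarTower.of_algebraMap_smul fun _ _ => rfl
  have : IsScalarTower B B' N₂ := IsScalarTower.of_algebraMap_smul fun b n => by
    change algebraMap B' B₂ (algebraMap B B' b) • n = b • n
    rw [← IsScalarTower.algebraMap_apply, algebraMap_smul]
  let γ : N' →ₗ[B'] N₂ := hf.lift g
  have hγ : IsBaseChange B₂ γ := by
    refine IsBaseChange.of_comp hf ?_
    rw [show γ.restrictScalars B ∘ₗ f = g from hf.lift_comp g]
    exact hbc
  exact ⟨A₂, B₂, N₂, inferInstance, inferInstance, inferInstance, inferInstance, inferInstance,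
    inferInstance, inferInstance, inferInstance, inferInstance, inferInstance, inferInstance,
    inferInstance, inferInstance, inferInstance, γ, t', t, inferInstance, inferInstance, P,
    inferInstance, ⟨hpo, hγ, htt, ⟨hψt.symm⟩, hPt', hass, hnone⟩, hQ⟩

end Groth.Agent.H7Flat.ImpurityRebase

namespace Groth.Agent.H7Flat.ImpurityRebase

open TensorProduct FlatMor

set_option backward.isDefEq.respectTransparency false

/-- The tensor product of nontrivial algebras over a field is nontrivial. -/
theorem nontrivial_tensor (k K L : Type u) [Field k] [CommRing K] [Algebra k K] [Nontrivial K]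
    [CommRing L] [Algebra k L] [Nontrivial L] : Nontrivial (K ⊗[k] L) :=
  Algebra.TensorProduct.nontrivial_of_algebraMap_injective_of_flat_left k K L
    (algebraMap k L).injective

set_option maxHeartbeats 1000000 in
set_option synthInstance.maxHeartbeats 400000 in
/-- Two primes over the same prime come from a prime of the tensor product. -/
theorem exists_prime_over_pair {R S T : Type u} [CommRing R] [CommRing S] [CommRing T]
    [Algebra R S] [Algebra R T] (p : Ideal R) [p.IsPrime] (q₁ : Ideal S) [q₁.IsPrime]
    [q₁.LiesOver p] (q₂ : Ideal T) [q₂.IsPrime] [q₂.LiesOver p] :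
    ∃ Q : Ideal (S ⊗[R] T), Q.IsPrime ∧
      Q.comap (Algebra.TensorProduct.includeLeft : S →ₐ[R] S ⊗[R] T).toRingHom = q₁ ∧
      Q.comap (Algebra.TensorProduct.includeRight : T →ₐ[R] S ⊗[R] T).toRingHom = q₂ := by
  let ν₁ : p.ResidueField →ₐ[R] q₁.ResidueField :=
    Ideal.ResidueField.mapₐ p q₁ (Algebra.ofId R S) (q₁.over_def p)
  let ν₂ : p.ResidueField →ₐ[R] q₂.ResidueField :=
    Ideal.ResidueField.mapₐ p q₂ (Algebra.ofId R T) (q₂.over_def p)
  let : Algebra p.ResidueField q₁.ResidueField := ν₁.toRingHom.toAlgebra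
  let : Algebra p.ResidueField q₂.ResidueField := ν₂.toRingHom.toAlgebra
  have : IsScalarTower R p.ResidueField q₁.ResidueField :=
    IsScalarTower.of_algebraMap_eq fun r => (ν₁.commutes r).symm
  have : IsScalarTower R p.ResidueField q₂.ResidueField :=
    IsScalarTower.of_algebraMap_eq fun r => (ν₂.commutes r).symm
  have : Nontrivial (q₁.ResidueField ⊗[p.ResidueField] q₂.ResidueField) :=
    nontrivial_tensor p.ResidueField q₁.ResidueField q₂.ResidueField
  obtain ⟨m, hm⟩ := Ideal.exists_maximal (q₁.ResidueField ⊗[p.ResidueField] q₂.ResidueField)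
  let i₁ : q₁.ResidueField →ₐ[R] q₁.ResidueField ⊗[p.ResidueField] q₂.ResidueField :=
    (Algebra.TensorProduct.includeLeft (R := p.ResidueField) (S := p.ResidueField)
      (A := q₁.ResidueField) (B := q₂.ResidueField)).restrictScalars R
  let i₂ : q₂.ResidueField →ₐ[R] q₁.ResidueField ⊗[p.ResidueField] q₂.ResidueField :=
    (Algebra.TensorProduct.includeRight (R := p.ResidueField)
      (A := q₁.ResidueField) (B := q₂.ResidueField)).restrictScalars R
  let φ : S ⊗[R] T →ₐ[R] q₁.ResidueField ⊗[p.ResidueField] q₂.ResidueField :=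
    Algebra.TensorProduct.lift (i₁.comp (IsScalarTower.toAlgHom R S q₁.ResidueField))
      (i₂.comp (IsScalarTower.toAlgHom R T q₂.ResidueField)) fun _ _ => mul_comm _ _
  have hfield : ∀ {K : Type u} [Field K] (h : K →+* q₁.ResidueField ⊗[p.ResidueField] q₂.ResidueField)
      (k : K), h k ∈ m ↔ k = 0 := fun h k => by
    refine ⟨fun hk => ?_, fun hk => by simp [hk]⟩
    by_contra hk0
    exact hm.ne_top (Ideal.eq_top_of_isUnit_mem _ hk ((IsUnit.mk0 k hk0).map h))
  refine ⟨m.comap φ.toRingHom, Ideal.comap_isPrime _ _, ?_, ?_⟩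
  · ext s
    change φ (s ⊗ₜ[R] 1) ∈ m ↔ _
    rw [show φ (s ⊗ₜ[R] 1) = i₁ (algebraMap S q₁.ResidueField s) by simp [φ]]
    exact (hfield i₁.toRingHom _).trans Ideal.algebraMap_residueField_eq_zero
  · ext s
    change φ (1 ⊗ₜ[R] s) ∈ m ↔ _
    rw [show φ (1 ⊗ₜ[R] s) = i₂ (algebraMap T q₂.ResidueField s) by simp [φ]]
    exact (hfield i₂.toRingHom _).trans Ideal.algebraMap_residueField_eq_zero

end Groth.Agent.H7Flat.ImpurityRebase
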