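import Groth.Agent.H7Flat.ImpurityBaseChange
import Groth.Agent.H7Flat.UnivInjCover
import Groth.Agent.H02CA.FibreAss
import Groth.Agent.S1212

/-!
Projective modules over finite type algebras are universally pure.
-/

set_option autoImplicit false
universe u

namespace Groth.Agent.H7Flat.ProjectivePure

open TensorProduct FlatMor IsLocalRing

attribute [local instance] Algebra.TensorProduct.rightAlgebra

set_option backward.isDefEq.respectTransparency false
set_option maxHeartbeats 1000000
set_option synthInstance.maxHeartbeats 400000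

/-- The fibre module is the tensor product with the residue field. -/
noncomputable def fiberEquiv {R S : Type u} [CommRing R] [CommRing S] [Algebra R S] (p : Ideal R)
    [p.IsPrime] (N : Type u) [AddCommGroup N] [Module S N] [Module R N] [IsScalarTower R S N] :
    FlatCA.fiberMod p S N ≃ₗ[S] N ⊗[R] p.ResidueField :=
  let w : p.Fiber S ≃ₗ[S] S ⊗[R] p.ResidueField :=
    { __ := (TensorProduct.comm R p.ResidueField S)
      map_smul' := fun s x => by
        induction x using TensorProduct.induction_on with
        | zero => simp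
        | tmul k a =>
          change TensorProduct.comm R p.ResidueField S (s • (k ⊗ₜ[R] a : p.ResidueField ⊗[R] S)) = _
          rw [Algebra.smul_def]
          change TensorProduct.comm R p.ResidueField S ((1 ⊗ₜ[R] s) * (k ⊗ₜ[R] a)) = _
          rw [Algebra.TensorProduct.tmul_mul_tmul, one_mul]
          rfl
        | add x y hx hy =>
          simp only [AddHom.toFun_eq_coe, RingHom.id_apply] at hx hy ⊢
          simp only [smul_add, map_add, hx, hy] }
  (TensorProduct.comm S (p.Fiber S) N).trans
    ((LinearEquiv.lTensor N w).trans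
      (AlgebraTensorModule.cancelBaseChange R S S N p.ResidueField))

/-- A projective module over a finite type algebra has no impurities. -/
theorem isUnivPureAlong_of_projective {A B : Type u} [CommRing A] [CommRing B] [Algebra A B]
    [Algebra.FiniteType A B] (N : Type u) [AddCommGroup N] [Module B N] [Module A N]
    [IsScalarTower A B N] [Module.Finite B N] [Module.Projective A N] (p : Ideal A) [p.IsPrime] :
    FlatCA.IsUnivPureAlong A B N p := by
  intro A₁ B₁ N₁ _ _ _ _ _ _ _ _ _ _ _ _ _ _ f₁ s' s _ _ P₁ _ himp₁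
  let L := Localization.AtPrime s
  obtain ⟨t₀, ht₀, ht₀c⟩ : ∃ t₀ : Ideal L, t₀.IsPrime ∧ t₀.comap (algebraMap A₁ L) = s' :=
    ⟨s'.map (algebraMap A₁ L), IsLocalization.isPrime_of_isPrime_disjoint s.primeCompl L s'
      inferInstance (Set.disjoint_left.mpr fun a ha ha' => ha (himp₁.2.2.1 ha')),
      IsLocalization.under_map_of_isPrime_disjoint s.primeCompl L inferInstance
        (Set.disjoint_left.mpr fun a ha ha' => ha (himp₁.2.2.1 ha'))⟩
  have : t₀.LiesOver s' := ⟨ht₀c.symm⟩
  have : (maximalIdeal L).LiesOver s := ⟨(IsLocalization.AtPrime.under_maximalIdeal L s).symm⟩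
  obtain ⟨A', B', N', _, _, _, _, _, _, _, _, _, _, _, _, _, _, f, t', t, _, _, P, _, himp, hloc⟩ :=
    ImpurityBaseChange.hasImpurity_baseChange himp₁ L t₀ (maximalIdeal L)
      (IsLocalRing.le_maximalIdeal ht₀.ne_top)
      (fun A'' _ _ t => t ≠ ⊤ ∧ ∀ x ∉ t, IsUnit x)
      ⟨(IsLocalRing.maximalIdeal.isMaximal L).ne_top, fun _ h => IsLocalRing.notMem_maximalIdeal.mp h⟩
  have : Nontrivial A' :=
    ⟨0, 1, fun h => hloc.1 ((Ideal.eq_top_iff_one t).mpr (h ▸ zero_mem t))⟩
  have : IsLocalRing A' := IsLocalRing.of_nonunits_add (fun a b ha hb => by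
    have h1 : a ∈ t := by
      by_contra h
      exact ha (hloc.2 a h)
    have h2 : b ∈ t := by
      by_contra h
      exact hb (hloc.2 b h)
    exact fun hu => hloc.1 (Ideal.eq_top_of_isUnit_mem _ (add_mem h1 h2) hu))
  have ht : t = maximalIdeal A' := le_antisymm (IsLocalRing.le_maximalIdeal hloc.1) fun x hx => by
    by_contra h
    exact hx (hloc.2 x h)
  obtain ⟨hpush, hbc, -, -, hPt', hass, hnone⟩ := himp
  have := hPt'
  have := hpush
  have : Algebra.FiniteType A' B' := by
    have : Algebra.IsPushout A A' B B' := Algebra.IsPushout.symm hpush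
    exact Algebra.FiniteType.equiv (inferInstanceAs (Algebra.FiniteType A' (A' ⊗[A] B)))
      (Algebra.IsPushout.equiv A A' B B')
  have : Module.Finite B' N' :=
    Module.Finite.equiv (hbc.equiv (R := B) (M := N))
  let : Module A N' := Module.compHom N' (algebraMap A A')
  have : IsScalarTower A A' N' := IsScalarTower.of_algebraMap_smul fun _ _ => rfl
  have : IsScalarTower A B N' := IsScalarTower.of_algebraMap_smul fun a x => by
    change algebraMap A B a • x = algebraMap A A' a • x
    rw [← algebraMap_smul B' (algebraMap A B a) x, ← algebraMap_smul B' (algebraMap A A' a) x,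
      ← IsScalarTower.algebraMap_apply, ← IsScalarTower.algebraMap_apply]
  have hproj : Module.Projective A' N' :=
    Module.Projective.of_equiv
      (Groth.Agent.H8Props.FlatAtBC.isBaseChange_restrictScalars (R := A) (R' := A') f hbc).equiv
  have : IsNoetherianRing ((maximalIdeal A').Fiber B') :=
    Algebra.FiniteType.isNoetherianRing (maximalIdeal A').ResidueField _
  have : Module.Finite ((maximalIdeal A').Fiber B') (FlatCA.fiberMod (maximalIdeal A') B' N') :=
    inferInstanceAs (Module.Finite ((maximalIdeal A').Fiber B') (((maximalIdeal A').Fiber B') ⊗[B'] N'))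
  have hq : P ∈ FlatCA.ass B' (FlatCA.fiberMod t' B' N') := by
    refine (Groth.Agent.H02CA.FibreAss.ass_fiber_iff t' P).mpr
      ⟨_, ⟨hass.isPrime, ?_⟩, ImpurityDescend.comap_fiberIdeal t' P⟩
    have : IsNoetherianRing (t'.Fiber B') := Algebra.FiniteType.isNoetherianRing t'.ResidueField _
    obtain ⟨-, y, hy⟩ := isAssociatedPrime_iff.mp hass
    refine ⟨y, hy.trans ?_⟩
    ext a
    rw [Submodule.mem_colon_singleton, Submodule.mem_annihilator_span_singleton, Submodule.mem_bot]
  have hq' : P ∈ FlatCA.ass B' (N' ⊗[A'] t'.ResidueField) := by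
    obtain ⟨hP, m, hm⟩ := hq
    refine ⟨hP, fiberEquiv t' N' m, hm.trans ?_⟩
    ext a
    rw [Submodule.mem_annihilator_span_singleton, Submodule.mem_annihilator_span_singleton,
      ← map_smul, LinearEquiv.map_eq_zero_iff]
  have hne := Groth.Agent.S1212.result N' t' P hq'
  obtain ⟨M, hM, hle⟩ := Ideal.exists_le_maximal _ hne
  refine hnone M (le_sup_left.trans hle) ⟨?_⟩
  rw [ht]
  exact (IsLocalRing.maximalIdeal.isMaximal A').eq_of_le (Ideal.comap_ne_top _ hM.ne_top)
    (Ideal.map_le_iff_le_comap.mp (le_sup_right.trans hle))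

end Groth.Agent.H7Flat.ProjectivePure
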