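import Groth.Agent.H8Props.Devissage.LocalFibre
import Groth.Agent.H8Props.Devissage.BaseChange
import Groth.Agent.H8Props.Devissage.Pieces
import Groth.Agent.H3CAlg.FibreDimDVR
import Groth.Prelude.Def_FlatCA

/-!
Dimensions of supports of fibre modules along integral maps and for smooth algebras with irreducible
fibres.
-/

set_option autoImplicit false
universe u
open TensorProduct

namespace Groth.Agent.H7Flat.FibreSuppDim

open Groth.Agent.H8Props.Devissage

attribute [local instance] Algebra.TensorProduct.rightAlgebra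

set_option backward.isDefEq.respectTransparency false

section Order

variable {R S : Type u} [CommRing R] [CommRing S] [Algebra R S] (p : Ideal R) [p.IsPrime]
  (N : Type u) [AddCommGroup N] [Module S N] [Module.Finite S N]

/-- The dimension of the support of the fibre module as a chain dimension of primes. -/
theorem supportDim_eq_krullDim :
    Module.supportDim (p.Fiber S) (FlatCA.fiberMod p S N) = Order.krullDim (fibreSupp (S := S) p N) := by
  refine Order.krullDim_eq_of_orderIso
    { toEquiv := (supportHomeomorph (S := S) p N).toEquiv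
      map_rel_iff' := fun {P Q} => ⟨fun h => ?_, fun h => Ideal.comap_mono h⟩ }
  have h' := (PrimeSpectrum.preimageOrderIsoFiber R S ⟨p, inferInstance⟩).monotone
    (show (⟨_, ((supportHomeomorph (S := S) p N) P).2.1⟩ :
        ↥(PrimeSpectrum.comap (algebraMap R S) ⁻¹' {⟨p, inferInstance⟩})) ≤
      ⟨_, ((supportHomeomorph (S := S) p N) Q).2.1⟩ from h)
  have hP := (supportHomeomorph (S := S) p N).symm_apply_apply P
  have hQ := (supportHomeomorph (S := S) p N).symm_apply_apply Q
  rw [← hP, ← hQ]
  exact h'

end Order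

/-- Integral maps preserve the chain dimension of the support in a fibre. -/
theorem krullDim_fibreSupp_of_isIntegral {R D C G : Type u} [CommRing R] [CommRing D] [CommRing C]
    [Algebra R D] [Algebra D C] [Algebra R C] [IsScalarTower R D C] [Algebra.IsIntegral D C]
    [AddCommGroup G] [Module C G] [Module D G] [IsScalarTower D C G] [Module.Finite C G]
    [Module.Finite D G] (p : Ideal R) [p.IsPrime] :
    Order.krullDim (fibreSupp (S := C) p G) = Order.krullDim (fibreSupp (S := D) p G) := by
  have hann : (Module.annihilator C G).comap (algebraMap D C) = Module.annihilator D G := by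
    ext d
    simp only [Ideal.mem_comap, Module.mem_annihilator, algebraMap_smul]
  have hmemC : ∀ z : PrimeSpectrum C, z ∈ Module.support C G ↔ Module.annihilator C G ≤ z.asIdeal :=
    fun z => by rw [Module.support_eq_zeroLocus]; exact PrimeSpectrum.mem_zeroLocus _ _
  have hmemD : ∀ x : PrimeSpectrum D, x ∈ Module.support D G ↔ Module.annihilator D G ≤ x.asIdeal :=
    fun z => by rw [Module.support_eq_zeroLocus]; exact PrimeSpectrum.mem_zeroLocus _ _
  have hmap : ∀ z ∈ fibreSupp (S := C) p G, PrimeSpectrum.comap (algebraMap D C) z ∈ fibreSupp (S := D) p G :=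
    fun z hz => ⟨by rw [← hz.1, IsScalarTower.algebraMap_eq R D C, PrimeSpectrum.comap_comp]; rfl,
      (hmemD _).mpr (hann ▸ Ideal.comap_mono ((hmemC z).mp hz.2))⟩
  have hback : ∀ z : PrimeSpectrum C, Module.annihilator C G ≤ z.asIdeal →
      PrimeSpectrum.comap (algebraMap D C) z ∈ fibreSupp (S := D) p G → z ∈ fibreSupp (S := C) p G :=
    fun z hz h => ⟨by rw [← h.1, IsScalarTower.algebraMap_eq R D C, PrimeSpectrum.comap_comp]; rfl,
      (hmemC z).mpr hz⟩
  refine le_antisymm (Order.krullDim_le_of_strictMono (fun z => ⟨_, hmap z.1 z.2⟩) fun z z' h => ?_)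
    (iSup_le fun l => ?_)
  · exact Ideal.IsIntegral.comap_lt_comap (R := D) (I := z.1.asIdeal) (J := z'.1.asIdeal) h
  · suffices ∀ (k : ℕ) (l : LTSeries (fibreSupp (S := D) p G)), l.length = k →
        ∃ l' : LTSeries (fibreSupp (S := C) p G), l'.length = k ∧
          PrimeSpectrum.comap (algebraMap D C) l'.last.1 = l.last.1 by
      obtain ⟨l', hl', -⟩ := this l.length l rfl
      exact hl' ▸ Order.LTSeries.length_le_krullDim l'
    intro k
    induction k with
    | zero =>
      intro l hl
      obtain ⟨z, hz, hzp, hzx⟩ := Ideal.exists_ideal_over_prime_of_isIntegral l.last.1.asIdeal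
        (Module.annihilator C G) (hann ▸ (hmemD _).mp l.last.2.2)
      have hzx' : PrimeSpectrum.comap (algebraMap D C) ⟨z, hzp⟩ = l.last.1 := PrimeSpectrum.ext hzx
      exact ⟨RelSeries.singleton _ ⟨⟨z, hzp⟩, hback _ hz (hzx'.symm ▸ l.last.2)⟩, rfl, hzx'⟩
    | succ k ih =>
      intro l hl
      obtain ⟨l', hl', hlast⟩ := ih l.eraseLast (by simp [hl])
      have hlt : (l.eraseLast.last : fibreSupp (S := D) p G) < l.last :=
        l.eraseLast_last_rel_last (by omega)
      have hle : (l'.last.1.asIdeal).comap (algebraMap D C) ≤ l.last.1.asIdeal := by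
        rw [show l'.last.1.asIdeal.comap (algebraMap D C) = l.eraseLast.last.1.asIdeal from
          congrArg PrimeSpectrum.asIdeal hlast]
        exact hlt.le
      obtain ⟨z, hz, hzp, hzx⟩ := Ideal.exists_ideal_over_prime_of_isIntegral l.last.1.asIdeal
        l'.last.1.asIdeal hle
      have hzx' : PrimeSpectrum.comap (algebraMap D C) ⟨z, hzp⟩ = l.last.1 := PrimeSpectrum.ext hzx
      have hzmem : (⟨z, hzp⟩ : PrimeSpectrum C) ∈ fibreSupp (S := C) p G :=
        hback _ (((hmemC _).mp l'.last.2.2).trans hz) (hzx'.symm ▸ l.last.2)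
      refine ⟨l'.snoc ⟨_, hzmem⟩ (lt_of_le_of_ne hz fun he => ?_), by simp [hl'], by simpa using hzx'⟩
      refine hlt.ne (Subtype.ext ?_)
      rw [← hlast, ← hzx', show l'.last.1 = (⟨z, hzp⟩ : PrimeSpectrum C) from PrimeSpectrum.ext he]

/-- The fibres of an algebra smooth of relative dimension `n` have dimension at most `n`. -/
theorem krullDim_fiber_le {R D : Type u} [CommRing R] [CommRing D] [Algebra R D] (n : ℕ)
    (h : FlatCA.SmoothRelDim n R D) (p : Ideal R) [p.IsPrime] :
    ringKrullDim (p.Fiber D) ≤ n :=
  H3CAlg.FibreDimDVR.ringKrullDim_le_of_smooth p.ResidueField (p.Fiber D) n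
    (smoothRelDim_baseChange R p.ResidueField D (p.Fiber D) n h)

/-- A closed subset of an irreducible fibre missing the generic point has smaller dimension. -/
theorem supportDim_fiber_lt {R D X : Type u} [CommRing R] [CommRing D] [Algebra R D]
    [AddCommGroup X] [Module D X] [Module.Finite D X] (n : ℕ) (hsm : FlatCA.SmoothRelDim n R D)
    (p : Ideal R) [p.IsPrime] (P : Ideal D) [P.IsPrime] [P.LiesOver p]
    (hP : P = p.map (algebraMap R D)) (hX : (⟨P, inferInstance⟩ : PrimeSpectrum D) ∉ Module.support D X) :
    Module.supportDim (p.Fiber D) (FlatCA.fiberMod p D X) < (n : WithBot ℕ∞) := by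
  rw [supportDim_eq_krullDim]
  let W := fibreSupp (S := D) p X
  have hchain : ∀ l : LTSeries W, (l.length : WithBot ℕ∞) + 1 ≤ n := fun l => by
    refine le_trans ?_ (krullDim_fiber_le n hsm p)
    unfold ringKrullDim
    rw [← Order.krullDim_eq_of_orderIso (PrimeSpectrum.preimageOrderIsoFiber R D ⟨p, inferInstance⟩)]
    let F := ↥(PrimeSpectrum.comap (algebraMap R D) ⁻¹' {(⟨p, inferInstance⟩ : PrimeSpectrum R)})
    let m : F := ⟨⟨P, inferInstance⟩, PrimeSpectrum.ext (Ideal.LiesOver.over (p := p) (P := P)).symm⟩
    let g : W → F := fun x => ⟨x.1, x.2.1⟩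
    let l' : LTSeries F := l.map g fun x y hxy => hxy
    have hlt : m < l'.head := by
      refine lt_of_le_of_ne ?_ fun he => hX ?_
      · show P ≤ l.head.1.asIdeal
        rw [hP, Ideal.map_le_iff_le_comap]
        exact (congrArg PrimeSpectrum.asIdeal l.head.2.1).ge
      · rw [show (⟨P, inferInstance⟩ : PrimeSpectrum D) = l.head.1 from congrArg Subtype.val he]
        exact l.head.2.2
    have := Order.LTSeries.length_le_krullDim (l'.cons m hlt)
    have hlen : l'.length = l.length := rfl
    simpa [hlen] using this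
  rcases isEmpty_or_nonempty W with hW | hW
  · rw [Order.krullDim_eq_bot]
    exact WithBot.bot_lt_coe _
  · obtain ⟨m, rfl⟩ : ∃ m, n = m + 1 := by
      rcases n with _ | m
      · exfalso
        have h0 := hchain (RelSeries.singleton _ (Classical.arbitrary W))
        simp at h0
        exact absurd h0 (by norm_num)
      · exact ⟨m, rfl⟩
    refine lt_of_le_of_lt (b := (m : WithBot ℕ∞)) (iSup_le fun l => ?_) (by exact_mod_cast Nat.lt_succ_self m)
    have := hchain l
    norm_cast at this ⊢
    omega

end Groth.Agent.H7Flat.FibreSuppDim
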