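import Groth.Agent.H7Flat.CompleteBaseML
import Groth.Agent.H7Flat.ImpurityRebase
import Groth.Agent.H1CAlg.CountableML
import Groth.Agent.H1CAlg.ProjDescent
import Groth.Agent.H24Adic.CompletionNoetherian
import Mathlib.RingTheory.AdicCompletion.LocalRing
import Mathlib.RingTheory.AdicCompletion.AsTensorProduct
import Mathlib.RingTheory.Flat.FaithfullyFlat.Algebra

/-!
Universally pure flat finitely presented modules over local rings are projective.
-/

set_option autoImplicit false
universe u

namespace Groth.Agent.H7Flat.PureProjectiveLocal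

open TensorProduct FlatMor IsLocalRing

attribute [local instance] Algebra.TensorProduct.rightAlgebra

set_option backward.isDefEq.respectTransparency false
set_option maxHeartbeats 1000000
set_option synthInstance.maxHeartbeats 400000

/-- Finite modules over finite type algebras are countably generated over the base. -/
theorem isCountablyGenerated {R S : Type u} [CommRing R] [CommRing S] [Algebra R S]
    [Algebra.FiniteType R S] (N : Type u) [AddCommGroup N] [Module S N] [Module R N]
    [IsScalarTower R S N] [Module.Finite S N] : CAlg.IsCountablyGenerated R N := by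
  obtain ⟨n, π, hπ⟩ := Algebra.FiniteType.iff_quotient_mvPolynomial''.mp ‹Algebra.FiniteType R S›
  obtain ⟨k, g, hg⟩ := Module.Finite.exists_fin (R := S) (M := N)
  refine ⟨Set.range fun x : (Fin n →₀ ℕ) × Fin k => π (MvPolynomial.monomial x.1 1) • g x.2,
    Set.countable_range _, Submodule.eq_top_iff'.mpr fun y => ?_⟩
  obtain ⟨c, rfl⟩ := (Submodule.mem_span_range_iff_exists_fun S).mp (hg ▸ Submodule.mem_top (x := y))
  refine Submodule.sum_mem _ fun i _ => ?_
  obtain ⟨P, hP⟩ := hπ (c i)
  rw [← hP, MvPolynomial.as_sum P, map_sum, Finset.sum_smul]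
  refine Submodule.sum_mem _ fun m _ => ?_
  rw [show MvPolynomial.monomial m (P.coeff m) = P.coeff m • MvPolynomial.monomial m 1 by
    rw [MvPolynomial.smul_monomial, smul_eq_mul, mul_one], map_smul, smul_assoc]
  exact Submodule.smul_mem _ _ (Submodule.subset_span ⟨(m, i), rfl⟩)

/-- The Mittag-Leffler property through a complete stage of a model. -/
theorem isMittagLeffler_of_stage {R₀ S₀ N₀ R₂ R S N : Type u} [CommRing R₀] [CommRing S₀]
    [Algebra R₀ S₀] [Algebra.FiniteType R₀ S₀] [AddCommGroup N₀] [Module S₀ N₀] [Module R₀ N₀]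
    [IsScalarTower R₀ S₀ N₀] [Module.Finite S₀ N₀] [Module.Flat R₀ N₀]
    [CommRing R₂] [Algebra R₀ R₂] [IsLocalRing R₂] [IsNoetherianRing R₂]
    [IsAdicComplete (maximalIdeal R₂) R₂]
    [CommRing R] [IsLocalRing R] [Algebra R₀ R] [Algebra R₂ R] [IsScalarTower R₀ R₂ R]
    [IsLocalHom (algebraMap R₂ R)]
    [CommRing S] [Algebra R S] [Algebra.FinitePresentation R S] [Algebra R₀ S] [Algebra S₀ S]
    [IsScalarTower R₀ R S] [IsScalarTower R₀ S₀ S]
    [AddCommGroup N] [Module S N] [Module R N] [IsScalarTower R S N]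
    [Module.FinitePresentation S N] [Module.Flat R N] [Module R₀ N] [IsScalarTower R₀ R N]
    {g : N₀ →ₗ[R₀] N} (hg : IsBaseChange R g)
    (hsm : ∀ (a : S₀) (x : N₀), g (a • x) = algebraMap S₀ S a • g x)
    (H : ∀ (Q : Type u) [AddCommGroup Q] [Module R Q] (z : N ⊗[R] Q), z ≠ 0 →
      (Submodule.span S {z}).annihilator ⊔ (maximalIdeal R).map (algebraMap R S) ≠ ⊤) :
    CAlg.IsMittagLeffler R N := by
  let S₂ := R₂ ⊗[R₀] S₀
  let ψ : S₂ →ₐ[R₀] S := Algebra.TensorProduct.lift
    ((IsScalarTower.toAlgHom R₀ R S).comp (IsScalarTower.toAlgHom R₀ R₂ R))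
    (IsScalarTower.toAlgHom R₀ S₀ S) fun _ _ => .all _ _
  have hψ : ∀ a b, ψ (a ⊗ₜ[R₀] b) = algebraMap R S (algebraMap R₂ R a) * algebraMap S₀ S b :=
    fun a b => Algebra.TensorProduct.lift_tmul _ _ _ _ _
  let : Algebra S₂ S := ψ.toRingHom.toAlgebra
  let N₂ := S₂ ⊗[S₀] N₀
  let g₂ : N₀ →ₗ[S₀] N₂ := TensorProduct.mk S₀ S₂ N₀ 1
  have : IsScalarTower R₀ R₂ N₂ := IsScalarTower.of_algebraMap_smul fun r x => by
    rw [← algebraMap_smul S₂ (algebraMap R₀ R₂ r) x, ← IsScalarTower.algebraMap_apply,
      algebraMap_smul]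
  have : IsScalarTower R₀ S₀ N₂ := IsScalarTower.of_algebraMap_smul fun r x => by
    rw [← algebraMap_smul S₂ (algebraMap R₀ S₀ r) x, ← IsScalarTower.algebraMap_apply,
      algebraMap_smul]
  have hb₂ : IsBaseChange R₂ (g₂.restrictScalars R₀) :=
    Groth.Agent.H8Props.FlatAtBC.isBaseChange_restrictScalars (R := R₀) (R' := R₂) g₂
      (TensorProduct.isBaseChange S₀ N₀ S₂)
  have : Module.Flat R₂ N₂ := Module.Flat.isBaseChange R₀ R₂ N₀ N₂ hb₂
  let : Module R₂ N := Module.compHom N (algebraMap R₂ R)
  have : IsScalarTower R₂ R N := IsScalarTower.of_algebraMap_smul fun _ _ => rfl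
  have : IsScalarTower R₀ R₂ N := IsScalarTower.of_algebraMap_smul fun r x => by
    change algebraMap R₂ R (algebraMap R₀ R₂ r) • x = r • x
    rw [← IsScalarTower.algebraMap_apply, algebraMap_smul]
  let γ : N₂ →ₗ[R₂] N := hb₂.lift g
  have hγ₀ : ∀ x, γ (g₂ x) = g x := fun x => hb₂.lift_eq g x
  have hγ : IsBaseChange R γ := by
    refine IsBaseChange.of_comp hb₂ ?_
    rw [show γ.restrictScalars R₀ ∘ₗ g₂.restrictScalars R₀ = g from LinearMap.ext hγ₀]
    exact hg
  have hγsm : ∀ (a : S₂) (x : N₂), γ (a • x) = algebraMap S₂ S a • γ x := by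
    intro a x
    have hr : ∀ (r : R₂) (y : N₂), γ (r • y) = algebraMap R S (algebraMap R₂ R r) • γ y :=
      fun r y => by rw [map_smul, algebraMap_smul, algebraMap_smul]
    induction x using TensorProduct.induction_on with
    | zero => simp
    | add x y hx hy => simp only [smul_add, map_add, hx, hy]
    | tmul b n =>
      induction a using TensorProduct.induction_on with
      | zero => simp
      | add a a' ha ha' => rw [add_smul, map_add, map_add, add_smul, ha, ha']
      | tmul r c =>
        induction b using TensorProduct.induction_on with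
        | zero => simp
        | add b b' hb hb' => simp only [add_tmul, smul_add, map_add, hb, hb']
        | tmul r' c' =>
          have e : ∀ (r : R₂) (c : S₀), γ ((r ⊗ₜ[R₀] c) ⊗ₜ[S₀] n) =
              algebraMap S₂ S (r ⊗ₜ[R₀] c) • g n := by
            intro r c
            have h1 : ((r ⊗ₜ[R₀] c : S₂) ⊗ₜ[S₀] n) = r • g₂ (c • n) := by
              show _ = r • ((1 : S₂) ⊗ₜ[S₀] (c • n))
              rw [← smul_tmul, smul_tmul']
              congr 1
              rw [Algebra.smul_def, Algebra.smul_def, mul_one]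
              show r ⊗ₜ[R₀] c = (r ⊗ₜ[R₀] (1 : S₀)) * ((1 : R₂) ⊗ₜ[R₀] c)
              rw [Algebra.TensorProduct.tmul_mul_tmul, mul_one, one_mul]
            rw [h1, hr, hγ₀, hsm, ← mul_smul]
            change _ = ψ (r ⊗ₜ[R₀] c) • g n
            exact congrArg (· • g n) (hψ r c).symm
          rw [smul_tmul', smul_eq_mul, Algebra.TensorProduct.tmul_mul_tmul, e, e,
            ← mul_smul, ← map_mul, Algebra.TensorProduct.tmul_mul_tmul]
  exact CompleteBaseML.isMittagLeffler_of_complete (S₂ := S₂) hγ hγsm H

/-- Universal purity detects tensor products on the closed fibre after a base change. -/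
theorem sup_ne_top_of_univPureAlong {A B N : Type u} [CommRing A] [CommRing B] [Algebra A B]
    [AddCommGroup N] [Module B N] {p : Ideal A} [p.IsPrime] (hpure : FlatCA.IsUnivPureAlong A B N p)
    {A' B' N' : Type u} [CommRing A'] [IsLocalRing A'] [CommRing B'] [Algebra A A'] [Algebra B B']
    [Algebra A' B'] [Algebra A B'] [IsScalarTower A B B'] [IsScalarTower A A' B']
    [hpush : Algebra.IsPushout A B A' B'] [Algebra.FinitePresentation A' B']
    [AddCommGroup N'] [Module B' N'] [Module B N'] [IsScalarTower B B' N'] [Module A' N']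
    [IsScalarTower A' B' N'] [Module.FinitePresentation B' N'] [Module.Flat A' N']
    {f : N →ₗ[B] N'} (hf : IsBaseChange B' f) [(maximalIdeal A').LiesOver p]
    (Q : Type u) [AddCommGroup Q] [Module A' Q] (z : N' ⊗[A'] Q) (hz : z ≠ 0) :
    (Submodule.span B' {z}).annihilator ⊔ (maximalIdeal A').map (algebraMap A' B') ≠ ⊤ := by
  intro htop
  have hne : (Submodule.span B' {z}).annihilator ≠ ⊤ := fun e => hz
    ((one_smul B' z).symm.trans ((Submodule.mem_annihilator_span_singleton z 1).mp
      (e.ge Submodule.mem_top)))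
  obtain ⟨M, hM, hle⟩ := Ideal.exists_le_maximal _ hne
  obtain ⟨q, hq, -⟩ := Ideal.exists_minimalPrimes_le hle
  have : q.IsPrime := hq.1.1
  let t' := q.comap (algebraMap A' B')
  have : q.LiesOver t' := ⟨rfl⟩
  have hass := UnivInjCover.fiberIdeal_mem_associatedPrimes_of_mem_weakAss Q t' q ⟨z, hq⟩
  refine hpure A' B' N' f t' (maximalIdeal A') q
    ⟨hpush, hf, IsLocalRing.le_maximalIdeal (Ideal.IsPrime.ne_top inferInstance), inferInstance,
      inferInstance, hass, fun P' hP' hqP' hover => ?_⟩
  exact hP'.ne_top (top_le_iff.mp (htop.ge.trans (sup_le (hq.1.2.trans hqP')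
    (Ideal.map_le_iff_le_comap.mpr hover.over.le))))

/-- Projectivity from a local faithfully flat base change receiving a complete stage of a model. -/
theorem projective_of_stage {R₀ S₀ N₀ R₂ R R' S N : Type u} [CommRing R₀] [CommRing S₀]
    [Algebra R₀ S₀] [Algebra.FiniteType R₀ S₀] [AddCommGroup N₀] [Module S₀ N₀] [Module R₀ N₀]
    [IsScalarTower R₀ S₀ N₀] [Module.Finite S₀ N₀] [Module.Flat R₀ N₀]
    [CommRing R₂] [Algebra R₀ R₂] [IsLocalRing R₂] [IsNoetherianRing R₂]
    [IsAdicComplete (maximalIdeal R₂) R₂]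
    [CommRing R] [IsLocalRing R] [Algebra R₀ R]
    [CommRing R'] [IsLocalRing R'] [Algebra R R'] [Algebra R₀ R'] [Algebra R₂ R']
    [IsScalarTower R₀ R R'] [IsScalarTower R₀ R₂ R'] [IsLocalHom (algebraMap R₂ R')]
    [IsLocalHom (algebraMap R R')] [Module.Flat R R']
    [CommRing S] [Algebra R S] [Algebra.FinitePresentation R S] [Algebra R₀ S] [Algebra S₀ S]
    [IsScalarTower R₀ R S] [IsScalarTower R₀ S₀ S] [Algebra.IsPushout R₀ R S₀ S]
    [AddCommGroup N] [Module S N] [Module R N] [IsScalarTower R S N]
    [Module.FinitePresentation S N] [Module.Flat R N] [Module S₀ N] [IsScalarTower S₀ S N]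
    {f : N₀ →ₗ[S₀] N} (hf : IsBaseChange S f)
    (hpure : FlatCA.IsUnivPureAlong R S N (maximalIdeal R)) : Module.Projective R N := by
  have : Module.FaithfullyFlat R R' := Module.FaithfullyFlat.of_flat_of_isLocalHom
  let S' := R' ⊗[R] S
  have : Algebra.IsPushout R R' S S' := inferInstance
  have : Algebra.IsPushout R S R' S' := Algebra.IsPushout.symm inferInstance
  let N' := S' ⊗[S] N
  let gN : N →ₗ[S] N' := TensorProduct.mk S S' N 1
  have hgN : IsBaseChange S' gN := TensorProduct.isBaseChange S N S'
  have : IsScalarTower R R' N' := IsScalarTower.of_algebraMap_smul fun r x => by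
    rw [← algebraMap_smul S' (algebraMap R R' r) x, ← IsScalarTower.algebraMap_apply,
      algebraMap_smul]
  have : IsScalarTower R S N' := IsScalarTower.of_algebraMap_smul fun r x => by
    rw [← algebraMap_smul S' (algebraMap R S r) x, ← IsScalarTower.algebraMap_apply,
      algebraMap_smul]
  have hbR : IsBaseChange R' (gN.restrictScalars R) :=
    Groth.Agent.H8Props.FlatAtBC.isBaseChange_restrictScalars (R := R) (R' := R') gN hgN
  have : Module.Flat R' N' := Module.Flat.isBaseChange R R' N N' hbR
  have : (maximalIdeal R').LiesOver (maximalIdeal R) := ⟨by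
    rw [Ideal.under, IsLocalRing.maximalIdeal_comap]⟩
  let : Module R₀ N := Module.compHom N (algebraMap R₀ R)
  have : IsScalarTower R₀ R N := IsScalarTower.of_algebraMap_smul fun _ _ => rfl
  have : IsScalarTower R₀ S₀ N := IsScalarTower.of_algebraMap_smul fun r x => by
    change algebraMap R₀ S₀ r • x = algebraMap R₀ R r • x
    rw [← algebraMap_smul S (algebraMap R₀ R r) x, ← algebraMap_smul S (algebraMap R₀ S₀ r) x,
      ← IsScalarTower.algebraMap_apply, ← IsScalarTower.algebraMap_apply]
  have : Algebra.IsPushout R₀ S₀ R S := Algebra.IsPushout.symm inferInstance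
  have hb₀ : IsBaseChange R (f.restrictScalars R₀) :=
    Groth.Agent.H8Props.FlatAtBC.isBaseChange_restrictScalars (R := R₀) (R' := R) f hf
  have : IsScalarTower R₀ R' S' := inferInstance
  let : Algebra S₀ S' := ((algebraMap S S').comp (algebraMap S₀ S)).toAlgebra
  have : IsScalarTower R₀ S₀ S' := IsScalarTower.of_algebraMap_eq fun r => by
    change algebraMap R' S' (algebraMap R₀ R' r) = algebraMap S S' (algebraMap S₀ S (algebraMap R₀ S₀ r))
    rw [← IsScalarTower.algebraMap_apply R₀ S₀ S, IsScalarTower.algebraMap_apply R₀ R S,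
      IsScalarTower.algebraMap_apply R₀ R R', ← IsScalarTower.algebraMap_apply R S S',
      ← IsScalarTower.algebraMap_apply R R' S']
  have : IsScalarTower R₀ R' N' := IsScalarTower.of_algebraMap_smul fun r x => by
    rw [← algebraMap_smul S' (algebraMap R₀ R' r) x, ← IsScalarTower.algebraMap_apply,
      algebraMap_smul]
  have : IsScalarTower R₀ R N' := IsScalarTower.of_algebraMap_smul fun r x => by
    rw [← algebraMap_smul R' (algebraMap R₀ R r) x, ← IsScalarTower.algebraMap_apply,
      algebraMap_smul]
  let : Module S₀ N' := Module.compHom N' (algebraMap S₀ S')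
  have : IsScalarTower S₀ S N' := IsScalarTower.of_algebraMap_smul fun a x => by
    change _ = algebraMap S₀ S' a • x
    exact (algebraMap_smul S' (algebraMap S₀ S a) x).symm
  let g : N₀ →ₗ[R₀] N' := ((gN.restrictScalars R).restrictScalars R₀) ∘ₗ f.restrictScalars R₀
  have hg : IsBaseChange R' g := IsBaseChange.comp hb₀ hbR
  have hsm : ∀ (a : S₀) (x : N₀), g (a • x) = algebraMap S₀ S' a • g x := fun a x => by
    change gN (f (a • x)) = algebraMap S S' (algebraMap S₀ S a) • gN (f x)
    rw [f.map_smul, ← algebraMap_smul S a (f x), map_smul, algebraMap_smul S']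
  have hML : CAlg.IsMittagLeffler R' N' := isMittagLeffler_of_stage (R₂ := R₂) (S := S') hg hsm
    fun Q _ _ z hz => sup_ne_top_of_univPureAlong hpure hgN Q z hz
  have : Module.Projective R' N' :=
    H1CAlg.projective_of_countablyGenerated hML (isCountablyGenerated (S := S') N')
  have : Module.Projective R' (R' ⊗[R] N) := Module.Projective.of_equiv hbR.equiv.symm
  exact H1CAlg.projective_of_baseChange R R' N

/-- A completed stage together with a local flat extension of a local algebra. -/
theorem exists_complete_stage (R₀ R : Type u) [CommRing R₀] [IsNoetherianRing R₀] [CommRing R]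
    [IsLocalRing R] [Algebra R₀ R] :
    ∃ (R₂ : Type u) (_ : CommRing R₂) (_ : Algebra R₀ R₂) (_ : IsLocalRing R₂)
      (_ : IsNoetherianRing R₂) (_ : IsAdicComplete (maximalIdeal R₂) R₂)
      (R' : Type u) (_ : CommRing R') (_ : IsLocalRing R') (_ : Algebra R R') (_ : Algebra R₀ R')
      (_ : Algebra R₂ R') (_ : IsScalarTower R₀ R R') (_ : IsScalarTower R₀ R₂ R')
      (_ : IsLocalHom (algebraMap R₂ R')) (_ : IsLocalHom (algebraMap R R')),
      Module.Flat R R' := by
  let p₀ := (maximalIdeal R).comap (algebraMap R₀ R)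
  let R₁ := Localization.AtPrime p₀
  have : IsNoetherianRing R₁ := IsLocalization.isNoetherianRing p₀.primeCompl R₁ inferInstance
  have hfg : (maximalIdeal R₁).FG := IsNoetherian.noetherian _
  let R₂ := AdicCompletion (maximalIdeal R₁) R₁
  have : IsLocalRing R₂ := AdicCompletion.isLocalRing_of_fg hfg
  have : IsNoetherianRing R₂ := H24Adic.isNoetherianRing_adicCompletion _
  have hcpl : IsAdicComplete (maximalIdeal R₂) R₂ := AdicCompletion.isAdicComplete_of_fg hfg
  have : Module.Flat R₀ R₁ := IsLocalization.flat R₁ p₀.primeCompl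
  have : Module.Flat R₀ R₂ := Module.Flat.trans R₀ R₁ R₂
  have : (maximalIdeal R).LiesOver p₀ := ⟨rfl⟩
  have : (maximalIdeal R₂).LiesOver p₀ := ⟨by
    rw [Ideal.under, IsScalarTower.algebraMap_eq R₀ R₁ R₂, ← Ideal.comap_comap,
      AdicCompletion.maximalIdeal_eq_map_of_fg hfg]
    have h : ((maximalIdeal R₁).map (algebraMap R₁ R₂)).comap (algebraMap R₁ R₂) = maximalIdeal R₁ :=
      ((IsLocalRing.maximalIdeal.isMaximal R₁).eq_of_le (Ideal.comap_ne_top _ (by
        rw [← AdicCompletion.maximalIdeal_eq_map_of_fg hfg]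
        exact (IsLocalRing.maximalIdeal.isMaximal R₂).ne_top)) Ideal.le_comap_map).symm
    rw [h]
    exact (IsLocalization.AtPrime.under_maximalIdeal R₁ p₀).symm⟩
  obtain ⟨Q, hQ, hQ₁, hQ₂⟩ :=
    ImpurityRebase.exists_prime_over_pair p₀ (maximalIdeal R) (maximalIdeal R₂)
  let P := R ⊗[R₀] R₂
  let R' := Localization.AtPrime Q
  have : IsScalarTower R₂ P R' := inferInstance
  have : IsScalarTower R₀ R R' := IsScalarTower.of_algebraMap_eq fun r => by
    rw [IsScalarTower.algebraMap_apply R₀ P R', IsScalarTower.algebraMap_apply R₀ R P,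
      ← IsScalarTower.algebraMap_apply R P R']
  have : IsScalarTower R₀ R₂ R' := IsScalarTower.of_algebraMap_eq fun r => by
    rw [IsScalarTower.algebraMap_apply R₀ P R', IsScalarTower.algebraMap_apply R₀ R₂ P,
      ← IsScalarTower.algebraMap_apply R₂ P R']
  have : IsLocalHom (algebraMap R R') := ⟨fun x hx => by
    by_contra h
    rw [IsScalarTower.algebraMap_apply R P R', IsLocalization.AtPrime.isUnit_to_map_iff R' Q] at hx
    exact hx (hQ₁.ge ((IsLocalRing.mem_maximalIdeal x).mpr h))⟩
  have : IsLocalHom (algebraMap R₂ R') := ⟨fun x hx => by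
    by_contra h
    rw [IsScalarTower.algebraMap_apply R₂ P R', IsLocalization.AtPrime.isUnit_to_map_iff R' Q] at hx
    exact hx (hQ₂.ge ((IsLocalRing.mem_maximalIdeal x).mpr h))⟩
  have : Module.Flat P R' := IsLocalization.flat R' Q.primeCompl
  exact ⟨R₂, inferInstance, inferInstance, inferInstance, inferInstance, hcpl, R', inferInstance,
    inferInstance, inferInstance, inferInstance, inferInstance, inferInstance, inferInstance,
    inferInstance, inferInstance, Module.Flat.trans R P R'⟩

/-- A finitely presented flat module over a finitely presented algebra over a local ring which is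
universally pure along the closed fibre is projective. -/
theorem projective_of_univPureAlong {R S : Type u} [CommRing R] [IsLocalRing R] [CommRing S]
    [Algebra R S] [Algebra.FinitePresentation R S] (N : Type u) [AddCommGroup N] [Module S N]
    [Module R N] [IsScalarTower R S N] [Module.FinitePresentation S N] [Module.Flat R N]
    (hpure : FlatCA.IsUnivPureAlong R S N (maximalIdeal R)) : Module.Projective R N := by
  classical
  obtain ⟨n, π, hπ, hker⟩ := Algebra.FinitePresentation.out (R := R) (A := S)
  let P := MvPolynomial (Fin n) R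
  let : Algebra P S := π.toRingHom.toAlgebra
  have : IsScalarTower R P S := IsScalarTower.of_algebraMap_eq fun x => (π.commutes x).symm
  have : Module.FinitePresentation P S :=
    Module.finitePresentation_of_surjective (Algebra.linearMap P S) hπ hker
  let : Module P N := Module.compHom N π.toRingHom
  have : IsScalarTower P S N := IsScalarTower.of_algebraMap_smul fun _ _ => rfl
  have : IsScalarTower R P N := IsScalarTower.of_algebraMap_smul fun a x => by
    change π (algebraMap R _ a) • x = a • x
    rw [π.commutes, algebraMap_smul]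
  have : Module.FinitePresentation P N := Module.FinitePresentation.trans P N S
  let : Module Pᵐᵒᵖ N := Module.compHom N ((RingHom.id P).fromOpposite mul_comm)
  have : IsCentralScalar P N := ⟨fun _ _ => rfl⟩
  obtain ⟨R₀, _, _, S₀, _, _, _, _, _, _, N₀, _, _, _, _, _, _, f, hR₀, hS₀, hN₀, hflat₀, hpush,
    hf⟩ := Groth.Agent.H02CA.FlatModel.exists_model (M := N) π hπ (fun _ _ => rfl) hker
  have : IsNoetherianRing R₀ := Algebra.FiniteType.isNoetherianRing ℤ R₀
  obtain ⟨R₂, _, _, _, _, _, R', _, _, _, _, _, _, _, _, _, _⟩ := exists_complete_stage R₀ R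
  have : Algebra.IsPushout R₀ R S₀ S := hpush
  exact projective_of_stage (R₀ := R₀) (S₀ := S₀) (N₀ := N₀) (R₂ := R₂) (R := R) (R' := R') (S := S) (f := f) hf hpure

end Groth.Agent.H7Flat.PureProjectiveLocal
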