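import Groth.Prelude.Def_FlatCA
import Groth.Agent.H8Props.FlatLocus.Module
import Mathlib

/-!
Content ideals and universal injectivity for modules with a pure spreadout.
-/

namespace Groth.Agent.H7Flat.PureSpreadout

open TensorProduct

universe u

variable {A : Type u} [CommRing A]

theorem eq_zero_of_forall_maximal {Q : Type u} [AddCommGroup Q] [Module A Q] {n : Type*} [Fintype n]
    [DecidableEq n] {κ : Type*} [Fintype κ] (a : n → κ → A) (q : n → Q)
    (h0 : ∀ j, ∑ k, a k j • q k = 0)
    (h : ∀ (m : Ideal A) [m.IsMaximal], ∀ c : n → A,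
      (∀ j, ∑ k, c k * a k j ∈ m) → ∀ k, c k ∈ m) : ∀ k, q k = 0 := by
  let Q' : Submodule A Q := Submodule.span A (Set.range q)
  suffices Q' = ⊥ from fun k => (Submodule.mem_bot A).mp (this ▸ Submodule.subset_span ⟨k, rfl⟩)
  have hfg : Q'.FG := Submodule.fg_span (Set.finite_range q)
  by_contra hne
  classical
  have hann : Submodule.annihilator Q' ≠ ⊤ := fun he => hne (Submodule.annihilator_eq_top_iff.mp he)
  obtain ⟨m, hm, hle⟩ := Ideal.exists_le_maximal _ hann
  let := Ideal.Quotient.field m
  let M' : (n → A ⧸ m) →ₗ[A ⧸ m] (κ → A ⧸ m) :=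
    LinearMap.pi fun j => ∑ k, Ideal.Quotient.mk m (a k j) • LinearMap.proj k
  have hinj : LinearMap.ker M' = ⊥ := by
    rw [Submodule.eq_bot_iff]
    intro c hc
    choose c' hc' using fun k => Ideal.Quotient.mk_surjective (c k)
    funext k
    rw [← hc' k, Pi.zero_apply, Ideal.Quotient.eq_zero_iff_mem]
    refine h m c' (fun j => ?_) k
    rw [← Ideal.Quotient.eq_zero_iff_mem, map_sum]
    have := congrFun hc j
    simp only [M', LinearMap.pi_apply, LinearMap.coe_sum, Finset.sum_apply, LinearMap.smul_apply,
      LinearMap.proj_apply, Pi.zero_apply, smul_eq_mul] at this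
    refine (Finset.sum_congr rfl fun k _ => ?_).trans this
    rw [map_mul, hc', mul_comm]
  obtain ⟨L, hL⟩ := M'.exists_leftInverse_of_injective hinj
  choose b hb using fun (l : n) (j : κ) =>
    Ideal.Quotient.mk_surjective (L (Pi.single j 1) l)
  have hid : ∀ l k, (∑ j, b l j * a k j) - (if k = l then 1 else 0) ∈ m := by
    intro l k
    rw [← Ideal.Quotient.eq, map_sum]
    have h1 := congrFun (LinearMap.congr_fun hL (Pi.single k 1)) l
    rw [LinearMap.comp_apply, LinearMap.id_apply] at h1
    have h2 : M' (Pi.single k 1) = fun j => Ideal.Quotient.mk m (a k j) := by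
      funext j
      simp [M', Pi.single_apply]
    rw [h2, show (fun j => Ideal.Quotient.mk m (a k j)) =
      ∑ j, Ideal.Quotient.mk m (a k j) • (Pi.single j 1 : κ → A ⧸ m) from
        (pi_eq_sum_univ' _), map_sum] at h1
    simp only [map_smul, Finset.sum_apply, Pi.smul_apply, smul_eq_mul, ← hb] at h1
    refine (Finset.sum_congr rfl fun j _ => ?_).trans (h1.trans ?_)
    · rw [map_mul, mul_comm]
    · rw [Pi.single_apply]
      by_cases hkl : k = l
      · simp [hkl]
      · simp [hkl, Ne.symm hkl]
  have hle' : Q' ≤ m • Q' := by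
    refine Submodule.span_le.mpr ?_
    rintro _ ⟨l, rfl⟩
    have hz : ∑ k, (∑ j, b l j * a k j) • q k = 0 := by
      simp only [Finset.sum_smul, mul_smul]
      rw [Finset.sum_comm]
      exact Finset.sum_eq_zero fun j _ => by rw [← Finset.smul_sum, h0, smul_zero]
    have hq : q l = -∑ k, ((∑ j, b l j * a k j) - (if k = l then 1 else 0)) • q k := by
      simp only [sub_smul, Finset.sum_sub_distrib, hz, ite_smul, one_smul, zero_smul,
        Finset.sum_ite_eq', Finset.mem_univ, if_true, zero_sub, neg_neg]
    rw [SetLike.mem_coe, hq]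
    exact neg_mem (Submodule.sum_mem _ fun k _ =>
      Submodule.smul_mem_smul (hid l k) (Submodule.subset_span ⟨k, rfl⟩))
  obtain ⟨r, hr1, hr⟩ := Submodule.exists_sub_one_mem_and_smul_eq_zero_of_fg_of_le_smul m Q' hfg hle'
  have : r ∈ m := hle (Submodule.mem_annihilator.mpr hr)
  exact hm.ne_top ((Ideal.eq_top_iff_one m).mpr (by simpa using m.sub_mem this hr1))

/-- A map from a free module into a flat module which is injective modulo every maximal ideal is
universally injective. -/
theorem univInj_finsupp {ι : Type u} {M : Type u} [AddCommGroup M] [Module A M] [Module.Flat A M]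
    (u : (ι →₀ A) →ₗ[A] M)
    (h : ∀ (m : Ideal A) [m.IsMaximal], Function.Injective (u.lTensor (A ⧸ m))) :
    FlatCA.UnivInj A u := by
  classical
  intro Q _ _
  rw [← LinearMap.ker_eq_bot, Submodule.eq_bot_iff]
  intro z hz
  let e := TensorProduct.finsuppScalarRight A A Q ι
  let S := (e z).support
  let q : S → Q := fun k => e z k.1
  let w : S → M := fun k => u (Finsupp.single k.1 1)
  have hz' : z = ∑ k : S, q k ⊗ₜ[A] Finsupp.single k.1 (1 : A) := by
    apply e.injective
    rw [map_sum]
    simp only [e, TensorProduct.finsuppScalarRight_apply_tmul, Finsupp.sum_single_index,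
      zero_smul, Finsupp.single_zero, one_smul]
    refine (Finsupp.sum_single (e z)).symm.trans ?_
    rw [Finsupp.sum, ← Finset.sum_coe_sort]
  let Q' : Submodule A Q := Submodule.span A (Set.range q)
  let q' : S → Q' := fun k => ⟨q k, Submodule.subset_span ⟨k, rfl⟩⟩
  have hspan : Submodule.span A (Set.range q') = ⊤ := by
    refine Submodule.map_injective_of_injective Q'.injective_subtype ?_
    rw [Submodule.map_span, ← Set.range_comp, Submodule.map_subtype_top]
    rfl
  have hsum : ∑ k, q' k ⊗ₜ[A] w k = 0 := by
    apply Module.Flat.rTensor_preserves_injective_linearMap (M := M) Q'.subtype Q'.injective_subtype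
    rw [map_zero, map_sum]
    have h1 : u.lTensor Q z = 0 := hz
    rw [hz', map_sum] at h1
    exact h1
  obtain ⟨k', a, y, hy, hay⟩ :=
    TensorProduct.vanishesTrivially_of_sum_tmul_eq_zero A hspan hsum
  have hq : ∀ k, q k = 0 := by
    refine eq_zero_of_forall_maximal (fun k j => a k j) q (fun j => ?_) ?_
    · have := congrArg Subtype.val (hay j)
      simpa [q'] using this
    · intro m _ c hc k
      have hx : ((1 : A ⧸ m) ⊗ₜ[A] (∑ k : S, c k • Finsupp.single k.1 (1 : A))) = 0 := by
        apply h m
        rw [map_zero, LinearMap.lTensor_tmul, map_sum]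
        simp only [map_smul]
        have : (∑ k : S, c k • w k) = ∑ j, (∑ k, c k * a k j) • y j := by
          simp only [hy, Finset.smul_sum, smul_smul, Finset.sum_smul]
          exact Finset.sum_comm
        rw [this, tmul_sum]
        refine Finset.sum_eq_zero fun j _ => ?_
        rw [← smul_tmul, Algebra.smul_def, mul_one, Ideal.Quotient.algebraMap_eq,
          Ideal.Quotient.eq_zero_iff_mem.mpr (hc j), zero_tmul]
      have h2 := congrArg (fun t => TensorProduct.finsuppScalarRight A A (A ⧸ m) ι t k.1) hx
      simp only [tmul_sum, map_sum, map_zero, Finsupp.coe_finsetSum, Finset.sum_apply,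
        Finsupp.smul_single, smul_eq_mul, mul_one, TensorProduct.finsuppScalarRight_apply_tmul_apply,
        Finsupp.zero_apply] at h2
      rw [Finset.sum_eq_single k] at h2
      · rw [Finsupp.single_eq_same, Algebra.smul_def, mul_one, Ideal.Quotient.algebraMap_eq] at h2
        exact Ideal.Quotient.eq_zero_iff_mem.mp h2
      · intro b _ hb
        rw [Finsupp.single_eq_of_ne (fun h => hb (Subtype.ext h).symm), zero_smul]
      · simp
  rw [hz']
  simp [hq]

/-- The same for a projective source. -/
theorem univInj_projective {N M : Type u} [AddCommGroup N] [Module A N] [Module.Projective A N]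
    [AddCommGroup M] [Module A M] [Module.Flat A M] (u : N →ₗ[A] M)
    (h : ∀ (m : Ideal A) [m.IsMaximal], Function.Injective (u.lTensor (A ⧸ m))) :
    FlatCA.UnivInj A u := by
  obtain ⟨i, hi⟩ := Module.projective_def'.mp (inferInstance : Module.Projective A N)
  let p := Finsupp.linearCombination A (id : N → N)
  have hpi : ∀ x, p (i x) = x := LinearMap.congr_fun hi
  let ψ : (N →₀ A) →ₗ[A] M × (N →₀ A) := (u.comp p).prod (LinearMap.id - i.comp p)
  have : Module.Flat A (M × (N →₀ A)) :=
    Groth.Agent.H8Props.FlatLocus.flat_prod A M (N →₀ A)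
  have hψ : FlatCA.UnivInj A ψ := by
    refine univInj_finsupp ψ fun m _ => ?_
    rw [← LinearMap.ker_eq_bot, Submodule.eq_bot_iff]
    intro x (hx : ψ.lTensor _ x = 0)
    have h1 : u.lTensor (A ⧸ m) (p.lTensor _ x) = 0 := by
      have := congrArg ((LinearMap.fst A M (N →₀ A)).lTensor (A ⧸ m)) hx
      rw [← LinearMap.lTensor_comp_apply, map_zero] at this
      rwa [← LinearMap.lTensor_comp_apply]
    have h2 : p.lTensor (A ⧸ m) x = 0 := h m (h1.trans (map_zero _).symm)
    have h3 := congrArg ((LinearMap.snd A M (N →₀ A)).lTensor (A ⧸ m)) hx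
    rw [← LinearMap.lTensor_comp_apply, map_zero, LinearMap.snd_prod, LinearMap.lTensor_sub,
      LinearMap.sub_apply, LinearMap.lTensor_id, LinearMap.id_apply, LinearMap.lTensor_comp_apply,
      h2, map_zero, sub_zero] at h3
    exact h3
  intro Q _ _
  rw [← LinearMap.ker_eq_bot, Submodule.eq_bot_iff]
  intro z (hz : u.lTensor Q z = 0)
  have h0 : i.lTensor Q z = 0 := by
    apply hψ Q
    rw [map_zero, ← LinearMap.lTensor_comp_apply,
      show ψ.comp i = (LinearMap.inl A M (N →₀ A)).comp u by
        ext x <;> simp [ψ, hpi],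
      LinearMap.lTensor_comp_apply, hz, map_zero]
  calc z = p.lTensor Q (i.lTensor Q z) := by
        rw [← LinearMap.lTensor_comp_apply, hi, LinearMap.lTensor_id, LinearMap.id_apply]
    _ = 0 := by rw [h0, map_zero]

end Groth.Agent.H7Flat.PureSpreadout
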