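import Groth.Prelude.Def_FlatCA
import Mathlib

/-!
Associated points of fibres descend along arbitrary base change of the base ring.
-/

set_option autoImplicit false
universe u

namespace Groth.Agent.H7Flat.ImpurityDescend

open TensorProduct FlatMor

set_option backward.isDefEq.respectTransparency false
set_option maxHeartbeats 1000000
set_option synthInstance.maxHeartbeats 400000

/-- Associated primes of a base change along a free extension contract to associated primes. -/
theorem comap_mem_associatedPrimes_of_free {F F' M M' : Type u} [CommRing F] [CommRing F']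
    [Algebra F F'] [Module.Free F F'] [AddCommGroup M] [Module F M] [AddCommGroup M']
    [Module F' M'] [Module F M'] [IsScalarTower F F' M'] {g : M →ₗ[F] M'}
    (hg : IsBaseChange F' g) {Q : Ideal F'} (hQ : Q ∈ associatedPrimes F' M') :
    Q.comap (algebraMap F F') ∈ associatedPrimes F M := by
  classical
  obtain ⟨hQp, x, hx⟩ := hQ
  have := hQp
  let b := Module.Free.chooseBasis F F'
  let e : M' ≃ₗ[F] (Module.Free.ChooseBasisIndex F F' →₀ M) :=
    (hg.equiv.restrictScalars F).symm ≪≫ₗ TensorProduct.congr b.repr (LinearEquiv.refl F M) ≪≫ₗ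
      TensorProduct.finsuppScalarLeft F M (Module.Free.ChooseBasisIndex F F')
  let Qc := Q.comap (algebraMap F F')
  let J : Module.Free.ChooseBasisIndex F F' → Ideal F := fun i =>
    (Submodule.colon (⊥ : Submodule F M) {e x i}).radical
  have hmem : ∀ c : F, c ∈ Qc ↔ c ∈ (e x).support.inf J := by
    intro c
    simp only [Qc, J, Submodule.mem_finsetInf, Ideal.mem_comap, hx, Ideal.mem_radical_iff,
      Submodule.mem_colon_singleton, Submodule.mem_bot]
    constructor
    · rintro ⟨n, hn⟩ i -
      refine ⟨n, ?_⟩
      rw [← Finsupp.smul_apply, ← map_smul, ← algebraMap_smul F' (c ^ n) x, map_pow, hn,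
        map_zero, Finsupp.zero_apply]
    · intro h
      choose n hn using h
      refine ⟨∑ i : (e x).support, n i.1 i.2, ?_⟩
      rw [← map_pow, algebraMap_smul]
      apply e.injective
      rw [map_smul, map_zero]
      ext i
      rw [Finsupp.smul_apply, Finsupp.zero_apply]
      by_cases hi : i ∈ (e x).support
      · rw [← Finset.sum_erase_add _ _ (Finset.mem_univ (⟨i, hi⟩ : (e x).support)), pow_add,
          mul_smul, hn i hi, smul_zero]
      · rw [Finsupp.notMem_support_iff.mp hi, smul_zero]
  have heq : Qc = (e x).support.inf J := Ideal.ext hmem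
  haveI : Qc.IsPrime := Ideal.comap_isPrime _ _
  obtain ⟨i, hi, hle⟩ := (Ideal.IsPrime.inf_le' ‹Qc.IsPrime›).mp heq.ge
  exact ⟨inferInstance, e x i, le_antisymm (heq.le.trans (Finset.inf_le hi)) hle⟩

/-- Freeness is stable under base change. -/
theorem free_of_isPushout (k F K F' : Type u) [Field k] [CommRing F] [CommRing K] [CommRing F']
    [Algebra k F] [Algebra k K] [Algebra F F'] [Algebra K F'] [Algebra k F']
    [IsScalarTower k F F'] [IsScalarTower k K F'] [h : Algebra.IsPushout k F K F']
 : Module.Free F F' :=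
  Module.Free.of_equiv h.out.equiv

attribute [local instance] Algebra.TensorProduct.rightAlgebra

/-- A prime over `p` is recovered from the fibre ring. -/
theorem comap_fiberIdeal {R S : Type u} [CommRing R] [CommRing S] [Algebra R S] (p : Ideal R)
    [p.IsPrime] (q : Ideal S) [q.IsPrime] [q.LiesOver p] :
    (FlatCA.fiberIdeal p q).comap (algebraMap S (p.Fiber S)) = q := by
  refine le_antisymm (fun s hs => ?_) Ideal.le_comap_map
  let ψ : p.Fiber S →ₐ[R] q.ResidueField :=
    Algebra.TensorProduct.lift (Ideal.ResidueField.mapₐ p q (Algebra.ofId R S) (q.over_def p))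
      (IsScalarTower.toAlgHom R S q.ResidueField) (fun _ _ => mul_comm _ _)
  have hψ : ∀ s : S, ψ (algebraMap S (p.Fiber S) s) = algebraMap S q.ResidueField s := fun s => by
    change ψ ((1 : p.ResidueField) ⊗ₜ[R] s) = _
    simp [ψ]
  have hle : FlatCA.fiberIdeal p q ≤ RingHom.ker ψ.toRingHom :=
    Ideal.map_le_iff_le_comap.mpr fun s hs => (hψ s).trans
      (Ideal.algebraMap_residueField_eq_zero.mpr hs)
  exact Ideal.algebraMap_residueField_eq_zero.mp ((hψ s).symm.trans (hle hs))

/-- A prime ideal of the fibre ring is the extension of its contraction. -/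
theorem fiberIdeal_comap {R S : Type u} [CommRing R] [CommRing S] [Algebra R S] (p : Ideal R)
    [p.IsPrime] (Q : Ideal (p.Fiber S)) :
    FlatCA.fiberIdeal p (Q.comap (algebraMap S (p.Fiber S))) = Q := by
  refine le_antisymm Ideal.map_comap_le fun z hz => ?_
  obtain ⟨r, hr, s, hs⟩ := Ideal.Fiber.exists_smul_eq_one_tmul p z
  have hu : IsUnit (algebraMap R (p.Fiber S) r) := by
    rw [IsScalarTower.algebraMap_apply R p.ResidueField (p.Fiber S)]
    exact (IsUnit.mk0 _ (mt Ideal.algebraMap_residueField_eq_zero.mp hr)).map _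
  rw [← Ideal.unit_mul_mem_iff_mem _ hu, ← Algebra.smul_def, hs]
  refine Ideal.mem_map_of_mem _ ?_
  change (1 : p.ResidueField) ⊗ₜ[R] s ∈ Q
  rw [← hs, Algebra.smul_def]
  exact Q.mul_mem_left _ hz

/-- Associated points of fibre modules contract to associated points under base change of the base. -/
theorem fiberIdeal_comap_mem_associatedPrimes {R R' S S' N N' : Type u} [CommRing R] [CommRing R']
    [CommRing S] [CommRing S'] [Algebra R R'] [Algebra R S] [Algebra R' S'] [Algebra S S']
    [Algebra R S'] [IsScalarTower R R' S'] [IsScalarTower R S S'] [Algebra.IsPushout R S R' S']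
    [AddCommGroup N] [Module S N] [AddCommGroup N'] [Module S' N'] [Module S N']
    [IsScalarTower S S' N'] {g : N →ₗ[S] N'} (hg : IsBaseChange S' g)
    (t : Ideal R) [t.IsPrime] (t' : Ideal R') [t'.IsPrime] [t'.LiesOver t]
    (P : Ideal S') [P.IsPrime] [P.LiesOver t']
    (hP : FlatCA.fiberIdeal t' P ∈ associatedPrimes (t'.Fiber S') (FlatCA.fiberMod t' S' N')) :
    FlatCA.fiberIdeal t (P.comap (algebraMap S S')) ∈
      associatedPrimes (t.Fiber S) (FlatCA.fiberMod t S N) := by
  let ν : t.ResidueField →ₐ[R] t'.ResidueField :=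
    Ideal.ResidueField.mapₐ t t' (Algebra.ofId R R') (t'.over_def t)
  let : Algebra t.ResidueField t'.ResidueField := ν.toRingHom.toAlgebra
  have : IsScalarTower R t.ResidueField t'.ResidueField :=
    IsScalarTower.of_algebraMap_eq fun r => (ν.commutes r).symm
  let : Algebra S (t'.Fiber S') := ((algebraMap S' (t'.Fiber S')).comp (algebraMap S S')).toAlgebra
  have : IsScalarTower S S' (t'.Fiber S') := IsScalarTower.of_algebraMap_eq fun _ => rfl
  have : IsScalarTower R R' (t'.Fiber S') := inferInstance
  have : IsScalarTower R S (t'.Fiber S') := IsScalarTower.of_algebraMap_eq fun r => by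
    change _ = algebraMap S' (t'.Fiber S') (algebraMap S S' (algebraMap R S r))
    rw [← IsScalarTower.algebraMap_apply R S S', IsScalarTower.algebraMap_apply R R' S',
      ← IsScalarTower.algebraMap_apply R' S' (t'.Fiber S'), ← IsScalarTower.algebraMap_apply]
  let φ : t.Fiber S →ₐ[R] t'.Fiber S' := Algebra.TensorProduct.lift
    ((IsScalarTower.toAlgHom R t'.ResidueField (t'.Fiber S')).comp ν)
    (IsScalarTower.toAlgHom R S (t'.Fiber S')) (fun _ _ => mul_comm _ _)
  let : Algebra (t.Fiber S) (t'.Fiber S') := φ.toRingHom.toAlgebra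
  have hφS : ∀ s, φ (algebraMap S (t.Fiber S) s) = algebraMap S (t'.Fiber S') s := fun s => by
    change φ ((1 : t.ResidueField) ⊗ₜ[R] s) = _
    simp [φ, ← Algebra.TensorProduct.one_def]
  have : IsScalarTower S (t.Fiber S) (t'.Fiber S') :=
    IsScalarTower.of_algebraMap_eq fun s => (hφS s).symm
  have : IsScalarTower t.ResidueField (t.Fiber S) (t'.Fiber S') :=
    IsScalarTower.of_algebraMap_eq fun k => by
      change _ = φ (k ⊗ₜ[R] (1 : S))
      simp [φ]
      rfl
  have : IsScalarTower R S' (t'.Fiber S') := IsScalarTower.of_algebraMap_eq fun r => by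
    rw [IsScalarTower.algebraMap_apply R R' S', ← IsScalarTower.algebraMap_apply R' S' (t'.Fiber S'),
      ← IsScalarTower.algebraMap_apply]
  have : Algebra.IsPushout R R' S S' := Algebra.IsPushout.symm inferInstance
  have h0 : Algebra.IsPushout R' t'.ResidueField S' (t'.Fiber S') := inferInstance
  have h1 : Algebra.IsPushout R t'.ResidueField S (t'.Fiber S') :=
    (Algebra.IsPushout.comp_iff R R' S S' (T := t'.ResidueField) (T' := t'.Fiber S')).mpr h0
  have h2 : Algebra.IsPushout R t.ResidueField S (t.Fiber S) := inferInstance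
  have h3 : Algebra.IsPushout t.ResidueField t'.ResidueField (t.Fiber S) (t'.Fiber S') :=
    (Algebra.IsPushout.comp_iff R t.ResidueField S (t.Fiber S) (T := t'.ResidueField)
      (T' := t'.Fiber S')).mp h1
  have h4 := h3.symm
  have : Module.Free (t.Fiber S) (t'.Fiber S') :=
    free_of_isPushout t.ResidueField (t.Fiber S) t'.ResidueField (t'.Fiber S')
  let : Module (t.Fiber S) (FlatCA.fiberMod t' S' N') := Module.compHom (FlatCA.fiberMod t' S' N') (algebraMap (t.Fiber S) (t'.Fiber S'))
  have : IsScalarTower (t.Fiber S) (t'.Fiber S') (FlatCA.fiberMod t' S' N') :=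
    IsScalarTower.of_algebraMap_smul fun _ _ => rfl
  let : Module S (FlatCA.fiberMod t' S' N') := Module.compHom (FlatCA.fiberMod t' S' N') (algebraMap S S')
  have : IsScalarTower S S' (FlatCA.fiberMod t' S' N') := IsScalarTower.of_algebraMap_smul fun _ _ => rfl
  have : IsScalarTower S' (t'.Fiber S') (FlatCA.fiberMod t' S' N') :=
    IsScalarTower.of_algebraMap_smul fun s m =>
      algebraMap_smul (t'.Fiber S') s (show (t'.Fiber S') ⊗[S'] N' from m)
  have : IsScalarTower S (t'.Fiber S') (FlatCA.fiberMod t' S' N') := IsScalarTower.of_algebraMap_smul fun s m => by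
    exact algebraMap_smul (t'.Fiber S') (algebraMap S S' s) m
  have : IsScalarTower S (t.Fiber S) (FlatCA.fiberMod t' S' N') := IsScalarTower.of_algebraMap_smul fun s m => by
    change φ (algebraMap S (t.Fiber S) s) • m = _
    rw [hφS, algebraMap_smul]
  have hM' : IsBaseChange (t'.Fiber S') (FlatCA.toFiberMod t' S' N') :=
    TensorProduct.isBaseChange S' N' (t'.Fiber S')
  have : IsScalarTower S (t.Fiber S) (FlatCA.fiberMod t S N) :=
    IsScalarTower.of_algebraMap_smul fun s m =>
      algebraMap_smul (t.Fiber S) s (show (t.Fiber S) ⊗[S] N from m)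
  have hM : IsBaseChange (t.Fiber S) (FlatCA.toFiberMod t S N) :=
    TensorProduct.isBaseChange S N (t.Fiber S)
  let fN : N →ₗ[S] (FlatCA.fiberMod t' S' N') := ((FlatCA.toFiberMod t' S' N').restrictScalars S).comp g
  have hfN : IsBaseChange (t'.Fiber S') fN := IsBaseChange.comp hg hM'
  let γ : FlatCA.fiberMod t S N →ₗ[t.Fiber S] (FlatCA.fiberMod t' S' N') := hM.lift fN
  have hγ : IsBaseChange (t'.Fiber S') γ := by
    refine IsBaseChange.of_comp hM ?_
    rw [show γ.restrictScalars S ∘ₗ FlatCA.toFiberMod t S N = fN from hM.lift_comp fN]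
    exact hfN
  have h5 := comap_mem_associatedPrimes_of_free hγ hP
  have h6 : ((FlatCA.fiberIdeal t' P).comap (algebraMap (t.Fiber S) (t'.Fiber S'))).comap
      (algebraMap S (t.Fiber S)) = P.comap (algebraMap S S') := by
    rw [Ideal.comap_comap, ← IsScalarTower.algebraMap_eq,
      IsScalarTower.algebraMap_eq S S' (t'.Fiber S'), ← Ideal.comap_comap, comap_fiberIdeal]
  rw [← h6, fiberIdeal_comap]
  exact h5

end Groth.Agent.H7Flat.ImpurityDescend
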