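import Groth.Agent.H1CAlg.CompletionFree
import Groth.Agent.H1CAlg.MittagLeffler
import Groth.Agent.S6347
import Mathlib.RingTheory.Flat.Equalizer
import Mathlib.RingTheory.Nilpotent.Basic
import Mathlib.LinearAlgebra.TensorProduct.Quotient
import Mathlib.LinearAlgebra.TensorProduct.RightExactness

/-!
Completions of free modules, and of flat modules projective modulo the ideal, over complete
Noetherian rings are flat and Mittag-Leffler.
-/

set_option autoImplicit false
universe u

namespace Groth.Agent.H7Flat.CompletionML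

open TensorProduct Groth.Agent.H1CAlg

set_option backward.isDefEq.respectTransparency false

variable {R : Type u} [CommRing R] (I : Ideal R)

/-- Evaluation of an element of the completion of a free module. -/
noncomputable def ev [IsAdicComplete I R] (α : Type u) :
    AdicCompletion I (α →₀ R) →ₗ[R] (α → R) :=
  LinearMap.pi fun a => (AdicCompletion.ofLinearEquiv I R).symm.toLinearMap ∘ₗ
    (AdicCompletion.map I (Finsupp.lapply a : (α →₀ R) →ₗ[R] R)).restrictScalars R

theorem ev_sub_mem [IsAdicComplete I R] {α : Type u}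
    (X : AdicCompletion.AdicCauchySequence I (α →₀ R)) (a : α) (k : ℕ) :
    ev I α (AdicCompletion.mk I _ X) a - X.1 k a ∈ I ^ k := by
  let r := ev I α (AdicCompletion.mk I _ X) a
  have h : AdicCompletion.of I R r =
      AdicCompletion.map I (Finsupp.lapply a : (α →₀ R) →ₗ[R] R) (AdicCompletion.mk I _ X) :=
    AdicCompletion.of_ofLinearEquiv_symm I _
  have h2 : Submodule.Quotient.mk (p := (I ^ k • ⊤ : Submodule R R)) r =
      Submodule.Quotient.mk (X.1 k a) := congrArg (fun z => z.1 k) h
  exact (Ideal.mul_top _).le ((Submodule.Quotient.eq _).mp h2)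

/-- The evaluation is universally injective. -/
theorem ev_universallyInjective [IsNoetherianRing R] [IsAdicComplete I R] (α : Type u) :
    CAlgX.UniversallyInjective R (ev I α) := by
  classical
  intro Q _ _
  rw [injective_iff_map_eq_zero]
  intro z hz
  obtain ⟨n, x, q, rfl⟩ := TensorProduct.exists_sum_tmul_eq z
  have := (S6347.result R α).1
  have h' : ∑ i, q i ⊗ₜ[R] ev I α (x i) = (0 : Q ⊗[R] (α → R)) := by
    have := congrArg (TensorProduct.comm R (α → R) Q) hz
    simpa [map_sum] using this
  obtain ⟨m, a, w, hw, ha⟩ := vanishesTrivially_of_sum_tmul_eq_zero_of_rTensor_injective R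
    (Module.Flat.rTensor_preserves_injective_linearMap (M := α → R) _
      (Submodule.span R (Set.range q)).subtype_injective) h'
  let a' : Fin m → Fin n → R := fun j i => a i j
  choose X hX using fun i => AdicCompletion.mk_surjective I (α →₀ R) (x i)
  have hlevel : ∀ k, ∃ v : Fin n → (α →₀ R),
      (∀ b, (fun i => v i b) ∈ LinearMap.range (Fintype.linearCombination R a')) ∧
      ∀ i, v i - (X i).1 k ∈ I ^ k • (⊤ : Submodule R (α →₀ R)) := by
    intro k
    let S := Finset.univ.biUnion fun i => ((X i).1 k).support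
    refine ⟨fun i => Finsupp.onFinset S (fun b => if b ∈ S then ev I α (x i) b else 0)
      (fun b hb => by by_contra h; exact hb (if_neg h)), fun b => ?_, fun i => ?_⟩
    · by_cases hb : b ∈ S
      · refine ⟨fun j => w j b, funext fun i => ?_⟩
        rw [Fintype.linearCombination_apply, Finset.sum_apply, Finsupp.onFinset_apply, if_pos hb,
          show ev I α (x i) = ∑ j, a i j • w j from hw i, Finset.sum_apply]
        exact Finset.sum_congr rfl fun j _ => mul_comm _ _
      · simp only [Finsupp.onFinset_apply, if_neg hb]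
        exact zero_mem _
    · refine (CompletionFree.mem_smul_top_finsupp _ _).mpr fun b => ?_
      rw [Finsupp.sub_apply, Finsupp.onFinset_apply]
      by_cases hb : b ∈ S
      · rw [if_pos hb, ← hX i]
        exact ev_sub_mem I (X i) b k
      · rw [if_neg hb]
        have : (X i).1 k b = 0 := by
          by_contra h0
          exact hb (Finset.mem_biUnion.mpr ⟨i, Finset.mem_univ _, Finsupp.mem_support_iff.mpr h0⟩)
        rw [this, sub_zero]
        exact zero_mem _
  obtain ⟨y, hy⟩ := CompletionFree.exists_preimage I a' x X hX hlevel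
  calc ∑ i, x i ⊗ₜ[R] q i = ∑ i, ∑ l, y l ⊗ₜ[R] (a i l • q i) := by
        refine Finset.sum_congr rfl fun i _ => ?_
        rw [hy i, sum_tmul]
        exact Finset.sum_congr rfl fun l _ => smul_tmul _ _ _
    _ = ∑ l, y l ⊗ₜ[R] ∑ i, a i l • q i := by
        rw [Finset.sum_comm]
        simp only [tmul_sum]
    _ = 0 := Finset.sum_eq_zero fun l _ => by rw [ha l, tmul_zero]

/-- The completion of a free module is flat and Mittag-Leffler. -/
theorem flat_and_mittagLeffler_finsupp [IsNoetherianRing R] [IsAdicComplete I R] (α : Type u) :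
    Module.Flat R (AdicCompletion I (α →₀ R)) ∧
      CAlg.IsMittagLeffler R (AdicCompletion I (α →₀ R)) :=
  ⟨CompletionFree.flat I α,
    isMittagLeffler_of_universallyInjective (ev I α) (ev_universallyInjective I α) (S6347.result R α).2⟩

/-- For a flat module projective modulo the ideal, the completion of a free cover splits. -/
theorem exists_section {M : Type u} [AddCommGroup M] [Module R M] [Module.Flat R M]
    [Module.Projective (R ⧸ I) (M ⧸ (I • ⊤ : Submodule R M))] {F : Type u} [AddCommGroup F]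
    [Module R F] [Module.Projective R F] (π : F →ₗ[R] M) (hπ : Function.Surjective π) :
    ∃ s : AdicCompletion I M →ₗ[R] AdicCompletion I F,
      ((AdicCompletion.map I π).restrictScalars R) ∘ₗ s = LinearMap.id := by
  have hproj : Module.Projective (R ⧸ I) ((R ⧸ I) ⊗[R] M) :=
    Module.Projective.of_equiv ((TensorProduct.quotTensorEquivQuotSMul M I).extendScalarsOfSurjective
      Ideal.Quotient.mk_surjective).symm
  let K := LinearMap.ker π
  let ib : (R ⧸ I) ⊗[R] K →ₗ[R ⧸ I] (R ⧸ I) ⊗[R] F := K.subtype.baseChange (R ⧸ I)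
  let pb : (R ⧸ I) ⊗[R] F →ₗ[R ⧸ I] (R ⧸ I) ⊗[R] M := π.baseChange (R ⧸ I)
  obtain ⟨σ, hσ⟩ := Module.projective_lifting_property pb LinearMap.id
    (LinearMap.lTensor_surjective (R ⧸ I) hπ)
  have hex : Function.Exact ib pb := lTensor_exact (R ⧸ I) (LinearMap.exact_subtype_ker_map π) hπ
  have hiinj : Function.Injective ib :=
    LinearMap.lTensor_injective_of_exact_of_flat π hπ K.subtype Subtype.val_injective
      (LinearMap.exact_subtype_ker_map π) (R ⧸ I)
  have hrange : ∀ z, z - σ (pb z) ∈ LinearMap.range ib := fun z => by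
    refine (hex (z - σ (pb z))).mp ?_
    rw [map_sub, ← LinearMap.comp_apply pb σ, hσ, LinearMap.id_apply, sub_self]
  let r : (R ⧸ I) ⊗[R] F →ₗ[R ⧸ I] (R ⧸ I) ⊗[R] K :=
    (LinearEquiv.ofInjective ib hiinj).symm.toLinearMap ∘ₗ
      (LinearMap.id - σ ∘ₗ pb).codRestrict _ hrange
  have hr : ∀ y, r (ib y) = y := fun y => by
    apply (LinearEquiv.ofInjective ib hiinj).injective
    simp only [r, LinearMap.comp_apply, LinearEquiv.coe_coe, LinearEquiv.apply_symm_apply]
    ext
    simp [hex.apply_apply_eq_zero y]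
  obtain ⟨r', hr'⟩ := Module.projective_lifting_property (TensorProduct.mk R (R ⧸ I) K 1)
    ((r.restrictScalars R) ∘ₗ TensorProduct.mk R (R ⧸ I) F 1)
    (TensorProduct.mk_surjective R K (R ⧸ I) Ideal.Quotient.mk_surjective)
  let e : Module.End R K := LinearMap.id - r' ∘ₗ K.subtype
  have he : ∀ y, e y ∈ I • (⊤ : Submodule R K) := fun y => by
    rw [← Submodule.Quotient.mk_eq_zero,
      ← (TensorProduct.quotTensorEquivQuotSMul K I).symm.map_eq_zero_iff,
      TensorProduct.quotTensorEquivQuotSMul_symm_mk]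
    have h1 := LinearMap.congr_fun hr' (K.subtype y)
    simp only [LinearMap.comp_apply, TensorProduct.mk_apply, LinearMap.coe_restrictScalars] at h1
    have h2 : r ((1 : R ⧸ I) ⊗ₜ[R] K.subtype y) = (1 : R ⧸ I) ⊗ₜ[R] y :=
      hr ((1 : R ⧸ I) ⊗ₜ[R] y)
    show (1 : R ⧸ I) ⊗ₜ[R] (y - r' (K.subtype y)) = 0
    rw [tmul_sub, h1, h2, sub_self]
  have hpow : ∀ n y, (e ^ n) y ∈ I ^ n • (⊤ : Submodule R K) := by
    intro n
    induction n with
    | zero => intro y; simp
    | succ n ih =>
      intro y
      rw [show e ^ (n + 1) = e * e ^ n from pow_succ' e n, Module.End.mul_apply]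
      have : (I ^ n • (⊤ : Submodule R K)).map e ≤ I ^ n • (I • ⊤) := by
        rw [Submodule.map_smul'']
        exact Submodule.smul_mono le_rfl (by rintro _ ⟨z, -, rfl⟩; exact he z)
      rw [pow_succ, Submodule.mul_smul]
      exact this (Submodule.mem_map_of_mem (ih y))
  have hKF : ∀ n (k : K), k ∈ I ^ n • (⊤ : Submodule R K) →
      (k : F) ∈ I ^ n • (⊤ : Submodule R F) := fun n k hk =>
    Submodule.smul_top_le_comap_smul_top (I ^ n) K.subtype hk
  let t : ℕ → (F →ₗ[R] F) := fun n =>
    LinearMap.id - K.subtype ∘ₗ (∑ i ∈ Finset.range n, e ^ i) ∘ₗ r'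
  have htK : ∀ n, K ≤ LinearMap.ker ((I ^ n • (⊤ : Submodule R F)).mkQ ∘ₗ t n) := by
    intro n y hy
    rw [LinearMap.mem_ker, LinearMap.comp_apply, Submodule.mkQ_apply, Submodule.Quotient.mk_eq_zero]
    have h1 : (∑ i ∈ Finset.range n, e ^ i) (r' y) = (⟨y, hy⟩ : K) - (e ^ n) ⟨y, hy⟩ := by
      have h2 : (r' ∘ₗ K.subtype : Module.End R K) = 1 - e := (sub_sub_cancel _ _).symm
      have h3 := LinearMap.congr_fun (geom_sum_mul_neg e n) (⟨y, hy⟩ : K)
      rw [← h2] at h3
      exact h3
    change y - ((∑ i ∈ Finset.range n, e ^ i) (r' y) : K) ∈ _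
    rw [h1, Submodule.coe_sub, sub_sub_cancel]
    exact hKF n _ (hpow n _)
  let sn : ∀ n, M →ₗ[R] F ⧸ (I ^ n • (⊤ : Submodule R F)) := fun n =>
    (K.liftQ _ (htK n)) ∘ₗ (LinearMap.quotKerEquivOfSurjective π hπ).symm.toLinearMap
  have hsn : ∀ n z, sn n (π z) = Submodule.Quotient.mk (t n z) := fun n z => by
    change K.liftQ _ (htK n) ((LinearMap.quotKerEquivOfSurjective π hπ).symm (π z)) = _
    rw [← LinearMap.quotKerEquivOfSurjective_apply_mk π hπ z, LinearEquiv.symm_apply_apply]
    rfl
  have hsnI : ∀ n, I ^ n • (⊤ : Submodule R M) ≤ LinearMap.ker (sn n) := fun n => by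
    refine Submodule.smul_le.mpr fun a ha m _ => ?_
    rw [LinearMap.mem_ker, map_smul]
    obtain ⟨z, hz⟩ := Submodule.Quotient.mk_surjective _ (sn n m)
    rw [← hz, ← Submodule.Quotient.mk_smul, Submodule.Quotient.mk_eq_zero]
    exact Submodule.smul_mem_smul ha trivial
  have hle : ∀ {m n : ℕ}, m ≤ n → ∀ z, t n z - t m z ∈ I ^ m • (⊤ : Submodule R F) := by
    intro m n hmn z
    have h1 : t n z - t m z =
        -(((∑ i ∈ Finset.Ico m n, (e ^ i) (r' z) : K)) : F) := by
      change z - ((∑ i ∈ Finset.range n, e ^ i) (r' z) : K) -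
        (z - ((∑ i ∈ Finset.range m, e ^ i) (r' z) : K)) = _
      rw [sub_sub_sub_cancel_left, ← Finset.sum_range_add_sum_Ico _ hmn, LinearMap.add_apply,
        Submodule.coe_add, LinearMap.sum_apply (Finset.Ico m n)]
      abel
    rw [h1]
    exact neg_mem (hKF m _ (sum_mem fun i hi => Submodule.smul_mono
      (Ideal.pow_le_pow_right (Finset.mem_Ico.mp hi).1) le_rfl (hpow i _)))
  refine ⟨AdicCompletion.lift I
    (fun n => ((I ^ n • (⊤ : Submodule R M)).liftQ (sn n) (hsnI n)) ∘ₗ AdicCompletion.eval I M n)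
    (fun {m n} hmn => ?_), ?_⟩
  · ext X
    obtain ⟨z, hz⟩ := hπ (X.1 n)
    have hX : Submodule.Quotient.mk (p := (I ^ m • ⊤ : Submodule R M)) (X.1 m) =
        Submodule.Quotient.mk (X.1 n) := X.2 hmn
    change Submodule.factorPow I F hmn (sn n (X.1 n)) =
      (I ^ m • (⊤ : Submodule R M)).liftQ (sn m) (hsnI m) (Submodule.Quotient.mk (X.1 m))
    rw [hX, Submodule.liftQ_apply, ← hz, hsn, hsn]
    exact (Submodule.Quotient.eq _).mpr (hle hmn z)
  · ext X n
    obtain ⟨z, hz⟩ := hπ (X.1 n)
    change LinearMap.reduceModIdeal (I ^ n) π (sn n (X.1 n)) = Submodule.Quotient.mk (X.1 n)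
    rw [← hz, hsn]
    change Submodule.Quotient.mk (π (t n z)) = _
    congr 1
    change π (z - ((∑ i ∈ Finset.range n, e ^ i) (r' z) : K)) = π z
    rw [map_sub, LinearMap.mem_ker.mp (SetLike.coe_mem _), sub_zero]

/-- The completion of a flat module projective modulo the ideal is flat and Mittag-Leffler. -/
theorem flat_and_mittagLeffler_of_quotient_projective [IsNoetherianRing R] [IsAdicComplete I R]
    (M : Type u) [AddCommGroup M] [Module R M] [Module.Flat R M]
    [Module.Projective (R ⧸ I) (M ⧸ (I • ⊤ : Submodule R M))] :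
    Module.Flat R (AdicCompletion I M) ∧ CAlg.IsMittagLeffler R (AdicCompletion I M) := by
  obtain ⟨s, hs⟩ := exists_section I (F := M →₀ R) (Finsupp.linearCombination R id)
    (fun m => ⟨Finsupp.single m 1, by simp⟩)
  obtain ⟨hflat, hML⟩ := flat_and_mittagLeffler_finsupp I M
  refine ⟨Module.Flat.of_retract s
    ((AdicCompletion.map I (Finsupp.linearCombination R id)).restrictScalars R) hs, ?_⟩
  refine isMittagLeffler_of_universallyInjective s (fun Q _ _ => ?_) hML
  refine Function.LeftInverse.injective (g := (((AdicCompletion.map I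
    (Finsupp.linearCombination R id)).restrictScalars R).rTensor Q : _ → _)) fun z => ?_
  rw [← LinearMap.comp_apply, ← LinearMap.rTensor_comp, hs, LinearMap.rTensor_id, LinearMap.id_apply]

end Groth.Agent.H7Flat.CompletionML
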