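import Groth.Agent.H02CA.FibreAss
import Mathlib.RingTheory.AdicCompletion.Basic
import Mathlib.RingTheory.Filtration
import Mathlib.LinearAlgebra.TensorProduct.RightExactness

/-!
Universal injectivity of the map to the completion.
-/

set_option autoImplicit false
universe u

namespace Groth.Agent.H7Flat.CompletionUnivInj

open TensorProduct

set_option backward.isDefEq.respectTransparency false
set_option maxHeartbeats 1000000

/-- An element of all powers vanishes when the ideal together with each associated prime is
proper. -/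
theorem eq_zero_of_forall_mem {S : Type u} [CommRing S] [IsNoetherianRing S] (J : Ideal S)
    {X : Type u} [AddCommGroup X] [Module S X] [Module.Finite S X]
    (h : ∀ q ∈ associatedPrimes S X, J ⊔ q ≠ ⊤) (x : X)
    (hx : ∀ n : ℕ, x ∈ J ^ n • (⊤ : Submodule S X)) : x = 0 := by
  by_contra hne
  obtain ⟨r, hr⟩ := (J.mem_iInf_smul_pow_eq_bot_iff x).mp ((Submodule.mem_iInf _).mpr hx)
  obtain ⟨P, hP, hle⟩ := exists_le_isAssociatedPrime_of_isNoetherianRing S x hne
  refine h P hP ((Ideal.eq_top_iff_one _).mpr ?_)
  have h1 : (1 : S) - r ∈ P := hle (by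
    rw [Submodule.mem_colon_singleton, Submodule.mem_bot, sub_smul, one_smul, hr, sub_self])
  have h2 := add_mem (Submodule.mem_sup_left (T := P) r.2) (Submodule.mem_sup_right (S := J) h1)
  simpa using h2

/-- The map to the completion is universally injective. -/
theorem univInj_of_assoc_meet {R S : Type u} [CommRing R] [CommRing S] [Algebra R S]
    [IsNoetherianRing S] (I : Ideal R) (N : Type u) [AddCommGroup N] [Module S N] [Module R N]
    [IsScalarTower R S N] [Module.Finite S N]
    (h : ∀ (Q : Type u) [AddCommGroup Q] [Module R Q], Module.Finite R Q →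
      ∀ q ∈ associatedPrimes S (N ⊗[R] Q), I.map (algebraMap R S) ⊔ q ≠ ⊤) :
    FlatCA.UnivInj R (AdicCompletion.of I N) := by
  intro Q _ _
  rw [LinearMap.lTensor_inj_iff_rTensor_inj, injective_iff_map_eq_zero]
  intro z hz
  obtain ⟨P, hP, hzP⟩ :=
    exists_finite_submodule_right_of_setFinite ({z} : Set (N ⊗[R] Q)) (Set.finite_singleton z)
  obtain ⟨t, ht⟩ := hzP (Set.mem_singleton z)
  have ht' : LinearMap.lTensor N P.subtype t = z := ht
  have hnat : ∀ {A B : Type u} [AddCommGroup A] [Module R A] [AddCommGroup B] [Module R B]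
      (f : A →ₗ[R] B) (w : N ⊗[R] A),
      (AdicCompletion.of I N).rTensor B (f.lTensor N w) =
        f.lTensor (AdicCompletion I N) ((AdicCompletion.of I N).rTensor A w) := by
    intro A B _ _ _ _ f w
    rw [← LinearMap.comp_apply, ← LinearMap.comp_apply, LinearMap.rTensor_comp_lTensor,
      LinearMap.lTensor_comp_rTensor]
  obtain ⟨P', hPP', hP', h0⟩ := Groth.Agent.H02CA.FibreAss.exists_fg_lTensor_eq_zero
    (N := AdicCompletion I N) (Module.Finite.iff_fg.mp hP)
    (t := (AdicCompletion.of I N).rTensor P t) (by rw [← hnat, ht', hz])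
  rw [← hnat] at h0
  set t' := LinearMap.lTensor N (Submodule.inclusion hPP') t with ht'def
  have : Module.Finite R P' := Module.Finite.iff_fg.mpr hP'
  have hlevel : ∀ n : ℕ, t' ∈ (I.map (algebraMap R S)) ^ n • (⊤ : Submodule S (N ⊗[R] P')) := by
    intro n
    rw [← Ideal.map_pow, ← Submodule.restrictScalars_mem R, Ideal.smul_restrictScalars,
      Submodule.restrictScalars_top]
    have h1 : (I ^ n • (⊤ : Submodule R N)).mkQ.rTensor P' t' = 0 := by
      have h2 := congrArg ((AdicCompletion.eval I N n).rTensor P') h0
      rwa [map_zero, ← LinearMap.rTensor_comp_apply, AdicCompletion.eval_comp_of] at h2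
    obtain ⟨w, hw⟩ := (rTensor_exact P' (LinearMap.exact_subtype_mkQ (I ^ n • (⊤ : Submodule R N)))
      (Submodule.mkQ_surjective _) t').mp h1
    rw [← hw]
    clear hw
    induction w using TensorProduct.induction_on with
    | zero => simp
    | tmul a b =>
      rw [LinearMap.rTensor_tmul]
      refine Submodule.smul_induction_on (p := fun a => a ⊗ₜ[R] b ∈ _) a.2
        (fun r hr m _ => ?_) (fun x y hx hy => by rw [add_tmul]; exact add_mem hx hy)
      rw [← smul_tmul']
      exact Submodule.smul_mem_smul hr trivial
    | add x y hx hy => rw [map_add]; exact add_mem hx hy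
  have : Module.Finite S (N ⊗[R] P') :=
    Module.Finite.equiv (AlgebraTensorModule.cancelBaseChange R S S N P')
  have hz0 : t' = 0 := eq_zero_of_forall_mem (I.map (algebraMap R S)) (h P' inferInstance) t' hlevel
  rw [← ht', ← Submodule.subtype_comp_inclusion P P' hPP', LinearMap.lTensor_comp_apply, ← ht'def,
    hz0, map_zero]

end Groth.Agent.H7Flat.CompletionUnivInj
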