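import Groth.Agent.H7Flat.FibreRegular
import Groth.Agent.H7Flat.CompletionUnivInj
import Groth.Agent.H7Flat.CompletionML
import Groth.Agent.H7Flat.WeakAssTensor
import Mathlib.RingTheory.Flat.Localization

/-!
Base changes of flat modules from a complete Noetherian local ring whose tensor products are
detected on the closed fibre are Mittag-Leffler.
-/

set_option autoImplicit false
universe u

namespace Groth.Agent.H7Flat.CompleteBaseML

open TensorProduct FlatMor IsLocalRing ImpurityDescend
open Groth.Agent.H02CA.FibreAss (exists_rep fiber_smul)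

attribute [local instance] Algebra.TensorProduct.rightAlgebra

set_option backward.isDefEq.respectTransparency false
set_option maxHeartbeats 1000000
set_option synthInstance.maxHeartbeats 400000

/-- Tensor products with a base change. -/
theorem exists_tensorEquiv {R₀ R : Type u} [CommRing R₀] [CommRing R] [Algebra R₀ R]
    {M₀ M : Type u} [AddCommGroup M₀] [Module R₀ M₀] [AddCommGroup M] [Module R M] [Module R₀ M]
    [IsScalarTower R₀ R M] {γ : M₀ →ₗ[R₀] M} (hγ : IsBaseChange R γ)
    (Q : Type u) [AddCommGroup Q] [Module R Q] [Module R₀ Q] [IsScalarTower R₀ R Q] :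
    ∃ e : M₀ ⊗[R₀] Q ≃+ M ⊗[R] Q, ∀ m y, e (m ⊗ₜ y) = γ m ⊗ₜ y := by
  refine ⟨((TensorProduct.comm R₀ M₀ Q).toAddEquiv.trans (hγ.tensorEquiv Q).symm.toAddEquiv).trans
    (TensorProduct.comm R Q M).toAddEquiv, fun m y => ?_⟩
  show TensorProduct.comm R Q M ((hγ.tensorEquiv Q).symm (y ⊗ₜ m)) = _
  simp [IsBaseChange.tensorEquiv, IsBaseChange.equiv_tmul]

/-- Mittag-Leffler modules are stable under base change. -/
theorem isMittagLeffler_baseChange {R₀ R : Type u} [CommRing R₀] [CommRing R] [Algebra R₀ R]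
    (M : Type u) [AddCommGroup M] [Module R₀ M] (hM : CAlg.IsMittagLeffler R₀ M) :
    CAlg.IsMittagLeffler R (R ⊗[R₀] M) := by
  intro ι Q _ _
  letI : ∀ i, Module R₀ (Q i) := fun i => Module.compHom (Q i) (algebraMap R₀ R)
  haveI : ∀ i, IsScalarTower R₀ R (Q i) := fun i =>
    IsScalarTower.of_algebraMap_smul fun _ _ => rfl
  haveI : IsScalarTower R₀ R (∀ i, Q i) := IsScalarTower.of_algebraMap_smul fun _ _ => rfl
  have hb : IsBaseChange R (TensorProduct.mk R₀ R M 1) := TensorProduct.isBaseChange R₀ M R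
  obtain ⟨e, he⟩ := exists_tensorEquiv hb (∀ i, Q i)
  choose ei hei using fun i => exists_tensorEquiv hb (Q i)
  have key : ∀ w i, TensorProduct.piRightHom R R (R ⊗[R₀] M) Q (e w) i =
      ei i (TensorProduct.piRightHom R₀ R₀ M Q w i) := by
    intro w i
    induction w using TensorProduct.induction_on with
    | zero => simp
    | tmul m y => simp [he, hei]
    | add a b ha hb => simp only [map_add, Pi.add_apply, ha, hb]
  intro z z' h
  obtain ⟨w, rfl⟩ := e.surjective z
  obtain ⟨w', rfl⟩ := e.surjective z'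
  congr 1
  apply hM ι Q
  funext i
  apply (ei i).injective
  rw [← key, ← key, h]

/-- Localisations of flat modules are flat. -/
theorem flat_localizedModule {R S N : Type u} [CommRing R] [CommRing S] [Algebra R S]
    [AddCommGroup N] [Module S N] [Module R N] [IsScalarTower R S N] [Module.Flat R N]
    (Mon : Submonoid S) : Module.Flat R (LocalizedModule Mon N) := by
  rw [Module.Flat.iff_rTensor_preserves_injective_linearMap]
  intro P P' _ _ _ _ f hf
  rw [← LinearMap.lTensor_inj_iff_rTensor_inj]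
  let mk := LocalizedModule.mkLinearMap Mon N
  intro z z' h
  rw [← sub_eq_zero] at h ⊢
  rw [← map_sub] at h
  generalize z - z' = x at h ⊢
  let gP := AlgebraTensorModule.rTensor R P mk
  let gP' := AlgebraTensorModule.rTensor R P' mk
  obtain ⟨⟨w, s⟩, hw⟩ := IsLocalizedModule.surj Mon gP x
  have hnat : ∀ w, f.lTensor (LocalizedModule Mon N) (gP w) = gP' (f.lTensor N w) := by
    intro w
    induction w using TensorProduct.induction_on with
    | zero => simp
    | tmul a b => rfl
    | add a b ha hb => simp only [map_add, ha, hb]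
  have hs : ∀ (t : S) (y : LocalizedModule Mon N ⊗[R] P),
      f.lTensor (LocalizedModule Mon N) (t • y) = t • f.lTensor (LocalizedModule Mon N) y := by
    intro t y
    induction y using TensorProduct.induction_on with
    | zero => simp
    | tmul a b => rfl
    | add a b ha hb => simp only [map_add, smul_add, ha, hb]
  have h1 : gP' (f.lTensor N w) = 0 := by
    rw [← hnat, show gP w = (s : S) • x from hw.symm, hs, h, smul_zero]
  obtain ⟨t, ht⟩ := (IsLocalizedModule.eq_zero_iff Mon gP').mp h1
  have h2 : f.lTensor N ((t : S) • w) = (t : S) • f.lTensor N w := by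
    clear hw h1 ht
    induction w using TensorProduct.induction_on with
    | zero => simp
    | tmul a b => rfl
    | add a b ha hb => simp only [map_add, smul_add, ha, hb]
  have h3 : (t : S) • w = 0 :=
    Module.Flat.lTensor_preserves_injective_linearMap (M := N) f hf
      (by rw [h2, map_zero]; exact ht)
  have h4 : ((t * s : Mon) : S) • x = 0 := by
    rw [Submonoid.coe_mul, mul_smul, show (s : S) • x = gP w from hw, ← map_smul, h3, map_zero]
  exact IsLocalizedModule.smul_injective gP (t * s) (by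
    show ((t * s : Mon) : S) • x = ((t * s : Mon) : S) • 0
    rw [h4, smul_zero])

/-- Injectivity after tensoring with a field persists in field extensions. -/
theorem lTensor_injective_of_fieldExt {A k K N : Type u} [CommRing A] [Field k] [Field K]
    [Algebra A k] [Algebra A K] [Algebra k K] [IsScalarTower A k K] [AddCommGroup N] [Module A N]
    (u : N →ₗ[A] N) (h : Function.Injective (u.lTensor k)) : Function.Injective (u.lTensor K) := by
  have h4 : Function.Injective ((AlgebraTensorModule.lTensor k k u).lTensor K) :=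
    Module.Flat.lTensor_preserves_injective_linearMap (M := K) _ h
  have hnat : ∀ x, AlgebraTensorModule.cancelBaseChange A k k K N
      ((AlgebraTensorModule.lTensor k k u).lTensor K x) =
        u.lTensor K (AlgebraTensorModule.cancelBaseChange A k k K N x) := by
    intro x
    induction x using TensorProduct.induction_on with
    | zero => simp
    | add a b ha hb => simp only [map_add, ha, hb]
    | tmul a y =>
      induction y using TensorProduct.induction_on with
      | zero => simp
      | add b c hb hc => simp only [tmul_add, map_add, hb, hc]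
      | tmul b n => simp
  rw [injective_iff_map_eq_zero]
  intro x hx
  obtain ⟨y, rfl⟩ := (AlgebraTensorModule.cancelBaseChange A k k K N).surjective x
  rw [← hnat, LinearEquiv.map_eq_zero_iff] at hx
  rw [(injective_iff_map_eq_zero _).mp h4 y hx, map_zero]

variable {R₂ S₂ R S : Type u} [CommRing R₂] [CommRing S₂] [Algebra R₂ S₂] [CommRing R] [CommRing S]
  [Algebra R S] [Algebra R₂ R] [Algebra S₂ S]

/-- Elements regular on the closed fibre of the stage are regular on the closed fibre upstairs. -/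
theorem fiber_regular_of_stage [IsLocalRing R₂] [IsLocalRing R] [IsLocalHom (algebraMap R₂ R)]
    {N₂ N : Type u} [AddCommGroup N₂] [Module S₂ N₂] [Module R₂ N₂] [IsScalarTower R₂ S₂ N₂]
    [AddCommGroup N] [Module S N] [Module R N] [IsScalarTower R S N] [Module R₂ N]
    [IsScalarTower R₂ R N] {γ : N₂ →ₗ[R₂] N} (hγ : IsBaseChange R γ)
    (hsm : ∀ (a : S₂) (x : N₂), γ (a • x) = algebraMap S₂ S a • γ x)
    {s : S₂} (hs : s ∈ FlatCA.nzdFiber R₂ S₂ N₂) (X : FlatCA.fiberMod (maximalIdeal R) S N)
    (hX : algebraMap S₂ S s • X = 0) : X = 0 := by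
  let p := maximalIdeal R
  let p₂ := maximalIdeal R₂
  let κ₂ := p₂.ResidueField
  let κ := p.ResidueField
  have : p.LiesOver p₂ := ⟨by
    rw [Ideal.under, IsLocalRing.maximalIdeal_comap]⟩
  let ν : κ₂ →ₐ[R₂] κ := Ideal.ResidueField.mapₐ p₂ p (Algebra.ofId R₂ R) (p.over_def p₂)
  let : Algebra κ₂ κ := ν.toRingHom.toAlgebra
  have : IsScalarTower R₂ κ₂ κ := IsScalarTower.of_algebraMap_eq fun r => (ν.commutes r).symm
  let u : N₂ →ₗ[R₂] N₂ := (LinearMap.lsmul S₂ N₂ s).restrictScalars R₂
  have h₂ : Function.Injective (u.lTensor κ₂) := by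
    rw [injective_iff_map_eq_zero]
    intro x hx
    obtain ⟨n, rfl⟩ := TensorProduct.mk_surjective R₂ N₂ κ₂
      (Ideal.algebraMap_residueField_surjective p₂) x
    have h1 := WeakAssTensor.fiber_eq_zero_of_one_tmul (S := S₂) p₂ (s • n) hx
    rw [map_smul] at h1
    exact WeakAssTensor.one_tmul_eq_zero_of_fiber (S := S₂) p₂ n (hs _ h1)
  have h₃ : Function.Injective (u.lTensor κ) :=
    lTensor_injective_of_fieldExt (k := κ₂) (K := κ) u h₂
  obtain ⟨r, hr, n, hn⟩ := exists_rep p X
  have hu : IsUnit (algebraMap R S r) := (notMem_maximalIdeal.mp hr).map (algebraMap R S)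
  refine hu.smul_left_cancel.mp ?_
  rw [smul_zero, hn]
  have hsn : FlatCA.toFiberMod p S N (algebraMap S₂ S s • n) = 0 := by
    rw [map_smul, ← hn, smul_comm, hX, smul_zero]
  have h5 := WeakAssTensor.one_tmul_eq_zero_of_fiber (S := S) p _ hsn
  obtain ⟨e, he⟩ := exists_tensorEquiv hγ κ
  have hes : ∀ x, TensorProduct.comm R N κ (e (TensorProduct.comm R₂ κ N₂ (u.lTensor κ x))) =
      (DistribSMul.toLinearMap R N (algebraMap S₂ S s)).lTensor κ
        (TensorProduct.comm R N κ (e (TensorProduct.comm R₂ κ N₂ x))) := by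
    intro x
    induction x using TensorProduct.induction_on with
    | zero => simp
    | add a b ha hb => simp only [map_add, ha, hb]
    | tmul a y => simp [he, u, hsm]
  obtain ⟨x, hx⟩ : ∃ x, TensorProduct.comm R N κ (e (TensorProduct.comm R₂ κ N₂ x)) =
      (1 : κ) ⊗ₜ[R] n := ⟨(TensorProduct.comm R₂ κ N₂).symm (e.symm ((TensorProduct.comm R N κ).symm
        ((1 : κ) ⊗ₜ[R] n))), by simp⟩
  have hx0 : u.lTensor κ x = 0 := by
    apply ((TensorProduct.comm R₂ κ N₂).toAddEquiv.trans (e.trans
      (TensorProduct.comm R N κ).toAddEquiv)).injective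
    rw [map_zero]
    show TensorProduct.comm R N κ (e (TensorProduct.comm R₂ κ N₂ (u.lTensor κ x))) = 0
    rw [hes, hx]
    exact h5
  have h6 : (1 : κ) ⊗ₜ[R] n = 0 := by
    rw [← hx, (injective_iff_map_eq_zero _).mp h₃ x hx0]
    simp
  exact WeakAssTensor.fiber_eq_zero_of_one_tmul (S := S) p n h6

/-- The maximal ideals of the localisation at the elements regular on the closed fibre contain
the maximal ideal of the base. -/
theorem map_le_jacobson [IsLocalRing R₂] [Algebra.FiniteType R₂ S₂] (N₂ : Type u) [AddCommGroup N₂]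
    [Module S₂ N₂] [Module R₂ N₂] [IsScalarTower R₂ S₂ N₂] [Module.Finite S₂ N₂]
    (T : Type u) [CommRing T] [Algebra S₂ T] [Algebra R₂ T] [IsScalarTower R₂ S₂ T]
    [IsLocalization (FlatCA.nzdFiber R₂ S₂ N₂) T] (M : Ideal T) [M.IsMaximal] :
    (maximalIdeal R₂).map (algebraMap R₂ T) ≤ M := by
  classical
  let p := maximalIdeal R₂
  have : IsNoetherianRing (p.Fiber S₂) :=
    Algebra.FiniteType.isNoetherianRing p.ResidueField (p.Fiber S₂)
  have : Module.Finite (p.Fiber S₂) (FlatCA.fiberMod p S₂ N₂) :=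
    inferInstanceAs (Module.Finite (p.Fiber S₂) ((p.Fiber S₂) ⊗[S₂] N₂))
  have : IsScalarTower S₂ (p.Fiber S₂) (FlatCA.fiberMod p S₂ N₂) :=
    IsScalarTower.of_algebraMap_smul fun s m =>
      algebraMap_smul (p.Fiber S₂) s (show (p.Fiber S₂) ⊗[S₂] N₂ from m)
  let q : Ideal S₂ := M.comap (algebraMap S₂ T)
  obtain ⟨hq, hdisj⟩ := (IsLocalization.isPrime_iff_isPrime_disjoint (FlatCA.nzdFiber R₂ S₂ N₂) T M).mp
    inferInstance
  let inc : S₂ →+* p.Fiber S₂ := algebraMap S₂ (p.Fiber S₂)
  let A := (associatedPrimes.finite (p.Fiber S₂) (FlatCA.fiberMod p S₂ N₂)).toFinset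
  have hsub : (q : Set S₂) ⊆ ⋃ P ∈ (A : Set (Ideal (p.Fiber S₂))), (P.comap inc : Ideal S₂) := by
    intro s hsq
    have hsS : s ∉ FlatCA.nzdFiber R₂ S₂ N₂ := fun h => Set.disjoint_left.mp hdisj h hsq
    obtain ⟨x, hx, hx0⟩ : ∃ x : FlatCA.fiberMod p S₂ N₂, s • x = 0 ∧ x ≠ 0 := by
      by_contra hne
      push Not at hne
      exact hsS fun x hx => hne x hx
    obtain ⟨P, hP, hle⟩ := exists_le_isAssociatedPrime_of_isNoetherianRing (p.Fiber S₂) x hx0
    refine Set.mem_biUnion ((Set.Finite.mem_toFinset _).mpr hP) (hle ?_)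
    rw [Submodule.mem_colon_singleton, Submodule.mem_bot]
    rw [show inc s • x = s • x from algebraMap_smul (p.Fiber S₂) s x]
    exact hx
  rw [Ideal.subset_union_prime ⊥ ⊥ (fun P hP _ _ => by
    have : P.IsPrime := ((Set.Finite.mem_toFinset _).mp hP).isPrime
    exact Ideal.comap_isPrime inc P)] at hsub
  obtain ⟨P, hP, hle⟩ := hsub
  have hPass := (Set.Finite.mem_toFinset _).mp hP
  have : P.IsPrime := hPass.isPrime
  let q' := P.comap inc
  have hpq' : p.map (algebraMap R₂ S₂) ≤ q' := by
    refine Ideal.map_le_iff_le_comap.mpr fun a ha => ?_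
    show inc (algebraMap R₂ S₂ a) ∈ P
    rw [← IsScalarTower.algebraMap_apply, IsScalarTower.algebraMap_apply R₂ p.ResidueField,
      Ideal.algebraMap_residueField_eq_zero.mpr ha, map_zero]
    exact zero_mem _
  obtain ⟨-, y, hy⟩ := isAssociatedPrime_iff.mp hPass
  have hq'disj : Disjoint (FlatCA.nzdFiber R₂ S₂ N₂ : Set S₂) q' := by
    rw [Set.disjoint_left]
    intro s hs hsq'
    have hsP : inc s ∈ P := hsq'
    rw [hy, Submodule.mem_colon_singleton, Submodule.mem_bot] at hsP
    have h0 : y = 0 := hs y (by rw [← algebraMap_smul (p.Fiber S₂) s y]; exact hsP)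
    refine this.ne_top ((Ideal.eq_top_iff_one _).mpr ?_)
    rw [hy, Submodule.mem_colon_singleton, Submodule.mem_bot, h0, smul_zero]
  have hne : q'.map (algebraMap S₂ T) ≠ ⊤ := by
    rw [IsLocalization.map_algebraMap_ne_top_iff_disjoint (FlatCA.nzdFiber R₂ S₂ N₂) T]
    exact hq'disj
  have hM : M = q'.map (algebraMap S₂ T) := by
    refine ‹M.IsMaximal›.eq_of_le hne ?_
    rw [← IsLocalization.map_comap (FlatCA.nzdFiber R₂ S₂ N₂) T M]
    exact Ideal.map_mono hle
  rw [hM, IsScalarTower.algebraMap_eq R₂ S₂ T, ← Ideal.map_map]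
  exact Ideal.map_mono hpq'

/-- A base change from a complete Noetherian local ring whose tensor products are detected on the
closed fibre is Mittag-Leffler. -/
theorem isMittagLeffler_of_complete [IsLocalRing R₂] [IsNoetherianRing R₂]
    [IsAdicComplete (maximalIdeal R₂) R₂] [Algebra.FiniteType R₂ S₂]
    [IsLocalRing R] [IsLocalHom (algebraMap R₂ R)] [Algebra.FinitePresentation R S]
    {N₂ N : Type u} [AddCommGroup N₂] [Module S₂ N₂] [Module R₂ N₂] [IsScalarTower R₂ S₂ N₂]
    [Module.Finite S₂ N₂] [Module.Flat R₂ N₂]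
    [AddCommGroup N] [Module S N] [Module R N] [IsScalarTower R S N] [Module R₂ N]
    [IsScalarTower R₂ R N] [Module.FinitePresentation S N] [Module.Flat R N]
    {γ : N₂ →ₗ[R₂] N} (hγ : IsBaseChange R γ)
    (hsm : ∀ (a : S₂) (x : N₂), γ (a • x) = algebraMap S₂ S a • γ x)
    (H : ∀ (Q : Type u) [AddCommGroup Q] [Module R Q] (z : N ⊗[R] Q), z ≠ 0 →
      (Submodule.span S {z}).annihilator ⊔ (maximalIdeal R).map (algebraMap R S) ≠ ⊤) :
    CAlg.IsMittagLeffler R N := by
  let Sig := FlatCA.nzdFiber R₂ S₂ N₂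
  let T := Localization Sig
  let L := LocalizedModule Sig N₂
  have : IsNoetherianRing S₂ := Algebra.FiniteType.isNoetherianRing R₂ S₂
  have : IsNoetherianRing T := IsLocalization.isNoetherianRing Sig T inferInstance
  have : Module.Finite T L :=
    Module.Finite.of_isLocalizedModule Sig (LocalizedModule.mkLinearMap Sig N₂)
  have : Module.Flat R₂ L := flat_localizedModule Sig
  have : Module.Projective (R₂ ⧸ maximalIdeal R₂) (L ⧸ (maximalIdeal R₂ • ⊤ : Submodule R₂ L)) := by
    let := Ideal.Quotient.field (maximalIdeal R₂)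
    exact Module.Projective.of_free
  obtain ⟨hflatC, hMLC⟩ :=
    CompletionML.flat_and_mittagLeffler_of_quotient_projective (maximalIdeal R₂) L
  have : IsScalarTower R₂ T L := IsScalarTower.of_algebraMap_smul fun r x => by
    rw [IsScalarTower.algebraMap_apply R₂ S₂ T, algebraMap_smul, algebraMap_smul]
  have hC : FlatCA.UnivInj R₂ (AdicCompletion.of (maximalIdeal R₂) L) := by
    refine CompletionUnivInj.univInj_of_assoc_meet (S := T) (maximalIdeal R₂) L
      fun Q _ _ _ q hq hne => ?_
    obtain ⟨M, hM, hle⟩ := Ideal.exists_le_maximal q hq.isPrime.ne_top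
    exact hM.ne_top (top_le_iff.mp (hne.ge.trans (sup_le (map_le_jacobson (R₂ := R₂) (S₂ := S₂) N₂ T M) hle)))
  let C := AdicCompletion (maximalIdeal R₂) L
  let ι : N₂ →ₗ[R₂] C := AdicCompletion.of (maximalIdeal R₂) L ∘ₗ
    (LocalizedModule.mkLinearMap Sig N₂).restrictScalars R₂
  let j : N →ₗ[R] R ⊗[R₂] C := hγ.lift ((TensorProduct.mk R₂ R C 1) ∘ₗ ι)
  have hj : ∀ x, j (γ x) = (1 : R) ⊗ₜ[R₂] ι x := fun x => hγ.lift_eq _ x
  refine H1CAlg.isMittagLeffler_of_universallyInjective j (fun Q _ _ => ?_)
    (isMittagLeffler_baseChange C hMLC)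
  let : Module R₂ Q := Module.compHom Q (algebraMap R₂ R)
  have : IsScalarTower R₂ R Q := IsScalarTower.of_algebraMap_smul fun _ _ => rfl
  obtain ⟨e, he⟩ := exists_tensorEquiv hγ Q
  obtain ⟨eC, heC⟩ := exists_tensorEquiv (TensorProduct.isBaseChange R₂ C R) Q
  have hesm : ∀ (a : S₂) (w : N₂ ⊗[R₂] Q), e (a • w) = algebraMap S₂ S a • e w := by
    intro a w
    induction w using TensorProduct.induction_on with
    | zero => simp
    | tmul m y => rw [smul_tmul', he, he, smul_tmul', hsm]
    | add x y hx hy => simp only [smul_add, map_add, hx, hy]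
  have hnat : ∀ w, j.rTensor Q (e w) = eC (ι.rTensor Q w) := by
    intro w
    induction w using TensorProduct.induction_on with
    | zero => simp
    | tmul m y => simp [he, heC, hj]
    | add x y hx hy => simp only [map_add, hx, hy]
  rw [injective_iff_map_eq_zero]
  intro z hz
  obtain ⟨w, rfl⟩ := e.surjective z
  rw [hnat, map_eq_zero_iff eC eC.injective, LinearMap.rTensor_comp_apply] at hz
  have h1 : (LinearMap.rTensor Q ((LocalizedModule.mkLinearMap Sig N₂).restrictScalars R₂)) w = 0 := by
    have h2 := hC Q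
    rw [LinearMap.lTensor_inj_iff_rTensor_inj] at h2
    exact (injective_iff_map_eq_zero _).mp h2 _ hz
  obtain ⟨s, hs⟩ := (IsLocalizedModule.eq_zero_iff Sig
    (AlgebraTensorModule.rTensor R₂ Q (LocalizedModule.mkLinearMap Sig N₂))).mp h1
  by_contra hne
  have hsz : algebraMap S₂ S s • e w = 0 := by
    rw [← hesm, show (s : S₂) • w = 0 from hs, map_zero]
  obtain ⟨M, hM, hle⟩ := Ideal.exists_le_maximal _ (H Q (e w) hne)
  have : M.LiesOver (maximalIdeal R) := ⟨((IsLocalRing.maximalIdeal.isMaximal R).eq_of_le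
    (Ideal.comap_ne_top _ hM.ne_top) (Ideal.map_le_iff_le_comap.mp (le_sup_right.trans hle)))⟩
  obtain ⟨c, hc, hcz⟩ := FibreRegular.smul_regular (maximalIdeal R) M (algebraMap S₂ S s)
    (fun x ⟨c, hc, hcx⟩ => ⟨c, hc, fiber_regular_of_stage hγ hsm s.2 (c • x) (by
      rw [fiber_smul, fiber_smul] at hcx ⊢
      rw [smul_comm]; exact hcx)⟩) Q (e w) hsz
  exact hc (hle (Ideal.mem_sup_left ((Submodule.mem_annihilator_span_singleton _ _).mpr hcz)))

end Groth.Agent.H7Flat.CompleteBaseML
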