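import Groth.Agent.H7Flat.HenselianFlatSpecMain
import Groth.Agent.H7Flat.PureProjective
import Groth.Agent.H7Flat.ImpurityStage
import Groth.Agent.H7Flat.EtaleNbhdHensel
import Groth.Agent.H7Flat.CompleteBaseML
import Groth.Agent.H9Hens.LocalHens
import Groth.Agent.H9Hens.PtLocalProps
import Groth.Agent.H02CA.FlatModel

/-!
Flat finitely presented modules pure along a fibre are universally pure along it.
-/

set_option autoImplicit false
universe u

namespace Groth.Agent.H7Flat.PureUnivPure

open TensorProduct FlatMor IsLocalRing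

attribute [local instance] Algebra.TensorProduct.rightAlgebra

set_option backward.isDefEq.respectTransparency false
set_option maxHeartbeats 1000000
set_option synthInstance.maxHeartbeats 400000

/-- Descent to a henselian Noetherian stage. -/
theorem isUnivPureAlong_of_stage {R₁ S₁ N₁ H B N : Type u} [CommRing R₁] [HenselianLocalRing R₁]
    [IsNoetherianRing R₁] [CommRing S₁] [Algebra R₁ S₁] [Algebra.FiniteType R₁ S₁]
    [AddCommGroup N₁] [Module S₁ N₁] [Module R₁ N₁] [IsScalarTower R₁ S₁ N₁] [Module.Finite S₁ N₁]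
    [Module.Flat R₁ N₁] [CommRing H] [IsLocalRing H] [Algebra R₁ H]
    [IsLocalHom (algebraMap R₁ H)] [CommRing B] [Algebra H B] [Algebra R₁ B] [Algebra S₁ B]
    [IsScalarTower R₁ H B] [IsScalarTower R₁ S₁ B] [Algebra.IsPushout R₁ S₁ H B]
    [AddCommGroup N] [Module B N] [Module S₁ N] [IsScalarTower S₁ B N]
    {g : N₁ →ₗ[S₁] N} (hg : IsBaseChange B g) [Module H N] [IsScalarTower H B N]
    (hmeet : ∀ (p : Ideal H) [p.IsPrime] (q : Ideal B) [q.IsPrime], q.LiesOver p →
      FlatCA.fiberIdeal p q ∈ associatedPrimes (p.Fiber B) (FlatCA.fiberMod p B N) →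
        q ⊔ (maximalIdeal H).map (algebraMap H B) ≠ ⊤) :
    FlatCA.IsUnivPureAlong H B N (maximalIdeal H) := by
  intro A' B' N' _ _ _ _ _ _ _ _ _ _ _ _ _ _ f t' t _ _ P _ himp
  obtain ⟨hpush, hbc, htt, htm, hPt', hass, hnone⟩ := himp
  have := hPt'
  have := htm
  let : Algebra R₁ A' := ((algebraMap H A').comp (algebraMap R₁ H)).toAlgebra
  have : IsScalarTower R₁ H A' := IsScalarTower.of_algebraMap_eq fun _ => rfl
  let : Algebra S₁ B' := ((algebraMap B B').comp (algebraMap S₁ B)).toAlgebra
  have : IsScalarTower S₁ B B' := IsScalarTower.of_algebraMap_eq fun _ => rfl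
  let : Algebra R₁ B' := ((algebraMap A' B').comp (algebraMap R₁ A')).toAlgebra
  have : IsScalarTower R₁ A' B' := IsScalarTower.of_algebraMap_eq fun _ => rfl
  have hRB : IsScalarTower R₁ B B' := IsScalarTower.of_algebraMap_eq fun r => by
    change algebraMap A' B' (algebraMap H A' (algebraMap R₁ H r)) = _
    rw [IsScalarTower.algebraMap_apply R₁ H B, ← IsScalarTower.algebraMap_apply H A' B',
      ← IsScalarTower.algebraMap_apply H B B']
  have : IsScalarTower R₁ S₁ B' := IsScalarTower.of_algebraMap_eq fun r => by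
    change _ = algebraMap B B' (algebraMap S₁ B (algebraMap R₁ S₁ r))
    rw [← IsScalarTower.algebraMap_apply R₁ S₁ B, ← IsScalarTower.algebraMap_apply R₁ B B']
  have hpo : Algebra.IsPushout R₁ S₁ A' B' := by
    have h1 : Algebra.IsPushout R₁ H S₁ B := Algebra.IsPushout.symm inferInstance
    exact ((Algebra.IsPushout.comp_iff R₁ H S₁ B (T := A') (T' := B')).mpr hpush.symm).symm
  let : Module S₁ N' := Module.compHom N' (algebraMap S₁ B')
  have : IsScalarTower S₁ B' N' := IsScalarTower.of_algebraMap_smul fun _ _ => rfl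
  have : IsScalarTower S₁ B N' := IsScalarTower.of_algebraMap_smul fun s x => by
    exact (algebraMap_smul B' (algebraMap S₁ B s) x).symm
  have hg' : IsBaseChange B' ((f.restrictScalars S₁).comp g) := IsBaseChange.comp hg hbc
  let p₁ : Ideal R₁ := t'.comap (algebraMap R₁ A')
  have : p₁.IsPrime := Ideal.comap_isPrime _ _
  have : t'.LiesOver p₁ := ⟨rfl⟩
  let pH : Ideal H := t'.comap (algebraMap H A')
  have : pH.IsPrime := Ideal.comap_isPrime _ _
  have : t'.LiesOver pH := ⟨rfl⟩
  let qH : Ideal B := P.comap (algebraMap B B')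
  have : qH.IsPrime := Ideal.comap_isPrime _ _
  let q₁ : Ideal S₁ := P.comap (algebraMap S₁ B')
  have : q₁.IsPrime := Ideal.comap_isPrime _ _
  have : q₁.LiesOver p₁ := ⟨by
    rw [Ideal.under, Ideal.comap_comap, ← IsScalarTower.algebraMap_eq,
      IsScalarTower.algebraMap_eq R₁ A' B', ← Ideal.comap_comap]
    exact congrArg (Ideal.comap (algebraMap R₁ A')) hPt'.over⟩
  have hqH : qH.LiesOver pH := ⟨by
    rw [Ideal.under, Ideal.comap_comap, ← IsScalarTower.algebraMap_eq,
      IsScalarTower.algebraMap_eq H A' B', ← Ideal.comap_comap]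
    exact congrArg (Ideal.comap (algebraMap H A')) hPt'.over⟩
  have := hpush
  have hassH := ImpurityDescend.fiberIdeal_comap_mem_associatedPrimes hbc pH t' P hass
  have hass₁ := ImpurityDescend.fiberIdeal_comap_mem_associatedPrimes hg' p₁ t' P hass
  have hmap : (maximalIdeal R₁).map (algebraMap R₁ H) ≤ maximalIdeal H :=
    Ideal.map_le_iff_le_comap.mpr fun r hr => by
      rw [Ideal.mem_comap, mem_maximalIdeal, map_mem_nonunits_iff]
      exact (mem_maximalIdeal r).mp hr
  have hne : q₁ ⊔ (maximalIdeal R₁).map (algebraMap R₁ S₁) ≠ ⊤ := by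
    intro htop
    refine hmeet pH qH hqH hassH (top_le_iff.mp ?_)
    have h1 : (⊤ : Ideal B) = (q₁ ⊔ (maximalIdeal R₁).map (algebraMap R₁ S₁)).map (algebraMap S₁ B) := by
      rw [htop, Ideal.map_top]
    rw [h1, Ideal.map_sup, Ideal.map_map, ← IsScalarTower.algebraMap_eq,
      IsScalarTower.algebraMap_eq R₁ H B, ← Ideal.map_map]
    exact sup_le_sup (Ideal.map_le_iff_le_comap.mpr fun s hs => hs) (Ideal.map_mono hmap)
  obtain ⟨Q, hQ, hle⟩ := Ideal.exists_le_maximal _ hne
  have : Q.LiesOver (maximalIdeal R₁) := ⟨(IsLocalRing.maximalIdeal.isMaximal R₁).eq_of_le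
    (Ideal.comap_ne_top _ hQ.ne_top) (Ideal.map_le_iff_le_comap.mp (le_sup_right.trans hle))⟩
  have : t.LiesOver (maximalIdeal R₁) := ⟨(IsLocalRing.maximalIdeal.isMaximal R₁).eq_of_le
    (Ideal.comap_ne_top _ (Ideal.IsPrime.ne_top ‹t.IsPrime›)) (Ideal.map_le_iff_le_comap.mp (by
      rw [IsScalarTower.algebraMap_eq R₁ H A', ← Ideal.map_map]
      exact (Ideal.map_mono hmap).trans (Ideal.map_le_iff_le_comap.mpr htm.over.le)))⟩
  have hgen : FibreGenericSpec.IsGen t' (q₁.map (algebraMap S₁ B')) P :=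
    FibreGenericSpec.isGen_of_mem_associatedPrimes hg' p₁ t' P hass
  obtain ⟨P', hP', hPP', hover⟩ := HenselianFlatSpecMain.exists_ge_liesOver p₁ q₁ N₁ (1 : S₁)
    (fun R _ _ _ => CompleteBaseML.flat_localizedModule R.primeCompl)
    Q (le_sup_left.trans hle) (fun h => hQ.ne_top ((Ideal.eq_top_iff_one Q).mpr h)) hass₁
    t' t htt P hgen rfl
  exact hnone P' hPP' hover

/-- A henselian Noetherian stage below a henselian local ring. -/
theorem exists_henselian_stage (R₀ H : Type u) [CommRing R₀] [IsNoetherianRing R₀] [CommRing H]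
    [HenselianLocalRing H] [Algebra R₀ H] :
    ∃ (R₁ : Type u) (_ : CommRing R₁) (_ : HenselianLocalRing R₁) (_ : IsNoetherianRing R₁)
      (_ : Algebra R₀ R₁) (_ : Algebra R₁ H) (_ : IsScalarTower R₀ R₁ H),
      IsLocalHom (algebraMap R₁ H) := by
  let p₀ := (maximalIdeal H).comap (algebraMap R₀ H)
  let L := Localization.AtPrime p₀
  have : IsNoetherianRing L := IsLocalization.isNoetherianRing p₀.primeCompl L inferInstance
  have hu : ∀ y : p₀.primeCompl, IsUnit (algebraMap R₀ H y) := fun y =>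
    IsLocalRing.notMem_maximalIdeal.mp y.2
  let ι : L →+* H := IsLocalization.lift hu
  have hι : ι.comp (algebraMap R₀ L) = algebraMap R₀ H := IsLocalization.lift_comp hu
  have hloc : IsLocalHom ι := ⟨fun z hz => by
    obtain ⟨⟨a, s⟩, rfl⟩ := IsLocalization.mk'_surjective p₀.primeCompl z
    rw [IsLocalization.AtPrime.isUnit_mk'_iff L p₀]
    intro ha
    rw [IsLocalization.lift_mk'] at hz
    exact (mem_maximalIdeal _).mp (Ideal.mem_comap.mp ha) (isUnit_of_mul_isUnit_left hz)⟩
  obtain ⟨R₁, _, _, _, _, π, hπ, hR₁⟩ := Groth.Agent.H9Hens.exists_isHenselization_colim L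
  have := hπ.isNoetherianRing Groth.Agent.H9Hens.ker_algebraMap_residueField
  have := hR₁.henselian
  obtain ⟨u, hu', -⟩ := hR₁.universal H ι hloc
  let : Algebra R₀ R₁ := ((algebraMap L R₁).comp (algebraMap R₀ L)).toAlgebra
  let : Algebra R₁ H := u.toAlgebra
  have : IsScalarTower R₀ R₁ H := IsScalarTower.of_algebraMap_eq fun r => by
    exact (RingHom.congr_fun hι r).symm.trans (RingHom.congr_fun hu' _).symm
  refine ⟨R₁, inferInstance, inferInstance, inferInstance, inferInstance, inferInstance,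
    inferInstance, ?_⟩
  refine ((IsLocalRing.local_hom_TFAE u).out 0 2).mpr ?_
  rw [← hπ.map_maximalIdeal Groth.Agent.H9Hens.ker_algebraMap_residueField, Ideal.map_map, hu']
  exact ((IsLocalRing.local_hom_TFAE ι).out 0 2).mp hloc

/-- Over a henselian local ring a flat finitely presented module whose fibrewise associated points
all meet the closed fibre is universally pure along it. -/
theorem isUnivPureAlong_of_henselian {H B : Type u} [CommRing H] [HenselianLocalRing H] [CommRing B]
    [Algebra H B] [Algebra.FinitePresentation H B] (N : Type u) [AddCommGroup N] [Module B N]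
    [Module H N] [IsScalarTower H B N] [Module.FinitePresentation B N] [Module.Flat H N]
    (hmeet : ∀ (p : Ideal H) [p.IsPrime] (q : Ideal B) [q.IsPrime], q.LiesOver p →
      FlatCA.fiberIdeal p q ∈ associatedPrimes (p.Fiber B) (FlatCA.fiberMod p B N) →
        q ⊔ (maximalIdeal H).map (algebraMap H B) ≠ ⊤) :
    FlatCA.IsUnivPureAlong H B N (maximalIdeal H) := by
  classical
  obtain ⟨n, π, hπ, hker⟩ := Algebra.FinitePresentation.out (R := H) (A := B)
  let Pl := MvPolynomial (Fin n) H
  let : Algebra Pl B := π.toRingHom.toAlgebra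
  have : IsScalarTower H Pl B := IsScalarTower.of_algebraMap_eq fun x => (π.commutes x).symm
  have : Module.FinitePresentation Pl B :=
    Module.finitePresentation_of_surjective (Algebra.linearMap Pl B) hπ hker
  let : Module Pl N := Module.compHom N π.toRingHom
  have : IsScalarTower Pl B N := IsScalarTower.of_algebraMap_smul fun _ _ => rfl
  have : IsScalarTower H Pl N := IsScalarTower.of_algebraMap_smul fun a x => by
    change π (algebraMap H _ a) • x = a • x
    rw [π.commutes, algebraMap_smul]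
  have : Module.FinitePresentation Pl N := Module.FinitePresentation.trans Pl N B
  let : Module Plᵐᵒᵖ N := Module.compHom N ((RingHom.id Pl).fromOpposite mul_comm)
  have : IsCentralScalar Pl N := ⟨fun _ _ => rfl⟩
  obtain ⟨R₀, _, _, S₀, _, _, _, _, _, _, N₀, _, _, _, _, _, _, f, hR₀, hS₀, hN₀, hflat₀, hpush,
    hf⟩ := Groth.Agent.H02CA.FlatModel.exists_model (M := N) π hπ (fun _ _ => rfl) hker
  have : IsNoetherianRing R₀ := Algebra.FiniteType.isNoetherianRing ℤ R₀
  obtain ⟨R₁, _, _, _, _, _, _, _⟩ := exists_henselian_stage R₀ H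
  let S₁ := R₁ ⊗[R₀] S₀
  let gA : R₁ →ₐ[R₀] B := (IsScalarTower.toAlgHom R₀ H B).comp (IsScalarTower.toAlgHom R₀ R₁ H)
  let φ : S₁ →ₐ[R₀] B :=
    Algebra.TensorProduct.lift gA (IsScalarTower.toAlgHom R₀ S₀ B) fun _ _ => mul_comm _ _
  let : Algebra S₁ B := φ.toRingHom.toAlgebra
  let : Algebra R₁ B := ((algebraMap H B).comp (algebraMap R₁ H)).toAlgebra
  have : IsScalarTower R₁ H B := IsScalarTower.of_algebraMap_eq fun _ => rfl
  have : IsScalarTower R₁ S₁ B := IsScalarTower.of_algebraMap_eq fun r => by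
    change algebraMap R₁ B r = φ (r ⊗ₜ[R₀] (1 : S₀))
    rw [Algebra.TensorProduct.lift_tmul, map_one, mul_one]
    rfl
  have : IsScalarTower S₀ S₁ B := IsScalarTower.of_algebraMap_eq fun s => by
    change algebraMap S₀ B s = φ ((1 : R₁) ⊗ₜ[R₀] s)
    rw [Algebra.TensorProduct.lift_tmul, map_one, one_mul]
    rfl
  have : IsScalarTower R₀ S₁ B := IsScalarTower.of_algebraMap_eq fun r => (φ.commutes r).symm
  have hp₁ : Algebra.IsPushout R₁ S₁ H B := by
    have h1 : Algebra.IsPushout R₀ R₁ S₀ S₁ := inferInstance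
    exact ((Algebra.IsPushout.comp_iff R₀ R₁ S₀ S₁ (T := H) (T' := B)).mp hpush).symm
  let N₁ := S₁ ⊗[S₀] N₀
  let h₁ : N₀ →ₗ[S₀] N₁ := TensorProduct.mk S₀ S₁ N₀ 1
  have hh₁ : IsBaseChange S₁ h₁ := TensorProduct.isBaseChange S₀ N₀ S₁
  let : Module S₁ N := Module.compHom N (algebraMap S₁ B)
  have : IsScalarTower S₁ B N := IsScalarTower.of_algebraMap_smul fun _ _ => rfl
  have : IsScalarTower S₀ S₁ N := IsScalarTower.of_algebraMap_smul fun s x => by
    change algebraMap S₁ B (algebraMap S₀ S₁ s) • x = s • x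
    rw [← IsScalarTower.algebraMap_apply, algebraMap_smul]
  let g : N₁ →ₗ[S₁] N := hh₁.lift f
  have hg : IsBaseChange B g := by
    refine IsBaseChange.of_comp hh₁ ?_
    rw [show g.restrictScalars S₀ ∘ₗ h₁ = f from hh₁.lift_comp f]
    exact hf
  have : Module.Flat R₁ N₁ := by
    have : Algebra.IsPushout R₀ R₁ S₀ S₁ := inferInstance
    exact Module.Flat.of_linearEquiv (Algebra.IsPushout.cancelBaseChange R₀ R₁ S₀ S₁ N₀)
  exact isUnivPureAlong_of_stage (R₁ := R₁) (S₁ := S₁) hg hmeet

/-- A flat finitely presented module which is pure along the fibre over a prime is universally pure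
along it. -/
theorem isUnivPureAlong_of_isPureAlong {A B : Type u} [CommRing A] [CommRing B] [Algebra A B]
    [Algebra.FinitePresentation A B] (N : Type u) [AddCommGroup N] [Module B N] [Module A N]
    [IsScalarTower A B N] [Module.FinitePresentation B N] [Module.Flat A N] (p : Ideal A)
    [p.IsPrime] (h : FlatCA.IsPureAlong A B N p) : FlatCA.IsUnivPureAlong A B N p := by
  let L := Localization.AtPrime p
  obtain ⟨H, _, _, _, _, π, hπ, hH⟩ := Groth.Agent.H9Hens.exists_isHenselization_colim L
  have := hH.henselian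
  have := hπ.flat
  let : Algebra A H := ((algebraMap L H).comp (algebraMap A L)).toAlgebra
  have : IsScalarTower A L H := IsScalarTower.of_algebraMap_eq fun _ => rfl
  have : Module.Flat A L := IsLocalization.flat L p.primeCompl
  have : Module.Flat A H := Module.Flat.trans A L H
  have hmH : (maximalIdeal H).LiesOver p := ⟨by
    rw [Ideal.under, IsScalarTower.algebraMap_eq A L H, ← Ideal.comap_comap,
      IsLocalRing.maximalIdeal_comap (algebraMap L H)]
    exact (IsLocalization.AtPrime.under_maximalIdeal L p).symm⟩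
  let BH := H ⊗[A] B
  have : Algebra.IsPushout A B H BH := Algebra.IsPushout.symm inferInstance
  let NH := BH ⊗[B] N
  let gN : N →ₗ[B] NH := TensorProduct.mk B BH N 1
  have hgN : IsBaseChange BH gN := TensorProduct.isBaseChange B N BH
  have : IsScalarTower A H NH := IsScalarTower.of_algebraMap_smul fun r x => by
    rw [← algebraMap_smul BH (algebraMap A H r) x, ← IsScalarTower.algebraMap_apply,
      algebraMap_smul]
  have : IsScalarTower A B NH := IsScalarTower.of_algebraMap_smul fun r x => by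
    rw [← algebraMap_smul BH (algebraMap A B r) x, ← IsScalarTower.algebraMap_apply,
      algebraMap_smul]
  have : Module.Flat H NH := Module.Flat.isBaseChange A H N NH
    (Groth.Agent.H8Props.FlatAtBC.isBaseChange_restrictScalars (R := A) (R' := H) gN hgN)
  have hHpure : FlatCA.IsUnivPureAlong H BH NH (maximalIdeal H) := by
    refine isUnivPureAlong_of_henselian NH fun pH _ q _ hq hass htop => ?_
    have himp : FlatCA.IsImpurity A B N p H BH NH gN pH (maximalIdeal H) q := by
      refine ⟨inferInstance, hgN, IsLocalRing.le_maximalIdeal (Ideal.IsPrime.ne_top ‹pH.IsPrime›),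
        hmH, hq, hass, fun P' hP' hqP' hover => ?_⟩
      exact hP'.ne_top (top_le_iff.mp (htop.ge.trans (sup_le hqP'
        (Ideal.map_le_iff_le_comap.mpr hover.over.le))))
    obtain ⟨s, hs⟩ := ImpurityStage.exists_finset_hasImpurity himp
    obtain ⟨G, _, _, ψ, hψs, hnhd⟩ := EtaleNbhdHensel.exists_etaleNhd_hitting p H s
    obtain ⟨a, ha, hGQ⟩ := hs G ψ hψs
    obtain ⟨A'', B'', N'', _, _, _, _, _, _, _, _, _, _, _, _, _, _, g, t', t, _, _, P, _, himp',
      ht, hnhd'⟩ := hGQ ((maximalIdeal H).comap ψ) hnhd.2.1 le_rfl ha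
        (fun A'' _ _ t => ∃ _ : t.IsPrime, FlatCA.IsEtaleNhd A A'' p t) ⟨inferInstance, hnhd⟩
    exact h A'' B'' N'' g t' t P hnhd' himp'
  intro A' B' N' _ _ _ _ _ _ _ _ _ _ _ _ _ _ f t' t _ _ P _ himp
  have := himp.2.2.2.1
  obtain ⟨t₂, ht₂, ht₂l, ht₂r⟩ := ImpurityRebase.exists_prime_over_pair p t (maximalIdeal H)
  have : t₂.LiesOver t := ⟨ht₂l.symm⟩
  obtain ⟨t₂', hle, ht₂', hover⟩ := Ideal.exists_ideal_le_liesOver_of_le (p := t') (q := t) t₂
    himp.2.2.1
  have h1 : FlatCA.HasImpurity A B N p (fun A'' _ _ s => ∃ ψ : H →ₐ[A] A'',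
      s.comap ψ.toRingHom = maximalIdeal H ∧ True) :=
    ImpurityBaseChange.hasImpurity_baseChange himp (A' ⊗[A] H) t₂' t₂ hle _
      ⟨Algebra.TensorProduct.includeRight, ht₂r, trivial⟩
  obtain ⟨A'', B'', N'', _, _, _, _, _, _, _, _, _, _, _, _, _, _, g, s', s, _, _, P'', _, himp'', -⟩ :=
    ImpurityRebase.hasImpurity_extend hgN (maximalIdeal H) (fun _ _ _ _ => True) h1
  exact hHpure A'' B'' N'' g s' s P'' himp''

end Groth.Agent.H7Flat.PureUnivPure
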