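import Groth.Agent.H7Flat.ImpurityStage

/-!
Impurities ascend along base changes with going down and descend along finite ones.
-/

set_option autoImplicit false
universe u

namespace Groth.Agent.H7Flat.ImpurityBaseChange

open TensorProduct FlatMor ImpurityDescend

set_option backward.isDefEq.respectTransparency false
set_option maxHeartbeats 1000000
set_option synthInstance.maxHeartbeats 400000

/-- Associated primes ascend along faithfully flat maps into a Noetherian ring. -/
theorem exists_mem_associatedPrimes_of_faithfullyFlat {F F' M M' : Type u} [CommRing F]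
    [CommRing F'] [Algebra F F'] [Module.FaithfullyFlat F F'] [IsNoetherianRing F']
    [AddCommGroup M] [Module F M] [AddCommGroup M'] [Module F' M'] [Module F M']
    [IsScalarTower F F' M'] {g : M →ₗ[F] M'} (hg : IsBaseChange F' g) {Q : Ideal F}
    (hQ : Q ∈ associatedPrimes F M) :
    ∃ Q' ∈ associatedPrimes F' M', Q'.comap (algebraMap F F') = Q := by
  obtain ⟨hQp, x, hx⟩ := hQ
  have := hQp
  let J : Ideal F := Submodule.colon (⊥ : Submodule F M) {x}
  let ι : F ⧸ J →ₗ[F] M := Submodule.liftQ J (LinearMap.toSpanSingleton F M x) fun c hc => by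
    simpa [J, Submodule.mem_colon_singleton] using hc
  have hι : Function.Injective ι := by
    rw [← LinearMap.ker_eq_bot]
    exact Submodule.ker_liftQ_eq_bot _ _ _ fun c hc => by
      simpa [J, Submodule.mem_colon_singleton] using hc
  let L : Submodule F' M' := Submodule.span F' {g x}
  have hann : Module.annihilator F' L = J.map (algebraMap F F') := by
    refine le_antisymm (fun c hc => ?_) ?_
    · have hcx : c • g x = 0 := by
        have := Module.mem_annihilator.mp hc ⟨g x, Submodule.mem_span_singleton_self _⟩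
        exact congrArg Subtype.val this
      have h0 : (c ⊗ₜ[F] Ideal.Quotient.mk J 1 : F' ⊗[F] (F ⧸ J)) = 0 := by
        apply Module.Flat.lTensor_preserves_injective_linearMap (M := F') ι hι
        apply hg.equiv.injective
        rw [map_zero, map_zero, LinearMap.lTensor_tmul, IsBaseChange.equiv_tmul,
          show ι (Ideal.Quotient.mk J 1) = x from one_smul F x]
        exact hcx
      have h1 := congrArg (TensorProduct.tensorQuotEquivQuotSMul F' J) h0
      rwa [TensorProduct.tensorQuotEquivQuotSMul_tmul_mk, map_zero, one_smul,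
        Submodule.Quotient.mk_eq_zero, Ideal.smul_top_eq_map,
        Submodule.restrictScalars_mem] at h1
    · rw [Ideal.map_le_iff_le_comap]
      intro c hc
      rw [Ideal.mem_comap, Module.mem_annihilator]
      rintro ⟨m, hm⟩
      obtain ⟨d, rfl⟩ := Submodule.mem_span_singleton.mp hm
      refine Subtype.ext ?_
      change algebraMap F F' c • d • g x = 0
      rw [smul_comm, algebraMap_smul, ← map_smul, Submodule.mem_colon_singleton.mp hc, map_zero,
        smul_zero]
  have hmin : Q ∈ ((Module.annihilator F' L).comap (algebraMap F F')).minimalPrimes := by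
    rw [hann, Ideal.comap_map_eq_self_of_faithfullyFlat, ← Ideal.radical_minimalPrimes,
      show J.radical = Q from hx.symm, Ideal.minimalPrimes_eq_subsingleton_self]
    rfl
  obtain ⟨Q', hQ', hQQ⟩ := Ideal.exists_minimalPrimes_comap_eq _ _ hmin
  have : Module.Finite F' L := Module.Finite.span_singleton F' (g x)
  exact ⟨Q', associatedPrimes.subset_of_injective L.injective_subtype
    (Module.associatedPrimes.minimalPrimes_annihilator_subset_associatedPrimes F' L hQ'), hQQ⟩

/-- Faithful flatness of a base change along a field extension. -/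
theorem faithfullyFlat_of_isPushout (k F K F' : Type u) [Field k] [CommRing F] [CommRing K]
    [Nontrivial K] [CommRing F'] [Algebra k F] [Algebra k K] [Algebra F F'] [Algebra K F']
    [Algebra k F'] [IsScalarTower k F F'] [IsScalarTower k K F']
    [h : Algebra.IsPushout k F K F'] : Module.FaithfullyFlat F F' :=
  Module.FaithfullyFlat.of_linearEquiv _ _ h.out.equiv.symm

attribute [local instance] Algebra.TensorProduct.rightAlgebra

/-- Associated points of fibre modules lift to associated points after base change of the base. -/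
theorem exists_fiberIdeal_mem_associatedPrimes {R R' S S' N N' : Type u} [CommRing R] [CommRing R']
    [CommRing S] [CommRing S'] [Algebra R R'] [Algebra R S] [Algebra R' S'] [Algebra S S']
    [Algebra R S'] [IsScalarTower R R' S'] [IsScalarTower R S S'] [Algebra.IsPushout R S R' S']
    [Algebra.FiniteType R S]
    [AddCommGroup N] [Module S N] [AddCommGroup N'] [Module S' N'] [Module S N']
    [IsScalarTower S S' N'] {g : N →ₗ[S] N'} (hg : IsBaseChange S' g)
    (t : Ideal R) [t.IsPrime] (t' : Ideal R') [t'.IsPrime] [t'.LiesOver t]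
    (P : Ideal S) [P.IsPrime] [P.LiesOver t]
    (hP : FlatCA.fiberIdeal t P ∈ associatedPrimes (t.Fiber S) (FlatCA.fiberMod t S N)) :
    ∃ P' : Ideal S', P'.IsPrime ∧ P'.LiesOver t' ∧ P'.comap (algebraMap S S') = P ∧
      FlatCA.fiberIdeal t' P' ∈ associatedPrimes (t'.Fiber S') (FlatCA.fiberMod t' S' N') := by
  let ν : t.ResidueField →ₐ[R] t'.ResidueField :=
    Ideal.ResidueField.mapₐ t t' (Algebra.ofId R R') (t'.over_def t)
  let : Algebra t.ResidueField t'.ResidueField := ν.toRingHom.toAlgebra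
  have : IsScalarTower R t.ResidueField t'.ResidueField :=
    IsScalarTower.of_algebraMap_eq fun r => (ν.commutes r).symm
  let : Algebra S (t'.Fiber S') := ((algebraMap S' (t'.Fiber S')).comp (algebraMap S S')).toAlgebra
  have : IsScalarTower S S' (t'.Fiber S') := IsScalarTower.of_algebraMap_eq fun _ => rfl
  have : IsScalarTower R R' (t'.Fiber S') := inferInstance
  have : IsScalarTower R S (t'.Fiber S') := IsScalarTower.of_algebraMap_eq fun r => by
    change _ = algebraMap S' (t'.Fiber S') (algebraMap S S' (algebraMap R S r))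
    rw [← IsScalarTower.algebraMap_apply R S S', IsScalarTower.algebraMap_apply R R' S',
      ← IsScalarTower.algebraMap_apply R' S' (t'.Fiber S'), ← IsScalarTower.algebraMap_apply]
  let φ : t.Fiber S →ₐ[R] t'.Fiber S' := Algebra.TensorProduct.lift
    ((IsScalarTower.toAlgHom R t'.ResidueField (t'.Fiber S')).comp ν)
    (IsScalarTower.toAlgHom R S (t'.Fiber S')) (fun _ _ => mul_comm _ _)
  let : Algebra (t.Fiber S) (t'.Fiber S') := φ.toRingHom.toAlgebra
  have hφS : ∀ s, φ (algebraMap S (t.Fiber S) s) = algebraMap S (t'.Fiber S') s := fun s => by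
    change φ ((1 : t.ResidueField) ⊗ₜ[R] s) = _
    simp [φ, ← Algebra.TensorProduct.one_def]
  have : IsScalarTower S (t.Fiber S) (t'.Fiber S') :=
    IsScalarTower.of_algebraMap_eq fun s => (hφS s).symm
  have : IsScalarTower t.ResidueField (t.Fiber S) (t'.Fiber S') :=
    IsScalarTower.of_algebraMap_eq fun k => by
      change _ = φ (k ⊗ₜ[R] (1 : S))
      simp [φ]
      rfl
  have : IsScalarTower R S' (t'.Fiber S') := IsScalarTower.of_algebraMap_eq fun r => by
    rw [IsScalarTower.algebraMap_apply R R' S', ← IsScalarTower.algebraMap_apply R' S' (t'.Fiber S'),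
      ← IsScalarTower.algebraMap_apply]
  have : Algebra.IsPushout R R' S S' := Algebra.IsPushout.symm inferInstance
  have h0 : Algebra.IsPushout R' t'.ResidueField S' (t'.Fiber S') := inferInstance
  have h1 : Algebra.IsPushout R t'.ResidueField S (t'.Fiber S') :=
    (Algebra.IsPushout.comp_iff R R' S S' (T := t'.ResidueField) (T' := t'.Fiber S')).mpr h0
  have h2 : Algebra.IsPushout R t.ResidueField S (t.Fiber S) := inferInstance
  have h3 : Algebra.IsPushout t.ResidueField t'.ResidueField (t.Fiber S) (t'.Fiber S') :=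
    (Algebra.IsPushout.comp_iff R t.ResidueField S (t.Fiber S) (T := t'.ResidueField)
      (T' := t'.Fiber S')).mp h1
  have h4 := h3.symm
  have : Module.Free (t.Fiber S) (t'.Fiber S') :=
    free_of_isPushout t.ResidueField (t.Fiber S) t'.ResidueField (t'.Fiber S')
  let : Module (t.Fiber S) (FlatCA.fiberMod t' S' N') := Module.compHom (FlatCA.fiberMod t' S' N') (algebraMap (t.Fiber S) (t'.Fiber S'))
  have : IsScalarTower (t.Fiber S) (t'.Fiber S') (FlatCA.fiberMod t' S' N') :=
    IsScalarTower.of_algebraMap_smul fun _ _ => rfl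
  let : Module S (FlatCA.fiberMod t' S' N') := Module.compHom (FlatCA.fiberMod t' S' N') (algebraMap S S')
  have : IsScalarTower S S' (FlatCA.fiberMod t' S' N') := IsScalarTower.of_algebraMap_smul fun _ _ => rfl
  have : IsScalarTower S' (t'.Fiber S') (FlatCA.fiberMod t' S' N') :=
    IsScalarTower.of_algebraMap_smul fun s m =>
      algebraMap_smul (t'.Fiber S') s (show (t'.Fiber S') ⊗[S'] N' from m)
  have : IsScalarTower S (t'.Fiber S') (FlatCA.fiberMod t' S' N') := IsScalarTower.of_algebraMap_smul fun s m => by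
    exact algebraMap_smul (t'.Fiber S') (algebraMap S S' s) m
  have : IsScalarTower S (t.Fiber S) (FlatCA.fiberMod t' S' N') := IsScalarTower.of_algebraMap_smul fun s m => by
    change φ (algebraMap S (t.Fiber S) s) • m = _
    rw [hφS, algebraMap_smul]
  have hM' : IsBaseChange (t'.Fiber S') (FlatCA.toFiberMod t' S' N') :=
    TensorProduct.isBaseChange S' N' (t'.Fiber S')
  have : IsScalarTower S (t.Fiber S) (FlatCA.fiberMod t S N) :=
    IsScalarTower.of_algebraMap_smul fun s m =>
      algebraMap_smul (t.Fiber S) s (show (t.Fiber S) ⊗[S] N from m)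
  have hM : IsBaseChange (t.Fiber S) (FlatCA.toFiberMod t S N) :=
    TensorProduct.isBaseChange S N (t.Fiber S)
  let fN : N →ₗ[S] (FlatCA.fiberMod t' S' N') := ((FlatCA.toFiberMod t' S' N').restrictScalars S).comp g
  have hfN : IsBaseChange (t'.Fiber S') fN := IsBaseChange.comp hg hM'
  let γ : FlatCA.fiberMod t S N →ₗ[t.Fiber S] (FlatCA.fiberMod t' S' N') := hM.lift fN
  have hγ : IsBaseChange (t'.Fiber S') γ := by
    refine IsBaseChange.of_comp hM ?_
    rw [show γ.restrictScalars S ∘ₗ FlatCA.toFiberMod t S N = fN from hM.lift_comp fN]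
    exact hfN
  have : Algebra.FiniteType R' S' :=
    Algebra.FiniteType.equiv (inferInstanceAs (Algebra.FiniteType R' (R' ⊗[R] S)))
      (Algebra.IsPushout.equiv R R' S S')
  have : IsNoetherianRing (t'.Fiber S') := Algebra.FiniteType.isNoetherianRing t'.ResidueField _
  have : Module.FaithfullyFlat (t.Fiber S) (t'.Fiber S') :=
    faithfullyFlat_of_isPushout t.ResidueField (t.Fiber S) t'.ResidueField (t'.Fiber S')
  obtain ⟨Q', hQ', hQQ⟩ := exists_mem_associatedPrimes_of_faithfullyFlat hγ hP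
  have := hQ'.isPrime
  refine ⟨Q'.comap (algebraMap S' (t'.Fiber S')), Ideal.comap_isPrime _ _,
    ImpurityStage.liesOver_comap_fiber t' Q', ?_, ?_⟩
  · rw [Ideal.comap_comap, ← IsScalarTower.algebraMap_eq,
      IsScalarTower.algebraMap_eq S (t.Fiber S) (t'.Fiber S'), ← Ideal.comap_comap, hQQ,
      comap_fiberIdeal]
  · rw [fiberIdeal_comap]
    exact hQ'

section

variable {A B : Type u} [CommRing A] [CommRing B] [Algebra A B] {N : Type u} [AddCommGroup N]
  [Module B N] {p : Ideal A} [p.IsPrime]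

/-- An impurity ascends to any base change with a point over `t` generalizing to one over `t'`. -/
theorem hasImpurity_baseChange [Algebra.FiniteType A B]
    {A' B' N' : Type u} [CommRing A'] [CommRing B'] [Algebra A A'] [Algebra B B'] [Algebra A' B']
    [Algebra A B'] [IsScalarTower A B B'] [IsScalarTower A A' B']
    [AddCommGroup N'] [Module B' N'] [Module B N'] [IsScalarTower B B' N'] [Module A' N']
    [IsScalarTower A' B' N'] {f : N →ₗ[B] N'} {t' t : Ideal A'} [t'.IsPrime] [t.IsPrime]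
    {P : Ideal B'} [P.IsPrime] (himp : FlatCA.IsImpurity A B N p A' B' N' f t' t P)
    (A₂ : Type u) [CommRing A₂] [Algebra A A₂] [Algebra A' A₂] [IsScalarTower A A' A₂]
    (t'₂ t₂ : Ideal A₂) [t'₂.IsPrime] [t₂.IsPrime] (hle : t'₂ ≤ t₂) [t'₂.LiesOver t']
    [t₂.LiesOver t] (Q : ∀ (A'' : Type u) [CommRing A''] [Algebra A A''], Ideal A'' → Prop)
    (hQ : Q A₂ t₂) : FlatCA.HasImpurity A B N p Q := by
  obtain ⟨hpush, hbc, htt, htp, hPt', hass, hnone⟩ := himp
  have := hPt'
  have := htp
  let : Algebra B (A₂ ⊗[A] B) := Algebra.TensorProduct.rightAlgebra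
  have hB : IsScalarTower A B (A₂ ⊗[A] B) := IsScalarTower.of_algebraMap_eq fun a => by
    exact ((Algebra.TensorProduct.includeRight : B →ₐ[A] A₂ ⊗[A] B).commutes a).symm
  let gA : A' →ₐ[A] A₂ ⊗[A] B :=
    (Algebra.TensorProduct.includeLeft : A₂ →ₐ[A] A₂ ⊗[A] B).comp (IsScalarTower.toAlgHom A A' A₂)
  let gB : B →ₐ[A] A₂ ⊗[A] B := Algebra.TensorProduct.includeRight
  let φ : B' →ₐ[A] A₂ ⊗[A] B := Algebra.pushoutDesc B' gB gA fun _ _ => mul_comm _ _
  let : Algebra B' (A₂ ⊗[A] B) := φ.toRingHom.toAlgebra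
  have hφA : ∀ x, φ (algebraMap A' B' x) = gA x := fun x =>
    Algebra.pushoutDesc_right B' gB gA _ x
  have hφB : ∀ b, φ (algebraMap B B' b) = gB b := fun b =>
    Algebra.pushoutDesc_left B' gB gA _ b
  have : IsScalarTower A' B' (A₂ ⊗[A] B) :=
    IsScalarTower.of_algebraMap_eq fun x => (hφA x).symm
  have : IsScalarTower B B' (A₂ ⊗[A] B) :=
    IsScalarTower.of_algebraMap_eq fun b => (hφB b).symm
  have : IsScalarTower A B' (A₂ ⊗[A] B) :=
    IsScalarTower.of_algebraMap_eq fun x => (φ.commutes x).symm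
  have : IsScalarTower A A' (A₂ ⊗[A] B) :=
    IsScalarTower.of_algebraMap_eq fun x => (gA.commutes x).symm
  have hpo : Algebra.IsPushout A B A₂ (A₂ ⊗[A] B) := Algebra.IsPushout.symm inferInstance
  have : Algebra.IsPushout A' B' A₂ (A₂ ⊗[A] B) := by
    have h1 : Algebra.IsPushout A A' B B' := Algebra.IsPushout.symm hpush
    have h2 : Algebra.IsPushout A A₂ B (A₂ ⊗[A] B) := inferInstance
    exact ((Algebra.IsPushout.comp_iff A A' B B' (T := A₂) (T' := A₂ ⊗[A] B)).mp h2).symm
  have : Algebra.FiniteType A' B' := by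
    have : Algebra.IsPushout A A' B B' := Algebra.IsPushout.symm hpush
    exact Algebra.FiniteType.equiv (inferInstanceAs (Algebra.FiniteType A' (A' ⊗[A] B)))
      (Algebra.IsPushout.equiv A A' B B')
  let f₂ : N →ₗ[B] (A₂ ⊗[A] B) ⊗[B] N := TensorProduct.mk B _ N 1
  have hf₂ : IsBaseChange (A₂ ⊗[A] B) f₂ := TensorProduct.isBaseChange B N (A₂ ⊗[A] B)
  let : Module B' ((A₂ ⊗[A] B) ⊗[B] N) := Module.compHom _ (algebraMap B' (A₂ ⊗[A] B))
  have : IsScalarTower B' (A₂ ⊗[A] B) ((A₂ ⊗[A] B) ⊗[B] N) :=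
    IsScalarTower.of_algebraMap_smul fun _ _ => rfl
  have : IsScalarTower B B' ((A₂ ⊗[A] B) ⊗[B] N) := IsScalarTower.of_algebraMap_smul fun b n => by
    change algebraMap B' (A₂ ⊗[A] B) (algebraMap B B' b) • n = b • n
    rw [← IsScalarTower.algebraMap_apply, algebraMap_smul]
  let γ : N' →ₗ[B'] (A₂ ⊗[A] B) ⊗[B] N := hbc.lift f₂
  have hγ : IsBaseChange (A₂ ⊗[A] B) γ := by
    refine IsBaseChange.of_comp hbc ?_
    rw [show γ.restrictScalars B ∘ₗ f = f₂ from hbc.lift_comp f₂]
    exact hf₂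
  obtain ⟨P₂, hP₂, hP₂t, hP₂P, hass₂⟩ :=
    exists_fiberIdeal_mem_associatedPrimes hγ t' t'₂ P hass
  have := hP₂
  refine ⟨A₂, A₂ ⊗[A] B, (A₂ ⊗[A] B) ⊗[B] N, inferInstance, inferInstance, inferInstance,
    inferInstance, inferInstance, inferInstance, hB, inferInstance, inferInstance, inferInstance,
    inferInstance, inferInstance, inferInstance, inferInstance, f₂, t'₂, t₂,
    inferInstance, inferInstance, P₂, inferInstance, ?_, hQ⟩
  refine ⟨hpo, hf₂, hle, Ideal.LiesOver.trans t₂ t p, hP₂t, hass₂, ?_⟩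
  intro P' _ hPP' hlie
  refine hnone (P'.comap (algebraMap B' (A₂ ⊗[A] B))) ?_ ⟨?_⟩
  · rw [← hP₂P]
    exact Ideal.comap_mono hPP'
  · rw [Ideal.under, Ideal.comap_comap, ← IsScalarTower.algebraMap_eq,
      IsScalarTower.algebraMap_eq A' A₂ (A₂ ⊗[A] B), ← Ideal.comap_comap,
      Ideal.over_def t₂ t]
    exact congrArg (Ideal.comap (algebraMap A' A₂)) hlie.over

/-- An impurity descends along an integral map having a unique prime over the point downstairs. -/
theorem hasImpurity_of_integral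
    (A₁ : Type u) [CommRing A₁] [Algebra A A₁] (t₁ : Ideal A₁) [t₁.IsPrime] [t₁.LiesOver p]
    (h : FlatCA.HasImpurity A B N p (fun A₂ _ _ t₂ => ∃ χ : A₁ →ₐ[A] A₂,
      χ.toRingHom.IsIntegral ∧ t₂.comap χ.toRingHom = t₁ ∧
        ∀ (t₃ : Ideal A₂) [t₃.IsPrime], t₃.comap χ.toRingHom = t₁ → t₃ = t₂))
    (Q : ∀ (A'' : Type u) [CommRing A''] [Algebra A A''], Ideal A'' → Prop) (hQ : Q A₁ t₁) :
    FlatCA.HasImpurity A B N p Q := by
  obtain ⟨A₂, B₂, N₂, _, _, _, _, _, _, _, _, _, _, _, _, _, _, f, t'₂, t₂, _, _, P, _, himp, χ,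
    hint, hχt, huniq⟩ := h
  obtain ⟨hpush, hbc, htt, htp, hPt', hass, hnone⟩ := himp
  have := hPt'
  let : Algebra B (A₁ ⊗[A] B) := Algebra.TensorProduct.rightAlgebra
  have hB : IsScalarTower A B (A₁ ⊗[A] B) := IsScalarTower.of_algebraMap_eq fun a => by
    exact ((Algebra.TensorProduct.includeRight : B →ₐ[A] A₁ ⊗[A] B).commutes a).symm
  let φ : A₁ ⊗[A] B →ₐ[A] B₂ := ImpurityStage.stageHom (B := B) A₁ χ
  have hφl : ∀ x, φ (x ⊗ₜ[A] 1) = algebraMap A₂ B₂ (χ x) := fun x => by simp [φ]
  have hφr : ∀ b, φ (1 ⊗ₜ[A] b) = algebraMap B B₂ b := fun b => by simp [φ]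
  let : Algebra A₁ A₂ := χ.toRingHom.toAlgebra
  have : Algebra.IsIntegral A₁ A₂ := ⟨hint⟩
  have : IsScalarTower A A₁ A₂ := IsScalarTower.of_algebraMap_eq fun a => (χ.commutes a).symm
  let : Algebra (A₁ ⊗[A] B) B₂ := φ.toRingHom.toAlgebra
  let : Algebra A₁ B₂ := ((algebraMap A₂ B₂).comp χ.toRingHom).toAlgebra
  have : IsScalarTower A₁ A₂ B₂ := IsScalarTower.of_algebraMap_eq fun _ => rfl
  have : IsScalarTower A₁ (A₁ ⊗[A] B) B₂ := IsScalarTower.of_algebraMap_eq fun x => (hφl x).symm
  have : IsScalarTower B (A₁ ⊗[A] B) B₂ := IsScalarTower.of_algebraMap_eq fun b => (hφr b).symm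
  have : IsScalarTower A A₁ B₂ := IsScalarTower.of_algebraMap_eq fun c => by
    change _ = algebraMap A₂ B₂ (χ (algebraMap A A₁ c))
    rw [χ.commutes, ← IsScalarTower.algebraMap_apply A A₂ B₂]
  have : IsScalarTower A (A₁ ⊗[A] B) B₂ :=
    IsScalarTower.of_algebraMap_eq fun c => (φ.commutes c).symm
  have hpo : Algebra.IsPushout A B A₁ (A₁ ⊗[A] B) := Algebra.IsPushout.symm inferInstance
  have hp2 : Algebra.IsPushout A₁ A₂ (A₁ ⊗[A] B) B₂ := by
    have h1 : Algebra.IsPushout A A₁ B (A₁ ⊗[A] B) := inferInstance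
    exact (Algebra.IsPushout.comp_iff A A₁ B (A₁ ⊗[A] B) (T := A₂) (T' := B₂)).mp hpush.symm
  have : Algebra.IsPushout A₁ (A₁ ⊗[A] B) A₂ B₂ := hp2.symm
  have hintB : Algebra.IsIntegral (A₁ ⊗[A] B) B₂ := by
    constructor
    intro y
    refine hp2.symm.out.inductionOn y (fun y => IsIntegral (A₁ ⊗[A] B) y) isIntegral_zero
      (fun a => ?_) (fun c z hz => ?_) (fun z w hz hw => hz.add hw)
    · exact ((Algebra.IsIntegral.isIntegral (R := A₁) a).map
        (IsScalarTower.toAlgHom A₁ A₂ B₂)).tower_top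
    · exact hz.smul c
  let f₁ : N →ₗ[B] (A₁ ⊗[A] B) ⊗[B] N := TensorProduct.mk B _ N 1
  have hf₁ : IsBaseChange (A₁ ⊗[A] B) f₁ := TensorProduct.isBaseChange B N (A₁ ⊗[A] B)
  let : Module (A₁ ⊗[A] B) N₂ := Module.compHom N₂ (algebraMap (A₁ ⊗[A] B) B₂)
  have : IsScalarTower (A₁ ⊗[A] B) B₂ N₂ := IsScalarTower.of_algebraMap_smul fun _ _ => rfl
  have : IsScalarTower B (A₁ ⊗[A] B) N₂ := IsScalarTower.of_algebraMap_smul fun b n => by
    change algebraMap (A₁ ⊗[A] B) B₂ (algebraMap B (A₁ ⊗[A] B) b) • n = b • n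
    rw [← IsScalarTower.algebraMap_apply, algebraMap_smul]
  let γ : (A₁ ⊗[A] B) ⊗[B] N →ₗ[A₁ ⊗[A] B] N₂ := hf₁.lift f
  have hγ : IsBaseChange B₂ γ := by
    refine IsBaseChange.of_comp hf₁ ?_
    rw [show γ.restrictScalars B ∘ₗ f₁ = f from hf₁.lift_comp f]
    exact hbc
  let P₁ : Ideal (A₁ ⊗[A] B) := P.comap (algebraMap (A₁ ⊗[A] B) B₂)
  let t'₁ : Ideal A₁ := t'₂.comap (algebraMap A₁ A₂)
  have : P₁.IsPrime := Ideal.comap_isPrime _ _
  have : t'₁.IsPrime := Ideal.comap_isPrime _ _
  have : t'₂.LiesOver t'₁ := ⟨rfl⟩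
  have hass₁ := fiberIdeal_comap_mem_associatedPrimes hγ t'₁ t'₂ P hass
  refine ⟨A₁, A₁ ⊗[A] B, (A₁ ⊗[A] B) ⊗[B] N, inferInstance, inferInstance, inferInstance,
    inferInstance, inferInstance, inferInstance, hB, inferInstance, inferInstance, inferInstance,
    inferInstance, inferInstance, inferInstance, inferInstance, f₁, t'₁, t₁,
    inferInstance, inferInstance, P₁, inferInstance, ?_, hQ⟩
  refine ⟨hpo, hf₁, le_trans (Ideal.comap_mono htt) hχt.le, inferInstance, ⟨?_⟩, hass₁, ?_⟩
  · rw [Ideal.under, Ideal.comap_comap, ← IsScalarTower.algebraMap_eq,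
      IsScalarTower.algebraMap_eq A₁ A₂ B₂, ← Ideal.comap_comap]
    exact congrArg (Ideal.comap (algebraMap A₁ A₂)) hPt'.over
  · intro P' hP' hPP' hlie
    obtain ⟨P'₂, hle', hP'₂, hP'₂P⟩ :=
      Ideal.exists_ideal_over_prime_of_isIntegral P' P hPP'
    have := hP'₂
    refine hnone P'₂ hle' ⟨(huniq _ ?_).symm⟩
    rw [Ideal.under, Ideal.comap_comap]
    change P'₂.comap (algebraMap A₁ B₂) = t₁
    rw [IsScalarTower.algebraMap_eq A₁ (A₁ ⊗[A] B) B₂, ← Ideal.comap_comap, hP'₂P]
    exact hlie.over.symm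

end

end Groth.Agent.H7Flat.ImpurityBaseChange
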