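import Groth.Agent.H7Flat.UnivInjCover
import Groth.Agent.H1CAlg.InjModMaxModel

/-!
Elements regular on the closed fibre of a flat module over an essentially finitely presented local
algebra.
-/

set_option autoImplicit false
universe u

namespace Groth.Agent.H7Flat.ClosedFibreRegular

open TensorProduct IsLocalRing FlatMor ImpurityDescend FibreRegular UnivInjCover

attribute [local instance] Algebra.TensorProduct.rightAlgebra

set_option backward.isDefEq.respectTransparency false
set_option maxHeartbeats 1000000
set_option synthInstance.maxHeartbeats 400000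

variable {R S : Type u} [CommRing R] [IsLocalRing R] [CommRing S] [Algebra R S]
  {N : Type u} [AddCommGroup N] [Module S N] [Module R N] [IsScalarTower R S N]

/-- The kernel of the map to the closed fibre. -/
theorem toFiberMod_maximal_eq_zero_iff (n : N) :
    FlatCA.toFiberMod (maximalIdeal R) S N n = 0 ↔
      n ∈ (maximalIdeal R).map (algebraMap R S) • (⊤ : Submodule S N) := by
  rw [Groth.Agent.H02CA.FibreAss.toFiberMod_eq_zero_iff]
  constructor
  · rintro ⟨r, hr, h⟩
    obtain ⟨v, hv⟩ : IsUnit (algebraMap R S r) :=
      (notMem_maximalIdeal.mp hr).map (algebraMap R S)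
    rw [← hv] at h
    have := Submodule.smul_mem _ ((v⁻¹ : Sˣ) : S) h
    rwa [smul_smul, v.inv_mul, one_smul] at this
  · intro h
    exact ⟨1, (Ideal.ne_top_iff_one _).mp (IsLocalRing.maximalIdeal.isMaximal R).ne_top,
      by rwa [map_one, one_smul]⟩

/-- Elements regular on the closed fibre are universally regular. -/
theorem univInj_smul [IsLocalRing S] [IsLocalHom (algebraMap R S)]
    (hS : FlatCA.EssFinitePresentation R S) [Module.FinitePresentation S N] [Module.Flat R N]
    {s : S} (hs : s ∈ FlatCA.nzdFiber R S N) :
    FlatCA.UnivInj R ((LinearMap.lsmul S N s).restrictScalars R) := by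
  obtain ⟨S₀, _, _, _, _, Mon, hfp, hloc⟩ := hS
  have key := H1CAlg.InjModMax.injective_and_flat_coker (R := R) (S₀ := S₀) (S := S) (M := N) (N := N) Mon (LinearMap.lsmul S N s)
    fun x hx => by
      rw [← toFiberMod_maximal_eq_zero_iff] at hx ⊢
      refine hs _ ?_
      rw [← map_smul]
      exact hx
  let uR : N →ₗ[R] N := (LinearMap.lsmul S N s).restrictScalars R
  have : Module.Flat R (N ⧸ LinearMap.range uR) := by
    have := key.2
    exact Module.Flat.of_linearEquiv ((Submodule.quotEquivOfEq (LinearMap.range uR)
      ((LinearMap.range (LinearMap.lsmul S N s)).restrictScalars R)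
      (LinearMap.range_restrictScalars _)) ≪≫ₗ
        Submodule.Quotient.restrictScalarsEquiv R (LinearMap.range (LinearMap.lsmul S N s)))
  intro Q _ _
  exact lTensor_injective_of_flat_coker uR key.1 Q

/-- An element of `N ⊗ Q` killed by an element regular on the closed fibre vanishes. -/
theorem eq_zero_of_smul_eq_zero [IsLocalRing S] [IsLocalHom (algebraMap R S)]
    (hS : FlatCA.EssFinitePresentation R S) [Module.FinitePresentation S N] [Module.Flat R N]
    {s : S} (hs : s ∈ FlatCA.nzdFiber R S N) {Q : Type u} [AddCommGroup Q] [Module R Q]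
    {z : N ⊗[R] Q} (hz : s • z = 0) : z = 0 := by
  have h := univInj_smul hS hs Q
  rw [LinearMap.lTensor_inj_iff_rTensor_inj] at h
  refine h (Eq.trans ?_ (map_zero _).symm)
  rw [← hz]
  clear hz
  induction z using TensorProduct.induction_on with
  | zero => simp
  | tmul a b => rfl
  | add a b ha hb => simp only [map_add, smul_add, ha, hb]

/-- Localising at the elements regular on the closed fibre is universally injective. -/
theorem univInj_toLocalization [IsLocalRing S] [IsLocalHom (algebraMap R S)]
    (hS : FlatCA.EssFinitePresentation R S) [Module.FinitePresentation S N] [Module.Flat R N] :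
    FlatCA.UnivInj R
      ((LocalizedModule.mkLinearMap (FlatCA.nzdFiber R S N) N).restrictScalars R) := by
  intro Q _ _
  rw [LinearMap.lTensor_inj_iff_rTensor_inj, injective_iff_map_eq_zero]
  intro z hz
  obtain ⟨s, hs⟩ := (IsLocalizedModule.eq_zero_iff (FlatCA.nzdFiber R S N)
    (AlgebraTensorModule.rTensor R Q (LocalizedModule.mkLinearMap (FlatCA.nzdFiber R S N) N))).mp hz
  exact eq_zero_of_smul_eq_zero hS s.2 hs

/-- A flat base change covering the annihilators is injective. -/
theorem injective_of_cover' {F F' M M' : Type u} [CommRing F] [CommRing F'] [Algebra F F']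
    [Module.Flat F F'] [AddCommGroup M] [Module F M] [AddCommGroup M'] [Module F' M'] [Module F M']
    [IsScalarTower F F' M'] {g : M →ₗ[F] M'} (hg : IsBaseChange F' g)
    (h : ∀ z : M, z ≠ 0 → ∃ q' : Ideal F', q'.IsPrime ∧
      (Submodule.span F {z}).annihilator ≤ q'.comap (algebraMap F F')) :
    Function.Injective g := by
  refine (injective_iff_map_eq_zero g).mpr fun z hz => ?_
  by_contra hne
  obtain ⟨q', hq', hle⟩ := h z hne
  have h1 := map_annihilator_eq_top hg hz
  exact hq'.ne_top (top_le_iff.mp (h1.ge.trans (Ideal.map_le_iff_le_comap.mpr hle)))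

/-- A flat algebra covering the associated primes of the closed fibre gives a universally injective
base change map. -/
theorem univInj_of_cover_closed {S' : Type u} [CommRing S'] [Algebra S S'] [Algebra R S']
    [IsScalarTower R S S'] [IsLocalRing S] [IsLocalHom (algebraMap R S)]
    (hS : FlatCA.EssFinitePresentation R S) [Module.Flat S S'] [Module.FinitePresentation S N]
    [Module.Flat R N]
    (h : ∀ q ∈ associatedPrimes S (FlatCA.fiberMod (maximalIdeal R) S N),
      ∃ q' : Ideal S', q'.IsPrime ∧ q'.comap (algebraMap S S') = q) :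
    FlatCA.UnivInj R ((TensorProduct.mk S S' N 1).restrictScalars R) := by
  classical
  intro Q _ _
  let ν : N →ₗ[S] S' ⊗[S] N := TensorProduct.mk S S' N 1
  let g : N ⊗[R] Q →ₗ[S] (S' ⊗[S] N) ⊗[R] Q := AlgebraTensorModule.rTensor R Q ν
  have hg : IsBaseChange S' g := by
    refine IsBaseChange.of_equiv (AlgebraTensorModule.assoc R S S' S' N Q).symm fun y => ?_
    induction y using TensorProduct.induction_on with
    | zero => simp
    | tmul a b => simp [g, ν]
    | add a b ha hb => simp only [TensorProduct.tmul_add, map_add, ha, hb]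
  let p := maximalIdeal R
  have hess : Algebra.EssFiniteType R S := by
    obtain ⟨S₀, _, _, _, _, Mon, hfp, hloc⟩ := hS
    have := hfp
    have := hloc
    have : Algebra.EssFiniteType S₀ S := Algebra.EssFiniteType.of_isLocalization S Mon
    exact Algebra.EssFiniteType.comp R S₀ S
  have : Algebra.EssFiniteType p.ResidueField (p.Fiber S) := inferInstance
  have : IsNoetherianRing (p.Fiber S) :=
    Algebra.EssFiniteType.isNoetherianRing p.ResidueField (p.Fiber S)
  have : Module.Finite (p.Fiber S) (FlatCA.fiberMod p S N) :=
    inferInstanceAs (Module.Finite (p.Fiber S) ((p.Fiber S) ⊗[S] N))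
  have : IsScalarTower S (p.Fiber S) (FlatCA.fiberMod p S N) :=
    IsScalarTower.of_algebraMap_smul fun s m =>
      algebraMap_smul (p.Fiber S) s (show (p.Fiber S) ⊗[S] N from m)
  let inc : S →+* p.Fiber S := algebraMap S (p.Fiber S)
  let T := (associatedPrimes.finite (p.Fiber S) (FlatCA.fiberMod p S N)).toFinset
  have key : ∀ z : N ⊗[R] Q, z ≠ 0 → ∃ q' : Ideal S', q'.IsPrime ∧
      (Submodule.span S {z}).annihilator ≤ q'.comap (algebraMap S S') := by
    intro z hne
    by_cases hsub : ((Submodule.span S {z}).annihilator : Set S) ⊆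
        ⋃ P ∈ (T : Set (Ideal (p.Fiber S))), (P.comap inc : Ideal S)
    · rw [Ideal.subset_union_prime ⊥ ⊥ (fun P hP _ _ => by
        have : P.IsPrime := ((Set.Finite.mem_toFinset _).mp hP).isPrime
        exact Ideal.comap_isPrime inc P)] at hsub
      obtain ⟨P, hP, hle⟩ := hsub
      obtain ⟨hPp, y, hy⟩ := isAssociatedPrime_iff.mp ((Set.Finite.mem_toFinset _).mp hP)
      have hq : P.comap inc ∈ associatedPrimes S (FlatCA.fiberMod p S N) := by
        refine ⟨Ideal.comap_isPrime inc P, y, ?_⟩
        rw [← (Ideal.comap_isPrime inc P).radical]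
        congr 1
        ext a
        rw [Ideal.mem_comap, hy, Submodule.mem_colon_singleton, Submodule.mem_colon_singleton,
          Submodule.mem_bot, Submodule.mem_bot]
        rw [show inc a • y = a • y from algebraMap_smul (p.Fiber S) a y]
      obtain ⟨q', hq', e⟩ := h _ hq
      exact ⟨q', hq', e.symm ▸ hle⟩
    · obtain ⟨s, hsJ, hsT⟩ := Set.not_subset.mp hsub
      refine absurd (eq_zero_of_smul_eq_zero hS (s := s) (fun x hx => ?_)
        ((Submodule.mem_annihilator_span_singleton z s).mp hsJ)) hne
      by_contra hx0
      obtain ⟨P, hP, hle⟩ :=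
        exists_le_isAssociatedPrime_of_isNoetherianRing (p.Fiber S) x hx0
      refine hsT (Set.mem_biUnion ((Set.Finite.mem_toFinset _).mpr hP) (hle ?_))
      rw [Submodule.mem_colon_singleton, Submodule.mem_bot]
      rw [show inc s • x = s • x from algebraMap_smul (p.Fiber S) s x]
      exact hx
  have hinj : Function.Injective g :=
    injective_of_cover' (F := S) (F' := S') (M := N ⊗[R] Q) (M' := (S' ⊗[S] N) ⊗[R] Q) hg key
  have h2 : Function.Injective ((ν.restrictScalars R).rTensor Q) := hinj
  rw [LinearMap.lTensor_inj_iff_rTensor_inj]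
  exact h2

end Groth.Agent.H7Flat.ClosedFibreRegular
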