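import Mathlib
import Groth.Agent.H13Flat.Generic

/-!
Generic flatness of the cokernel of a linear map between finite modules over a tower of finite type
algebras over a Noetherian domain.
-/

universe u

open Polynomial

namespace Groth.Agent.H7Flat.CokernelFlat

open Groth.Agent.H13Flat

variable {D A B N : Type u} [CommRing D] [CommRing A] [CommRing B]
  [Algebra D A] [Algebra A B] [Algebra D B] [IsScalarTower D A B]
  [AddCommGroup N] [Module B N] [Module A N] [Module D N]
  [IsScalarTower A B N] [IsScalarTower D A N] [IsScalarTower D B N]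

/-- The increasing filtration generated by repeatedly multiplying with a finite set. -/
def filt (s : Finset B) (V₀ : Submodule A N) : ℕ → Submodule A N
  | 0 => V₀
  | j + 1 => filt s V₀ j ⊔ ⨆ b ∈ s, (filt s V₀ j).map (DistribSMul.toLinearMap A N b)

theorem filt_le (s : Finset B) (V₀ : Submodule A N) (j : ℕ) : filt s V₀ j ≤ filt s V₀ (j + 1) :=
  le_sup_left

theorem filt_mono (s : Finset B) (V₀ : Submodule A N) : Monotone (filt s V₀) :=
  monotone_nat_of_le_succ (filt_le s V₀)

theorem smul_mem_filt (s : Finset B) (V₀ : Submodule A N) (j : ℕ) {b : B} (hb : b ∈ s) {v : N}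
    (hv : v ∈ filt s V₀ j) : b • v ∈ filt s V₀ (j + 1) :=
  Submodule.mem_sup_right (Submodule.mem_iSup_of_mem b (Submodule.mem_iSup_of_mem hb ⟨v, hv, rfl⟩))

theorem filt_exhaust (s : Finset B) (hs : Algebra.adjoin A (s : Set B) = ⊤) (V₀ : Submodule A N)
    (hgen : Submodule.span B (V₀ : Set N) = ⊤) (v : N) : ∃ j, v ∈ filt s V₀ j := by
  have hdir : Directed (· ≤ ·) (filt s V₀) := (filt_mono s V₀).directed_le
  let U : Submodule A N := ⨆ j, filt s V₀ j
  have hU : ∀ w, w ∈ U ↔ ∃ j, w ∈ filt s V₀ j := fun w => Submodule.mem_iSup_of_directed _ hdir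
  have hB : ∀ (b : B), ∀ w ∈ U, b • w ∈ U := by
    intro b
    have hb : b ∈ Algebra.adjoin A (s : Set B) := hs ▸ Algebra.mem_top
    induction hb using Algebra.adjoin_induction with
    | mem x hx =>
      intro w hw
      obtain ⟨j, hj⟩ := (hU w).mp hw
      exact (hU _).mpr ⟨j + 1, smul_mem_filt s V₀ j hx hj⟩
    | algebraMap a =>
      intro w hw
      rw [algebraMap_smul]
      exact U.smul_mem a hw
    | add x y _ _ hx hy => intro w hw; rw [add_smul]; exact add_mem (hx w hw) (hy w hw)
    | mul x y _ _ hx hy => intro w hw; rw [mul_smul]; exact hx _ (hy w hw)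
  let UB : Submodule B N := { U.toAddSubmonoid with smul_mem' := fun b w hw => hB b w hw }
  have : ⊤ ≤ UB := hgen ▸ Submodule.span_le.mpr fun w hw => (hU w).mpr ⟨0, hw⟩
  exact (hU v).mp (this (Submodule.mem_top (x := v)))

theorem coeff_C_smul (b : B) (p : PolynomialModule B N) (j : ℕ) :
    (C b • p).coeff j = b • p.coeff j := by
  induction p using PolynomialModule.induction_linear with
  | zero => simp
  | add x y hx hy => simp [smul_add, hx, hy]
  | single n m =>
    rw [← monomial_zero_left, PolynomialModule.monomial_smul_single, zero_add]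
    simp [Finsupp.single_apply]

theorem coeff_base_smul (d : D) (p : PolynomialModule B N) (j : ℕ) :
    (d • p).coeff j = d • p.coeff j := by
  rw [← algebraMap_smul B[X] d p, IsScalarTower.algebraMap_apply D B B[X], Polynomial.algebraMap_eq,
    coeff_C_smul, algebraMap_smul]

theorem CX_smul_single (b : B) (n : ℕ) (m : N) :
    (C b * X) • PolynomialModule.single B n m = PolynomialModule.single B (n + 1) (b • m) := by
  rw [show (C b * X : B[X]) = monomial 1 b by rw [← C_mul_X_pow_eq_monomial, pow_one],
    PolynomialModule.monomial_smul_single, add_comm]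

theorem coeff_CX_smul (b : B) (p : PolynomialModule B N) :
    ((C b * X) • p).coeff 0 = 0 ∧ ∀ j, ((C b * X) • p).coeff (j + 1) = b • p.coeff j := by
  induction p using PolynomialModule.induction_linear with
  | zero => simp
  | add x y hx hy => exact ⟨by simp [smul_add, hx.1, hy.1], fun j => by simp [smul_add, hx.2, hy.2]⟩
  | single n m =>
    rw [CX_smul_single]
    exact ⟨by simp, fun j => by simp [Finsupp.single_apply]⟩

/-- The map recording the degree of a product of elements of `T`. -/
noncomputable def act (T : Finset B) : MvPolynomial T A →ₐ[A] B[X] :=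
  MvPolynomial.aeval fun b => C (b : B) * X

theorem single_add (n : ℕ) (x y : N) :
    PolynomialModule.single B n (x + y) = PolynomialModule.single B n x + PolynomialModule.single B n y :=
  PolynomialModule.coeff_injective (by simp [Finsupp.single_add])

theorem single_zero (n : ℕ) : PolynomialModule.single B n (0 : N) = 0 :=
  PolynomialModule.coeff_injective (by simp)

/-- `MvPolynomial T A` acts on polynomial modules through `act`. -/
@[instance_reducible]
noncomputable def actModule (T : Finset B) : Module (MvPolynomial T A) (PolynomialModule B N) :=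
  Module.compHom _ (act (A := A) T).toRingHom

attribute [local instance] actModule

theorem smul_eq_act (T : Finset B) (c : MvPolynomial T A) (p : PolynomialModule B N) :
    c • p = act T c • p := rfl

instance actTower (T : Finset B) : IsScalarTower A (MvPolynomial T A) (PolynomialModule B N) :=
  .of_algebraMap_smul fun a p => by
    rw [smul_eq_act, AlgHom.commutes, algebraMap_smul]

instance actTowerBase (T : Finset B) : IsScalarTower D (MvPolynomial T A) (PolynomialModule B N) :=
  .of_algebraMap_smul fun d p => by
    rw [smul_eq_act, IsScalarTower.algebraMap_apply D A (MvPolynomial T A), AlgHom.commutes,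
      ← IsScalarTower.algebraMap_apply D A B[X], algebraMap_smul]

/-- Submodules of polynomial modules cut out coefficientwise by a filtration. -/
noncomputable def rees (T : Finset B) (V : ℕ → Submodule A N)
    (hV : ∀ j, ∀ b ∈ T, ∀ v ∈ V j, b • v ∈ V (j + 1)) :
    Submodule (MvPolynomial T A) (PolynomialModule B N) where
  carrier := {p | ∀ j, p.coeff j ∈ V j}
  add_mem' hp hq j := by simpa using add_mem (hp j) (hq j)
  zero_mem' j := by simp
  smul_mem' := by
    intro c
    induction c using MvPolynomial.induction_on with
    | C a =>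
      intro p hp j
      rw [smul_eq_act, ← MvPolynomial.algebraMap_eq, AlgHom.commutes,
        IsScalarTower.algebraMap_apply A B B[X], Polynomial.algebraMap_eq, coeff_C_smul, algebraMap_smul]
      exact (V j).smul_mem a (hp j)
    | add x y hx hy =>
      intro p hp j
      rw [add_smul, PolynomialModule.coeff_add]
      exact add_mem (hx hp j) (hy hp j)
    | mul_X q b hq =>
      intro p hp
      rw [mul_smul]
      refine hq fun j => ?_
      rw [smul_eq_act, act, MvPolynomial.aeval_X]
      cases j with
      | zero => rw [(coeff_CX_smul (b : B) p).1]; exact zero_mem _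
      | succ j => rw [(coeff_CX_smul (b : B) p).2]; exact hV j b b.2 _ (hp j)

theorem killsKer_retract {f : D} {M M' : Type u} [AddCommGroup M] [Module D M] [AddCommGroup M'] [Module D M']
    (i : M →ₗ[D] M') (r : M' →ₗ[D] M) (hri : r ∘ₗ i = LinearMap.id) (h : KillsKer f M') : KillsKer f M := by
  intro I z hz
  obtain ⟨k, hk⟩ := h I (i.lTensor I z) (by
    rw [← LinearMap.comp_apply, LinearMap.rTensor_comp_lTensor, ← LinearMap.lTensor_comp_rTensor,
      LinearMap.comp_apply, hz, map_zero])
  refine ⟨k, ?_⟩
  have h' := congrArg (r.lTensor I) hk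
  rwa [map_smul, map_zero, ← LinearMap.comp_apply, ← LinearMap.lTensor_comp, hri,
    LinearMap.lTensor_id, LinearMap.id_apply] at h'

theorem exists_killsKer [IsDomain D] [IsNoetherianRing D] [Algebra.FiniteType D A] [Algebra.FiniteType A B]
    [Module.Finite B N] (U : Submodule A N) (hU : U.FG) :
    ∃ f : D, f ≠ 0 ∧ KillsKer f (N ⧸ U) := by
  classical
  obtain ⟨s₀, hs₀⟩ := ‹Algebra.FiniteType A B›.out
  let s : Finset B := insert 1 s₀
  have hs : Algebra.adjoin A (s : Set B) = ⊤ :=
    top_le_iff.mp (hs₀ ▸ Algebra.adjoin_mono (Finset.coe_subset.mpr (Finset.subset_insert 1 s₀)))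
  have h1 : (1 : B) ∈ s := Finset.mem_insert_self 1 s₀
  obtain ⟨g, hg⟩ := Module.finite_def.mp (inferInstance : Module.Finite B N)
  let V₀ : Submodule A N := U ⊔ Submodule.span A (g : Set N)
  have hV₀ : V₀.FG := hU.sup (Submodule.fg_span g.finite_toSet)
  let V := filt s V₀
  have hVfg : ∀ j, (V j).FG := by
    intro j
    induction j with
    | zero => exact hV₀
    | succ j ih =>
      refine ih.sup ?_
      exact Submodule.fg_biSup s _ fun b _ => ih.map _
  have hUV : ∀ j, U ≤ V j := fun j => le_sup_left.trans (filt_mono s V₀ (Nat.zero_le j))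
  have hmon : ∀ j, ∀ b ∈ s, ∀ v ∈ V j, b • v ∈ V (j + 1) := fun j b hb v hv => smul_mem_filt s V₀ j hb hv
  -- the associated graded module
  let S := MvPolynomial s A
  let P : Submodule S (PolynomialModule B N) := rees s (fun j => V (j + 1)) (fun j => hmon (j + 1))
  let P' : Submodule S (PolynomialModule B N) := rees s V hmon
  let G := P ⧸ P'.comap P.subtype
  haveI : Algebra.FiniteType D S :=
    Algebra.FiniteType.trans (S := A) inferInstance inferInstance
  have hPfin : Module.Finite S P := by
    obtain ⟨t, ht⟩ := hVfg 1
    let Q : Submodule S (PolynomialModule B N) :=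
      Submodule.span S ((fun v => PolynomialModule.single B 0 v) '' (t : Set N))
    have hQfg : Q.FG := Submodule.fg_span (t.finite_toSet.image _)
    suffices h : P = Q by rw [h]; exact Module.Finite.iff_fg.mpr hQfg
    have hQA : ∀ (a : A) (p : PolynomialModule B N), p ∈ Q → C (algebraMap A B a) • p ∈ Q := fun a p hp => by
      have h := Q.smul_mem (algebraMap A S a) hp
      rwa [smul_eq_act, AlgHom.commutes, IsScalarTower.algebraMap_apply A B B[X],
        Polynomial.algebraMap_eq] at h
    have hsingle : ∀ j, ∀ v ∈ V (j + 1), PolynomialModule.single B j v ∈ Q := by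
      intro j
      induction j with
      | zero =>
        intro v hv
        rw [show V (0 + 1) = V 1 from rfl, ← ht] at hv
        induction hv using Submodule.span_induction with
        | mem x hx => exact Submodule.subset_span ⟨x, hx, rfl⟩
        | zero => rw [single_zero]; exact zero_mem _
        | add x y _ _ hx hy => rw [single_add]; exact add_mem hx hy
        | smul a x _ hx =>
          have : PolynomialModule.single B 0 (a • x) =
              C (algebraMap A B a) • PolynomialModule.single B 0 x := by
            rw [← monomial_zero_left, PolynomialModule.monomial_smul_single, zero_add, algebraMap_smul]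
          rw [this]
          exact hQA a _ hx
      | succ j ih =>
        intro v hv
        have hstep : ∀ b ∈ s, ∀ w ∈ V (j + 1), PolynomialModule.single B (j + 1) (b • w) ∈ Q := fun b hb w hw => by
          rw [← CX_smul_single]
          have h := Q.smul_mem (MvPolynomial.X ⟨b, hb⟩ : S) (ih w hw)
          rwa [smul_eq_act, act, MvPolynomial.aeval_X] at h
        have hle : ∀ w ∈ V (j + 1 + 1), PolynomialModule.single B (j + 1) w ∈ Q := by
          intro w hw
          change w ∈ V (j + 1) ⊔ ⨆ b ∈ s, (V (j + 1)).map (DistribSMul.toLinearMap A N b) at hw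
          obtain ⟨w₁, hw₁, w₂, hw₂, rfl⟩ := Submodule.mem_sup.mp hw
          rw [single_add]
          refine add_mem (by simpa using hstep 1 h1 w₁ hw₁) ?_
          refine Submodule.iSup_induction _ (motive := fun x => PolynomialModule.single B (j + 1) x ∈ Q) hw₂ ?_ ?_ ?_
          · intro b x hx
            refine Submodule.iSup_induction _ (motive := fun x => PolynomialModule.single B (j + 1) x ∈ Q) hx ?_ ?_ ?_
            · rintro hb _ ⟨x, hx, rfl⟩
              exact hstep b hb x hx
            · rw [single_zero]; exact zero_mem _
            · intro x y hx hy; rw [single_add]; exact add_mem hx hy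
          · rw [single_zero]; exact zero_mem _
          · intro x y hx hy; rw [single_add]; exact add_mem hx hy
        exact hle v hv
    refine le_antisymm (fun p hp => ?_) (Submodule.span_le.mpr ?_)
    · have hp' : ∀ j, p.coeff j ∈ V (j + 1) := hp
      have hsum : p = ∑ j ∈ p.coeff.support, PolynomialModule.single B j (p.coeff j) := by
        apply PolynomialModule.coeff_injective
        rw [PolynomialModule.coeff_sum]
        exact p.coeff.sum_single.symm
      rw [hsum]
      exact sum_mem fun j _ => hsingle j _ (hp' j)
    · rintro _ ⟨x, hx, rfl⟩ j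
      show (PolynomialModule.single B 0 x).coeff j ∈ V (j + 1)
      rw [PolynomialModule.coeff_single, Finsupp.single_apply]
      split_ifs with h
      · subst h; exact ht ▸ Submodule.subset_span hx
      · exact zero_mem _
  obtain ⟨f₁, hf₁, hG⟩ := genericFlat_of_finiteType (D := D) S G
  obtain ⟨f₂, hf₂, hQ0⟩ : ∃ f : D, f ≠ 0 ∧ KillsKer f (V₀ ⧸ U.comap V₀.subtype) := by
    haveI : Module.Finite A V₀ := Module.Finite.iff_fg.mpr hV₀
    exact genericFlat_of_finiteType (D := D) A _
  refine ⟨f₁ * f₂, mul_ne_zero hf₁ hf₂, ?_⟩
  -- graded pieces are direct summands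
  have hpiece : ∀ j, KillsKer (f₁ * f₂) (V (j + 1) ⧸ (V j).comap (V (j + 1)).subtype) := by
    intro j
    let i₀ : V (j + 1) →ₗ[D] G :=
      { toFun := fun v => Submodule.Quotient.mk ⟨PolynomialModule.single B j v.1, fun k => by
          show (PolynomialModule.single B j v.1).coeff k ∈ V (k + 1)
          rw [PolynomialModule.coeff_single, Finsupp.single_apply]
          split_ifs with h
          · subst h; exact v.2
          · exact zero_mem _⟩
        map_add' := fun v w => by
          rw [← Submodule.Quotient.mk_add]
          exact congrArg _ (Subtype.ext (single_add _ _ _))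
        map_smul' := fun d v => by
          rw [RingHom.id_apply, ← Submodule.Quotient.mk_smul]
          refine congrArg _ (Subtype.ext (PolynomialModule.coeff_injective (Finsupp.ext fun k => ?_)))
          show (PolynomialModule.single B j (d • v.1)).coeff k = (d • PolynomialModule.single B j v.1).coeff k
          rw [coeff_base_smul]
          simp [Finsupp.single_apply] }
    have hi₀ : ((V j).comap (V (j + 1)).subtype).restrictScalars D ≤ LinearMap.ker i₀ := fun v hv => by
      refine (Submodule.Quotient.mk_eq_zero _).mpr fun k => ?_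
      show (PolynomialModule.single B j v.1).coeff k ∈ V k
      rw [PolynomialModule.coeff_single, Finsupp.single_apply]
      split_ifs with h
      · subst h; exact hv
      · exact zero_mem _
    let e := (Submodule.Quotient.restrictScalarsEquiv D ((V j).comap (V (j + 1)).subtype))
    let i := (Submodule.liftQ _ i₀ hi₀) ∘ₗ e.symm.toLinearMap
    let r₀ : P →ₗ[D] V (j + 1) ⧸ (V j).comap (V (j + 1)).subtype :=
      { toFun := fun p => Submodule.Quotient.mk ⟨p.1.coeff j, p.2 j⟩
        map_add' := fun p q => by
          rw [← Submodule.Quotient.mk_add]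
          exact congrArg _ (Subtype.ext (by simp))
        map_smul' := fun d p => by
          rw [RingHom.id_apply, ← Submodule.Quotient.mk_smul]
          exact congrArg _ (Subtype.ext (coeff_base_smul d p.1 j)) }
    have hr₀ : (P'.comap P.subtype).restrictScalars D ≤ LinearMap.ker r₀ := fun p hp =>
      (Submodule.Quotient.mk_eq_zero _).mpr (hp j)
    let r : G →ₗ[D] V (j + 1) ⧸ (V j).comap (V (j + 1)).subtype :=
      (Submodule.liftQ _ r₀ hr₀) ∘ₗ (Submodule.Quotient.restrictScalarsEquiv D (P'.comap P.subtype)).symm.toLinearMap
    refine killsKer_retract i r (LinearMap.ext fun x => ?_) hG.mul_right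
    obtain ⟨v, rfl⟩ := Submodule.Quotient.mk_surjective _ x
    refine congrArg Submodule.Quotient.mk (Subtype.ext ?_)
    show (PolynomialModule.single B j v.1).coeff j = v.1
    simp
  have hlevel : ∀ j, KillsKer (f₁ * f₂) (V j ⧸ U.comap (V j).subtype) := by
    intro j
    induction j with
    | zero => exact hQ0.mul_left
    | succ j ih =>
      let a : (V j ⧸ U.comap (V j).subtype) →ₗ[A] V (j + 1) ⧸ U.comap (V (j + 1)).subtype :=
        Submodule.mapQ _ _ (Submodule.inclusion (filt_le s V₀ j)) fun v hv => hv
      let b : (V (j + 1) ⧸ U.comap (V (j + 1)).subtype) →ₗ[A] V (j + 1) ⧸ (V j).comap (V (j + 1)).subtype :=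
        Submodule.mapQ _ _ LinearMap.id fun v hv => hUV j hv
      refine KillsKer.of_exact (u := a.restrictScalars D) (v := b.restrictScalars D) ?_ ?_ ?_ ih (hpiece j)
      · intro x y hxy
        obtain ⟨x, rfl⟩ := Submodule.Quotient.mk_surjective _ x
        obtain ⟨y, rfl⟩ := Submodule.Quotient.mk_surjective _ y
        exact (Submodule.Quotient.eq _).mpr ((Submodule.Quotient.eq (U.comap (V (j + 1)).subtype)).mp hxy :)
      · intro x
        obtain ⟨x, rfl⟩ := Submodule.Quotient.mk_surjective _ x
        exact ⟨Submodule.Quotient.mk x, rfl⟩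
      · intro x
        obtain ⟨x, rfl⟩ := Submodule.Quotient.mk_surjective _ x
        constructor
        · intro hx
          have hx' : x ∈ (V j).comap (V (j + 1)).subtype := (Submodule.Quotient.mk_eq_zero _).mp hx
          exact ⟨Submodule.Quotient.mk ⟨x.1, hx'⟩, rfl⟩
        · rintro ⟨w, hw⟩
          obtain ⟨w, rfl⟩ := Submodule.Quotient.mk_surjective _ w
          rw [← hw]
          exact (Submodule.Quotient.mk_eq_zero _).mpr w.2
  let W : ℕ → Submodule D (N ⧸ U) := fun j => ((V j).map U.mkQ).restrictScalars D
  refine KillsKer.of_chain W (fun a b h => Submodule.map_mono (filt_mono s V₀ h)) (fun m => ?_) fun j => ?_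
  · obtain ⟨m, rfl⟩ := Submodule.Quotient.mk_surjective _ m
    obtain ⟨j, hj⟩ := filt_exhaust s hs V₀ (top_le_iff.mp (hg ▸ Submodule.span_mono
      fun x hx => Submodule.mem_sup_right (Submodule.subset_span hx))) m
    exact ⟨j, m, hj, rfl⟩
  · let φ : V j →ₗ[A] N ⧸ U := U.mkQ ∘ₗ (V j).subtype
    have hker : LinearMap.ker φ = U.comap (V j).subtype := by
      rw [LinearMap.ker_comp, Submodule.ker_mkQ]
    have hran : LinearMap.range φ = (V j).map U.mkQ := by
      rw [LinearMap.range_comp, Submodule.range_subtype]
    let e : (V j ⧸ U.comap (V j).subtype) ≃ₗ[A] ((V j).map U.mkQ : Submodule A (N ⧸ U)) :=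
      (Submodule.quotEquivOfEq _ _ hker.symm).trans (φ.quotKerEquivRange.trans (LinearEquiv.ofEq _ _ hran))
    exact KillsKer.of_linearEquiv (e.restrictScalars D) (hlevel j)

end Groth.Agent.H7Flat.CokernelFlat
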