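import Mathlib

/-!
# Spreading a rational point of a finitely presented algebra over a constructible piece
-/

set_option autoImplicit false
set_option linter.style.haveILetI false
universe u

namespace Groth.Agent.H7Flat.CDStrat

/-- A point of a finitely presented algebra with values in a fraction field of a quotient spreads to
a principal open of a finitely presented closed subset. -/
theorem exists_stage {A B K : Type u} [CommRing A] [CommRing B] [Field K] [Algebra A B] [Algebra A K]
    [Algebra.FinitePresentation A B] (φ : B →ₐ[A] K)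
    (hfrac : ∀ z : K, ∃ a g : A, algebraMap A K g ≠ 0 ∧ z * algebraMap A K g = algebraMap A K a) :
    ∃ (g : A) (r : Finset A), algebraMap A K g ≠ 0 ∧ (∀ a ∈ r, algebraMap A K a = 0) ∧
      Nonempty (B →ₐ[A] Localization.Away (Ideal.Quotient.mk (Ideal.span (r : Set A)) g)) := by
  classical
  obtain ⟨n, f, hf, hker⟩ := Algebra.FinitePresentation.out (R := A) (A := B)
  choose num den hden hnum using fun i : Fin n => hfrac (φ (f (MvPolynomial.X i)))
  let g : A := ∏ i, den i
  have hg : algebraMap A K g ≠ 0 := by
    rw [map_prod]; exact Finset.prod_ne_zero_iff.mpr fun i _ => hden i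
  let num' : Fin n → A := fun i => num i * ∏ j ∈ Finset.univ.erase i, den j
  have hnum' : ∀ i, φ (f (MvPolynomial.X i)) * algebraMap A K g = algebraMap A K (num' i) := fun i => by
    simp only [num', g, ← Finset.mul_prod_erase Finset.univ den (Finset.mem_univ i), map_mul, ← mul_assoc, hnum]
  let Ag := Localization.Away g
  let β0 : MvPolynomial (Fin n) A →ₐ[A] Ag := MvPolynomial.aeval fun i =>
    IsLocalization.mk' Ag (num' i) (⟨g, Submonoid.mem_powers g⟩ : Submonoid.powers g)
  let ev : Ag →ₐ[A] K := IsLocalization.liftAlgHom (M := Submonoid.powers g) (f := Algebra.ofId A K) (by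
    rintro ⟨_, m, rfl⟩
    show IsUnit (algebraMap A K (g ^ m))
    rw [map_pow]
    exact (isUnit_iff_ne_zero.mpr hg).pow m)
  have hev : ev.comp β0 = φ.comp f := MvPolynomial.algHom_ext fun i => by
    refine mul_right_cancel₀ hg ?_
    simp only [AlgHom.comp_apply, β0, MvPolynomial.aeval_X, hnum']
    rw [← ev.commutes g, ← map_mul, IsLocalization.mk'_spec Ag (num' i)
      (⟨g, Submonoid.mem_powers g⟩ : Submonoid.powers g), ev.commutes]
  obtain ⟨t, ht⟩ := hker
  choose a s has using fun h : MvPolynomial (Fin n) A => IsLocalization.exists_mk'_eq (Submonoid.powers g) (β0 h)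
  let r : Finset A := t.image a
  refine ⟨g, r, hg, ?_, ?_⟩
  · intro x hx
    obtain ⟨h, hh, rfl⟩ := Finset.mem_image.mp hx
    have h0 : f h = 0 := RingHom.mem_ker.mp (ht.le (Ideal.subset_span hh))
    have h1 : ev (β0 h) = 0 := by rw [← AlgHom.comp_apply, hev, AlgHom.comp_apply, h0, map_zero]
    have h2 := congrArg ev (IsLocalization.mk'_spec Ag (a h) (s h))
    rw [map_mul, has h, h1, zero_mul, ev.commutes] at h2
    exact h2.symm
  · let I := Ideal.span (r : Set A)
    let L := Localization.Away (Ideal.Quotient.mk I g)
    let T : Ag →ₐ[A] L := IsLocalization.liftAlgHom (M := Submonoid.powers g) (f := Algebra.ofId A L) (by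
      rintro ⟨_, m, rfl⟩
      show IsUnit (algebraMap A L (g ^ m))
      rw [map_pow, IsScalarTower.algebraMap_apply A (A ⧸ I) L]
      exact (IsLocalization.Away.algebraMap_isUnit (Ideal.Quotient.mk I g)).pow m)
    have hT : ∀ x ∈ RingHom.ker f.toRingHom, T.comp β0 x = 0 := fun x hx => by
      have h3 : RingHom.ker f.toRingHom ≤ RingHom.ker (T.comp β0).toRingHom := by
        rw [← ht, Submodule.span_le]
        intro h hh
        show T (β0 h) = 0
        have hu : IsUnit (T (algebraMap A Ag (s h))) :=
          (IsLocalization.map_units Ag (s h)).map T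
        refine hu.mul_left_injective ?_
        show T (β0 h) * T (algebraMap A Ag (s h)) = 0 * _
        rw [zero_mul, ← has h, ← map_mul, IsLocalization.mk'_spec, T.commutes, IsScalarTower.algebraMap_apply A (A ⧸ I) L,
          show algebraMap A (A ⧸ I) (a h) = 0 from
            Ideal.Quotient.eq_zero_iff_mem.mpr (Ideal.subset_span (Finset.mem_image_of_mem a hh)), map_zero]
      exact h3 hx
    exact ⟨(Ideal.Quotient.liftₐ (RingHom.ker f.toRingHom) (T.comp β0) hT).comp
      (Ideal.quotientKerAlgEquivOfSurjective hf).symm.toAlgHom⟩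

end Groth.Agent.H7Flat.CDStrat
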