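import Groth.Agent.S1239

set_option autoImplicit false
universe u
open TensorProduct

namespace Groth.Agent.H7Flat.DenseFP

/-- The localisation at an element of an algebra presented as a quotient of `P`: if `A → B'` is of
finite presentation, then the localised module `B` is finitely presented over `P` localised. -/
theorem module_fp_away {A P B : Type u} [CommRing A] [CommRing P] [CommRing B] [Algebra A P] [Algebra A B]
    [Algebra P B] [IsScalarTower A P B] [Algebra.FinitePresentation A P]
    (hsurj : Function.Surjective (algebraMap P B)) (g : P)
    [Algebra.FinitePresentation A (Localization.Away (algebraMap P B g))] :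
    Module.FinitePresentation (Localization.Away g) (LocalizedModule (Submonoid.powers g) B) := by
  classical
  let P' := Localization.Away g
  let B' := Localization.Away (algebraMap P B g)
  let φ : P' →+* B' := IsLocalization.Away.map P' B' (algebraMap P B) g
  algebraize [φ]
  haveI : IsScalarTower P P' B' :=
    IsScalarTower.of_algebraMap_eq fun x => by
      rw [IsScalarTower.algebraMap_apply P B B']
      rw [RingHom.algebraMap_toAlgebra]
      exact (IsLocalization.map_eq _ x).symm
  haveI : IsScalarTower A P' B' := by
    refine IsScalarTower.of_algebraMap_eq fun a => ?_
    rw [IsScalarTower.algebraMap_apply A P B', IsScalarTower.algebraMap_apply A P P',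
      ← IsScalarTower.algebraMap_apply P P' B']
  haveI : Algebra.FinitePresentation P P' := IsLocalization.Away.finitePresentation g
  haveI : Algebra.FinitePresentation A P' := Algebra.FinitePresentation.trans A P P'
  have hs : Function.Surjective φ := (IsLocalization.Away.map_surjective_iff P' B' (algebraMap P B) g).mpr fun a => by
    obtain ⟨b, rfl⟩ := hsurj a
    exact ⟨b, 0, by simp⟩
  have hk : (RingHom.ker φ).FG :=
    Algebra.FinitePresentation.ker_fG_of_surjective (IsScalarTower.toAlgHom A P' B') hs
  haveI : Module.FinitePresentation P' B' :=
    Module.finitePresentation_of_surjective (Algebra.linearMap P' B') hs hk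
  haveI : IsLocalizedModule (Submonoid.powers g) (IsScalarTower.toAlgHom P B B').toLinearMap := by
    refine isLocalizedModule_iff_isLocalization.mpr ?_
    rw [Algebra.algebraMapSubmonoid_powers]
    infer_instance
  let e := (IsLocalizedModule.iso (Submonoid.powers g) (IsScalarTower.toAlgHom P B B').toLinearMap)
  exact Module.FinitePresentation.of_equiv
    (LinearEquiv.extendScalarsOfIsLocalization (Submonoid.powers g) P' e).symm

/-- A flat algebra of finite type which is of finite presentation over a scheme theoretically dense
finite union of basic opens is of finite presentation. -/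
theorem algebra_fp {A B : Type u} [CommRing A] [CommRing B] [Algebra A B] [Algebra.FiniteType A B]
    [Module.Flat A B] {n : ℕ} (f : Fin n → A)
    (hdense : Function.Injective (RingHom.pi (fun i => algebraMap A (Localization.Away (f i)))))
    (hfp : ∀ i, Algebra.FinitePresentation A (Localization.Away (algebraMap A B (f i)))) :
    Algebra.FinitePresentation A B := by
  obtain ⟨m, ψ, hψ⟩ := Algebra.FiniteType.iff_quotient_mvPolynomial''.mp
    (inferInstance : Algebra.FiniteType A B)
  algebraize [ψ.toRingHom]
  haveI : IsScalarTower A (MvPolynomial (Fin m) A) B :=
    IsScalarTower.of_algebraMap_eq fun a => (ψ.commutes a).symm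
  haveI : Module.Finite (MvPolynomial (Fin m) A) B :=
    Module.Finite.of_surjective (Algebra.linearMap _ B) hψ
  haveI : Module.FinitePresentation (MvPolynomial (Fin m) A) B := by
    refine Groth.Agent.S1239.result B f hdense fun i => ?_
    have e : algebraMap A B (f i) = algebraMap (MvPolynomial (Fin m) A) B
        (algebraMap A (MvPolynomial (Fin m) A) (f i)) := IsScalarTower.algebraMap_apply _ _ _ _
    haveI : Algebra.FinitePresentation A (Localization.Away
        (algebraMap (MvPolynomial (Fin m) A) B (algebraMap A (MvPolynomial (Fin m) A) (f i)))) :=
      e ▸ hfp i
    exact module_fp_away (A := A) hψ _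
  exact Algebra.FinitePresentation.of_surjective (f := ψ) hψ
    (Module.FinitePresentation.fg_ker (Algebra.linearMap (MvPolynomial (Fin m) A) B) hψ)

end Groth.Agent.H7Flat.DenseFP
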