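import Groth.Agent.H9Hens.StalkUnramified
import Groth.Agent.H17.Fibre
import Mathlib

/-!
# Helpers for etale slices
-/

set_option autoImplicit false
set_option backward.isDefEq.respectTransparency false
set_option linter.style.haveILetI false

universe u

open AlgebraicGeometry CategoryTheory CategoryTheory.Limits IsLocalRing

namespace Groth.Agent.H7Flat.EtaleSlice

variable {X S Z : Scheme.{u}}

theorem app_eq_zero {U : X.Opens} (hU : IsAffineOpen U) {C : CommRingCat.{u}} (φ : Γ(X, U) ⟶ C) (a : Γ(X, U))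
    (ha : φ a = 0) : (Spec.map φ ≫ hU.fromSpec).app U a = 0 := by
  show (Spec.map φ).app (hU.fromSpec ⁻¹ᵁ U) (hU.fromSpec.app U a) = 0
  rw [hU.fromSpec_app_self]
  simp only [CommRingCat.comp_apply]
  have hnat := congr($((Spec.map φ).naturality (eqToHom hU.fromSpec_preimage_self).op)
    ((Scheme.ΓSpecIso Γ(X, U)).inv a))
  simp only [CommRingCat.comp_apply] at hnat
  refine hnat.trans ?_
  have h2 := congr($(Scheme.ΓSpecIso_inv_naturality φ) a)
  simp only [CommRingCat.comp_apply] at h2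
  have h1 : (Spec.map φ).app ⊤ ((Scheme.ΓSpecIso Γ(X, U)).inv a) = 0 := by
    refine h2.symm.trans ?_
    rw [ha, map_zero]
  erw [h1, map_zero]

theorem map_maximalIdeal_eq {A P Q : Type u} [CommRing A] [IsLocalRing A] [CommRing P] [IsLocalRing P]
    [CommRing Q] [IsLocalRing Q] (φ : A →+* P) [IsLocalHom φ] (ψ : P →+* Q) [IsLocalHom ψ]
    (hψ : Function.Surjective ψ) {d : ℕ} (lift : Fin d → P) (ys : Fin d → P ⧸ (maximalIdeal A).map φ)
    (hlift : ∀ j, Ideal.Quotient.mk _ (lift j) = ys j)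
    (hys : ∀ a ∈ maximalIdeal P, Ideal.Quotient.mk _ a ∈ Ideal.span (Set.range ys))
    (hzero : ∀ j, ψ (lift j) = 0) :
    (maximalIdeal A).map (ψ.comp φ) = maximalIdeal Q := by
  rw [← Ideal.map_map]
  refine le_antisymm ((Ideal.map_mono (map_maximalIdeal_le φ)).trans (map_maximalIdeal_le ψ)) fun q hq => ?_
  obtain ⟨a, rfl⟩ := hψ q
  have ha : a ∈ maximalIdeal P := fun hu => hq (hu.map ψ)
  have h1 := hys a ha
  have he : Ideal.span (Set.range ys) = (Ideal.span (Set.range lift)).map (Ideal.Quotient.mk _) := by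
    rw [Ideal.map_span, ← Set.range_comp]
    congr 2
    funext j
    exact (hlift j).symm
  rw [he, ← Ideal.mem_comap, Ideal.comap_map_of_surjective _ Ideal.Quotient.mk_surjective,
    ← RingHom.ker_eq_comap_bot, Ideal.mk_ker, sup_comm] at h1
  obtain ⟨b, hb, c, hc, rfl⟩ := Submodule.mem_sup.1 h1
  have hker : Ideal.span (Set.range lift) ≤ RingHom.ker ψ := by
    rw [Ideal.span_le]
    rintro _ ⟨j, rfl⟩
    exact hzero j
  rw [map_add, show ψ c = 0 from hker hc, add_zero]
  exact Ideal.mem_map_of_mem _ hb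

/-- A residue extension followed by a trivial one. -/
theorem finite_separable_comp {k K L : Type u} [Field k] [Field K] [Field L] (φ : k →+* K) (χ : k →+* L)
    (ψ : K →+* L) (hψ : Function.Surjective ψ) (hc : ψ.comp φ = χ)
    (hfin : φ.Finite) (hsep : @Algebra.IsSeparable k K _ _ φ.toAlgebra) :
    letI := χ.toAlgebra
    Module.Finite k L ∧ Algebra.IsSeparable k L := by
  letI := φ.toAlgebra
  letI := χ.toAlgebra
  haveI := hsep
  haveI : Module.Finite k K := hfin
  let E : K →ₐ[k] L := { ψ with commutes' := fun a => RingHom.congr_fun hc a }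
  have hb : Function.Bijective E := ⟨ψ.injective, hψ⟩
  exact ⟨Module.Finite.of_surjective E.toLinearMap hψ,
    Algebra.IsSeparable.of_algHom _ _ (AlgEquiv.ofBijective E hb).symm.toAlgHom⟩

theorem stalk_formallyUnramified (i : Z ⟶ X) [IsPreimmersion i] (f : X ⟶ S) [LocallyOfFiniteType (i ≫ f)]
    [LocallyOfFiniteType f] (z : Z)
    (hcl : IsClosed ({f.asFiber (i z)} : Set ↑(f.fiber (f (i z)))))
    (hsep : @Algebra.IsSeparable (S.residueField (f (i z))) (X.residueField (i z)) _ _ (f.residueFieldMap (i z)).hom.toAlgebra)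
    (hmax : (maximalIdeal (S.presheaf.stalk (f (i z)))).map ((i.stalkMap z).hom.comp (f.stalkMap (i z)).hom) =
      maximalIdeal _) :
    ((i ≫ f).stalkMap z).hom.FormallyUnramified := by
  have hcomp : ((i ≫ f).stalkMap z).hom = (i.stalkMap z).hom.comp (f.stalkMap (i z)).hom := by
    rw [Scheme.Hom.stalkMap_comp]
    rfl
  rw [H9Hens.stalk_unramified_iff]
  refine ⟨by rw [hcomp]; exact hmax, ?_⟩
  refine finite_separable_comp (f.residueFieldMap (i z)).hom ((i ≫ f).residueFieldMap z).hom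
    (i.residueFieldMap z).hom (fun c => ?_) ?_ (H17.finite_residueFieldMap f (i z) hcl) hsep
  · obtain ⟨c, rfl⟩ := residue_surjective c
    obtain ⟨b, rfl⟩ := i.stalkMap_surjective z c
    exact ⟨residue _ b, rfl⟩
  · refine RingHom.ext fun a => ?_
    obtain ⟨a, rfl⟩ := residue_surjective a
    exact congrArg (residue _) (RingHom.congr_fun hcomp a).symm

theorem quasiFiniteAt_of_etale (g : Z ⟶ S) [LocallyOfFiniteType g] (W : Z.Opens) (z : Z) (hz : z ∈ W)
    [Etale (W.ι ≫ g)] : g.QuasiFiniteAt z := by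
  haveI : LocallyQuasiFinite (W.ι ≫ g) := by
    rw [HasRingHomProperty.iff_appLE (P := @LocallyQuasiFinite)]
    intro A O e
    have h := HasRingHomProperty.appLE @Etale (W.ι ≫ g) ‹_› A O e
    algebraize [((W.ι ≫ g).appLE A.1 O.1 e).hom]
    exact (inferInstance : Algebra.QuasiFinite Γ(S, A.1) Γ(W.toScheme, O.1))
  exact Scheme.Hom.quasiFiniteAt_comp_iff_of_isOpenImmersion.1 ((W.ι ≫ g).quasiFiniteAt ⟨z, hz⟩)

end Groth.Agent.H7Flat.EtaleSlice
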