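import Mathlib.RingTheory.Ideal.MinimalPrime.Basic
import Mathlib.RingTheory.Ideal.Maximal
import Mathlib.RingTheory.Nilpotent.Lemmas
import Mathlib.RingTheory.Noetherian.Defs
import Mathlib.RingTheory.Finiteness.Ideal
import Mathlib.RingTheory.Ideal.Colon
import Mathlib.RingTheory.Localization.AtPrime.Basic
import Mathlib.Tactic.LinearCombination

/-!
# Elements in all powers of a finitely generated ideal
-/

set_option autoImplicit false

universe u

namespace Groth.Agent.H7Flat

/-- Elements of a minimal prime over `K` are locally in the radical of `K`. -/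
theorem exists_mul_pow_mem {A : Type u} [CommRing A] {K q : Ideal A} (hq : q ∈ K.minimalPrimes) {g : A}
    (hg : g ∈ q) : ∃ s ∉ q, ∃ n : ℕ, s * g ^ n ∈ K := by
  haveI : q.IsPrime := hq.1.1
  by_contra hcon
  push Not at hcon
  obtain ⟨Q, hQ, hKQ, hdisj⟩ := Ideal.exists_le_prime_disjoint K (q.primeCompl ⊔ Submonoid.powers g) (by
      rw [Set.disjoint_left]
      intro x hx hxS
      obtain ⟨s, hs, _, ⟨n, rfl⟩, rfl⟩ := Submonoid.mem_sup.1 hxS
      exact hcon s hs n hx)
  have hle : Q ≤ q := fun x hxQ => by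
    by_contra hxq
    exact Set.disjoint_left.1 hdisj hxQ (Submonoid.mem_sup_left hxq)
  exact Set.disjoint_left.1 hdisj (hq.2 ⟨hQ, hKQ⟩ hle hg) (Submonoid.mem_sup_right ⟨1, pow_one g⟩)

/-- If `q` is minimal over `p + (a)` and contains the finitely generated `J`, then `a` is not in all powers of `J`. -/
theorem exists_notMem_pow {A : Type u} [CommRing A] {p q J : Ideal A} [p.IsPrime] {a : A} (ha : a ∉ p)
    (hJ : J.FG) (hq : q ∈ (p ⊔ Ideal.span {a}).minimalPrimes) (hJq : J ≤ q) :
    ∃ n : ℕ, 1 ≤ n ∧ a ∉ J ^ n := by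
  classical
  haveI := hq.1.1
  obtain ⟨G, hG⟩ := hJ
  subst hG
  choose! s hs n hn using fun g (hg : g ∈ G) => exists_mul_pow_mem hq (hJq (Ideal.subset_span hg))
  let K := p ⊔ Ideal.span {a}
  let S := ∏ g ∈ G, s g
  have hS : S ∉ q := fun h => by
    obtain ⟨g, hg, hg'⟩ := hq.1.1.prod_mem_iff.1 h
    exact hs g hg hg'
  have hle : Ideal.span (G : Set A) ≤ (K.colon (Ideal.span {S} : Ideal A)).radical := by
    rw [Ideal.span_le]
    intro g hg
    refine ⟨n g, Submodule.mem_colon.2 fun x hx => ?_⟩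
    obtain ⟨c, rfl⟩ := Ideal.mem_span_singleton'.1 hx
    show g ^ n g * (c * S) ∈ K
    rw [show g ^ n g * (c * S) = (c * ∏ x ∈ G.erase g, s x) * (s g * g ^ n g) by
      simp only [S]; rw [← Finset.mul_prod_erase G s hg]; ring]
    exact K.mul_mem_left _ (hn g hg)
  obtain ⟨M, hM⟩ := Ideal.exists_pow_le_of_le_radical_of_fg hle ⟨G, rfl⟩
  refine ⟨M + 1, Nat.le_add_left 1 M, fun haM => hS ?_⟩
  rw [pow_succ'] at haM
  have key : ∀ x ∈ Ideal.span (G : Set A) * Ideal.span (G : Set A) ^ M,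
      ∃ j ∈ Ideal.span (G : Set A), S * x - a * j ∈ p := by
    intro x hx
    refine Submodule.mul_induction_on hx (fun j hj y hy => ?_) (fun x y hx hy => ?_)
    · have h1 : y * S ∈ K := Submodule.mem_colon.1 (hM hy) S (Ideal.mem_span_singleton_self S)
      obtain ⟨u, hu, v, hv, huv⟩ := Submodule.mem_sup.1 h1
      obtain ⟨c, rfl⟩ := Ideal.mem_span_singleton'.1 hv
      refine ⟨j * c, Ideal.mul_mem_right _ _ hj, ?_⟩
      rw [show S * (j * y) - a * (j * c) = j * u from by linear_combination (-j) * huv]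
      exact p.mul_mem_left _ hu
    · obtain ⟨j, hj, hj'⟩ := hx
      obtain ⟨k, hk, hk'⟩ := hy
      refine ⟨j + k, add_mem hj hk, ?_⟩
      rw [show S * (x + y) - a * (j + k) = (S * x - a * j) + (S * y - a * k) by ring]
      exact add_mem hj' hk'
  obtain ⟨j, hj, hj'⟩ := key a haM
  have h2 : S - j ∈ p := (‹p.IsPrime›.mem_or_mem (show a * (S - j) ∈ p by
    rw [show a * (S - j) = S * a - a * j by ring]; exact hj')).resolve_left ha
  have h3 : S - j ∈ q := hq.1.2 (Ideal.mem_sup_left h2)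
  simpa using q.add_mem h3 (hJq hj)

end Groth.Agent.H7Flat
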