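import Groth.Agent.H7Flat.FieldExtGeneric
import Groth.Agent.H7Flat.UnivInjCover
import Groth.Agent.H7Flat.ImpurityStage

/-!
Generic points over a point of a fibre after base change of the base, and their specialisations
along the fibre.
-/

set_option autoImplicit false
universe u

namespace Groth.Agent.H7Flat.FibreGenericSpec

open TensorProduct FlatMor ImpurityDescend

attribute [local instance] Algebra.TensorProduct.rightAlgebra

set_option backward.isDefEq.respectTransparency false
set_option maxHeartbeats 1000000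
set_option synthInstance.maxHeartbeats 400000

/-- `P` is minimal among the primes over `t'` containing `J`. -/
def IsGen {R' S' : Type u} [CommRing R'] [CommRing S'] [Algebra R' S'] (t' : Ideal R')
    (J : Ideal S') (P : Ideal S') : Prop :=
  P.IsPrime ∧ P.LiesOver t' ∧ J ≤ P ∧
    ∀ Y : Ideal S', Y.IsPrime → Y.LiesOver t' → J ≤ Y → Y ≤ P → P ≤ Y

/-- Minimality over a prime translates to the fibre rings. -/
theorem isGen_iff {R R' S S' : Type u} [CommRing R] [CommRing R'] [CommRing S] [CommRing S']
    [Algebra R S] [Algebra R' S'] [Algebra S S'] (t : Ideal R) [t.IsPrime] (t' : Ideal R')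
    [t'.IsPrime] [Algebra (t.Fiber S) (t'.Fiber S')]
    (hψ : ∀ s, algebraMap (t.Fiber S) (t'.Fiber S') (algebraMap S (t.Fiber S) s) =
      algebraMap S' (t'.Fiber S') (algebraMap S S' s))
    (q : Ideal S) (P : Ideal S') [P.IsPrime] [P.LiesOver t'] :
    IsGen t' (q.map (algebraMap S S')) P ↔
      FlatCA.fiberIdeal t' P ∈ ((FlatCA.fiberIdeal t q).map
        (algebraMap (t.Fiber S) (t'.Fiber S'))).minimalPrimes := by
  have key : ∀ Y : Ideal (t'.Fiber S'),
      (FlatCA.fiberIdeal t q).map (algebraMap (t.Fiber S) (t'.Fiber S')) ≤ Y ↔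
        q.map (algebraMap S S') ≤ Y.comap (algebraMap S' (t'.Fiber S')) := by
    intro Y
    rw [FlatCA.fiberIdeal, Ideal.map_le_iff_le_comap, Ideal.map_le_iff_le_comap,
      Ideal.map_le_iff_le_comap]
    constructor
    · intro h s hs
      have h1 : algebraMap (t.Fiber S) (t'.Fiber S') (algebraMap S (t.Fiber S) s) ∈ Y := h hs
      rwa [hψ] at h1
    · intro h s hs
      show algebraMap (t.Fiber S) (t'.Fiber S') (algebraMap S (t.Fiber S) s) ∈ Y
      rw [hψ]
      exact h hs
  have hprime := UnivInjCover.isPrime_fiberIdeal t' P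
  constructor
  · rintro ⟨-, -, hJP, hmin⟩
    refine ⟨⟨hprime, (key _).mpr (hJP.trans (comap_fiberIdeal t' P).ge)⟩, fun Y hY hle => ?_⟩
    have := hY.1
    have h1 : P ≤ Y.comap (algebraMap S' (t'.Fiber S')) :=
      hmin _ (Ideal.comap_isPrime _ _) (ImpurityStage.liesOver_comap_fiber t' Y) ((key Y).mp hY.2)
        ((Ideal.comap_mono hle).trans (comap_fiberIdeal t' P).le)
    calc FlatCA.fiberIdeal t' P ≤ FlatCA.fiberIdeal t' (Y.comap (algebraMap S' (t'.Fiber S'))) :=
          Ideal.map_mono h1
      _ = Y := fiberIdeal_comap t' Y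
  · intro h
    refine ⟨inferInstance, inferInstance, ((key _).mp h.1.2).trans (comap_fiberIdeal t' P).le,
      fun Y hY hYt hJY hle => ?_⟩
    have := hY
    have := hYt
    have h1 : FlatCA.fiberIdeal t' P ≤ FlatCA.fiberIdeal t' Y :=
      h.2 ⟨UnivInjCover.isPrime_fiberIdeal t' Y, (key _).mpr (hJY.trans (comap_fiberIdeal t' Y).ge)⟩
        (Ideal.map_mono hle)
    calc P = (FlatCA.fiberIdeal t' P).comap (algebraMap S' (t'.Fiber S')) :=
          (comap_fiberIdeal t' P).symm
      _ ≤ (FlatCA.fiberIdeal t' Y).comap (algebraMap S' (t'.Fiber S')) := Ideal.comap_mono h1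
      _ = Y := comap_fiberIdeal t' Y

/-- The map of fibre rings along a base change, as a pushout over the residue fields. -/
theorem exists_fiber_map {R R' S S' : Type u} [CommRing R] [CommRing R'] [CommRing S] [CommRing S']
    [Algebra R R'] [Algebra R S] [Algebra R' S'] [Algebra S S'] [Algebra R S'] [IsScalarTower R R' S']
    [IsScalarTower R S S'] [Algebra.IsPushout R S R' S'] (t : Ideal R) [t.IsPrime] (t' : Ideal R')
    [t'.IsPrime] [t'.LiesOver t] :
    ∃ (iκ : Algebra t.ResidueField t'.ResidueField) (iF : Algebra (t.Fiber S) (t'.Fiber S'))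
      (h₁ : IsScalarTower t.ResidueField (t.Fiber S) (t'.Fiber S'))
      (h₂ : IsScalarTower t.ResidueField t'.ResidueField (t'.Fiber S')),
      Algebra.IsPushout t.ResidueField (t.Fiber S) t'.ResidueField (t'.Fiber S') ∧
      ∀ s, algebraMap (t.Fiber S) (t'.Fiber S') (algebraMap S (t.Fiber S) s) =
        algebraMap S' (t'.Fiber S') (algebraMap S S' s) := by
  let ν : t.ResidueField →ₐ[R] t'.ResidueField :=
    Ideal.ResidueField.mapₐ t t' (Algebra.ofId R R') (t'.over_def t)
  let aν : Algebra t.ResidueField t'.ResidueField := ν.toRingHom.toAlgebra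
  have : IsScalarTower R t.ResidueField t'.ResidueField :=
    IsScalarTower.of_algebraMap_eq fun r => (ν.commutes r).symm
  let : Algebra S (t'.Fiber S') := ((algebraMap S' (t'.Fiber S')).comp (algebraMap S S')).toAlgebra
  have : IsScalarTower S S' (t'.Fiber S') := IsScalarTower.of_algebraMap_eq fun _ => rfl
  have : IsScalarTower R R' (t'.Fiber S') := inferInstance
  have : IsScalarTower R S (t'.Fiber S') := IsScalarTower.of_algebraMap_eq fun r => by
    change _ = algebraMap S' (t'.Fiber S') (algebraMap S S' (algebraMap R S r))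
    rw [← IsScalarTower.algebraMap_apply R S S', IsScalarTower.algebraMap_apply R R' S',
      ← IsScalarTower.algebraMap_apply R' S' (t'.Fiber S'), ← IsScalarTower.algebraMap_apply]
  let φ : t.Fiber S →ₐ[R] t'.Fiber S' := Algebra.TensorProduct.lift
    ((IsScalarTower.toAlgHom R t'.ResidueField (t'.Fiber S')).comp ν)
    (IsScalarTower.toAlgHom R S (t'.Fiber S')) (fun _ _ => mul_comm _ _)
  let aφ : Algebra (t.Fiber S) (t'.Fiber S') := φ.toRingHom.toAlgebra
  have hφS : ∀ s, φ (algebraMap S (t.Fiber S) s) = algebraMap S (t'.Fiber S') s := fun s => by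
    change φ ((1 : t.ResidueField) ⊗ₜ[R] s) = _
    simp [φ, ← Algebra.TensorProduct.one_def]
  have : IsScalarTower S (t.Fiber S) (t'.Fiber S') :=
    IsScalarTower.of_algebraMap_eq fun s => (hφS s).symm
  have t₁ : IsScalarTower t.ResidueField (t.Fiber S) (t'.Fiber S') :=
    IsScalarTower.of_algebraMap_eq fun k => by
      change _ = φ (k ⊗ₜ[R] (1 : S))
      simp [φ]
      rfl
  have : IsScalarTower R S' (t'.Fiber S') := IsScalarTower.of_algebraMap_eq fun r => by
    rw [IsScalarTower.algebraMap_apply R R' S', ← IsScalarTower.algebraMap_apply R' S' (t'.Fiber S'),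
      ← IsScalarTower.algebraMap_apply]
  have : Algebra.IsPushout R R' S S' := Algebra.IsPushout.symm inferInstance
  have h0 : Algebra.IsPushout R' t'.ResidueField S' (t'.Fiber S') := inferInstance
  have h1 : Algebra.IsPushout R t'.ResidueField S (t'.Fiber S') :=
    (Algebra.IsPushout.comp_iff R R' S S' (T := t'.ResidueField) (T' := t'.Fiber S')).mpr h0
  have h3 : Algebra.IsPushout t.ResidueField t'.ResidueField (t.Fiber S) (t'.Fiber S') :=
    (Algebra.IsPushout.comp_iff R t.ResidueField S (t.Fiber S) (T := t'.ResidueField)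
      (T' := t'.Fiber S')).mp h1
  exact ⟨aν, aφ, t₁, inferInstance, h3.symm, fun s => hφS s⟩

/-- Generic points specialise to generic points over specialisations in the fibre. -/
theorem exists_isGen_ge {R R' S S' : Type u} [CommRing R] [CommRing R'] [CommRing S] [CommRing S']
    [Algebra R R'] [Algebra R S] [Algebra R' S'] [Algebra S S'] [Algebra R S'] [IsScalarTower R R' S']
    [IsScalarTower R S S'] [Algebra.IsPushout R S R' S'] (t : Ideal R) [t.IsPrime] (t' : Ideal R')
    [t'.IsPrime] [t'.LiesOver t] (q x : Ideal S) [q.IsPrime] [x.IsPrime] [q.LiesOver t]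
    [x.LiesOver t] (hqx : q ≤ x) (P : Ideal S') (hP : IsGen t' (q.map (algebraMap S S')) P) :
    ∃ P₂ : Ideal S', P ≤ P₂ ∧ IsGen t' (x.map (algebraMap S S')) P₂ ∧
      P₂.comap (algebraMap S S') = x := by
  have := hP.1
  have := hP.2.1
  obtain ⟨iκ, iF, h₁, h₂, hpush, hψ⟩ := exists_fiber_map (S := S) (S' := S') t t'
  have := UnivInjCover.isPrime_fiberIdeal t q
  have := UnivInjCover.isPrime_fiberIdeal t x
  have := hpush
  obtain ⟨Y, hle, hY, hYx⟩ := FieldExtGeneric.exists_minimalPrimes_ge t.ResidueField t'.ResidueField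
    (FlatCA.fiberIdeal t q) (FlatCA.fiberIdeal t x) (Ideal.map_mono hqx)
    (FlatCA.fiberIdeal t' P) ((isGen_iff t t' hψ q P).mp hP)
  have := hY.1.1
  let P₂ := Y.comap (algebraMap S' (t'.Fiber S'))
  have : P₂.LiesOver t' := ImpurityStage.liesOver_comap_fiber t' Y
  refine ⟨P₂, (comap_fiberIdeal t' P).ge.trans (Ideal.comap_mono hle), ?_, ?_⟩
  · rw [isGen_iff t t' hψ x P₂]
    rw [fiberIdeal_comap t' Y]
    exact hY
  · ext s
    rw [← comap_fiberIdeal t x, ← hYx]
    simp only [P₂, Ideal.mem_comap, hψ]

/-- Associated points of the fibres of a base change are generic over their images. -/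
theorem isGen_of_mem_associatedPrimes {R R' S S' N N' : Type u} [CommRing R] [CommRing R']
    [CommRing S] [CommRing S'] [Algebra R R'] [Algebra R S] [Algebra.FiniteType R S] [Algebra R' S']
    [Algebra S S'] [Algebra R S'] [IsScalarTower R R' S'] [IsScalarTower R S S']
    [Algebra.IsPushout R S R' S'] [AddCommGroup N] [Module S N] [Module.Finite S N] [AddCommGroup N']
    [Module S' N'] [Module S N'] [IsScalarTower S S' N'] {g : N →ₗ[S] N'} (hg : IsBaseChange S' g)
    (t : Ideal R) [t.IsPrime] (t' : Ideal R') [t'.IsPrime] [t'.LiesOver t] (P : Ideal S') [P.IsPrime]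
    [P.LiesOver t'] (hP : FlatCA.fiberIdeal t' P ∈
      associatedPrimes (t'.Fiber S') (FlatCA.fiberMod t' S' N')) :
    IsGen t' ((P.comap (algebraMap S S')).map (algebraMap S S')) P := by
  obtain ⟨iκ, iF, h₁, h₂, hpush, hψ⟩ := exists_fiber_map (S := S) (S' := S') t t'
  have := hpush
  have : IsNoetherianRing (t.Fiber S) := Algebra.FiniteType.isNoetherianRing t.ResidueField _
  have : Module.Finite (t.Fiber S) (FlatCA.fiberMod t S N) :=
    inferInstanceAs (Module.Finite (t.Fiber S) ((t.Fiber S) ⊗[S] N))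
  have : IsScalarTower S (t.Fiber S) (FlatCA.fiberMod t S N) :=
    IsScalarTower.of_algebraMap_smul fun s m =>
      algebraMap_smul (t.Fiber S) s (show (t.Fiber S) ⊗[S] N from m)
  let M' := FlatCA.fiberMod t' S' N'
  let : Module (t.Fiber S) M' := Module.compHom M' (algebraMap (t.Fiber S) (t'.Fiber S'))
  have : IsScalarTower (t.Fiber S) (t'.Fiber S') M' := IsScalarTower.of_algebraMap_smul fun _ _ => rfl
  let : Algebra S (t'.Fiber S') := ((algebraMap S' (t'.Fiber S')).comp (algebraMap S S')).toAlgebra
  have : IsScalarTower S S' (t'.Fiber S') := IsScalarTower.of_algebraMap_eq fun _ => rfl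
  let : Module S M' := Module.compHom M' (algebraMap S S')
  have : IsScalarTower S S' M' := IsScalarTower.of_algebraMap_smul fun _ _ => rfl
  have : IsScalarTower S' (t'.Fiber S') M' := IsScalarTower.of_algebraMap_smul fun s m =>
    algebraMap_smul (t'.Fiber S') s (show (t'.Fiber S') ⊗[S'] N' from m)
  have : IsScalarTower S (t'.Fiber S') M' := IsScalarTower.of_algebraMap_smul fun s m =>
    algebraMap_smul (t'.Fiber S') (algebraMap S S' s) m
  have : IsScalarTower S (t.Fiber S) M' := IsScalarTower.of_algebraMap_smul fun s m => by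
    change algebraMap (t.Fiber S) (t'.Fiber S') (algebraMap S (t.Fiber S) s) • m = _
    rw [hψ, algebraMap_smul]
    rfl
  have hM : IsBaseChange (t.Fiber S) (FlatCA.toFiberMod t S N) :=
    TensorProduct.isBaseChange S N (t.Fiber S)
  have hM' : IsBaseChange (t'.Fiber S') (FlatCA.toFiberMod t' S' N') :=
    TensorProduct.isBaseChange S' N' (t'.Fiber S')
  have : IsScalarTower S (t.Fiber S) (t'.Fiber S') :=
    IsScalarTower.of_algebraMap_eq fun s => (hψ s).symm
  let fN : N →ₗ[S] M' := ((FlatCA.toFiberMod t' S' N').restrictScalars S).comp g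
  let γ : FlatCA.fiberMod t S N →ₗ[t.Fiber S] M' := hM.lift fN
  have hγ : IsBaseChange (t'.Fiber S') γ := by
    refine IsBaseChange.of_comp hM ?_
    rw [show γ.restrictScalars S ∘ₗ FlatCA.toFiberMod t S N = fN from hM.lift_comp fN]
    exact IsBaseChange.comp hg hM'
  have h1 := FieldExtGeneric.mem_minimalPrimes_of_mem_associatedPrimes t.ResidueField
    t'.ResidueField hγ (FlatCA.fiberIdeal t' P) hP
  have : (P.comap (algebraMap S S')).LiesOver t := ⟨by
    rw [Ideal.under, Ideal.comap_comap, ← IsScalarTower.algebraMap_eq,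
      IsScalarTower.algebraMap_eq R R' S', ← Ideal.comap_comap, t'.over_def t]
    exact congrArg (Ideal.comap (algebraMap R R')) (P.over_def t')⟩
  have := UnivInjCover.isPrime_fiberIdeal t' P
  have hc : (FlatCA.fiberIdeal t' P).comap (algebraMap (t.Fiber S) (t'.Fiber S')) =
      FlatCA.fiberIdeal t (P.comap (algebraMap S S')) := by
    refine (fiberIdeal_comap t _).symm.trans (congrArg (FlatCA.fiberIdeal t) ?_)
    ext s
    simp only [Ideal.mem_comap, hψ]
    rw [← Ideal.mem_comap, comap_fiberIdeal t' P]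
  rw [isGen_iff t t' hψ, ← hc]
  exact h1

end Groth.Agent.H7Flat.FibreGenericSpec
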