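import Groth.Agent.H8Props.FibreCriterionApps
import Groth.Agent.H8Props.FlatLocus.Scheme
import Groth.Agent.H12AlgSp.LocPCancel
import Mathlib.AlgebraicGeometry.Morphisms.ClosedImmersion
import Mathlib.RingTheory.Polynomial.Basic

/-!
# A finitely presented model of a morphism of finite type with the same fibre

Used to drop the finite presentation hypothesis on `Y → S` in the fibrewise criterion of flatness.
-/

set_option autoImplicit false
set_option linter.style.haveILetI false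
universe u

open AlgebraicGeometry CategoryTheory CategoryTheory.Limits

namespace Groth.Agent.H7Flat

open Groth.Agent.H8Props

/-- A morphism of finite type of affine schemes is the restriction to a closed subscheme of one of
finite presentation, without changing the fibre over a given point. -/
theorem exists_fp_model {Y S : Scheme.{u}} [IsAffine Y] [IsAffine S] (g : Y ⟶ S)
    [LocallyOfFiniteType g] (s : S) :
    ∃ (Y₀ : Scheme.{u}) (i : Y ⟶ Y₀) (g₀ : Y₀ ⟶ S), IsClosedImmersion i ∧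
      LocallyOfFinitePresentation g₀ ∧ i ≫ g₀ = g ∧ IsIso (pullback.snd i (g₀.fiberι s)) := by
  classical
  letI := g.appTop.hom.toAlgebra
  haveI : Algebra.FiniteType Γ(S, ⊤) Γ(Y, ⊤) :=
    (HasRingHomProperty.iff_of_isAffine (P := @LocallyOfFiniteType) (f := g)).mp ‹_›
  obtain ⟨n, φ, hφ⟩ := Algebra.FiniteType.iff_quotient_mvPolynomial''.mp
    (inferInstance : Algebra.FiniteType Γ(S, ⊤) Γ(Y, ⊤))
  let P := MvPolynomial (Fin n) Γ(S, ⊤)
  let I : Ideal P := RingHom.ker φ.toRingHom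
  let ε : Γ(S, ⊤) →+* S.residueField s :=
    ((S.fromSpecResidueField s).appTop ≫ (Scheme.ΓSpecIso (S.residueField s)).hom).hom
  obtain ⟨t, ht, hts⟩ := (Submodule.fg_span_iff_fg_span_finset_subset _).mp
    (IsNoetherian.noetherian (I.map (MvPolynomial.map (σ := Fin n) ε)))
  obtain ⟨t', ht', rfl⟩ := Finset.subset_set_image_iff.mp ht
  let I₀ : Ideal P := Ideal.span (t' : Set P)
  have hI₀ : I₀ ≤ I := Ideal.span_le.mpr ht'
  have hmap : I.map (MvPolynomial.map ε) = I₀.map (MvPolynomial.map ε) := by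
    rw [show I₀.map (MvPolynomial.map ε) = Ideal.span (MvPolynomial.map ε '' (t' : Set P)) from
      Ideal.map_span _ _, ← Finset.coe_image]
    exact hts
  let A₀ := CommRingCat.of (P ⧸ I₀)
  let a : Γ(S, ⊤) ⟶ A₀ := CommRingCat.ofHom (algebraMap Γ(S, ⊤) (P ⧸ I₀))
  let π : A₀ ⟶ Γ(Y, ⊤) := CommRingCat.ofHom (Ideal.Quotient.lift I₀ φ.toRingHom fun p hp => hI₀ hp)
  have haπ : a ≫ π = g.appTop := CommRingCat.hom_ext (RingHom.ext fun r => φ.commutes r)
  haveI : IsClosedImmersion (Spec.map π) := IsClosedImmersion.spec_of_surjective π fun b => by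
    obtain ⟨p, rfl⟩ := hφ b
    exact ⟨Ideal.Quotient.mk I₀ p, rfl⟩
  haveI : LocallyOfFinitePresentation (Spec.map a) := by
    refine (HasRingHomProperty.Spec_iff (P := @LocallyOfFinitePresentation)).mpr ?_
    exact RingHom.finitePresentation_algebraMap.mpr
      (Algebra.FinitePresentation.quotient ⟨t', rfl⟩)
  let i : Y ⟶ Spec A₀ := Y.isoSpec.hom ≫ Spec.map π
  let g₀ : Spec A₀ ⟶ S := Spec.map a ≫ S.isoSpec.inv
  have hig : i ≫ g₀ = g := by
    simp only [i, g₀, Category.assoc, ← Spec.map_comp_assoc, haπ]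
    rw [Scheme.isoSpec_hom_naturality_assoc, Iso.hom_inv_id, Category.comp_id]
  refine ⟨_, i, g₀, inferInstance, inferInstance, hig, ?_⟩
  let ι := g₀.fiberι s
  let b : P →+* Γ(g₀.fiber s, ⊤) :=
    ((Scheme.ΓSpecIso A₀).inv ≫ ι.appTop).hom.comp (Ideal.Quotient.mk I₀)
  let c : S.residueField s →+* Γ(g₀.fiber s, ⊤) :=
    ((Scheme.ΓSpecIso (S.residueField s)).inv ≫ (g₀.fiberToSpecResidueField s).appTop).hom
  let b' : MvPolynomial (Fin n) (S.residueField s) →+* Γ(g₀.fiber s, ⊤) :=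
    MvPolynomial.eval₂Hom c fun j => b (MvPolynomial.X j)
  have hg₀ : g₀.appTop = a ≫ (Scheme.ΓSpecIso A₀).inv := by
    rw [Scheme.ΓSpecIso_inv_naturality, show g₀.appTop = S.isoSpec.inv.appTop ≫ (Spec.map a).appTop
      from Scheme.Hom.comp_appTop _ _]
    congr 1
    have h1 : S.isoSpec.inv.appTop ≫ (Scheme.ΓSpecIso Γ(S, ⊤)).hom = 𝟙 _ := by
      rw [← Scheme.toSpecΓ_appTop S, show S.toSpecΓ = S.isoSpec.hom from rfl,
        ← Scheme.Hom.comp_appTop, Iso.hom_inv_id]
      rfl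
    exact ((Iso.comp_hom_eq_id _).mp h1)
  have hbC : (a ≫ (Scheme.ΓSpecIso A₀).inv) ≫ ι.appTop =
      ((S.fromSpecResidueField s).appTop ≫ (Scheme.ΓSpecIso _).hom) ≫
        (Scheme.ΓSpecIso (S.residueField s)).inv ≫ (g₀.fiberToSpecResidueField s).appTop := by
    rw [← hg₀, ← Scheme.Hom.comp_appTop, Category.assoc, Iso.hom_inv_id_assoc,
      ← Scheme.Hom.comp_appTop]
    exact congrArg Scheme.Hom.appTop (g₀.fiber_fac s)
  have hb : b = b'.comp (MvPolynomial.map ε) := by
    refine MvPolynomial.ringHom_ext (fun r => ?_) fun j => by simp [b']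
    show _ = b' (MvPolynomial.map ε (MvPolynomial.C r))
    rw [MvPolynomial.map_C, show b' (MvPolynomial.C (ε r)) = c (ε r) from
      MvPolynomial.eval₂Hom_C _ _ _]
    exact congrArg (fun k => k.hom r) hbC
  have hker : I ≤ RingHom.ker b := by
    rw [hb, ← RingHom.comap_ker, ← Ideal.map_le_iff_le_comap, hmap, Ideal.map_le_iff_le_comap,
      RingHom.comap_ker, ← hb]
    intro p hp
    show ((Scheme.ΓSpecIso A₀).inv ≫ ι.appTop).hom (Ideal.Quotient.mk I₀ p) = 0
    rw [Ideal.Quotient.eq_zero_iff_mem.mpr hp, map_zero]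
  let d : Γ(Y, ⊤) ⟶ Γ(g₀.fiber s, ⊤) :=
    CommRingCat.ofHom (RingHom.liftOfSurjective φ.toRingHom hφ ⟨b, hker⟩)
  have hd : π ≫ d = (Scheme.ΓSpecIso A₀).inv ≫ ι.appTop := by
    refine CommRingCat.hom_ext (Ideal.Quotient.ringHom_ext (RingHom.ext fun p => ?_))
    exact RingHom.liftOfSurjective_comp_apply φ.toRingHom hφ ⟨b, hker⟩ p
  let l : g₀.fiber s ⟶ Y := (g₀.fiber s).toSpecΓ ≫ Spec.map d ≫ Y.isoSpec.inv
  have hl : l ≫ i = ι := by
    simp only [l, i, Category.assoc, Iso.inv_hom_id_assoc, ← Spec.map_comp, hd]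
    rw [Spec.map_comp, ← Scheme.toSpecΓ_naturality_assoc]
    simp
  let σ : g₀.fiber s ⟶ pullback i ι := pullback.lift l (𝟙 _) (by rw [hl, Category.id_comp])
  haveI : IsSplitEpi (pullback.snd i ι) := IsSplitEpi.mk' ⟨σ, pullback.lift_snd _ _ _⟩
  exact isIso_of_mono_of_isSplitEpi _

end Groth.Agent.H7Flat
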