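import Groth.Agent.H7Flat.WeakAssTensor
import Groth.Agent.H06EGA11.Model

/-!
Representations of torsion tensors by families independent on a fibre.
-/

set_option autoImplicit false
universe u

namespace Groth.Agent.H7Flat.FibreRepr

open TensorProduct FlatMor ImpurityDescend UnivInjCover WeakAssTensor
open Groth.Agent.H02CA.FibreAss (fiber_smul toFiberMod_eq_zero_iff)

attribute [local instance] Algebra.TensorProduct.rightAlgebra

set_option backward.isDefEq.respectTransparency false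
set_option maxHeartbeats 1000000
set_option synthInstance.maxHeartbeats 400000

/-- The torsion of `M` along finitely many scalars coming from a stage. -/
noncomputable def tor {R₁ R : Type u} [CommRing R₁] [CommRing R] [Algebra R₁ R] {m : ℕ}
    (g : Fin m → R₁) (M : Type u) [AddCommGroup M] [Module R M] : Submodule R M :=
  LinearMap.ker (LinearMap.pi fun i => LinearMap.lsmul R M (algebraMap R₁ R (g i)))

/-- A module presented by a matrix with coefficients in a stage is a base change from it. -/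
theorem exists_stage_baseChange {A R₁ P₁ P N : Type u} [CommRing A] [CommRing R₁] [CommRing P₁]
    [CommRing P] [Algebra R₁ A] [Algebra R₁ P₁] [Algebra A P] [Algebra P₁ P] [Algebra R₁ P]
    [IsScalarTower R₁ A P] [IsScalarTower R₁ P₁ P] [Algebra.IsPushout R₁ P₁ A P]
    {k m : ℕ} [AddCommGroup N] [Module P N] [Module A N] [IsScalarTower A P N] [Module R₁ N]
    [IsScalarTower R₁ A N] (c : Fin m → Fin k → P₁) (c₁ : P₁)
    (f : (Fin k → P) →ₗ[P] N) (hf : Function.Surjective f) (g : (Fin m → P) →ₗ[P] (Fin k → P))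
    (hfg : Function.Exact g f) (hG : ∀ i j, g (Pi.single i 1) j = algebraMap P₁ P (c i j)) :
    ∃ (N₁ : Type u) (_ : AddCommGroup N₁) (_ : Module R₁ N₁) (γ : N₁ →ₗ[R₁] N)
      (φ : N₁ →ₗ[R₁] N₁), IsBaseChange A γ ∧ ∀ x, γ (φ x) = algebraMap P₁ P c₁ • γ x := by
  classical
  let v : Fin k → N := fun j => f (Pi.single j 1)
  have hfv : ∀ x : Fin k → P, f x = ∑ j, x j • v j := fun x => by
    conv_lhs => rw [pi_eq_sum_univ' x, map_sum]
    simp only [map_smul, v]
  obtain ⟨e⟩ := Groth.Agent.H06EGA11.exists_linearEquiv_baseChange (P₀ := P₁) (S := P) v c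
    (top_unique fun x _ => by
      obtain ⟨a, rfl⟩ := hf x
      rw [hfv]
      exact Submodule.sum_mem _ fun j _ => Submodule.smul_mem _ _ (Submodule.subset_span ⟨j, rfl⟩))
    (fun i => by
      simp only [← hG]
      rw [← hfv]
      exact (hfg _).2 ⟨_, rfl⟩)
    (fun a ha => by
      rw [← hfv] at ha
      obtain ⟨b, hb⟩ := (hfg _).1 ha
      refine (Submodule.mem_span_range_iff_exists_fun _).2 ⟨b, funext fun j => ?_⟩
      have hbj : g b j = ∑ i, b i * g (Pi.single i 1) j := by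
        conv_lhs => rw [pi_eq_sum_univ' b, map_sum]
        simp only [Finset.sum_apply, map_smul, Pi.smul_apply, smul_eq_mul]
      rw [← congrFun hb j, hbj, Finset.sum_apply]
      refine Finset.sum_congr rfl fun i _ => ?_
      rw [Pi.smul_apply, smul_eq_mul, hG])
  let N₁ := (Fin k → P₁) ⧸ Submodule.span P₁ (Set.range c)
  let : Module P₁ N := Module.compHom N (algebraMap P₁ P)
  have : IsScalarTower P₁ P N := IsScalarTower.of_algebraMap_smul fun _ _ => rfl
  have : IsScalarTower R₁ P₁ N := IsScalarTower.of_algebraMap_smul fun r x => by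
    change algebraMap P₁ P (algebraMap R₁ P₁ r) • x = r • x
    rw [← IsScalarTower.algebraMap_apply, IsScalarTower.algebraMap_apply R₁ A P, algebraMap_smul,
      algebraMap_smul]
  let γ₀ : N₁ →ₗ[P₁] N :=
    (e.toLinearMap.restrictScalars P₁).comp (TensorProduct.mk P₁ P N₁ 1)
  have hγ₀ : IsBaseChange P γ₀ := IsBaseChange.of_equiv e fun _ => rfl
  refine ⟨N₁, inferInstance, inferInstance, γ₀.restrictScalars R₁,
    (LinearMap.lsmul P₁ N₁ c₁).restrictScalars R₁,
    Groth.Agent.H8Props.FlatAtBC.isBaseChange_restrictScalars (R := R₁) (R' := A) γ₀ hγ₀,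
    fun x => ?_⟩
  change γ₀ (c₁ • x) = algebraMap P₁ P c₁ • γ₀ x
  rw [map_smul]
  rfl

/-- A module over a polynomial ring presented by polynomials with coefficients in a stage is a
base change from it. -/
theorem exists_poly_baseChange {A R₁ N : Type u} [CommRing A] [CommRing R₁] [Algebra R₁ A]
    {n k m : ℕ} [AddCommGroup N] [Module (MvPolynomial (Fin n) A) N] [Module A N]
    [IsScalarTower A (MvPolynomial (Fin n) A) N] [Module R₁ N] [IsScalarTower R₁ A N]
    (c : Fin m → Fin k → MvPolynomial (Fin n) R₁) (c₁ : MvPolynomial (Fin n) R₁)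
    (f : (Fin k → MvPolynomial (Fin n) A) →ₗ[MvPolynomial (Fin n) A] N) (hf : Function.Surjective f)
    (g : (Fin m → MvPolynomial (Fin n) A) →ₗ[MvPolynomial (Fin n) A]
      (Fin k → MvPolynomial (Fin n) A))
    (hfg : Function.Exact g f)
    (hG : ∀ i j, g (Pi.single i 1) j = MvPolynomial.map (algebraMap R₁ A) (c i j)) :
    ∃ (N₁ : Type u) (_ : AddCommGroup N₁) (_ : Module R₁ N₁) (γ : N₁ →ₗ[R₁] N)
      (φ : N₁ →ₗ[R₁] N₁),
      IsBaseChange A γ ∧ ∀ x, γ (φ x) = MvPolynomial.map (algebraMap R₁ A) c₁ • γ x := by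
  let : Algebra (MvPolynomial (Fin n) R₁) (MvPolynomial (Fin n) A) :=
    MvPolynomial.algebraMvPolynomial
  exact exists_stage_baseChange (A := A) (R₁ := R₁) (P₁ := MvPolynomial (Fin n) R₁) c c₁ f hf g hfg
    hG

/-- A finitely presented module over a polynomial ring descends to a Noetherian subring, with a
given polynomial acting. -/
theorem exists_poly_stage {A : Type u} [CommRing A] {n : ℕ} (N : Type u) [AddCommGroup N]
    [Module (MvPolynomial (Fin n) A) N] [Module A N] [IsScalarTower A (MvPolynomial (Fin n) A) N]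
    [Module.FinitePresentation (MvPolynomial (Fin n) A) N] (c₀ : MvPolynomial (Fin n) A) :
    ∃ (R₁ : Subalgebra ℤ A) (_ : IsNoetherianRing R₁) (N₁ : Type u) (_ : AddCommGroup N₁)
      (_ : Module R₁ N₁) (γ : N₁ →ₗ[R₁] N) (φ : N₁ →ₗ[R₁] N₁),
      IsBaseChange A γ ∧ ∀ x, γ (φ x) = c₀ • γ x := by
  classical
  obtain ⟨k, m, f, g, hf, hfg⟩ :=
    Module.FinitePresentation.exists_fin' (MvPolynomial (Fin n) A) N
  let G : Fin m → Fin k → MvPolynomial (Fin n) A := fun i => g (Pi.single i 1)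
  let T : Finset A := c₀.coeffs ∪
    Finset.univ.biUnion fun i => Finset.univ.biUnion fun j => (G i j).coeffs
  let R₁ := Algebra.adjoin ℤ (T : Set A)
  have hG : ∀ i j, ∃ c : MvPolynomial (Fin n) R₁, MvPolynomial.map (algebraMap R₁ A) c = G i j := by
    intro i j
    refine MvPolynomial.mem_range_map_iff_coeffs_subset.2 fun a ha => ?_
    exact ⟨⟨a, Algebra.subset_adjoin (Finset.mem_coe.2 (Finset.mem_union_right _ (Finset.mem_biUnion.2
      ⟨i, Finset.mem_univ i, Finset.mem_biUnion.2 ⟨j, Finset.mem_univ j, ha⟩⟩)))⟩, rfl⟩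
  obtain ⟨c₁, hc₁⟩ : ∃ c : MvPolynomial (Fin n) R₁, MvPolynomial.map (algebraMap R₁ A) c = c₀ := by
    refine MvPolynomial.mem_range_map_iff_coeffs_subset.2 fun a ha => ?_
    exact ⟨⟨a, Algebra.subset_adjoin (Finset.mem_coe.2 (Finset.mem_union_left _ ha))⟩, rfl⟩
  choose c hc using hG
  have : IsNoetherianRing R₁ :=
    have : Algebra.FiniteType ℤ R₁ :=
      (Subalgebra.fg_iff_finiteType R₁).1 (Subalgebra.fg_adjoin_finset T)
    Algebra.FiniteType.isNoetherianRing ℤ R₁
  obtain ⟨N₁, i₁, i₂, γ, φ, h⟩ :=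
    exists_poly_baseChange (R₁ := R₁) c c₁ f hf g hfg fun i j => (hc i j).symm
  exact ⟨R₁, ‹_›, N₁, i₁, i₂, γ, φ, h.1, fun x => (h.2 x).trans (congrArg (· • γ x) hc₁)⟩

/-- Over a prime, a torsion tensor is represented by a family independent on the fibre. -/
theorem exists_indep_repr {R S R₁ : Type u} [CommRing R] [CommRing S] [Algebra R S]
    [CommRing R₁] [Algebra R₁ R] {N N₁ : Type u} [AddCommGroup N]
    [Module S N] [Module R N] [IsScalarTower R S N] [AddCommGroup N₁]
    [Module R₁ N₁] [Module R₁ N] [IsScalarTower R₁ R N] {γ : N₁ →ₗ[R₁] N} (hγ : IsBaseChange R γ)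
    (M : Type u) [AddCommGroup M] [Module R M] (p : Ideal R) [p.IsPrime] (c₀ : S)
    (φ : N₁ →ₗ[R₁] N₁) (hφ : ∀ x, γ (φ x) = c₀ • γ x)
    {m : ℕ} (g : Fin m → R₁) (hg : Ideal.span (Set.range g) = p.comap (algebraMap R₁ R))
    (w : N ⊗[R] tor g M) :
    ∃ r ∉ p, ∃ (k : ℕ) (x : Fin k → N) (e : Fin k → M),
      (∀ l : Fin k → R, (1 : p.ResidueField) ⊗ₜ[R] (c₀ • ∑ i, l i • x i) = 0 → ∀ i, l i ∈ p) ∧
        r • c₀ • (tor g M).subtype.lTensor N w = ∑ i, (c₀ • x i) ⊗ₜ[R] e i := by
  classical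
  let p₁ := p.comap (algebraMap R₁ R)
  have : p₁.IsPrime := Ideal.comap_isPrime _ _
  have : p.LiesOver p₁ := ⟨rfl⟩
  let E := tor (R := R) g M
  obtain ⟨k, n', e, hrep⟩ : ∃ (k : ℕ) (n' : Fin k → N₁) (e : Fin k → E),
      w = ∑ i, γ (n' i) ⊗ₜ[R] e i := by
    induction w using TensorProduct.induction_on with
    | zero => exact ⟨0, Fin.elim0, Fin.elim0, by simp⟩
    | tmul n x =>
      induction n using hγ.inductionOn generalizing x with
      | zero => exact ⟨0, Fin.elim0, Fin.elim0, by simp⟩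
      | tmul n => exact ⟨1, fun _ => n, fun _ => x, by simp⟩
      | smul r n ih => rw [TensorProduct.smul_tmul]; exact ih _
      | add n n'' ih ih' =>
        obtain ⟨k, a, b, h⟩ := ih x
        obtain ⟨k', a', b', h'⟩ := ih' x
        exact ⟨k + k', Fin.append a a', Fin.append b b', by simp [add_tmul, h, h', Fin.sum_univ_add]⟩
    | add w w' ih ih' =>
      obtain ⟨k, a, b, rfl⟩ := ih
      obtain ⟨k', a', b', rfl⟩ := ih'
      exact ⟨k + k', Fin.append a a', Fin.append b b', by simp [Fin.sum_univ_add]⟩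
  have hz₁ : c₀ • E.subtype.lTensor N w = ∑ i, γ (φ (n' i)) ⊗ₜ[R] (e i : M) := by
    rw [hrep, map_sum, Finset.smul_sum]
    refine Finset.sum_congr rfl fun i _ => ?_
    rw [LinearMap.lTensor_tmul, smul_tmul', hφ]
    rfl
  obtain ⟨κ, b, hbinj, hspan, hind⟩ := exists_linearIndependent' p₁.ResidueField
    fun i : Fin k => (1 : p₁.ResidueField) ⊗ₜ[R₁] φ (n' i)
  have : Finite κ := Finite.of_injective b hbinj
  have : Fintype κ := Fintype.ofFinite κ
  have hgen : ∀ i, ∃ r ∉ p₁, ∃ l : κ → R₁,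
      r • φ (n' i) - ∑ j, l j • φ (n' (b j)) ∈ p₁ • (⊤ : Submodule R₁ N₁) := by
    intro i
    have hmem : (1 : p₁.ResidueField) ⊗ₜ[R₁] φ (n' i) ∈ Submodule.span p₁.ResidueField
        (Set.range fun j => (1 : p₁.ResidueField) ⊗ₜ[R₁] φ (n' (b j))) := by
      have h1 := hspan.ge (Submodule.subset_span (Set.mem_range_self i))
      exact h1
    obtain ⟨c, hc⟩ := (Submodule.mem_span_range_iff_exists_fun _).mp hmem
    obtain ⟨r, hr, l, hl⟩ := exists_scale p₁ c
    have h0 : (1 : p₁.ResidueField) ⊗ₜ[R₁] (r • φ (n' i) - ∑ j, l j • φ (n' (b j))) = 0 := by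
      rw [tmul_sub, tmul_smul, tmul_sum, ← hc, Finset.smul_sum, sub_eq_zero]
      refine Finset.sum_congr rfl fun j _ => ?_
      rw [tmul_smul, ← algebraMap_smul p₁.ResidueField r, smul_smul, hl, algebraMap_smul]
    obtain ⟨r', hr', h'⟩ := (toFiberMod_eq_zero_iff (S := R₁) p₁ _).mp
      (fiber_eq_zero_of_one_tmul (S := R₁) p₁ _ h0)
    rw [Algebra.algebraMap_self, Ideal.map_id, RingHom.id_apply, smul_sub, smul_smul,
      Finset.smul_sum] at h'
    simp only [smul_smul] at h'
    exact ⟨r' * r, p₁.primeCompl.mul_mem hr' hr, fun j => r' * l j, h'⟩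
  choose r hr l hl using hgen
  have hpE : ∀ v ∈ p₁ • (⊤ : Submodule R₁ N₁), ∀ x : E, γ v ⊗ₜ[R] (x : M) = 0 := by
    intro v hv x
    refine Submodule.smul_induction_on hv (fun j hj n _ => ?_)
      (fun a b ha hb => by rw [map_add, add_tmul, ha, hb, add_zero])
    have hj' : j ∈ Ideal.span (Set.range g) := hg.ge hj
    obtain ⟨c, rfl⟩ := (Submodule.mem_span_range_iff_exists_fun R₁).mp hj'
    rw [map_smul, ← algebraMap_smul R (∑ i, c i • g i) (γ n), map_sum, smul_tmul]
    simp only [smul_eq_mul, map_mul, Finset.sum_smul, mul_smul]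
    rw [Finset.sum_eq_zero fun i _ => ?_, tmul_zero]
    have hx : algebraMap R₁ R (g i) • (x : M) = 0 := congrFun (LinearMap.mem_ker.mp x.2) i
    rw [hx, smul_zero]
  let rr : R₁ := ∏ i, r i
  have hrr : algebraMap R₁ R rr ∉ p := fun h =>
    (prod_mem (S := p₁.primeCompl) fun i _ => hr i : rr ∈ p₁.primeCompl) h
  let e' : κ → M := fun j => ∑ i, algebraMap R₁ R ((∏ t ∈ Finset.univ.erase i, r t) * l i j) • (e i : M)
  have hz₂ : algebraMap R₁ R rr • c₀ • E.subtype.lTensor N w =
      ∑ j, γ (φ (n' (b j))) ⊗ₜ[R] e' j := by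
    rw [hz₁, Finset.smul_sum]
    simp only [e', tmul_sum]
    rw [Finset.sum_comm]
    refine Finset.sum_congr rfl fun i _ => ?_
    have hconv : ∀ (t : R₁) (v : N₁) (x : M),
        γ (t • v) ⊗ₜ[R] x = γ v ⊗ₜ[R] (algebraMap R₁ R t • x) := fun t v x => by
      rw [map_smul, ← algebraMap_smul R t (γ v), smul_tmul]
    have h1 := hpE _ (hl i) (e i)
    rw [map_sub, sub_tmul, sub_eq_zero, map_sum, sum_tmul] at h1
    simp only [hconv] at h1
    rw [show rr = (∏ t ∈ Finset.univ.erase i, r t) * r i from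
      (Finset.prod_erase_mul _ _ (Finset.mem_univ i)).symm, map_mul, mul_smul, ← tmul_smul, h1,
      Finset.smul_sum]
    refine Finset.sum_congr rfl fun j _ => ?_
    rw [← tmul_smul, smul_smul, ← map_mul]
  let σ := (Fintype.equivFin κ).symm
  refine ⟨algebraMap R₁ R rr, hrr, Fintype.card κ, fun i => γ (n' (b (σ i))), fun i => e' (σ i),
    fun μ hμ i => ?_, ?_⟩
  · have h := one_tmul_baseChange hγ p₁ p (fun j => φ (n' (b j))) hind (fun j => μ (σ.symm j)) (by
      rw [← hμ, Finset.smul_sum, ← σ.sum_comp]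
      congr 1
      refine Finset.sum_congr rfl fun i _ => ?_
      rw [σ.symm_apply_apply, hφ, smul_comm]) (σ i)
    simpa using h
  · rw [hz₂, ← σ.sum_comp]
    exact Finset.sum_congr rfl fun i _ => by rw [← hφ]

end Groth.Agent.H7Flat.FibreRepr
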