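import Groth.Agent.H7Flat.ImpurityBaseChange
import Groth.Agent.H06Red.Fields
import Mathlib

/-!
Generic points of extensions of primes along field extensions, and their specialisations.
-/

set_option autoImplicit false
universe u

namespace Groth.Agent.H7Flat.FieldExtGeneric

open TensorProduct

attribute [local instance] Algebra.TensorProduct.rightAlgebra

set_option backward.isDefEq.respectTransparency false
set_option maxHeartbeats 1000000
set_option synthInstance.maxHeartbeats 400000

/-- A base change to a purely transcendental extension keeps primes prime. -/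
theorem isPrime_map_includeRight (k L F : Type u) [Field k] [Field L] [Algebra k L] [CommRing F]
    [Algebra k F] {ι : Type u} (x : ι → L) (hx : AlgebraicIndependent k x)
    (htop : IntermediateField.adjoin k (Set.range x) = ⊤) (q : Ideal F) [q.IsPrime] :
    (q.map (algebraMap F (L ⊗[k] F))).IsPrime := by
  let D := F ⧸ q
  have hdom : IsDomain (L ⊗[k] D) := by
    have : IsDomain (L ⊗[k] FractionRing D) :=
      Groth.Agent.H06Red.isDomain_tensor_purelyTranscendental (FractionRing D) L x hx htop
    have hinj : Function.Injective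
        (Algebra.TensorProduct.map (AlgHom.id k L) (IsScalarTower.toAlgHom k D (FractionRing D))) :=
      Module.Flat.lTensor_preserves_injective_linearMap (M := L)
        (IsScalarTower.toAlgHom k D (FractionRing D)).toLinearMap (IsFractionRing.injective D _)
    exact hinj.isDomain (Algebra.TensorProduct.map (AlgHom.id k L) (IsScalarTower.toAlgHom k D (FractionRing D))).toRingHom
  let π : L ⊗[k] F →ₐ[k] L ⊗[k] D :=
    Algebra.TensorProduct.map (AlgHom.id k L) (Ideal.Quotient.mkₐ k q)
  have hker : RingHom.ker π = q.map (algebraMap F (L ⊗[k] F)) := by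
    have h := Algebra.TensorProduct.lTensor_ker (A := L) (Ideal.Quotient.mkₐ k q)
      (Ideal.Quotient.mkₐ_surjective k q)
    rw [show RingHom.ker (Ideal.Quotient.mkₐ k q) = q from Ideal.mk_ker] at h
    exact h
  rw [← hker]
  exact RingHom.ker_isPrime _

/-- The only associated prime of the quotient by a prime. -/
theorem eq_of_mem_associatedPrimes_quotient {R : Type u} [CommRing R] (y : Ideal R) [hy : y.IsPrime]
    {X : Ideal R} (hX : X ∈ associatedPrimes R (R ⧸ y)) : X = y := by
  obtain ⟨hXp, z, hz⟩ := hX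
  obtain ⟨z, rfl⟩ := Ideal.Quotient.mk_surjective z
  have hmem : ∀ a, a ∈ (⊥ : Submodule R (R ⧸ y)).colon {Ideal.Quotient.mk y z} ↔ a * z ∈ y := by
    intro a
    rw [Submodule.mem_colon_singleton, Submodule.mem_bot, Algebra.smul_def,
      Ideal.Quotient.algebraMap_eq, ← map_mul, Ideal.Quotient.eq_zero_iff_mem]
  have hzy : z ∉ y := fun h => hXp.ne_top (by
    rw [hz, Ideal.eq_top_iff_one]
    exact Ideal.le_radical ((hmem 1).mpr (by rwa [one_mul])))
  have : (⊥ : Submodule R (R ⧸ y)).colon {Ideal.Quotient.mk y z} = y := by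
    ext a
    rw [hmem]
    exact ⟨fun h => (hy.mem_or_mem h).resolve_right hzy, fun h => y.mul_mem_right _ h⟩
  rw [hz, this, hy.radical]

/-- The intermediate ring of a purely transcendental subextension with algebraic remainder. -/
theorem exists_intermediate (k K F F' : Type u) [Field k] [Field K] [Algebra k K] [CommRing F]
    [Algebra k F] [CommRing F'] [Algebra F F'] [Algebra K F'] [Algebra k F']
    [IsScalarTower k F F'] [IsScalarTower k K F'] [hpush : Algebra.IsPushout k F K F'] :
    ∃ (F₀ : Type u) (_ : CommRing F₀) (_ : Algebra F F₀) (_ : Algebra F₀ F'),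
      IsScalarTower F F₀ F' ∧ Algebra.IsIntegral F₀ F' ∧ Module.Free F₀ F' ∧
        Module.FaithfullyFlat F F₀ ∧
          ∀ (q : Ideal F) [q.IsPrime], (q.map (algebraMap F F₀)).IsPrime := by
  obtain ⟨ι, x, hx⟩ := exists_isTranscendenceBasis' k K
  let L := IntermediateField.adjoin k (Set.range x)
  let x' : ι → L := fun i => ⟨x i, IntermediateField.subset_adjoin k _ ⟨i, rfl⟩⟩
  have hx' : AlgebraicIndependent k x' := hx.1.of_comp (f := L.val)
  have htop : IntermediateField.adjoin k (Set.range x') = ⊤ := by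
    apply IntermediateField.map_injective L.val
    rw [IntermediateField.adjoin_map, ← Set.range_comp]
    exact (IntermediateField.fieldRange_val L).symm.trans
      (AlgHom.fieldRange_eq_map L.val) |> fun h => h
  have : Algebra.IsAlgebraic L K := hx.isAlgebraic_field
  let F₀ := L ⊗[k] F
  let φ : F₀ →ₐ[k] F' := Algebra.TensorProduct.lift
    ((IsScalarTower.toAlgHom k K F').comp L.val) (IsScalarTower.toAlgHom k F F')
    fun _ _ => .all _ _
  have hφ : ∀ a b, φ (a ⊗ₜ[k] b) = algebraMap K F' (a : K) * algebraMap F F' b :=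
    fun a b => Algebra.TensorProduct.lift_tmul _ _ _ _ _
  let : Algebra F₀ F' := φ.toRingHom.toAlgebra
  have : IsScalarTower L K F' := inferInstance
  have : IsScalarTower L F₀ F' := ⟨fun (a : L) (x : F₀) (y : F') => by
    change φ (a • x) * y = (a : K) • (φ x * y)
    rw [show a • x = (a ⊗ₜ[k] (1 : F)) * x from Algebra.smul_def a x, map_mul, hφ, map_one, mul_one,
      Algebra.smul_def, mul_assoc]⟩
  have hFF₀ : IsScalarTower F F₀ F' := ⟨fun (b : F) (x : F₀) (y : F') => by
    change φ (b • x) * y = b • (φ x * y)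
    rw [show b • x = ((1 : L) ⊗ₜ[k] b) * x from Algebra.smul_def b x, map_mul, hφ,
      OneMemClass.coe_one, map_one, one_mul, Algebra.smul_def, mul_assoc]⟩
  have : IsScalarTower k L F' := IsScalarTower.of_algebraMap_eq fun (a : k) => by
    change _ = algebraMap K F' (algebraMap k L a : K)
    rw [IsScalarTower.algebraMap_apply k K F']
    rfl
  have : IsScalarTower k F₀ F' := ⟨fun (a : k) (x : F₀) (y : F') => by
    change φ (a • x) * y = a • (φ x * y)
    rw [map_smul, smul_mul_assoc]⟩
  have h0 : Algebra.IsPushout k L F F₀ := inferInstance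
  have h1 : Algebra.IsPushout k K F F' := hpush.symm
  have h2 : Algebra.IsPushout L K F₀ F' :=
    (Algebra.IsPushout.comp_iff k L F F₀ (T := K) (T' := F')).mp h1
  have h3 := h2.symm
  refine ⟨F₀, inferInstance, inferInstance, inferInstance, hFF₀, ⟨fun y => ?_⟩,
    ImpurityDescend.free_of_isPushout L F₀ K F',
    (haveI : Algebra.IsPushout k F L F₀ := h0.symm
     ImpurityBaseChange.faithfullyFlat_of_isPushout k F L F₀), fun q _ =>
      isPrime_map_includeRight k L F x' hx' htop q⟩
  refine hpush.out.inductionOn y (fun y => IsIntegral F₀ y) isIntegral_zero (fun a => ?_)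
    (fun b y hy => ?_) (fun a b ha hb => ha.add hb)
  · have ha : IsIntegral L a := (Algebra.IsAlgebraic.isAlgebraic a).isIntegral
    exact (ha.map (IsScalarTower.toAlgHom L K F')).tower_top
  · rw [Algebra.smul_def]
    refine IsIntegral.mul ?_ hy
    rw [IsScalarTower.algebraMap_apply F F₀ F' b]
    exact isIntegral_algebraMap

variable {k K F F' : Type u} [Field k] [Field K] [Algebra k K] [CommRing F]
    [Algebra k F] [CommRing F'] [Algebra F F'] [Algebra K F'] [Algebra k F']
    [IsScalarTower k F F'] [IsScalarTower k K F'] [Algebra.IsPushout k F K F']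

variable (k K) in
include k K in
/-- Generic points over a prime have generic specialisations over its specialisations. -/
theorem exists_minimalPrimes_ge (q x : Ideal F) [q.IsPrime] [x.IsPrime] (hqx : q ≤ x) (P : Ideal F')
    (hP : P ∈ (q.map (algebraMap F F')).minimalPrimes) :
    ∃ P₂ : Ideal F', P ≤ P₂ ∧ P₂ ∈ (x.map (algebraMap F F')).minimalPrimes ∧
      P₂.comap (algebraMap F F') = x := by
  obtain ⟨F₀, _, _, _, htow, hint, hfree, hff, hprime⟩ := exists_intermediate k K F F'
  have hq₀ := hprime q
  have hx₀ := hprime x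
  have hmap : ∀ y : Ideal F, y.map (algebraMap F F') =
      (y.map (algebraMap F F₀)).map (algebraMap F₀ F') := fun y => by
    rw [Ideal.map_map, ← IsScalarTower.algebraMap_eq]
  have hPp : P.IsPrime := hP.1.1
  let P₀ := P.comap (algebraMap F₀ F')
  have hle₀ : q.map (algebraMap F F₀) ≤ P₀ :=
    Ideal.map_le_iff_le_comap.mp ((hmap q).ge.trans hP.1.2)
  have hP₀ : P₀ = q.map (algebraMap F F₀) := by
    have : P.LiesOver P₀ := ⟨rfl⟩
    obtain ⟨P', hP'le, hP'p, hP'over⟩ :=
      Ideal.exists_ideal_le_liesOver_of_le (p := q.map (algebraMap F F₀)) (q := P₀) P hle₀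
    have hqP' : q.map (algebraMap F F') ≤ P' := by
      rw [hmap]; exact Ideal.map_le_iff_le_comap.mpr hP'over.over.le
    exact le_antisymm ((Ideal.comap_mono (hP.2 ⟨hP'p, hqP'⟩ hP'le)).trans hP'over.over.ge) hle₀
  obtain ⟨P₂, hPP₂, hP₂p, hP₂⟩ :=
    Ideal.exists_ideal_over_prime_of_isIntegral (x.map (algebraMap F F₀)) P
      (hP₀.le.trans (Ideal.map_mono hqx))
  have hP₂F : P₂.comap (algebraMap F F') = x := by
    rw [IsScalarTower.algebraMap_eq F F₀ F', ← Ideal.comap_comap, hP₂,
      Ideal.comap_map_eq_self_of_faithfullyFlat]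
  have hxle : x.map (algebraMap F F') ≤ P₂ :=
    Ideal.map_le_iff_le_comap.mpr hP₂F.ge
  refine ⟨P₂, hPP₂, ⟨⟨hP₂p, hxle⟩, fun R hR hle => ?_⟩, hP₂F⟩
  by_contra hne
  have := hR.1
  have hlt := Ideal.IsIntegral.comap_lt_comap (R := F₀) (lt_of_le_not_ge hle hne)
  rw [hP₂] at hlt
  exact not_le_of_gt hlt (Ideal.map_le_iff_le_comap.mp ((hmap x).ge.trans hR.2))

variable (k K) in
include k K in
/-- Associated primes of a base change are generic over their contractions. -/
theorem mem_minimalPrimes_of_mem_associatedPrimes [IsNoetherianRing F] {M M' : Type u}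
    [AddCommGroup M] [Module F M] [Module.Finite F M] [AddCommGroup M'] [Module F' M'] [Module F M']
    [IsScalarTower F F' M'] {g : M →ₗ[F] M'} (hg : IsBaseChange F' g) (P : Ideal F')
    (hP : P ∈ associatedPrimes F' M') :
    P ∈ ((P.comap (algebraMap F F')).map (algebraMap F F')).minimalPrimes := by
  obtain ⟨F₀, _, _, _, htow, hint, hfree, hff, hprime⟩ := exists_intermediate k K F F'
  let M₀ := F₀ ⊗[F] M
  let : Module F₀ M' := Module.compHom M' (algebraMap F₀ F')
  have : IsScalarTower F₀ F' M' := IsScalarTower.of_algebraMap_smul fun _ _ => rfl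
  have : IsScalarTower F F₀ M' := IsScalarTower.of_algebraMap_smul fun r x => by
    change algebraMap F₀ F' (algebraMap F F₀ r) • x = r • x
    rw [← IsScalarTower.algebraMap_apply, algebraMap_smul]
  let g₀ : M₀ →ₗ[F₀] M' := g.liftBaseChange F₀
  have hg₀ : IsBaseChange F' g₀ := by
    refine IsBaseChange.of_comp (TensorProduct.isBaseChange F M F₀) ?_
    convert hg using 1
    ext m
    simp [g₀]
  have hPp : P.IsPrime := hP.isPrime
  have h₀ := ImpurityDescend.comap_mem_associatedPrimes_of_free hg₀ hP
  let P₀ := P.comap (algebraMap F₀ F')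
  have key : ∀ X ∈ associatedPrimes F₀ (F₀ ⊗[F] M),
      ∃ q : Ideal F, q.IsPrime ∧ X = q.map (algebraMap F F₀) := by
    refine IsNoetherianRing.induction_on_isQuotientEquivQuotientPrime F ‹Module.Finite F M›
      (motive := fun M _ _ _ => ∀ X ∈ associatedPrimes F₀ (F₀ ⊗[F] M),
        ∃ q : Ideal F, q.IsPrime ∧ X = q.map (algebraMap F F₀)) ?_ ?_ ?_
    · intro N _ _ _ _ X hX
      rw [associatedPrimes.eq_empty_of_subsingleton] at hX
      exact hX.elim
    · intro N _ _ _ q e X hX
      have := hprime q.asIdeal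
      let e' : F₀ ⊗[F] N ≃ₗ[F₀] F₀ ⧸ q.asIdeal.map (algebraMap F F₀) :=
        (LinearEquiv.baseChange F F₀ _ _ e) ≪≫ₗ
          (Algebra.TensorProduct.quotIdealMapEquivTensorQuot F₀ q.asIdeal).symm.toLinearEquiv
      rw [LinearEquiv.AssociatedPrimes.eq e'] at hX
      exact ⟨q.asIdeal, q.2, eq_of_mem_associatedPrimes_quotient _ hX⟩
    · intro N₁ _ _ _ N₂ _ _ _ N₃ _ _ _ a b ha hb hab h₁ h₃ X hX
      rcases associatedPrimes.subset_union_of_exact (f := a.baseChange F₀) (g := b.baseChange F₀)
        (Module.Flat.lTensor_preserves_injective_linearMap a ha)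
        (Module.Flat.lTensor_exact (M := F₀) hab) hX with h | h
      · exact h₁ X h
      · exact h₃ X h
  obtain ⟨q, hq, hPq⟩ := key P₀ h₀
  have hcomap : P.comap (algebraMap F F') = q := by
    rw [IsScalarTower.algebraMap_eq F F₀ F', ← Ideal.comap_comap]
    exact (congrArg _ hPq).trans (Ideal.comap_map_eq_self_of_faithfullyFlat _)
  rw [hcomap]
  refine ⟨⟨hPp, Ideal.map_le_iff_le_comap.mpr hcomap.ge⟩, fun R hR hle => ?_⟩
  by_contra hne
  have := hR.1
  have hlt : R.comap (algebraMap F₀ F') < P₀ :=
    Ideal.IsIntegral.comap_lt_comap (R := F₀) (lt_of_le_not_ge hle hne)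
  rw [hPq] at hlt
  refine not_le_of_gt hlt (Ideal.map_le_iff_le_comap.mpr ?_)
  rw [Ideal.comap_comap, ← IsScalarTower.algebraMap_eq]
  exact Ideal.map_le_iff_le_comap.mp hR.2

end Groth.Agent.H7Flat.FieldExtGeneric
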