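import Groth.Agent.H7Flat.FlatUnivInjHens
import Groth.Agent.H3CAlg.NoetherNorm
import Mathlib.RingTheory.ZariskisMainTheorem
import Mathlib.RingTheory.Unramified.LocalStructure

/-!
Quotients of henselizations of polynomial rings by an element outside the generic point of the closed
fibre are finite over henselizations of polynomial rings in one variable less.
-/

set_option autoImplicit false
universe u

namespace Groth.Agent.H7Flat.FiniteFlatStage

open TensorProduct IsLocalRing

attribute [local instance] Algebra.TensorProduct.rightAlgebra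

set_option backward.isDefEq.respectTransparency false
set_option maxHeartbeats 1000000
set_option synthInstance.maxHeartbeats 400000

section Noether

open MvPolynomial

/-- Noether normalisation modulo the maximal ideal of the coefficients. -/
theorem exists_noether {R : Type u} [CommRing R] [IsLocalRing R] {t : ℕ}
    (a : MvPolynomial (Fin (t + 1)) R) (ha : a ∉ (maximalIdeal R).map C) :
    ∃ θ : Fin t → MvPolynomial (Fin (t + 1)) R,
      ((Ideal.Quotient.mk (Ideal.span {a} ⊔ (maximalIdeal R).map C)).comp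
        (MvPolynomial.aeval θ : MvPolynomial (Fin t) R →ₐ[R] _).toRingHom).IsIntegral := by
  let k := ResidueField R
  let Pl := MvPolynomial (Fin (t + 1)) R
  let Pk := MvPolynomial (Fin (t + 1)) k
  let red : Pl →+* Pk := MvPolynomial.map (residue R)
  have hredsurj : Function.Surjective red := MvPolynomial.map_surjective _ residue_surjective
  have hker : RingHom.ker red = (maximalIdeal R).map C := by
    rw [show red = MvPolynomial.map (residue R) from rfl, MvPolynomial.ker_map, ker_residue]
  let I₀ : Ideal Pk := Ideal.span {red a}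
  have hI₀ : I₀ ≠ ⊥ := fun h => ha (by
    rw [← hker, RingHom.mem_ker]
    exact Ideal.span_singleton_eq_bot.mp h)
  obtain ⟨yk, -, hint⟩ := H3CAlg.NoetherNorm.step I₀ hI₀
  choose θ hθ using fun i => hredsurj (yk i)
  refine ⟨θ, ?_⟩
  let I : Ideal Pl := Ideal.span {a} ⊔ (maximalIdeal R).map C
  let Φ : Pl →+* Pk ⧸ I₀ := (Ideal.Quotient.mk I₀).comp red
  have hΦker : RingHom.ker Φ ≤ I := by
    intro x hx
    have h1 : red x ∈ I₀ := Ideal.Quotient.eq_zero_iff_mem.mp hx
    obtain ⟨b, hb⟩ := Ideal.mem_span_singleton'.mp h1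
    obtain ⟨b', rfl⟩ := hredsurj b
    refine Submodule.mem_sup.mpr ⟨b' * a, Ideal.mem_span_singleton'.mpr ⟨b', rfl⟩, x - b' * a, ?_,
      add_sub_cancel _ _⟩
    rw [← hker, RingHom.mem_ker, map_sub, map_mul, hb, sub_self]
  have hΦsurj : Function.Surjective Φ := Ideal.Quotient.mk_surjective.comp hredsurj
  let Ψ : Pk ⧸ I₀ →+* Pl ⧸ I :=
    Φ.liftOfSurjective hΦsurj ⟨Ideal.Quotient.mk I, by rwa [Ideal.mk_ker]⟩
  have hΨ : ∀ x, Ψ (Φ x) = Ideal.Quotient.mk I x := fun x =>
    RingHom.liftOfRightInverse_comp_apply _ _ _ _ x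
  have hΨsurj : Function.Surjective Ψ := fun x => by
    obtain ⟨x, rfl⟩ := Ideal.Quotient.mk_surjective x
    exact ⟨Φ x, hΨ x⟩
  let red' : MvPolynomial (Fin t) R →+* MvPolynomial (Fin t) k := MvPolynomial.map (residue R)
  let g := ((Ideal.Quotient.mkₐ k I₀).comp (MvPolynomial.aeval yk)).toRingHom
  have heq : (Ideal.Quotient.mk I).comp
      (MvPolynomial.aeval θ : MvPolynomial (Fin t) R →ₐ[R] _).toRingHom = Ψ.comp (g.comp red') := by
    refine MvPolynomial.ringHom_ext (fun r => ?_) fun i => ?_
    · simp only [RingHom.comp_apply]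
      rw [← hΨ]
      refine congrArg Ψ ?_
      simp [Φ, g, red, red', Pl, MvPolynomial.algebraMap_eq]
      rw [IsScalarTower.algebraMap_apply k Pk (Pk ⧸ I₀), Ideal.Quotient.algebraMap_eq,
        MvPolynomial.algebraMap_eq, MvPolynomial.map_C]
    · simp only [RingHom.comp_apply]
      rw [← hΨ]
      refine congrArg Ψ ?_
      simp [Φ, g, red', hθ]
  rw [show Ideal.span {a} ⊔ (maximalIdeal R).map C = I from rfl, heq]
  exact RingHom.IsIntegral.trans _ _ (RingHom.IsIntegral.trans _ _
    (RingHom.isIntegral_of_surjective _ (MvPolynomial.map_surjective _ residue_surjective)) hint)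
    (RingHom.isIntegral_of_surjective _ hΨsurj)

end Noether

/-- Quasi-finiteness at a prime from a finite quotient below. -/
theorem quasiFiniteAt_quotient {B P A : Type u} [CommRing B] [CommRing P] [CommRing A] [Algebra B P]
    [Algebra P A] [Algebra B A] [IsScalarTower B P A] [Algebra.FiniteType B A]
    [Algebra.QuasiFinite P A] (I : Ideal P) [Module.Finite B (P ⧸ I)] (J : Ideal A)
    (Q : Ideal (A ⧸ J)) [Q.IsPrime]
    (hI : I.map (algebraMap P A) ≤ J ⊔ (Q.under B).map (algebraMap B A)) :
    Algebra.QuasiFiniteAt B Q := by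
  let p := Q.under B
  let S := A ⧸ J
  let C := S ⧸ p.map (algebraMap B S)
  let g : A →ₐ[P] C := (Ideal.Quotient.mkₐ P (p.map (algebraMap B S))).comp (Ideal.Quotient.mkₐ P J)
  have hker : ∀ x ∈ J ⊔ p.map (algebraMap B A), g x = 0 := by
    intro x hx
    obtain ⟨j, hj, z, hz, rfl⟩ := Submodule.mem_sup.mp hx
    have h1 : Ideal.Quotient.mk J z ∈ p.map (algebraMap B S) := by
      rw [show algebraMap B S = (Ideal.Quotient.mk J).comp (algebraMap B A) from rfl, ← Ideal.map_map]
      exact Ideal.mem_map_of_mem _ hz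
    rw [map_add]
    change Ideal.Quotient.mk _ (Ideal.Quotient.mk J j) + Ideal.Quotient.mk _ (Ideal.Quotient.mk J z) = 0
    rw [Ideal.Quotient.eq_zero_iff_mem.mpr hj, map_zero, zero_add,
      Ideal.Quotient.eq_zero_iff_mem.mpr h1]
  let f : P ⧸ I →ₐ[P] C := Ideal.Quotient.liftₐ I (Algebra.ofId P C) fun x hx => by
    have := hker _ (hI (Ideal.mem_map_of_mem _ hx))
    rwa [g.commutes] at this
  let W := (P ⧸ I) ⊗[P] A
  have : Algebra.QuasiFinite (P ⧸ I) W := inferInstance
  have : IsScalarTower B (P ⧸ I) W := inferInstance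
  have : Algebra.QuasiFinite B W := Algebra.QuasiFinite.trans B (P ⧸ I) W
  let φ : W →ₐ[P] C := Algebra.TensorProduct.lift f g fun _ _ => mul_comm _ _
  have hφ : Function.Surjective φ := fun x => by
    obtain ⟨x, rfl⟩ := Ideal.Quotient.mk_surjective x
    obtain ⟨x, rfl⟩ := Ideal.Quotient.mk_surjective x
    exact ⟨1 ⊗ₜ x, by rw [Algebra.TensorProduct.lift_tmul, map_one, one_mul]; rfl⟩
  have : Algebra.QuasiFinite B C := Algebra.QuasiFinite.of_surjective_algHom (φ.restrictScalars B) hφ
  have : Algebra.WeaklyQuasiFiniteAt B Q := inferInstanceAs (Algebra.QuasiFinite B (Localization _))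
  exact Algebra.QuasiFiniteAt.of_weaklyQuasiFiniteAt Q

/-- A quotient of the henselization is finite over a henselian local ring below it. -/
theorem finite_quotient {B P : Type u} [CommRing B] [CommRing P] [Algebra B P]
    [Algebra.FiniteType B P] (y : Ideal P) [y.IsPrime]
    (L : Type u) [CommRing L] [IsLocalRing L] [Algebra (Localization.AtPrime y) L]
    [IsLocalHom (algebraMap (Localization.AtPrime y) L)]
    [hL : Hensel.IsHenselization (Localization.AtPrime y) L] [Algebra P L]
    [IsScalarTower P (Localization.AtPrime y) L] [Algebra B L] [IsScalarTower B P L]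
    (L' : Type u) [CommRing L'] [HenselianLocalRing L'] [Algebra B L'] [Algebra L' L]
    [IsScalarTower B L' L] [IsLocalHom (algebraMap L' L)]
    (A : Type u) [CommRing A] [Algebra P A] [Algebra.Etale P A] (ψ : A →ₐ[P] L) (cA : A)
    (hc : ¬ IsUnit (ψ cA)) (I : Ideal P) [Module.Finite B (P ⧸ I)]
    (hI : I.map (algebraMap P A) ≤
      Ideal.span {cA} ⊔ (y.under B).map ((algebraMap P A).comp (algebraMap B P))) :
    Module.Finite L' (L ⧸ Ideal.span {ψ cA}) := by
  have := hL.henselian
  let W := Localization.AtPrime y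
  let Lb := L ⧸ Ideal.span {ψ cA}
  have hmk : Function.Surjective (Ideal.Quotient.mk (Ideal.span {ψ cA})) := Ideal.Quotient.mk_surjective
  have : Nontrivial Lb :=
    Ideal.Quotient.nontrivial_iff.mpr fun h => hc (Ideal.span_singleton_eq_top.mp h)
  have : IsLocalRing Lb := IsLocalRing.of_surjective' _ hmk
  have : IsLocalHom (Ideal.Quotient.mk (Ideal.span {ψ cA})) := IsLocalHom.of_surjective _ hmk
  have : HenselianLocalRing Lb := H9Hens.henselianLocalRing_quotient _
  -- the comparison of maximal ideals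
  have hy : (maximalIdeal L).comap (algebraMap P L) = y := by
    rw [IsScalarTower.algebraMap_eq P W L, ← Ideal.comap_comap, IsLocalRing.maximalIdeal_comap]
    exact IsLocalization.AtPrime.under_maximalIdeal W y
  let : Algebra B A := ((algebraMap P A).comp (algebraMap B P)).toAlgebra
  have : IsScalarTower B P A := IsScalarTower.of_algebraMap_eq fun _ => rfl
  have : Algebra.FiniteType B A :=
    Algebra.FiniteType.trans (inferInstance : Algebra.FiniteType B P) inferInstance
  let J : Ideal A := Ideal.span {cA}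
  let A₁ := A ⧸ J
  let φ₁ : A₁ →ₐ[B] Lb := Ideal.Quotient.liftₐ J
    (((Ideal.Quotient.mkₐ P (Ideal.span {ψ cA})).comp ψ).restrictScalars B) fun x hx => by
      obtain ⟨b, rfl⟩ := Ideal.mem_span_singleton'.mp hx
      exact Ideal.Quotient.eq_zero_iff_mem.mpr (by
        change ψ (b * cA) ∈ _
        rw [map_mul]
        exact Ideal.mem_span_singleton'.mpr ⟨_, rfl⟩)
  let Q₁ : Ideal A₁ := (maximalIdeal Lb).comap φ₁.toRingHom
  have : Q₁.IsPrime := Ideal.comap_isPrime _ _
  have hQ₁ : Q₁.under B = y.under B := by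
    rw [Ideal.under, Ideal.comap_comap, AlgHom.toRingHom_eq_coe, φ₁.comp_algebraMap, Ideal.under,
      ← hy]
    calc (maximalIdeal Lb).comap (algebraMap B Lb)
        = ((maximalIdeal Lb).comap (Ideal.Quotient.mk _)).comap (algebraMap B L) :=
          (Ideal.comap_comap _ _).symm
      _ = (maximalIdeal L).comap (algebraMap B L) := by
          rw [IsLocalRing.maximalIdeal_comap (Ideal.Quotient.mk (Ideal.span {ψ cA}))]
      _ = _ := by rw [IsScalarTower.algebraMap_eq B P L, ← Ideal.comap_comap]
  have : Algebra.QuasiFiniteAt B Q₁ := quasiFiniteAt_quotient I J Q₁ (by rw [hQ₁]; exact hI)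
  -- base change to `L'`
  let E := L' ⊗[B] A₁
  let Φ : E →ₐ[L'] Lb :=
    Algebra.TensorProduct.lift (Algebra.ofId L' Lb) φ₁ fun _ _ => mul_comm _ _
  let Q : Ideal E := (maximalIdeal Lb).comap Φ.toRingHom
  have : Q.IsPrime := Ideal.comap_isPrime _ _
  have hΦr : ∀ x : A₁, Φ (1 ⊗ₜ x) = φ₁ x := fun x => by
    rw [Algebra.TensorProduct.lift_tmul, map_one, one_mul]
  have hQQ₁ : Q₁ = Q.comap (Algebra.TensorProduct.includeRight (R := B) (A := L')).toRingHom := by
    ext x
    exact Iff.of_eq (congrArg (· ∈ maximalIdeal Lb) (hΦr x).symm)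
  have : Algebra.QuasiFiniteAt L' Q := Algebra.QuasiFiniteAt.baseChange Q₁ Q hQQ₁
  have : IsLocalHom (algebraMap L' Lb) := by
    rw [IsScalarTower.algebraMap_eq L' L Lb, Ideal.Quotient.algebraMap_eq]
    exact RingHom.isLocalHom_comp _ _
  have hlies : Q.LiesOver (maximalIdeal L') := ⟨by
    rw [Ideal.under, Ideal.comap_comap, AlgHom.toRingHom_eq_coe, Φ.comp_algebraMap,
      IsLocalRing.maximalIdeal_comap]⟩
  let T := Localization.AtPrime Q
  have : Module.Finite L' T := H9Hens.finite_localization_of_quasiFiniteAt Q hlies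
  let φT : T →ₐ[L'] Lb := IsLocalization.liftAlgHom (M := Q.primeCompl) (f := Φ) fun v =>
    IsLocalRing.notMem_maximalIdeal.mp v.2
  have hφT : ∀ e : E, φT (algebraMap E T e) = Φ e := fun e => IsLocalization.lift_eq _ e
  have hφTl : IsLocalHom φT.toRingHom := ⟨fun t ht => by
    obtain ⟨e, s, rfl⟩ := IsLocalization.exists_mk'_eq Q.primeCompl t
    rw [IsLocalization.AtPrime.isUnit_mk'_iff T Q e s]
    intro he
    have h1 : φT (IsLocalization.mk' T e s) * Φ s = Φ e := by
      rw [← hφT, ← hφT, ← map_mul, IsLocalization.mk'_spec]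
    exact (mem_maximalIdeal _).mp he (h1 ▸ ht.mul (IsLocalRing.notMem_maximalIdeal.mp s.2))⟩
  have : IsLocalHom (algebraMap L' T) := by
    have : IsLocalHom (φT.toRingHom.comp (algebraMap L' T)) := by
      rwa [AlgHom.toRingHom_eq_coe, φT.comp_algebraMap]
    exact isLocalHom_of_comp _ φT.toRingHom
  have : HenselianLocalRing T := FlatTransfer.henselianLocalRing_of_finite L' T
  let fP : P →+* T := (algebraMap E T).comp
    ((Algebra.TensorProduct.includeRight : A₁ →ₐ[B] E).toRingHom.comp (algebraMap P A₁))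
  have hfP : ∀ p : P, φT (fP p) = Ideal.Quotient.mk _ (algebraMap P L p) := fun p => by
    refine (hφT _).trans ((hΦr _).trans ?_)
    change Ideal.Quotient.mk _ (ψ (algebraMap P A p)) = _
    rw [ψ.commutes]
  let fW : W →+* T := IsLocalization.lift (M := y.primeCompl) (g := fP) fun v => by
    refine isUnit_of_map_unit φT.toRingHom _ ?_
    change IsUnit (φT (fP v))
    rw [hfP, IsScalarTower.algebraMap_apply P W L]
    exact ((IsLocalization.map_units W v).map _).map _
  have hfW : φT.toRingHom.comp fW = (Ideal.Quotient.mk _).comp (algebraMap W L) := by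
    refine IsLocalization.ringHom_ext y.primeCompl ?_
    ext p
    exact ((congrArg φT (IsLocalization.lift_eq _ p)).trans (hfP p)).trans
      (congrArg _ (IsScalarTower.algebraMap_apply P W L p))
  have hloc : IsLocalHom ((Ideal.Quotient.mk (Ideal.span {ψ cA})).comp (algebraMap W L)) :=
    RingHom.isLocalHom_comp _ _
  have hfWl : IsLocalHom fW := by
    have : IsLocalHom (φT.toRingHom.comp fW) := by rw [hfW]; exact hloc
    exact isLocalHom_of_comp fW φT.toRingHom
  obtain ⟨h, hh, -⟩ := hL.universal T fW hfWl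
  have huniq : φT.toRingHom.comp h = Ideal.Quotient.mk (Ideal.span {ψ cA}) :=
    (hL.universal Lb _ hloc).unique (by rw [RingHom.comp_assoc, hh, hfW]) rfl
  refine Module.Finite.of_surjective φT.toLinearMap fun x => ?_
  obtain ⟨l, rfl⟩ := hmk x
  exact ⟨h l, RingHom.congr_fun huniq l⟩

/-- An etale stage witnessing a membership. -/
theorem exists_stage {R P : Type u} [CommRing R] [CommRing P] [Algebra R P] (y : Ideal P) [y.IsPrime]
    (L : Type u) [CommRing L] [IsLocalRing L] [Algebra (Localization.AtPrime y) L]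
    [IsLocalHom (algebraMap (Localization.AtPrime y) L)]
    [Hensel.IsHenselization (Localization.AtPrime y) L] [Algebra P L]
    [IsScalarTower P (Localization.AtPrime y) L] [Algebra R L] [IsScalarTower R P L]
    (m : Ideal R) (c : L) (a : P)
    (ha : algebraMap P L a ∈ Ideal.span {c} ⊔ m.map (algebraMap R L)) :
    ∃ (A : Type u) (_ : CommRing A) (_ : Algebra P A) (_ : Algebra.Etale P A) (ψ : A →ₐ[P] L)
      (cA : A), ψ cA = c ∧
        algebraMap P A a ∈ Ideal.span {cA} ⊔ m.map ((algebraMap P A).comp (algebraMap R P)) := by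
  obtain ⟨E, _, _, ψ, hψs, hnhd⟩ := EtaleNbhdHensel.exists_etaleNhd_hitting y L {c}
  obtain ⟨cE, hcE⟩ := hψs c (Finset.mem_singleton_self c)
  have : Algebra.Etale P E := hnhd.1
  let : Algebra E L := ψ.toRingHom.toAlgebra
  have : IsScalarTower P E L := IsScalarTower.of_algebraMap_eq fun f => (ψ.commutes f).symm
  have := HenselClosedFibre.flat_stage y L E
  let J : Ideal E := Ideal.span {cE} ⊔ m.map ((algebraMap P E).comp (algebraMap R P))
  have hJ : algebraMap E L (algebraMap P E a) ∈ J.map (algebraMap E L) := by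
    rw [Ideal.map_sup, Ideal.map_span, Set.image_singleton, Ideal.map_map, ← RingHom.comp_assoc,
      ← IsScalarTower.algebraMap_eq P E L, ← IsScalarTower.algebraMap_eq R P L,
      ← IsScalarTower.algebraMap_apply]
    convert ha using 3
    rw [show algebraMap E L cE = c from hcE]
  obtain ⟨g, hg, hga⟩ := HenselClosedFibre.exists_notMem_mul_mem J _ hJ
    ((maximalIdeal L).comap (algebraMap E L))
    fun h => (maximalIdeal.isMaximal L).ne_top (top_le_iff.mp (h.ge.trans Ideal.map_comap_le))
  let A := Localization.Away g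
  have : Algebra.Etale E A := Algebra.Etale.of_isLocalizationAway g
  have : Algebra.Etale P A := Algebra.Etale.comp P E A
  let ψA : A →ₐ[P] L := IsLocalization.liftAlgHom (M := Submonoid.powers g) (f := ψ) fun v => by
    obtain ⟨k, hk⟩ := v.2
    rw [← hk, map_pow]
    exact (IsLocalRing.notMem_maximalIdeal.mp hg).pow k
  refine ⟨A, inferInstance, inferInstance, inferInstance, ψA, algebraMap E A cE, ?_, ?_⟩
  · exact (IsLocalization.lift_eq _ cE).trans hcE
  · have h1 := Ideal.mem_map_of_mem (algebraMap E A) hga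
    rw [Ideal.map_sup, Ideal.map_span, Set.image_singleton, Ideal.map_map, ← RingHom.comp_assoc,
      ← IsScalarTower.algebraMap_eq P E A, map_mul, ← IsScalarTower.algebraMap_apply] at h1
    exact (Ideal.unit_mul_mem_iff_mem _ (IsLocalization.Away.algebraMap_isUnit g)).mp h1

end Groth.Agent.H7Flat.FiniteFlatStage
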