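import Groth.Agent.H29Fitt.Rank
import Mathlib

/-!
Zeroth Fitting ideal of a product and of the base change of `C/J` along an étale localization.
-/

namespace Groth.Agent.H7Flat.FittingEtale

open TensorProduct Groth.Agent.H29Fitt

universe u

set_option backward.isDefEq.respectTransparency false

theorem fitting_quotient_prod {R : Type u} [CommRing R] (I : Ideal R) (N : Type u) [AddCommGroup N]
    [Module R N] [Module.Finite R N] :
    Fitt.ideal R ((R ⧸ I) × N) 0 = I * Fitt.ideal R N 0 := by
  classical
  obtain ⟨n, y, hy⟩ := Module.Finite.exists_fin (R := R) (M := N)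
  let x : Fin (n + 1) → (R ⧸ I) × N := Fin.cons (Ideal.Quotient.mk I 1, 0) fun i => (0, y i)
  have hx : Submodule.span R (Set.range x) = ⊤ := by
    rw [eq_top_iff]
    rintro ⟨a, b⟩ -
    obtain ⟨r, rfl⟩ := Ideal.Quotient.mk_surjective a
    have h1 : (Ideal.Quotient.mk I r, (0 : N)) = r • x 0 := by simp [x, Algebra.smul_def]
    have h2 : ((0 : R ⧸ I), b) ∈ Submodule.span R (Set.range x) := by
      have hb : b ∈ Submodule.span R (Set.range y) := hy ▸ Submodule.mem_top
      induction hb using Submodule.span_induction with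
      | mem b hb => obtain ⟨i, rfl⟩ := hb; exact Submodule.subset_span ⟨i.succ, by simp [x]⟩
      | zero => exact zero_mem _
      | add a b _ _ ha hb => simpa using add_mem ha hb
      | smul r a _ ha => simpa using Submodule.smul_mem _ r ha
    have hx0 : x 0 ∈ Submodule.span R (Set.range x) :=
      Submodule.subset_span (Set.mem_range_self 0)
    have := add_mem (Submodule.smul_mem _ r hx0) h2
    rw [← h1] at this
    simpa using this
  rw [ideal_eq x hx, ideal_eq y hy, Nat.sub_zero, Nat.sub_zero]
  have hrel : ∀ w : Fin (n + 1) → R, ∑ i, w i • x i = 0 ↔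
      (w 0 ∈ I ∧ ∑ i, w i.succ • y i = 0) := by
    intro w
    rw [Fin.sum_univ_succ, Prod.ext_iff]
    simp [x, Algebra.smul_def, Ideal.Quotient.eq_zero_iff_mem, Prod.fst_sum, Prod.snd_sum]
  apply le_antisymm
  · refine J_le fun z e hz => ?_
    by_cases he : Function.Injective e
    · obtain ⟨a₀, ha₀⟩ := (Finite.injective_iff_surjective.mp he) 0
      rw [Matrix.det_succ_row _ a₀]
      refine Ideal.sum_mem _ fun b _ => ?_
      rw [mul_assoc]
      refine Ideal.mul_mem_left _ _ (Ideal.mul_mem_mul ?_ ?_)
      · rw [Matrix.of_apply, ha₀]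
        exact ((hrel _).mp (hz b)).1
      · have hne : ∀ a, e (a₀.succAbove a) ≠ 0 := fun a h =>
          Fin.succAbove_ne a₀ a (he (h.trans ha₀.symm))
        have := det_mem_J (x := y) (z := fun b' i => z (b.succAbove b') i.succ)
          (fun b' => ((hrel _).mp (hz _)).2) fun a => (e (a₀.succAbove a)).pred (hne a)
        convert this using 2
        ext a b'
        simp
    · obtain ⟨i, j, hij, hne⟩ := Function.not_injective_iff.mp he
      rw [Matrix.det_zero_of_row_eq hne (by ext b; simp [hij])]
      exact Submodule.zero_mem _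
  · refine Ideal.mul_le.mpr fun r hr d hd => ?_
    induction hd using Submodule.span_induction with
    | mem d hd =>
      obtain ⟨z, e, hz, rfl⟩ := hd
      let z' : Fin (n + 1) → (Fin (n + 1) → R) :=
        Fin.cons (Fin.cons r 0) fun b => Fin.cons 0 (z b)
      let e' : Fin (n + 1) → Fin (n + 1) := Fin.cons 0 fun a => (e a).succ
      have h := det_mem_J (x := x) (z := z') (fun b => by
        refine Fin.cases ?_ (fun b => ?_) b
        · exact (hrel _).mpr ⟨by simpa [z'] using hr, by simp [z']⟩
        · exact (hrel _).mpr ⟨by simp [z'], by simpa [z'] using hz b⟩) e'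
      rw [Matrix.det_succ_row_zero, Fin.sum_univ_succ] at h
      simp only [Matrix.of_apply, z', e', Fin.cons_zero, Fin.cons_succ, Fin.val_zero, pow_zero,
        one_mul, mul_zero, zero_mul, Finset.sum_const_zero, add_zero, Fin.succAbove_zero] at h
      convert h using 3
      ext a b
      simp
    | zero => simp
    | add a b _ _ ha hb => rw [mul_add]; exact add_mem ha hb
    | smul c a _ ha => rw [smul_eq_mul, mul_left_comm]; exact Ideal.mul_mem_left _ _ ha

variable {A C B : Type u} [CommRing A] [CommRing C] [CommRing B] [Algebra A C] [Algebra A B]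
  [Algebra C B] [IsScalarTower A C B]

/-- The multiplication `B ⊗ C → B`. -/
noncomputable def mult : B ⊗[A] C →ₐ[B] B :=
  Algebra.TensorProduct.lift (AlgHom.id B B) (IsScalarTower.toAlgHom A C B) fun _ _ => .all _ _

theorem mult_tmul (b : B) (c : C) : mult (A := A) (b ⊗ₜ[A] c) = b * algebraMap C B c := by
  simp [mult]

theorem exists_idempotent [Module.Finite A C] [Module.Projective A C] (h : C)
    [IsLocalization.Away h B] [Algebra.Etale A B] :
    ∃ e : B ⊗[A] C, IsIdempotentElem e ∧
      RingHom.ker (mult (A := A) (B := B) (C := C)).toRingHom = Ideal.span {e} := by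
  let μ : B ⊗[A] C →ₐ[B] B := mult
  let K : Ideal (B ⊗[A] C) := RingHom.ker μ.toRingHom
  let θ : B ⊗[A] C →ₐ[A] B ⊗[A] B :=
    Algebra.TensorProduct.map (AlgHom.id A B) (IsScalarTower.toAlgHom A C B)
  let : Algebra (B ⊗[A] C) (B ⊗[A] B) := θ.toRingHom.toAlgebra
  have : IsScalarTower B (B ⊗[A] C) (B ⊗[A] B) := IsScalarTower.of_algebraMap_eq fun b => by
    simp [RingHom.algebraMap_toAlgebra, θ, Algebra.TensorProduct.algebraMap_apply]
  let S : Submonoid (B ⊗[A] C) :=
    (Submonoid.powers h).map (Algebra.TensorProduct.includeRight (R := A) (A := B))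
  have : IsLocalization S (B ⊗[A] B) :=
    IsLocalization.tensorProduct_tensorProduct_right A B (Submonoid.powers h) B (by
      ext c
      simp [RingHom.algebraMap_toAlgebra, θ])
  have hθ : ∀ x, Algebra.TensorProduct.lmul' A (S := B) (θ x) = μ x := by
    intro x
    induction x using TensorProduct.induction_on with
    | zero => simp
    | tmul b c => simp [θ, μ, mult_tmul]
    | add a b ha hb => simp [ha, hb]
  let Kd := KaehlerDifferential.ideal A B
  have hKd : IsIdempotentElem Kd :=
    (Ideal.cotangent_subsingleton_iff _).mp (inferInstanceAs <| Subsingleton Ω[B⁄A])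
  have hKK : Kd ≤ K.map (algebraMap (B ⊗[A] C) (B ⊗[A] B)) := by
    intro y hy
    obtain ⟨⟨x, s⟩, hxs⟩ := IsLocalization.surj S y
    rw [← Ideal.mul_unit_mem_iff_mem _ (IsLocalization.map_units (B ⊗[A] B) s), hxs]
    refine Ideal.mem_map_of_mem _ ?_
    change μ x = 0
    rw [← hθ, show θ x = algebraMap (B ⊗[A] C) (B ⊗[A] B) x from rfl, ← hxs, map_mul,
      show Algebra.TensorProduct.lmul' A y = 0 from hy, zero_mul]
  have hidem : IsIdempotentElem K := by
    refine le_antisymm Ideal.mul_le_right fun x hx => ?_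
    have hy : algebraMap (B ⊗[A] C) (B ⊗[A] B) x ∈ Kd := by
      change Algebra.TensorProduct.lmul' A (θ x) = 0
      rw [hθ]
      exact hx
    rw [← hKd.eq] at hy
    have hy' := Ideal.mul_mono hKK hKK hy
    rw [← Ideal.map_mul, IsLocalization.algebraMap_mem_map_algebraMap_iff S] at hy'
    obtain ⟨_, ⟨_, ⟨n, rfl⟩, rfl⟩, hnx⟩ := hy'
    obtain ⟨v, hv⟩ := ((IsLocalization.Away.algebraMap_isUnit (S := B) h).pow n).exists_left_inv
    have h1 : 1 - (v ⊗ₜ[A] (1 : C)) * ((1 : B) ⊗ₜ[A] (h ^ n)) ∈ K := by
      change μ _ = 0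
      simp [μ, mult_tmul, hv]
    have : x = (1 - (v ⊗ₜ[A] (1 : C)) * ((1 : B) ⊗ₜ[A] (h ^ n))) * x +
        (v ⊗ₜ[A] (1 : C)) * (((1 : B) ⊗ₜ[A] (h ^ n)) * x) := by ring
    rw [this]
    exact add_mem (Ideal.mul_mem_mul h1 hx) (Ideal.mul_mem_left _ _ hnx)
  have hfg : K.FG := by
    have hlin : (LinearMap.ker μ.toLinearMap).FG := by
      have hs : Function.Surjective μ.toLinearMap := fun b => ⟨b ⊗ₜ 1, by simp [μ, mult_tmul]⟩
      exact Module.FinitePresentation.fg_ker _ hs
    obtain ⟨s, hs⟩ := hlin
    refine ⟨s, le_antisymm (Submodule.span_le.mpr fun x hx => ?_) fun x hx => ?_⟩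
    · exact (show x ∈ LinearMap.ker μ.toLinearMap from hs ▸ Submodule.subset_span hx)
    · have hx' : x ∈ Submodule.span B (s : Set (B ⊗[A] C)) := hs ▸ hx
      exact Submodule.span_le_restrictScalars B (B ⊗[A] C) _ hx'
  exact (Ideal.isIdempotentElem_iff_of_fg K hfg).mp hidem

/-- The Fitting ideal of `C/J` becomes divisible by `J` after the étale localization. -/
theorem exists_factor [Module.Finite A C] [Module.Projective A C] (h : C)
    [IsLocalization.Away h B] [Algebra.Etale A B] (J : Ideal C) :
    ∃ J' : Ideal B, (Fitt.ideal A (C ⧸ J) 0).map (algebraMap A B) = J.map (algebraMap C B) * J' ∧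
      (J.FG → (Fitt.ideal A (C ⧸ J) 0).FG ∧ J'.FG) := by
  obtain ⟨e, he, hK⟩ := exists_idempotent (A := A) (B := B) h
  let Q := (B ⊗[A] C) ⧸ J.map (Algebra.TensorProduct.includeRight (R := A) (A := B))
  let eQ : B ⊗[A] (C ⧸ J) ≃ₐ[B] Q := Algebra.TensorProduct.tensorQuotientEquiv B C B J
  let q : Q := Ideal.Quotient.mk _ e
  have hq : IsIdempotentElem q := he.map _
  let ep : Q ≃ₐ[B] (Q ⧸ Ideal.span {q}) × Q ⧸ Ideal.span {1 - q} :=
    AlgEquiv.prodQuotientOfIsIdempotentElem (R := B) hq hq.one_sub (by simp) (by simp [mul_sub, hq.eq])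
  have hJker : ∀ x ∈ J.map (Algebra.TensorProduct.includeRight (R := A) (A := B)),
      mult (A := A) x ∈ J.map (algebraMap C B) := by
    intro x hx
    induction hx using Submodule.span_induction with
    | mem x hx =>
      obtain ⟨c, hc, rfl⟩ := hx
      simpa [mult_tmul] using Ideal.mem_map_of_mem (algebraMap C B) hc
    | zero => simp
    | add a b _ _ ha hb => rw [map_add]; exact add_mem ha hb
    | smul a b _ hb => rw [smul_eq_mul, map_mul]; exact Ideal.mul_mem_left _ _ hb
  let π₀ : Q →ₐ[B] B ⧸ J.map (algebraMap C B) :=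
    Ideal.Quotient.liftₐ _ ((Ideal.Quotient.mkₐ B _).comp mult) fun x hx =>
      Ideal.Quotient.eq_zero_iff_mem.mpr (hJker x hx)
  have hπs : Function.Surjective π₀ := fun y => by
    obtain ⟨b, rfl⟩ := Ideal.Quotient.mk_surjective y
    refine ⟨algebraMap B Q b, ?_⟩
    rw [AlgHom.commutes]
    rfl
  have hπk : RingHom.ker π₀ = Ideal.span {q} := by
    apply le_antisymm
    · intro y hy
      obtain ⟨x, rfl⟩ := Ideal.Quotient.mk_surjective y
      have hy' : mult (A := A) x ∈ J.map (algebraMap C B) :=
        Ideal.Quotient.eq_zero_iff_mem.mp hy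
      have hx : x ∈ J.map (Algebra.TensorProduct.includeRight (R := A) (A := B)) ⊔ Ideal.span {e} := by
        rw [← hK]
        have : ∀ y ∈ J.map (algebraMap C B), ∃ x' ∈
            J.map (Algebra.TensorProduct.includeRight (R := A) (A := B)), mult (A := A) x' = y := by
          intro y hy
          induction hy using Submodule.span_induction with
          | mem y hy =>
            obtain ⟨c, hc, rfl⟩ := hy
            exact ⟨_, Ideal.mem_map_of_mem _ hc, by simp [mult_tmul]⟩
          | zero => exact ⟨0, zero_mem _, map_zero _⟩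
          | add a b _ _ ha hb =>
            obtain ⟨a', ha', rfl⟩ := ha
            obtain ⟨b', hb', rfl⟩ := hb
            exact ⟨a' + b', add_mem ha' hb', map_add _ _ _⟩
          | smul r a _ ha =>
            obtain ⟨a', ha', rfl⟩ := ha
            exact ⟨(r ⊗ₜ 1) * a', Ideal.mul_mem_left _ _ ha', by simp [mult_tmul]⟩
        obtain ⟨x', hx', hxx'⟩ := this _ hy'
        rw [← add_sub_cancel x' x]
        exact Submodule.add_mem_sup hx' (show mult (A := A) (x - x') = 0 by
          rw [map_sub, hxx', sub_self])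
      have := Ideal.mem_map_of_mem (Ideal.Quotient.mk
        (J.map (Algebra.TensorProduct.includeRight (R := A) (A := B)))) hx
      rwa [Ideal.map_sup, Ideal.map_quotient_self, bot_sup_eq, Ideal.map_span,
        Set.image_singleton] at this
    · rw [Ideal.span_le, Set.singleton_subset_iff]
      refine Ideal.Quotient.eq_zero_iff_mem.mpr ?_
      have : mult (A := A) e = 0 :=
        show e ∈ RingHom.ker (mult (A := A) (B := B) (C := C)).toRingHom from
          hK ▸ Ideal.mem_span_singleton_self e
      change mult (A := A) e ∈ J.map (algebraMap C B)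
      rw [this]
      exact zero_mem _
  let e₁ : (Q ⧸ Ideal.span {q}) ≃ₐ[B] B ⧸ J.map (algebraMap C B) :=
    (Ideal.quotientEquivAlgOfEq B hπk.symm).trans (Ideal.quotientKerAlgEquivOfSurjective hπs)
  let N₂ := Q ⧸ Ideal.span {1 - q}
  let eM : B ⊗[A] (C ⧸ J) ≃ₗ[B] (B ⧸ J.map (algebraMap C B)) × N₂ :=
    eQ.toLinearEquiv ≪≫ₗ ep.toLinearEquiv ≪≫ₗ
      LinearEquiv.prodCongr e₁.toLinearEquiv (LinearEquiv.refl B N₂)
  have hfin : Module.Finite B N₂ :=
    Module.Finite.of_surjective ((LinearMap.snd B _ _).comp eM.toLinearMap)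
      (Prod.snd_surjective.comp eM.surjective)
  refine ⟨Fitt.ideal B N₂ 0, ?_, fun hJ => ?_⟩
  · rw [← ideal_baseChange (R' := B) 0, ← fitting_quotient_prod]
    exact le_antisymm (ideal_mono_of_surjective eM.toLinearMap eM.surjective 0)
      (ideal_mono_of_surjective eM.symm.toLinearMap eM.symm.surjective 0)
  · have : Module.FinitePresentation A C := Module.finitePresentation_of_projective A C
    have : Module.FinitePresentation A (C ⧸ J) := by
      refine Module.finitePresentation_of_surjective
        ((Ideal.Quotient.mkₐ A J).toLinearMap) Ideal.Quotient.mk_surjective ?_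
      have hker : LinearMap.ker (Ideal.Quotient.mkₐ A J).toLinearMap = J.restrictScalars A :=
        Submodule.ext fun x => Ideal.Quotient.eq_zero_iff_mem
      rw [hker]
      have : Module.Finite C J := Module.Finite.iff_fg.mpr hJ
      have : Module.Finite A J := Module.Finite.trans C J
      exact Module.Finite.iff_fg.mp (inferInstanceAs (Module.Finite A J) : Module.Finite A (J.restrictScalars A))
    refine ⟨ideal_fg 0, ?_⟩
    have : Module.FinitePresentation B N₂ := by
      refine Module.finitePresentation_of_surjective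
        ((LinearMap.snd B _ _).comp eM.toLinearMap) (Prod.snd_surjective.comp eM.surjective) ?_
      rw [LinearMap.ker_comp]
      have h1 : (LinearMap.ker (LinearMap.snd B (B ⧸ J.map (algebraMap C B)) N₂)).FG := by
        rw [LinearMap.ker_snd, ← Submodule.map_top]
        exact Submodule.FG.map _ Module.Finite.fg_top
      exact (Submodule.fg_map_iff eM.toLinearMap eM.injective).mp
        (by rwa [Submodule.map_comap_eq_of_surjective eM.surjective])
    exact ideal_fg 0

end Groth.Agent.H7Flat.FittingEtale
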