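import Groth.Agent.H7Flat.GenericFreeness
import Mathlib.RingTheory.TensorProduct.MvPolynomial
import Mathlib.RingTheory.FinitePresentation
import Mathlib.RingTheory.Adjoin.FG
import Mathlib.RingTheory.TensorProduct.Free

/-!
# Flattening chains of ideals for finitely presented modules over finitely presented algebras
-/

set_option autoImplicit false
set_option linter.style.haveILetI false

universe u

open TensorProduct

attribute [local instance] MvPolynomial.algebraMvPolynomial

namespace Groth.Agent.H7Flat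

/-- Over a Noetherian ring, finitely many finite modules over polynomial algebras become flat along the
steps of a finite chain of ideals. -/
theorem exists_chain_of_noetherian {D : Type u} [CommRing D] [IsNoetherianRing D] {ι : Type*}
    [Finite ι] (n : ι → ℕ) (N : ι → Type u) [∀ l, AddCommGroup (N l)] [∀ l, Module D (N l)]
    [∀ l, Module (MvPolynomial (Fin (n l)) D) (N l)]
    [∀ l, IsScalarTower D (MvPolynomial (Fin (n l)) D) (N l)]
    [∀ l, Module.Finite (MvPolynomial (Fin (n l)) D) (N l)] (J : Ideal D) :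
    ∃ (m : ℕ) (c : ℕ → Ideal D), c 0 = J ∧ c m = ⊤ ∧ Monotone c ∧
      ∀ k < m, ∀ (R : Type u) [CommRing R] [Algebra D R], Ideal.map (algebraMap D R) (c k) = ⊥ →
        Ideal.map (algebraMap D R) (c (k + 1)) = ⊤ → ∀ l, Module.Flat R (R ⊗[D] N l) := by
  induction J using IsNoetherian.induction with
  | _ J' ih =>
    obtain ⟨J, rfl⟩ : ∃ J : Ideal D, J = J' := ⟨J', rfl⟩
    have step : ∀ J' : Ideal D, J < J' → (∀ (R : Type u) [CommRing R] [Algebra D R],
        Ideal.map (algebraMap D R) J = ⊥ → Ideal.map (algebraMap D R) J' = ⊤ →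
          ∀ l, Module.Flat R (R ⊗[D] N l)) →
        ∃ (m : ℕ) (c : ℕ → Ideal D), c 0 = J ∧ c m = ⊤ ∧ Monotone c ∧
          ∀ k < m, ∀ (R : Type u) [CommRing R] [Algebra D R], Ideal.map (algebraMap D R) (c k) = ⊥ →
            Ideal.map (algebraMap D R) (c (k + 1)) = ⊤ → ∀ l, Module.Flat R (R ⊗[D] N l) := by
      intro J' hlt hflat
      obtain ⟨m, c, h0, hm, hmono, hc⟩ := ih J' hlt
      refine ⟨m + 1, fun k => if k = 0 then J else c (k - 1), rfl, by simp [hm],
        monotone_nat_of_le_succ fun k => ?_, fun k hk R _ _ hR hu => ?_⟩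
      · rcases k with - | k
        · simpa [h0] using hlt.le
        · simpa using hmono k.le_succ
      · rcases k with - | k
        · exact hflat R (by simpa using hR) (by simpa [h0] using hu)
        · exact hc k (by omega) R (by simpa using hR) (by simpa using hu)
    by_cases hJ : J = ⊤
    · exact ⟨0, fun _ => J, rfl, hJ, monotone_const, by simp⟩
    by_cases hrad : J.radical = J
    swap
    · refine step J.radical (lt_of_le_of_ne J.le_radical (Ne.symm hrad)) fun R _ _ hR hu l => ?_
      have h1 : Ideal.map (algebraMap D R) J.radical ≤ nilradical R :=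
        (Ideal.map_radical_le _).trans (le_of_eq (by rw [hR]; rfl))
      rw [hu, top_le_iff, Ideal.eq_top_iff_one, mem_nilradical] at h1
      obtain ⟨k, hk⟩ := h1
      haveI := subsingleton_of_zero_eq_one (show (0 : R) = 1 by rw [← hk, one_pow])
      infer_instance
    haveI : IsReduced (D ⧸ J) := by
      rw [← Ideal.isRadical_iff_quotient_reduced]
      exact hrad.le
    haveI : Nontrivial (D ⧸ J) := Ideal.Quotient.nontrivial_iff.mpr hJ
    obtain ⟨f, hf0, hf⟩ : ∃ f : D ⧸ J, f ≠ 0 ∧ ∀ l, ∀ g : D ⧸ J, f ∣ g →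
        Module.Free (Localization.Away g) (Localization.Away g ⊗[D ⧸ J] ((D ⧸ J) ⊗[D] N l)) := by
      classical
      haveI := Fintype.ofFinite ι
      suffices ∀ s : Finset ι, ∃ f : D ⧸ J, f ≠ 0 ∧ ∀ l ∈ s, ∀ g : D ⧸ J, f ∣ g →
          Module.Free (Localization.Away g) (Localization.Away g ⊗[D ⧸ J] ((D ⧸ J) ⊗[D] N l)) by
        obtain ⟨f, hf0, hf⟩ := this Finset.univ
        exact ⟨f, hf0, fun l => hf l (Finset.mem_univ l)⟩
      intro s
      induction s using Finset.induction with
      | empty => exact ⟨1, one_ne_zero, by simp⟩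
      | insert a s ha ihs =>
        obtain ⟨f, hf0, hf⟩ := ihs
        let S := MvPolynomial (Fin (n a)) (D ⧸ J)
        let e : (D ⧸ J) ⊗[D] N a ≃ₗ[D ⧸ J] S ⊗[MvPolynomial (Fin (n a)) D] N a :=
          (Algebra.IsPushout.cancelBaseChange D (D ⧸ J) (MvPolynomial (Fin (n a)) D) S (N a)).symm
        obtain ⟨f', hf'0, hdvd, hf'⟩ := exists_free_baseChange S
          (S ⊗[MvPolynomial (Fin (n a)) D] N a) f hf0
        refine ⟨f', hf'0, fun l hl g hg => ?_⟩
        rcases Finset.mem_insert.mp hl with rfl | hl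
        · haveI := hf' g hg
          exact Module.Free.of_equiv (LinearEquiv.baseChange _ (Localization.Away g) _ _ e.symm)
        · exact hf l hl g (hdvd.trans hg)
    obtain ⟨f, rfl⟩ := Ideal.Quotient.mk_surjective f
    have hfJ : f ∉ J := fun h => hf0 (Ideal.Quotient.eq_zero_iff_mem.mpr h)
    refine step (J ⊔ Ideal.span {f}) (lt_of_le_of_ne le_sup_left fun e => hfJ (e ▸
      Ideal.mem_sup_right (Ideal.mem_span_singleton_self f))) fun R _ _ hR hu l => ?_
    have hker : ∀ x ∈ J, algebraMap D R x = 0 := fun x hx =>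
      Ideal.mem_bot.mp (hR ▸ Ideal.mem_map_of_mem _ hx)
    rw [Ideal.map_sup, hR, bot_sup_eq, Ideal.map_span, Set.image_singleton,
      Ideal.span_singleton_eq_top] at hu
    letI : Algebra (D ⧸ J) R := (Ideal.Quotient.lift J (algebraMap D R) hker).toAlgebra
    haveI : IsScalarTower D (D ⧸ J) R := .of_algebraMap_eq fun x => rfl
    have hfu : IsUnit (algebraMap (D ⧸ J) R (Ideal.Quotient.mk J f)) := hu
    let T := Localization.Away (Ideal.Quotient.mk J f)
    letI : Algebra T R := (IsLocalization.Away.lift (Ideal.Quotient.mk J f) hfu).toAlgebra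
    haveI : IsScalarTower (D ⧸ J) T R :=
      .of_algebraMap_eq fun x => (IsLocalization.Away.lift_eq _ hfu x).symm
    haveI : Module.Free T (T ⊗[D ⧸ J] ((D ⧸ J) ⊗[D] N l)) := hf l _ dvd_rfl
    exact Module.Flat.of_linearEquiv
      ((AlgebraTensorModule.cancelBaseChange (D ⧸ J) T R R ((D ⧸ J) ⊗[D] N l)) ≪≫ₗ
        (AlgebraTensorModule.cancelBaseChange D (D ⧸ J) R R (N l))).symm

/-- A finitely presented module over a polynomial algebra comes from a subring containing the
coefficients of a presentation. -/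
theorem exists_coeffs_module {A : Type u} [CommRing A] (n : ℕ) (N : Type u) [AddCommGroup N]
    [Module A N] [Module (MvPolynomial (Fin n) A) N] [IsScalarTower A (MvPolynomial (Fin n) A) N]
    [Module.FinitePresentation (MvPolynomial (Fin n) A) N] :
    ∃ T : Finset A, ∀ D : Subalgebra ℤ A, (T : Set A) ⊆ D →
      ∃ (N₀ : Type u) (_ : AddCommGroup N₀) (_ : Module D N₀) (_ : Module (MvPolynomial (Fin n) D) N₀)
        (_ : IsScalarTower D (MvPolynomial (Fin n) D) N₀)
        (_ : Module.Finite (MvPolynomial (Fin n) D) N₀), Nonempty (N ≃ₗ[A] A ⊗[D] N₀) := by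
  classical
  obtain ⟨r, K, e, S, rfl⟩ := Module.FinitePresentation.exists_fin (MvPolynomial (Fin n) A) N
  refine ⟨(S ×ˢ (Finset.univ : Finset (Fin r))).biUnion fun p => (p.1 p.2).coeffs, fun D hD => ?_⟩
  let P := MvPolynomial (Fin n) A
  let P₀ := MvPolynomial (Fin n) D
  have hlift : ∀ s ∈ S, ∃ s₀ : Fin r → P₀, ∀ i, algebraMap P₀ P (s₀ i) = s i := fun s hs => by
    have h1 : ∀ i, ∃ p : P₀, algebraMap P₀ P p = s i := fun i => by
      refine MvPolynomial.mem_range_map_iff_coeffs_subset.2 fun a ha => ?_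
      exact ⟨⟨a, hD (Finset.mem_coe.2 (Finset.mem_biUnion.2 ⟨(s, i), by simp [hs], ha⟩))⟩, rfl⟩
    exact ⟨fun i => (h1 i).choose, fun i => (h1 i).choose_spec⟩
  choose s₀ hs₀ using hlift
  let ρ : (Fin r → P₀) →ₗ[P₀] (Fin r → P) := (Algebra.linearMap P₀ P).compLeft (Fin r)
  let K₀ : Submodule P₀ (Fin r → P₀) := Submodule.span P₀ (Set.range fun s : S => s₀ s.1 s.2)
  let K : Submodule P (Fin r → P) := Submodule.span P (S : Set (Fin r → P))
  refine ⟨(Fin r → P₀) ⧸ K₀, inferInstance, inferInstance, inferInstance, inferInstance, inferInstance, ?_⟩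
  let v : Fin r → P ⊗[P₀] ((Fin r → P₀) ⧸ K₀) := fun i => 1 ⊗ₜ K₀.mkQ (Pi.single i 1)
  let Φ : (Fin r → P) →ₗ[P] P ⊗[P₀] ((Fin r → P₀) ⧸ K₀) := (Pi.basisFun P (Fin r)).constr P v
  have hΦ : ∀ x : Fin r → P₀, Φ (ρ x) = 1 ⊗ₜ K₀.mkQ x := by
    have : (Φ.restrictScalars P₀) ∘ₗ ρ = (TensorProduct.mk P₀ P _ 1) ∘ₗ K₀.mkQ := by
      refine (Pi.basisFun P₀ (Fin r)).ext fun i => ?_
      have : ρ (Pi.single i 1) = Pi.single i 1 := by
        ext j
        rcases eq_or_ne j i with rfl | h
        · simp [ρ]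
        · simp [ρ, h]
      rw [Pi.basisFun_apply]
      simp only [LinearMap.comp_apply, LinearMap.coe_restrictScalars, this]
      rw [← Pi.basisFun_apply P (Fin r) i, Module.Basis.constr_basis]
      rfl
    exact fun x => congr($this x)
  have hK : K ≤ LinearMap.ker Φ := Submodule.span_le.2 fun s hs => by
    have h2 : ρ (s₀ s hs) = s := funext fun i => hs₀ s hs i
    rw [SetLike.mem_coe, LinearMap.mem_ker, ← h2, hΦ,
      show K₀.mkQ (s₀ s hs) = 0 from (Submodule.Quotient.mk_eq_zero _).2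
        (Submodule.subset_span ⟨⟨s, hs⟩, rfl⟩), tmul_zero]
  have hK₀ : K₀ ≤ LinearMap.ker ((K.mkQ.restrictScalars P₀) ∘ₗ ρ) := Submodule.span_le.2 fun s hs => by
    obtain ⟨⟨s, hs⟩, rfl⟩ := hs
    have h2 : ρ (s₀ s hs) = s := funext fun i => hs₀ s hs i
    simp only [SetLike.mem_coe, LinearMap.mem_ker, LinearMap.comp_apply, h2]
    exact (Submodule.Quotient.mk_eq_zero _).2 (Submodule.subset_span hs)
  let Ψ : P ⊗[P₀] ((Fin r → P₀) ⧸ K₀) →ₗ[P] (Fin r → P) ⧸ K :=
    LinearMap.liftBaseChange P (K₀.liftQ _ hK₀)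
  have hρ1 : ∀ i, ρ (Pi.single i 1) = Pi.single i 1 := fun i => by
    ext j
    rcases eq_or_ne j i with rfl | h
    · simp [ρ]
    · simp [ρ, h]
  let e₁ : ((Fin r → P) ⧸ K) ≃ₗ[P] P ⊗[P₀] ((Fin r → P₀) ⧸ K₀) :=
    LinearEquiv.ofLinearMap (K.liftQ Φ hK) Ψ (by
      refine TensorProduct.AlgebraTensorModule.curry_injective (LinearMap.ext_ring
        (Submodule.linearMap_qext _ (LinearMap.ext fun x => ?_)))
      simp [Ψ, hΦ]) (by
      refine Submodule.linearMap_qext _ ((Pi.basisFun P (Fin r)).ext fun i => ?_)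
      simp only [LinearMap.comp_apply, Submodule.mkQ_apply, Submodule.liftQ_apply, LinearMap.id_comp,
        LinearMap.id_coe, id_eq, Φ, Module.Basis.constr_basis, v, Ψ, LinearMap.liftBaseChange_tmul, one_smul]
      rw [hρ1, Pi.basisFun_apply]
      rfl)
  exact ⟨(e.restrictScalars A) ≪≫ₗ (e₁.restrictScalars A) ≪≫ₗ
    Algebra.IsPushout.cancelBaseChange D A P₀ P _⟩

/-- Finitely many finitely presented modules over finitely presented algebras become flat along the
steps of a finite chain of finitely generated ideals of the base. -/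
theorem exists_flatChain {A : Type u} [CommRing A] {ι : Type*} [Finite ι] (B : ι → Type u)
    [∀ l, CommRing (B l)] [∀ l, Algebra A (B l)] [∀ l, Algebra.FinitePresentation A (B l)]
    (N : ι → Type u) [∀ l, AddCommGroup (N l)] [∀ l, Module A (N l)] [∀ l, Module (B l) (N l)]
    [∀ l, IsScalarTower A (B l) (N l)] [∀ l, Module.FinitePresentation (B l) (N l)] :
    ∃ (m : ℕ) (c : ℕ → Ideal A), c 0 = ⊥ ∧ c m = ⊤ ∧ Monotone c ∧ (∀ k, (c k).FG) ∧
      ∀ k < m, ∀ (R : Type u) [CommRing R] [Algebra A R], (c k).map (algebraMap A R) = ⊥ →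
        Ideal.map (algebraMap A R) (c (k + 1)) = ⊤ → ∀ l, Module.Flat R (R ⊗[A] N l) := by
  classical
  choose n π hπ hker using fun l => Algebra.FinitePresentation.out (R := A) (A := B l)
  letI algP : ∀ l, Algebra (MvPolynomial (Fin (n l)) A) (B l) := fun l => (π l).toRingHom.toAlgebra
  letI modP : ∀ l, Module (MvPolynomial (Fin (n l)) A) (N l) := fun l =>
    Module.compHom (N l) (π l).toRingHom
  haveI : ∀ l, IsScalarTower (MvPolynomial (Fin (n l)) A) (B l) (N l) := fun l =>
    .of_algebraMap_smul fun _ _ => rfl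
  haveI : ∀ l, IsScalarTower A (MvPolynomial (Fin (n l)) A) (N l) := fun l =>
    .of_algebraMap_smul fun a x => by
      change (π l) (algebraMap A (MvPolynomial (Fin (n l)) A) a) • x = a • x
      rw [AlgHom.commutes, algebraMap_smul]
  haveI : ∀ l, Module.FinitePresentation (MvPolynomial (Fin (n l)) A) (N l) := fun l => by
    haveI : Module.FinitePresentation (MvPolynomial (Fin (n l)) A) (B l) :=
      Module.finitePresentation_of_surjective
        (Algebra.linearMap (MvPolynomial (Fin (n l)) A) (B l)) (hπ l) (hker l)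
    exact Module.FinitePresentation.trans (MvPolynomial (Fin (n l)) A) (N l) (B l)
  choose T hT using fun l => exists_coeffs_module (A := A) (n l) (N l)
  haveI := Fintype.ofFinite ι
  let D : Subalgebra ℤ A := Algebra.adjoin ℤ ((Finset.univ.biUnion T : Finset A) : Set A)
  haveI : IsNoetherianRing D := by
    have : Algebra.FiniteType ℤ D := D.fg_iff_finiteType.1 (Subalgebra.fg_adjoin_finset _)
    exact Algebra.FiniteType.isNoetherianRing ℤ D
  choose N₀ i₁ i₂ i₃ i₄ i₅ e using fun l => hT l D fun a ha => Algebra.subset_adjoin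
    (Finset.mem_coe.2 (Finset.mem_biUnion.2 ⟨l, Finset.mem_univ l, ha⟩))
  obtain ⟨m, c, h0, hm, hmono, hc⟩ := exists_chain_of_noetherian n N₀ (⊥ : Ideal D)
  refine ⟨m, fun k => (c k).map (algebraMap D A), by simp [h0], by simp [hm, Ideal.map_top],
    fun a b hab => Ideal.map_mono (hmono hab), fun k => Ideal.FG.map (IsNoetherian.noetherian (c k)) _,
    fun k hk R _ _ hR hu l => ?_⟩
  rw [Ideal.map_map, ← IsScalarTower.algebraMap_eq D A R] at hR hu
  haveI := hc k hk R hR hu l
  exact Module.Flat.of_linearEquiv ((LinearEquiv.baseChange A R _ _ (e l).some) ≪≫ₗ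
    AlgebraTensorModule.cancelBaseChange D A R R (N₀ l))

end Groth.Agent.H7Flat
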