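import Groth.Agent.H7Flat.HenselFibreInj
import Groth.Agent.H7Flat.UnivInjFibres
import Groth.Agent.H7Flat.HenselianFlatSpec
import Mathlib.LinearAlgebra.Charpoly.Basic

/-!
Maps from free modules over henselizations of polynomial rings into flat modules: universal
injectivity, and generic bases.
-/

set_option autoImplicit false
universe u

namespace Groth.Agent.H7Flat.FlatUnivInjHens

open TensorProduct IsLocalRing MvPolynomial GaussValuation
open FlatMor

attribute [local instance] Algebra.TensorProduct.rightAlgebra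
attribute [local instance] MvPolynomial.algebraMvPolynomial

set_option backward.isDefEq.respectTransparency false
set_option maxHeartbeats 1000000
set_option synthInstance.maxHeartbeats 400000

/-- Elements dying in the fibre at a prime. -/
theorem exists_notMem_smul_mem {R M : Type u} [CommRing R] [AddCommGroup M] [Module R M] (p : Ideal R)
    [p.IsPrime] (x : M) (hx : (1 : p.ResidueField) ⊗ₜ[R] x = 0) :
    ∃ t ∉ p, t • x ∈ p • (⊤ : Submodule R M) := by
  let Rb := R ⧸ p
  let F := p.ResidueField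
  let N := Rb ⊗[R] M
  have h3 : TensorProduct.mk Rb F N 1 ((1 : Rb) ⊗ₜ[R] x) = 0 := by
    apply (AlgebraTensorModule.cancelBaseChange R Rb F F M).injective
    rw [map_zero, TensorProduct.mk_apply, AlgebraTensorModule.cancelBaseChange_tmul, one_smul, hx]
  have : IsLocalizedModule (nonZeroDivisors Rb) (TensorProduct.mk Rb F N 1) :=
    (isLocalizedModule_iff_isBaseChange (nonZeroDivisors Rb) F _).mpr
      (TensorProduct.isBaseChange Rb N F)
  obtain ⟨⟨t, ht⟩, htz⟩ := (IsLocalizedModule.eq_zero_iff (nonZeroDivisors Rb)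
    (TensorProduct.mk Rb F N 1)).mp h3
  obtain ⟨t', rfl⟩ := Ideal.Quotient.mk_surjective t
  refine ⟨t', fun h => nonZeroDivisors.ne_zero ht (Ideal.Quotient.eq_zero_iff_mem.mpr h), ?_⟩
  rw [← Submodule.Quotient.mk_eq_zero]
  have h5 := congrArg (TensorProduct.quotTensorEquivQuotSMul M p) htz
  rw [map_zero] at h5
  refine Eq.trans ?_ h5
  rw [Submonoid.smul_def]
  change _ = TensorProduct.quotTensorEquivQuotSMul M p ((Ideal.Quotient.mk p t' * 1) ⊗ₜ[R] x)
  rw [mul_one]
  exact (TensorProduct.quotTensorEquivQuotSMul_mk_tmul p t' _).symm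

/-- Fibres of tensor products are spanned up to units by elements from the module. -/
theorem exists_tmul_one {R N : Type u} [CommRing R] [AddCommGroup N] [Module R N] (p : Ideal R)
    [p.IsPrime] (x : p.ResidueField ⊗[R] N) :
    ∃ s ∉ p, ∃ n : N, s • x = (1 : p.ResidueField) ⊗ₜ[R] n := by
  induction x using TensorProduct.induction_on with
  | zero => exact ⟨1, fun h => (Ideal.IsPrime.ne_top ‹_›) ((Ideal.eq_top_iff_one _).mpr h), 0, by simp⟩
  | tmul k n =>
    obtain ⟨a, ⟨s, hs⟩, rfl⟩ := IsLocalization.exists_mk'_eq (nonZeroDivisors (R ⧸ p)) k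
    obtain ⟨a', rfl⟩ := Ideal.Quotient.mk_surjective a
    obtain ⟨s', rfl⟩ := Ideal.Quotient.mk_surjective s
    refine ⟨s', fun h => nonZeroDivisors.ne_zero hs (Ideal.Quotient.eq_zero_iff_mem.mpr h),
      a' • n, ?_⟩
    rw [TensorProduct.smul_tmul', TensorProduct.tmul_smul, TensorProduct.smul_tmul']
    congr 1
    rw [← algebraMap_smul (R ⧸ p) s', ← algebraMap_smul (R ⧸ p) a', Algebra.smul_def, Algebra.smul_def,
      mul_one]
    exact IsLocalization.mk'_spec' _ _ (⟨_, hs⟩ : nonZeroDivisors (R ⧸ p))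
  | add a b ha hb =>
    obtain ⟨s, hs, n, hn⟩ := ha
    obtain ⟨t, ht, m, hm⟩ := hb
    refine ⟨s * t, fun h => (Ideal.IsPrime.mem_or_mem ‹_› h).elim hs ht, t • n + s • m, ?_⟩
    rw [smul_add, mul_smul, mul_smul, hm, smul_comm, hn, TensorProduct.tmul_add, TensorProduct.tmul_smul,
      TensorProduct.tmul_smul]

/-- A map from a free module over the henselization of a polynomial ring into a flat module which is
injective on the closed fibre is universally injective. -/
theorem univInj {R : Type u} [CommRing R] [HenselianLocalRing R] {n : ℕ}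
    (y : Ideal (MvPolynomial (Fin n) R)) [y.IsPrime] (hy : y.comap C = maximalIdeal R)
    (L : Type u) [CommRing L] [IsLocalRing L] [Algebra (Localization.AtPrime y) L]
    [IsLocalHom (algebraMap (Localization.AtPrime y) L)]
    [Hensel.IsHenselization (Localization.AtPrime y) L]
    [Algebra (MvPolynomial (Fin n) R) L]
    [IsScalarTower (MvPolynomial (Fin n) R) (Localization.AtPrime y) L]
    [Algebra R L] [IsScalarTower R (MvPolynomial (Fin n) R) L]
    {M : Type u} [AddCommGroup M] [Module L M] [Module R M] [IsScalarTower R L M] [Module.Flat R M]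
    {r : ℕ} (e : Fin r → M)
    (hind : ∀ z : Fin r → L,
      ∑ i, z i • e i ∈ (maximalIdeal R).map (algebraMap R L) • (⊤ : Submodule L M) →
        ∀ i, z i ∈ (maximalIdeal R).map (algebraMap R L))
    (Q : Type u) [AddCommGroup Q] [Module R Q] :
    Function.Injective (((Fintype.linearCombination L e).restrictScalars R).lTensor Q) := by
  classical
  rw [injective_iff_map_eq_zero]
  intro x hx
  let Pl := MvPolynomial (Fin n) R
  obtain ⟨S, hS⟩ := TensorProduct.exists_finset x
  obtain ⟨G, _, _, ψ, hψs, hnhd⟩ := EtaleNbhdHensel.exists_etaleNhd_hitting y L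
    ((S ×ˢ (Finset.univ : Finset (Fin r))).image fun q => q.1.2 q.2)
  have : Algebra.Etale Pl G := hnhd.1
  let : Algebra G L := ψ.toRingHom.toAlgebra
  have : IsScalarTower Pl G L := IsScalarTower.of_algebraMap_eq fun f => (ψ.commutes f).symm
  let : Algebra R G := ((algebraMap Pl G).comp (algebraMap R Pl)).toAlgebra
  have : IsScalarTower R Pl G := IsScalarTower.of_algebraMap_eq fun _ => rfl
  have : IsScalarTower R G L := IsScalarTower.of_algebraMap_eq fun a => by
    change _ = ψ (algebraMap Pl G (algebraMap R Pl a))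
    rw [ψ.commutes, ← IsScalarTower.algebraMap_apply]
  have : Algebra.FinitePresentation R G := Algebra.FinitePresentation.trans R Pl G
  let 𝔮 : Ideal G := (maximalIdeal L).comap ψ.toRingHom
  have : 𝔮.IsPrime := Ideal.comap_isPrime _ _
  let Gq := Localization.AtPrime 𝔮
  let χ : Gq →+* L := IsLocalization.lift (M := 𝔮.primeCompl) (g := ψ.toRingHom) fun v =>
    IsLocalRing.notMem_maximalIdeal.mp v.2
  let : Algebra Gq L := χ.toAlgebra
  have : IsScalarTower G Gq L :=
    IsScalarTower.of_algebraMap_eq fun g => (IsLocalization.lift_eq _ g).symm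
  have : IsScalarTower R Gq L := IsScalarTower.of_algebraMap_eq fun a => by
    rw [IsScalarTower.algebraMap_apply R G Gq, ← IsScalarTower.algebraMap_apply G Gq L,
      ← IsScalarTower.algebraMap_apply R G L]
  have hflatGL : Module.Flat G L := HenselClosedFibre.flat_stage y L G
  have hflatqL : Module.Flat Gq L := (Module.flat_iff_of_isLocalization Gq 𝔮.primeCompl L).mpr hflatGL
  have : Module.Flat R G := Module.Flat.trans R Pl G
  have : Module.Flat G Gq := IsLocalization.flat Gq 𝔮.primeCompl
  have : Module.Flat R Gq := Module.Flat.trans R G Gq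
  let N := Fin r → Gq
  have : Module.Flat R N := Module.Flat.of_linearEquiv
    (DFinsupp.linearEquivFunOnFintype (R := R) (M := fun _ : Fin r => Gq)).symm
  let ι : N →ₗ[R] (Fin r → L) := (IsScalarTower.toAlgHom R Gq L).toLinearMap.compLeft (Fin r)
  let u : N →ₗ[R] M := ((Fintype.linearCombination L e).restrictScalars R).comp ι
  have hfib : ∀ (p : Ideal R) [p.IsPrime], Function.Injective (u.lTensor p.ResidueField) := by
    intro p _
    rw [injective_iff_map_eq_zero]
    intro w hw
    obtain ⟨s, hs, v, hv⟩ := exists_tmul_one p w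
    have h1 : (1 : p.ResidueField) ⊗ₜ[R] u v = 0 := by
      rw [← LinearMap.lTensor_tmul, ← hv, map_smul, hw, smul_zero]
    obtain ⟨t, ht, htu⟩ := exists_notMem_smul_mem p (u v) h1
    have h2 : ∑ i, algebraMap Gq L ((t • v) i) • e i ∈ p • (⊤ : Submodule R M) := by
      rw [← map_smul] at htu
      exact htu
    have h3 := HenselFibreInj.mem_map_of_sum_mem p y hy L e hind _ h2
    have h4 : ∀ i, (t • v) i ∈ p.map (algebraMap R Gq) := fun i => by
      have h5 : algebraMap Gq L ((t • v) i) ∈ (p.map (algebraMap R Gq)).map (algebraMap Gq L) := by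
        rw [Ideal.map_map, ← IsScalarTower.algebraMap_eq]
        exact h3 i
      obtain ⟨g, hg, hgv⟩ := HenselClosedFibre.exists_notMem_mul_mem _ _ h5 (maximalIdeal Gq) (fun h => by
        refine (maximalIdeal.isMaximal L).ne_top (top_le_iff.mp (h.ge.trans ?_))
        rw [← IsLocalization.AtPrime.map_eq_maximalIdeal 𝔮 Gq, Ideal.map_map,
          ← IsScalarTower.algebraMap_eq]
        exact Ideal.map_comap_le)
      exact (Ideal.unit_mul_mem_iff_mem _ (IsLocalRing.notMem_maximalIdeal.mp hg)).mp hgv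
    have h6 : (1 : p.ResidueField) ⊗ₜ[R] (t • v) = 0 := by
      have hmem : t • v ∈ p • (⊤ : Submodule R N) := by
        rw [pi_eq_sum_univ' (t • v)]
        refine Submodule.sum_mem _ fun i _ => ?_
        have h7 : (t • v) i ∈ p • (⊤ : Submodule R Gq) := by rw [Ideal.smul_top_eq_map]; exact h4 i
        refine Submodule.smul_induction_on h7 (fun a ha m _ => ?_) fun a c ha hc => ?_
        · rw [smul_assoc]
          exact Submodule.smul_mem_smul ha Submodule.mem_top
        · rw [add_smul]
          exact add_mem ha hc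
      refine Submodule.smul_induction_on hmem (fun a ha m _ => ?_) fun a c ha hc => ?_
      · rw [TensorProduct.tmul_smul, TensorProduct.smul_tmul', Algebra.smul_def,
          Ideal.algebraMap_residueField_eq_zero.mpr ha, zero_mul, TensorProduct.zero_tmul]
      · rw [TensorProduct.tmul_add, ha, hc, add_zero]
    rw [TensorProduct.tmul_smul, ← hv, smul_smul, ← algebraMap_smul p.ResidueField] at h6
    exact (smul_eq_zero.mp h6).resolve_left fun h =>
      (fun h' => (Ideal.IsPrime.mem_or_mem ‹p.IsPrime› h').elim ht hs)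
        (Ideal.algebraMap_residueField_eq_zero.mp h)
  have hinj := UnivInjFibres.univInj_of_fibres (B := G) (L := Gq) 𝔮.primeCompl N M u hfib Q
  have key : ∀ q ∈ S, ∃ v : N, ι v = q.2 := fun q hq => by
    choose g hg using fun i : Fin r => hψs (q.2 i) (Finset.mem_image_of_mem _
      (Finset.mk_mem_product hq (Finset.mem_univ i)) : _)
    refine ⟨fun i => algebraMap G Gq (g i), funext fun i => ?_⟩
    change algebraMap Gq L (algebraMap G Gq (g i)) = q.2 i
    rw [← IsScalarTower.algebraMap_apply]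
    exact hg i
  choose! v hv using key
  have hx' : ι.lTensor Q (∑ q ∈ S, q.1 ⊗ₜ[R] v q) = x := by
    rw [map_sum, hS]
    exact Finset.sum_congr rfl fun q hq => by rw [LinearMap.lTensor_tmul, hv q hq]
  rw [← hx', ← LinearMap.comp_apply, ← LinearMap.lTensor_comp] at hx
  rw [← hx', show (∑ q ∈ S, q.1 ⊗ₜ[R] v q) = 0 from hinj (hx.trans (map_zero _).symm), map_zero]

/-- Elements forming a basis of the fibre at a prime. -/
theorem exists_fibre_basis {L G : Type u} [CommRing L] [AddCommGroup G] [Module L G] [Module.Finite L G]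
    (𝔭 : Ideal L) [𝔭.IsPrime] :
    ∃ (r : ℕ) (e : Fin r → G),
      (∀ z : Fin r → L, ∑ i, z i • e i ∈ 𝔭 • (⊤ : Submodule L G) → ∀ i, z i ∈ 𝔭) ∧
      ∀ g : G, ∃ c ∉ 𝔭, c • g ∈ Submodule.span L (Set.range e) ⊔ 𝔭 • ⊤ := by
  classical
  let F := 𝔭.ResidueField
  obtain ⟨k, gen, hgen⟩ := Module.Finite.exists_fin (R := L) (M := G)
  obtain ⟨κ, a, ha, hspan, hli⟩ :=
    exists_linearIndependent' F (fun i : Fin k => (1 : F) ⊗ₜ[L] gen i)
  have : Finite κ := Finite.of_injective a ha
  obtain ⟨r, ⟨σ⟩⟩ := Finite.exists_equiv_fin κ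
  let e : Fin r → G := fun i => gen (a (σ.symm i))
  refine ⟨r, e, fun z hz i => ?_, fun g => ?_⟩
  · have h1 : ∑ i, algebraMap L F (z i) • ((1 : F) ⊗ₜ[L] e i) = 0 := by
      have h2 : (1 : F) ⊗ₜ[L] (∑ i, z i • e i) = 0 := by
        refine Submodule.smul_induction_on hz (fun b hb m _ => ?_) fun b c hb hc => ?_
        · rw [TensorProduct.tmul_smul, TensorProduct.smul_tmul', Algebra.smul_def,
            Ideal.algebraMap_residueField_eq_zero.mpr hb, zero_mul, TensorProduct.zero_tmul]
        · rw [TensorProduct.tmul_add, hb, hc, add_zero]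
      rw [TensorProduct.tmul_sum] at h2
      rw [← h2]
      exact Finset.sum_congr rfl fun i _ => by rw [algebraMap_smul, TensorProduct.tmul_smul]
    have h3 := Fintype.linearIndependent_iff.mp (hli.comp σ.symm σ.symm.injective)
      (fun i => algebraMap L F (z i)) h1 i
    exact Ideal.algebraMap_residueField_eq_zero.mp h3
  · have h1 : ∀ v ∈ Submodule.span F (Set.range fun i => (1 : F) ⊗ₜ[L] e i),
        ∃ c ∉ 𝔭, ∃ w ∈ Submodule.span L (Set.range e), c • v = (1 : F) ⊗ₜ[L] w := by
      intro v hv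
      obtain ⟨f, rfl⟩ := (Submodule.mem_span_range_iff_exists_fun F).mp hv
      obtain ⟨⟨s, hs⟩, hsf⟩ :=
        IsLocalization.exist_integer_multiples_of_finite (nonZeroDivisors (L ⧸ 𝔭)) f
      choose b hb using hsf
      choose b' hb' using fun i => Ideal.Quotient.mk_surjective (b i)
      obtain ⟨s', rfl⟩ := Ideal.Quotient.mk_surjective s
      refine ⟨s', fun h => nonZeroDivisors.ne_zero hs (Ideal.Quotient.eq_zero_iff_mem.mpr h),
        ∑ i, b' i • e i, Submodule.sum_mem _ fun i _ =>
          Submodule.smul_mem _ _ (Submodule.subset_span ⟨i, rfl⟩), ?_⟩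
      rw [Finset.smul_sum, TensorProduct.tmul_sum]
      refine Finset.sum_congr rfl fun i _ => ?_
      rw [← smul_assoc, TensorProduct.tmul_smul, ← algebraMap_smul F (b' i),
        IsScalarTower.algebraMap_apply L (L ⧸ 𝔭) F, Ideal.Quotient.algebraMap_eq, hb', hb,
        ← algebraMap_smul (L ⧸ 𝔭) s' (f i)]
      rfl
    have hrange : Set.range (fun i => (1 : F) ⊗ₜ[L] e i) =
        Set.range ((fun i : Fin k => (1 : F) ⊗ₜ[L] gen i) ∘ a) := by
      ext v
      exact ⟨fun ⟨i, hi⟩ => ⟨σ.symm i, hi⟩, fun ⟨j, hj⟩ => ⟨σ j, by simpa [e] using hj⟩⟩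
    have hmem : (1 : F) ⊗ₜ[L] g ∈ Submodule.span F (Set.range fun i => (1 : F) ⊗ₜ[L] e i) := by
      rw [hrange, hspan]
      obtain ⟨c, rfl⟩ := (Submodule.mem_span_range_iff_exists_fun L).mp (hgen ▸ Submodule.mem_top (x := g))
      rw [TensorProduct.tmul_sum]
      refine Submodule.sum_mem _ fun i _ => ?_
      rw [TensorProduct.tmul_smul, ← algebraMap_smul F]
      exact Submodule.smul_mem _ _ (Submodule.subset_span ⟨i, rfl⟩)
    obtain ⟨c, hc, w, hw, hcw⟩ := h1 _ hmem
    obtain ⟨t, ht, htm⟩ := exists_notMem_smul_mem 𝔭 (c • g - w) (by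
      rw [TensorProduct.tmul_sub, TensorProduct.tmul_smul, hcw, sub_self])
    refine ⟨t * c, fun h => (Ideal.IsPrime.mem_or_mem ‹_› h).elim ht hc, ?_⟩
    refine Submodule.mem_sup.mpr ⟨t • w, Submodule.smul_mem _ t hw, t • (c • g - w), htm, ?_⟩
    rw [smul_sub, mul_smul, add_sub_cancel]

/-- A finite module which vanishes modulo a prime up to elements outside it is killed by one. -/
theorem exists_notMem_annihilator {L G : Type u} [CommRing L] [AddCommGroup G] [Module L G]
    [Module.Finite L G] (𝔭 : Ideal L) [h𝔭 : 𝔭.IsPrime]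
    (h : ∀ g : G, ∃ c ∉ 𝔭, c • g ∈ 𝔭 • (⊤ : Submodule L G)) : ∃ c ∉ 𝔭, ∀ g : G, c • g = 0 := by
  classical
  obtain ⟨k, gen, hgen⟩ := Module.Finite.exists_fin (R := L) (M := G)
  choose c hc hcg using fun i => h (gen i)
  let C₀ := ∏ i, c i
  have hC₀ : C₀ ∉ 𝔭 := fun hh => by
    obtain ⟨i, -, hi⟩ := Ideal.IsPrime.prod_mem_iff.mp hh
    exact hc i hi
  have hrange : LinearMap.range (LinearMap.lsmul L G C₀) ≤ 𝔭 • ⊤ := by
    rintro _ ⟨g, rfl⟩
    obtain ⟨f, rfl⟩ := (Submodule.mem_span_range_iff_exists_fun L).mp (hgen ▸ Submodule.mem_top (x := g))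
    rw [map_sum]
    refine Submodule.sum_mem _ fun i _ => ?_
    rw [map_smul]
    refine Submodule.smul_mem _ _ ?_
    change C₀ • gen i ∈ _
    rw [show C₀ = (∏ j ∈ Finset.univ.erase i, c j) * c i from
      (Finset.prod_erase_mul _ _ (Finset.mem_univ i)).symm, mul_smul]
    exact Submodule.smul_mem _ _ (hcg i)
  obtain ⟨P, hPm, -, hPc, hP0⟩ :=
    LinearMap.exists_monic_and_natDegree_eq_and_coeff_mem_pow_and_aeval_eq_zero L
      (LinearMap.lsmul L G C₀) 𝔭 hrange
  refine ⟨Polynomial.aeval C₀ P, fun hh => hC₀ ?_, fun g => ?_⟩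
  · rw [Polynomial.aeval_eq_sum_range, Finset.sum_range_succ] at hh
    have h1 : ∑ j ∈ Finset.range P.natDegree, P.coeff j • C₀ ^ j ∈ 𝔭 := Ideal.sum_mem _ fun j hj => by
      rw [smul_eq_mul]
      exact Ideal.mul_mem_right _ _ (Ideal.pow_le_self (by
        have := Finset.mem_range.mp hj
        omega) (hPc j))
    have h2 := (Ideal.add_mem_iff_right _ h1).mp hh
    rw [hPm.coeff_natDegree, one_smul] at h2
    exact h𝔭.mem_of_pow_mem _ h2
  · have h1 := LinearMap.congr_fun hP0 g
    rw [show LinearMap.lsmul L G C₀ = algebraMap L (Module.End L G) C₀ from rfl,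
      Polynomial.aeval_algebraMap_apply] at h1
    exact h1

end Groth.Agent.H7Flat.FlatUnivInjHens
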