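import Groth.Agent.H9Hens.PtValuation
import Groth.Agent.H9Hens.LocalHens
import Mathlib.RingTheory.Polynomial.Quotient

/-!
Polynomial rings localised at the closed fibre: prime, and over a valuation ring every element is a
unit times a scalar, also in the henselization.
-/

set_option autoImplicit false
universe u

namespace Groth.Agent.H7Flat.GaussValuation

open IsLocalRing MvPolynomial

set_option maxHeartbeats 1000000

/-- The extension of a prime to a polynomial ring is prime. -/
instance isPrime_map_C {R : Type u} [CommRing R] {n : ℕ} (I : Ideal R) [I.IsPrime] :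
    (I.map (C : R →+* MvPolynomial (Fin n) R)).IsPrime := by
  have : IsDomain (MvPolynomial (Fin n) R ⧸ I.map (C : R →+* MvPolynomial (Fin n) R)) :=
    (MvPolynomial.quotientEquivQuotientMvPolynomial I).symm.toMulEquiv.isDomain
  exact (Ideal.Quotient.isDomain_iff_prime _).mp this

variable {V : Type u} [CommRing V] [IsDomain V] [ValuationRing V] {n : ℕ}

/-- Over a valuation ring every element of the localisation at the closed fibre is a unit times a
scalar. -/
theorem exists_eq_unit_mul
    (a : Localization.AtPrime ((maximalIdeal V).map (C : V →+* MvPolynomial (Fin n) V))) :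
    ∃ (γ : V) (u : (Localization.AtPrime
        ((maximalIdeal V).map (C : V →+* MvPolynomial (Fin n) V)))ˣ),
      a = u * algebraMap V _ γ := by
  classical
  let M := (maximalIdeal V).map (C : V →+* MvPolynomial (Fin n) V)
  let L := Localization.AtPrime M
  obtain ⟨f, t, ha⟩ := IsLocalization.exists_mk'_eq M.primeCompl a
  rw [← ha]
  by_cases hf : f = 0
  · exact ⟨0, 1, by simp [hf]⟩
  obtain ⟨d₀, hd₀, hdvd⟩ := H9Hens.exists_forall_dvd_of_nonempty (fun d => f.coeff d) f.support
    (MvPolynomial.support_nonempty.mpr hf)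
  let γ := f.coeff d₀
  obtain ⟨f₀, hf₀⟩ : C γ ∣ f := (C_dvd_iff_dvd_coeff γ f).mpr fun d => by
    by_cases hd : d ∈ f.support
    · exact hdvd d hd
    · rw [notMem_support_iff.mp hd]
      exact dvd_zero _
  have hγ : γ ≠ 0 := mem_support_iff.mp hd₀
  have hf₀M : f₀ ∉ M := by
    intro h
    have h1 : f₀.coeff d₀ = 1 := by
      have h2 := congrArg (fun g => MvPolynomial.coeff d₀ g) hf₀
      simp only [coeff_C_mul] at h2
      exact (mul_left_cancel₀ hγ ((mul_one γ).trans h2)).symm
    have h3 := (MvPolynomial.mem_map_C_iff.mp h) d₀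
    rw [h1] at h3
    exact (maximalIdeal.isMaximal V).ne_top ((Ideal.eq_top_iff_one _).mpr h3)
  have hu : IsUnit (IsLocalization.mk' L f₀ t) :=
    (IsLocalization.AtPrime.isUnit_mk'_iff L M f₀ t).mpr hf₀M
  refine ⟨γ, hu.unit, ?_⟩
  rw [IsUnit.unit_spec, IsScalarTower.algebraMap_apply V (MvPolynomial (Fin n) V) L,
    MvPolynomial.algebraMap_eq, mul_comm, IsLocalization.mul_mk'_eq_mk'_of_mul, ← hf₀]

/-- The localisation at the closed fibre is a valuation ring. -/
theorem valuationRing
    [IsDomain (Localization.AtPrime ((maximalIdeal V).map (C : V →+* MvPolynomial (Fin n) V)))] :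
    ValuationRing (Localization.AtPrime ((maximalIdeal V).map (C : V →+* MvPolynomial (Fin n) V))) := by
  refine ValuationRing.iff_dvd_total.mpr ⟨fun a b => ?_⟩
  obtain ⟨γ, u, rfl⟩ := exists_eq_unit_mul a
  obtain ⟨δ, v, rfl⟩ := exists_eq_unit_mul b
  rcases ValuationRing.dvd_total γ δ with ⟨c, rfl⟩ | ⟨c, rfl⟩
  · left
    rw [map_mul, Units.mul_left_dvd, Units.dvd_mul_left]
    exact dvd_mul_right _ _
  · right
    rw [map_mul, Units.mul_left_dvd, Units.dvd_mul_left]
    exact dvd_mul_right _ _

/-- The same in a henselization. -/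
theorem exists_eq_unit_mul_hens
    (H : Type u) [CommRing H] [IsLocalRing H]
    [Algebra (Localization.AtPrime ((maximalIdeal V).map (C : V →+* MvPolynomial (Fin n) V))) H]
    [IsLocalHom (algebraMap
      (Localization.AtPrime ((maximalIdeal V).map (C : V →+* MvPolynomial (Fin n) V))) H)]
    [Hensel.IsHenselization
      (Localization.AtPrime ((maximalIdeal V).map (C : V →+* MvPolynomial (Fin n) V))) H]
    [Algebra V H]
    [IsScalarTower V (Localization.AtPrime ((maximalIdeal V).map (C : V →+* MvPolynomial (Fin n) V))) H]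
    (x : H) : ∃ (γ : V) (u : Hˣ), x = u * algebraMap V H γ := by
  let L := Localization.AtPrime ((maximalIdeal V).map (C : V →+* MvPolynomial (Fin n) V))
  have : IsDomain L := IsLocalization.isDomain_localization
    (Ideal.primeCompl_le_nonZeroDivisors _)
  have := valuationRing (V := V) (n := n)
  obtain ⟨π, hπ⟩ := H9Hens.exists_isPtColim_of_isHenselization (R := L) H
  obtain ⟨a, w, rfl⟩ := hπ.exists_eq_unit_mul_algebraMap x
  obtain ⟨γ, u, rfl⟩ := exists_eq_unit_mul a
  exact ⟨γ, w * Units.map (algebraMap L H).toMonoidHom u, by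
    rw [map_mul, ← mul_assoc, ← IsScalarTower.algebraMap_apply]
    rfl⟩

end Groth.Agent.H7Flat.GaussValuation
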