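import Groth.Agent.H7Flat.GenericFreeness
import Groth.Agent.H7Flat.GenericFlatness
import Mathlib.RingTheory.Spectrum.Prime.Topology
import Mathlib.RingTheory.LocalRing.ResidueField.Ideal
import Mathlib.RingTheory.Ideal.MinimalPrime.Localization
import Mathlib.RingTheory.Jacobson.Ring

/-!
# Fibres near the generic point: the algebra
-/

set_option autoImplicit false
set_option backward.isDefEq.respectTransparency false
set_option linter.style.haveILetI false

universe u

open TensorProduct

namespace Groth.Agent.H7Flat.GenericFibre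

variable {R A : Type u} [CommRing R] [CommRing A] [Algebra R A]

theorem awayTmul_eq_zero_iff {f : R} {M : Type u} [AddCommGroup M] [Module R M] (m : M) :
    (1 : Localization.Away f) ⊗ₜ[R] m = 0 ↔ ∃ n : ℕ, f ^ n • m = 0 := by
  constructor
  · intro h
    obtain ⟨⟨_, n, rfl⟩, hn⟩ := (IsLocalizedModule.eq_zero_iff (Submonoid.powers f)
      (TensorProduct.mk R (Localization.Away f) M 1)).1 h
    exact ⟨n, hn⟩
  · rintro ⟨n, hn⟩
    exact (IsLocalizedModule.eq_zero_iff (Submonoid.powers f)
      (TensorProduct.mk R (Localization.Away f) M 1)).2 ⟨⟨f ^ n, n, rfl⟩, hn⟩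

/-- Free after inverting `f` implies torsion-free away from `f`. -/
theorem torsion_of_free [IsDomain R] {f : R} (hf : f ≠ 0) {M : Type u} [AddCommGroup M] [Module R M]
    [Module.Free (Localization.Away f) (Localization.Away f ⊗[R] M)] {r : R} (hr : r ≠ 0) {m : M}
    (h : r • m = 0) : ∃ n : ℕ, f ^ n • m = 0 := by
  rw [← awayTmul_eq_zero_iff]
  haveI : IsDomain (Localization.Away f) :=
    IsLocalization.isDomain_of_le_nonZeroDivisors (Localization.Away f) (powers_le_nonZeroDivisors_of_noZeroDivisors hf)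
  have hr' : algebraMap R (Localization.Away f) r ≠ 0 := by
    rw [ne_eq, IsLocalization.to_map_eq_zero_iff (Localization.Away f) (powers_le_nonZeroDivisors_of_noZeroDivisors hf)]
    exact hr
  have h2 : algebraMap R (Localization.Away f) r • ((1 : Localization.Away f) ⊗ₜ[R] m) = 0 := by
    rw [algebraMap_smul, ← TensorProduct.tmul_smul, h, TensorProduct.tmul_zero]
  let b := Module.Free.chooseBasis (Localization.Away f) (Localization.Away f ⊗[R] M)
  apply b.repr.injective
  ext i
  have h3 := congrArg (fun z => b.repr z i) h2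
  simp only [map_smul, Finsupp.smul_apply, smul_eq_mul, map_zero, Finsupp.coe_zero, Pi.zero_apply] at h3
  simpa using (mul_eq_zero.1 h3).resolve_left hr'

/-- Away from `f`, every prime generalises to one over the generic point. -/
theorem exists_le_over_generic [IsDomain R] {f : R} (hf : f ≠ 0)
    [Module.Free (Localization.Away f) (Localization.Away f ⊗[R] A)]
    (q : PrimeSpectrum A) (hq : algebraMap R A f ∉ q.asIdeal) :
    ∃ q' : PrimeSpectrum A, q'.asIdeal ≤ q.asIdeal ∧ q'.asIdeal.comap (algebraMap R A) = ⊥ := by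
  obtain ⟨Q, hQ, -, hdisj⟩ := Ideal.exists_le_prime_disjoint (⊥ : Ideal A)
    (q.asIdeal.primeCompl ⊔ (nonZeroDivisors R).map (algebraMap R A)) (by
      rw [Set.disjoint_left]
      intro x hx hxS
      obtain ⟨a, ha, _, ⟨r, hr, rfl⟩, hax⟩ := Submonoid.mem_sup.1 hxS
      rw [Ideal.mem_bot.1 hx] at hax
      obtain ⟨n, hn⟩ := torsion_of_free hf (nonZeroDivisors.ne_zero hr) (m := a)
        (by rw [Algebra.smul_def, mul_comm]; exact hax)
      rcases q.isPrime.mem_or_mem (show algebraMap R A (f ^ n) * a ∈ q.asIdeal by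
        rw [← Algebra.smul_def, hn]; exact zero_mem _) with h | h
      · rw [map_pow] at h; exact hq (q.isPrime.mem_of_pow_mem n h)
      · exact ha h)
  refine ⟨⟨Q, hQ⟩, fun x hx => ?_, eq_bot_iff.2 fun r hr => Ideal.mem_bot.2 ?_⟩
  · by_contra h
    exact Set.disjoint_left.1 hdisj hx (Submonoid.mem_sup_left h)
  · by_contra h
    exact Set.disjoint_left.1 hdisj hr
      (Submonoid.mem_sup_right ⟨r, mem_nonZeroDivisors_of_ne_zero h, rfl⟩)

/-- The primes over `y` are the traces of the primes of the fibre ring. -/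
theorem exists_comap_fiber (y : Ideal R) [y.IsPrime] (q : PrimeSpectrum A)
    (hq : q.asIdeal.comap (algebraMap R A) = y) :
    ∃ Q : PrimeSpectrum (y.ResidueField ⊗[R] A),
      Q.asIdeal.comap Algebra.TensorProduct.includeRight.toRingHom = q.asIdeal := by
  let χ : y.ResidueField ⊗[R] A →ₐ[R] q.asIdeal.ResidueField :=
    Algebra.TensorProduct.lift
      { Ideal.ResidueField.map y q.asIdeal (algebraMap R A) hq.symm with
        commutes' := fun r => by
          show Ideal.ResidueField.map y q.asIdeal (algebraMap R A) hq.symm (algebraMap R y.ResidueField r) = _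
          rw [Ideal.ResidueField.map_algebraMap, ← IsScalarTower.algebraMap_apply] }
      (IsScalarTower.toAlgHom R A q.asIdeal.ResidueField) fun _ _ => Commute.all _ _
  refine ⟨⟨RingHom.ker χ.toRingHom, RingHom.ker_isPrime _⟩, ?_⟩
  ext a
  show χ (1 ⊗ₜ a) = 0 ↔ a ∈ q.asIdeal
  simp [χ, Ideal.algebraMap_residueField_eq_zero]

theorem comap_fiber (y : Ideal R) [y.IsPrime] (Q : Ideal (y.ResidueField ⊗[R] A)) [Q.IsPrime] :
    (Q.comap Algebra.TensorProduct.includeRight.toRingHom).comap (algebraMap R A) = y := by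
  ext r
  show (Algebra.TensorProduct.includeRight : A →ₐ[R] y.ResidueField ⊗[R] A) (algebraMap R A r) ∈ Q ↔ r ∈ y
  rw [AlgHom.commutes, IsScalarTower.algebraMap_apply R y.ResidueField (y.ResidueField ⊗[R] A),
    ← Ideal.algebraMap_residueField_eq_zero (I := y)]
  constructor
  · intro h
    by_contra hne
    exact (‹Q.IsPrime›).ne_top (Ideal.eq_top_of_isUnit_mem _ h ((Ne.isUnit hne).map _))
  · intro h
    rw [h, map_zero]
    exact zero_mem _

section field

variable {f : R} (k : Type u) [Field k] [Algebra R k]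

/-- Algebra structure of a field over a localisation. -/
noncomputable abbrev awayAlgebra (hk : algebraMap R k f ≠ 0) : Algebra (Localization.Away f) k :=
  (IsLocalization.Away.lift (S := Localization.Away f) f (g := algebraMap R k) hk.isUnit).toAlgebra

theorem nontrivial_fiber_of_free (hk : algebraMap R k f ≠ 0)
    [Module.Free (Localization.Away f) (Localization.Away f ⊗[R] A)]
    (hA : Nontrivial (Localization.Away f ⊗[R] A)) : Nontrivial (k ⊗[R] A) := by
  letI := awayAlgebra k hk
  haveI : IsScalarTower R (Localization.Away f) k :=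
    IsScalarTower.of_algebraMap_eq fun r => (IsLocalization.Away.lift_eq f hk.isUnit r).symm
  let b := Module.Free.chooseBasis (Localization.Away f) (Localization.Away f ⊗[R] A)
  haveI : Nonempty (Module.Free.ChooseBasisIndex (Localization.Away f) (Localization.Away f ⊗[R] A)) :=
    b.index_nonempty
  let b' := (b.baseChange k).map (TensorProduct.AlgebraTensorModule.cancelBaseChange R (Localization.Away f) k k A)
  obtain ⟨i⟩ := ‹Nonempty (Module.Free.ChooseBasisIndex (Localization.Away f) (Localization.Away f ⊗[R] A))›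
  exact ⟨⟨b' i, 0, b'.ne_zero i⟩⟩

/-- An element which is a nonzerodivisor away from `f` with cokernel free away from `f` stays one on fibres. -/
theorem isSMulRegular_fiber {g : A} (hk : algebraMap R k f ≠ 0)
    (hg : ∀ a : A, g * a = 0 → ∃ n : ℕ, f ^ n • a = 0)
    [Module.Free (Localization.Away f) (Localization.Away f ⊗[R] (A ⧸ Ideal.span {g}))] :
    IsSMulRegular (k ⊗[R] A) ((1 : k) ⊗ₜ[R] g) := by
  letI := awayAlgebra k hk
  haveI : IsScalarTower R (Localization.Away f) k :=
    IsScalarTower.of_algebraMap_eq fun r => (IsLocalization.Away.lift_eq f hk.isUnit r).symm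
  let μ : A →ₗ[R] A := LinearMap.mulLeft R g
  let q : A →ₗ[R] A ⧸ Ideal.span {g} := (Ideal.Quotient.mkₐ R (Ideal.span {g})).toLinearMap
  let μ' := μ.baseChange (Localization.Away f)
  let q' := q.baseChange (Localization.Away f)
  have hq' : Function.Surjective q' := LinearMap.lTensor_surjective _ Ideal.Quotient.mk_surjective
  have hex : Function.Exact μ q := by
    intro a
    show Ideal.Quotient.mk (Ideal.span {g}) a = 0 ↔ a ∈ Set.range μ
    rw [Ideal.Quotient.eq_zero_iff_mem, Ideal.mem_span_singleton']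
    exact ⟨fun ⟨c, hc⟩ => ⟨c, (mul_comm g c).trans hc⟩, fun ⟨c, hc⟩ => ⟨c, (mul_comm c g).trans hc⟩⟩
  have hex' : Function.Exact μ' q' := lTensor_exact (Localization.Away f) hex Ideal.Quotient.mk_surjective
  have hinj : Function.Injective μ' := by
    rw [injective_iff_map_eq_zero]
    intro z hz
    obtain ⟨⟨a, _, n, rfl⟩, ha⟩ := IsLocalizedModule.surj (Submonoid.powers f)
      (TensorProduct.mk R (Localization.Away f) A 1) z
    replace ha : (f ^ n) • z = (1 : Localization.Away f) ⊗ₜ[R] a := ha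
    have h1 : μ' ((1 : Localization.Away f) ⊗ₜ[R] a) = 0 := by
      rw [← ha, LinearMap.map_smul_of_tower, hz, smul_zero]
    rw [LinearMap.baseChange_tmul] at h1
    obtain ⟨m, hm⟩ := (awayTmul_eq_zero_iff _).1 h1
    obtain ⟨l, hl⟩ := hg (f ^ m • a) (by
      rw [mul_smul_comm]
      exact hm)
    have h2 : (1 : Localization.Away f) ⊗ₜ[R] a = 0 :=
      (awayTmul_eq_zero_iff _).2 ⟨l + m, by rw [pow_add, mul_smul, hl]⟩
    rw [h2] at ha
    have hu : IsUnit (algebraMap R (Localization.Away f) (f ^ n)) :=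
      IsLocalization.map_units (M := Submonoid.powers f) _ ⟨f ^ n, n, rfl⟩
    rw [← algebraMap_smul (Localization.Away f)] at ha
    exact hu.smul_eq_zero.1 ha
  obtain ⟨s, hs⟩ := Module.projective_lifting_property q' LinearMap.id hq'
  have hmem : ∀ z, z - s (q' z) ∈ LinearMap.range μ' := by
    intro z
    refine (hex' _).1 ?_
    rw [map_sub, show q' (s (q' z)) = q' z from LinearMap.congr_fun hs (q' z), sub_self]
  let r := (LinearEquiv.ofInjective μ' hinj).symm.toLinearMap.comp
    ((LinearMap.id - s.comp q').codRestrict (LinearMap.range μ') hmem)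
  have hr : r.comp μ' = LinearMap.id := by
    apply LinearMap.ext
    intro z
    apply hinj
    have hz : q' (μ' z) = 0 := (hex' _).2 ⟨z, rfl⟩
    have h0 : ∀ w, μ' (r w) = w - s (q' w) := fun w => by
      have h := congrArg Subtype.val (LinearEquiv.apply_symm_apply (LinearEquiv.ofInjective μ' hinj)
        ((LinearMap.id - s.comp q').codRestrict (LinearMap.range μ') hmem w))
      simpa [r] using h
    show μ' (r (μ' z)) = μ' z
    rw [h0, hz, map_zero, sub_zero]
  let e := TensorProduct.AlgebraTensorModule.cancelBaseChange R (Localization.Away f) k k A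
  intro x y hxy
  have key : ∀ w, e (μ'.baseChange k w) = ((1 : k) ⊗ₜ[R] g) • e w := by
    intro w
    induction w with
    | zero => simp only [map_zero, smul_zero]
    | tmul c z =>
      induction z with
      | zero => simp only [TensorProduct.tmul_zero, map_zero, smul_zero]
      | tmul l a => simp [e, μ', μ, Algebra.TensorProduct.tmul_mul_tmul]
      | add z₁ z₂ h₁ h₂ => simp only [TensorProduct.tmul_add, map_add, smul_add, h₁, h₂]
    | add w₁ w₂ h₁ h₂ => simp only [map_add, smul_add, h₁, h₂]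
  obtain ⟨x', rfl⟩ := e.surjective x
  obtain ⟨y', rfl⟩ := e.surjective y
  refine congrArg e ?_
  have h2 : μ'.baseChange k x' = μ'.baseChange k y' := e.injective (by rw [key, key]; exact hxy)
  have h3 := congrArg (r.baseChange k) h2
  rw [← LinearMap.comp_apply, ← LinearMap.comp_apply, ← LinearMap.baseChange_comp, hr, LinearMap.baseChange_id] at h3
  exact h3

end field

/-- Away from some `f`: primes generalise to the generic fibre, and all fibres are nonempty if the generic one is. -/
theorem exists_generization_surjective [IsDomain R] [Algebra.FiniteType R A] :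
    ∃ f : R, f ≠ 0 ∧ ∀ g : R, f ∣ g → g ≠ 0 →
      (∀ q : PrimeSpectrum A, algebraMap R A g ∉ q.asIdeal →
        ∃ q' : PrimeSpectrum A, q'.asIdeal ≤ q.asIdeal ∧ q'.asIdeal.comap (algebraMap R A) = ⊥) ∧
      ((∃ q : PrimeSpectrum A, q.asIdeal.comap (algebraMap R A) = ⊥) →
        ∀ y : PrimeSpectrum R, g ∉ y.asIdeal → ∃ q : PrimeSpectrum A, q.asIdeal.comap (algebraMap R A) = y.asIdeal) := by
  obtain ⟨f, hf, -, hfree⟩ := exists_free_baseChange (R := R) A A 1 one_ne_zero
  refine ⟨f, hf, fun g hfg hg => ?_⟩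
  haveI := hfree g hfg
  refine ⟨fun q hq => exists_le_over_generic hg q hq, fun ⟨q₀, hq₀⟩ y hy => ?_⟩
  have hk : algebraMap R y.asIdeal.ResidueField g ≠ 0 := fun h => hy (Ideal.algebraMap_residueField_eq_zero.1 h)
  haveI : Nontrivial (Localization.Away g ⊗[R] A) := by
    by_contra hn
    rw [not_nontrivial_iff_subsingleton] at hn
    obtain ⟨n, hn'⟩ := (awayTmul_eq_zero_iff (f := g) (1 : A)).1 (Subsingleton.elim _ _)
    have : g ^ n ∈ q₀.asIdeal.comap (algebraMap R A) := by
      show algebraMap R A (g ^ n) ∈ q₀.asIdeal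
      rw [← mul_one (algebraMap R A (g ^ n)), ← Algebra.smul_def, hn']
      exact zero_mem _
    rw [hq₀, Ideal.mem_bot] at this
    exact pow_ne_zero n hg this
  haveI := nontrivial_fiber_of_free (A := A) y.asIdeal.ResidueField hk inferInstance
  obtain ⟨m, hm⟩ := Ideal.exists_maximal (y.asIdeal.ResidueField ⊗[R] A)
  exact ⟨⟨m.comap Algebra.TensorProduct.includeRight.toRingHom, inferInstance⟩, comap_fiber y.asIdeal m⟩

/-- A closed set nowhere dense in the generic fibre is nowhere dense in nearby fibres. -/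
theorem exists_nowhereDense [IsDomain R] [Algebra.FiniteType R A] (J : Ideal A)
    (hJ : ∀ q : PrimeSpectrum A, q.asIdeal.comap (algebraMap R A) = ⊥ →
      ∃ q' : PrimeSpectrum A, q'.asIdeal ≤ q.asIdeal ∧ q'.asIdeal.comap (algebraMap R A) = ⊥ ∧ ¬ J ≤ q'.asIdeal) :
    ∃ f : R, f ≠ 0 ∧ ∀ g : R, f ∣ g → g ≠ 0 → ∀ q : PrimeSpectrum A, algebraMap R A g ∉ q.asIdeal →
      J ≤ q.asIdeal → ∃ q₂ : PrimeSpectrum A, q₂.asIdeal ≤ q.asIdeal ∧
        q₂.asIdeal.comap (algebraMap R A) = q.asIdeal.comap (algebraMap R A) ∧ ¬ J ≤ q₂.asIdeal := by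
  classical
  let K := FractionRing R
  haveI : IsNoetherianRing (K ⊗[R] A) := Algebra.FiniteType.isNoetherianRing K _
  let incl := (Algebra.TensorProduct.includeRight : A →ₐ[R] K ⊗[R] A).toRingHom
  have hover : ∀ (Q : Ideal (K ⊗[R] A)), Q.IsPrime → (Q.comap incl).comap (algebraMap R A) = ⊥ := by
    intro Q hQ
    rw [eq_bot_iff]
    intro r hr
    by_contra hne
    have hu : IsUnit (algebraMap R (K ⊗[R] A) r) := by
      rw [IsScalarTower.algebraMap_apply R K (K ⊗[R] A)]
      refine (Ne.isUnit ?_).map _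
      intro h
      exact hne ((IsFractionRing.injective R K) (h.trans (map_zero _).symm))
    refine hQ.ne_top (Ideal.eq_top_of_isUnit_mem _ ?_ hu)
    have h1 : incl (algebraMap R A r) ∈ Q := hr
    rwa [show incl (algebraMap R A r) = algebraMap R (K ⊗[R] A) r from
      (Algebra.TensorProduct.includeRight : A →ₐ[R] K ⊗[R] A).commutes r] at h1
  have hlift : ∀ q : PrimeSpectrum A, q.asIdeal.comap (algebraMap R A) = ⊥ →
      ∃ Q : PrimeSpectrum (K ⊗[R] A), Q.asIdeal.comap incl = q.asIdeal := by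
    intro q hq
    let lK : K →ₐ[R] q.asIdeal.ResidueField := IsLocalization.liftAlgHom (M := nonZeroDivisors R)
      (f := Algebra.ofId R q.asIdeal.ResidueField) fun r => by
        refine Ne.isUnit fun h => nonZeroDivisors.ne_zero r.2 ?_
        have h1 : algebraMap A q.asIdeal.ResidueField (algebraMap R A r) = 0 := by
          rw [← IsScalarTower.algebraMap_apply]; exact h
        have h2 : algebraMap R A (r : R) ∈ q.asIdeal :=
          (Ideal.algebraMap_residueField_eq_zero (I := q.asIdeal)).1 h1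
        rw [← Ideal.mem_comap] at h2
        rwa [hq, Ideal.mem_bot] at h2
    let χ : K ⊗[R] A →ₐ[R] q.asIdeal.ResidueField :=
      Algebra.TensorProduct.lift lK (IsScalarTower.toAlgHom R A q.asIdeal.ResidueField) fun _ _ => Commute.all _ _
    refine ⟨⟨RingHom.ker χ.toRingHom, RingHom.ker_isPrime _⟩, ?_⟩
    ext a
    show χ (1 ⊗ₜ a) = 0 ↔ a ∈ q.asIdeal
    simp [χ, Ideal.algebraMap_residueField_eq_zero]
  have hmin : ∀ Q ∈ minimalPrimes (K ⊗[R] A), ¬ J ≤ Q.comap incl := by
    intro Q hQ hJQ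
    haveI := hQ.1.1
    obtain ⟨q', hle, hq', hJq'⟩ := hJ ⟨Q.comap incl, inferInstance⟩ (hover Q inferInstance)
    obtain ⟨Q', hQ'⟩ := hlift q' hq'
    have hQle : Q'.asIdeal ≤ Q := by
      intro z hz
      obtain ⟨⟨a, r⟩, hzr⟩ : ∃ p : A × nonZeroDivisors R, algebraMap R (K ⊗[R] A) p.2 * z = incl p.1 := by
        clear hz
        induction z with
        | zero => exact ⟨(0, 1), by simp⟩
        | tmul c a =>
          obtain ⟨⟨n, d⟩, hd⟩ := IsLocalization.surj (nonZeroDivisors R) c
          refine ⟨(n • a, d), ?_⟩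
          rw [Algebra.TensorProduct.algebraMap_apply, Algebra.TensorProduct.tmul_mul_tmul, one_mul, mul_comm, hd]
          show _ = (1 : K) ⊗ₜ[R] (n • a)
          rw [TensorProduct.tmul_smul, TensorProduct.smul_tmul', Algebra.smul_def, mul_one]
        | add x y hx hy =>
          obtain ⟨⟨a, r⟩, hx⟩ := hx
          obtain ⟨⟨b, s⟩, hy⟩ := hy
          refine ⟨((s : R) • a + (r : R) • b, r * s), ?_⟩
          dsimp only at hx hy ⊢
          rw [map_add]
          show _ = (Algebra.TensorProduct.includeRight : A →ₐ[R] K ⊗[R] A) ((s : R) • a) +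
            (Algebra.TensorProduct.includeRight : A →ₐ[R] K ⊗[R] A) ((r : R) • b)
          rw [map_smul, map_smul, Algebra.smul_def, Algebra.smul_def]
          change _ = algebraMap R _ (s : R) * incl a + algebraMap R _ (r : R) * incl b
          rw [← hx, ← hy, Submonoid.coe_mul, map_mul]
          ring
      have h1 : incl a ∈ Q := by
        have : a ∈ Q'.asIdeal.comap incl := by
          show incl a ∈ Q'.asIdeal
          rw [← hzr]; exact Ideal.mul_mem_left _ _ hz
        rw [hQ'] at this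
        exact hle this
      rw [← hzr] at h1
      refine (hQ.1.1.mem_or_mem h1).resolve_left fun h => hQ.1.1.ne_top (Ideal.eq_top_of_isUnit_mem _ h ?_)
      rw [IsScalarTower.algebraMap_apply R K (K ⊗[R] A)]
      exact (IsLocalization.map_units K r).map _
    have := hQ.2 ⟨Q'.isPrime, bot_le⟩ hQle
    exact hJq' (by rw [← hQ']; exact hJQ.trans (Ideal.comap_mono this))
  obtain ⟨g₀, hg₀J, hg₀⟩ : ∃ g₀ ∈ J, ∀ Q ∈ minimalPrimes (K ⊗[R] A), incl g₀ ∉ Q := by
    by_contra h
    push Not at h
    let S := (minimalPrimes.finite_of_isNoetherianRing (K ⊗[R] A)).toFinset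
    have hsub : (J : Set A) ⊆ ⋃ Q ∈ (S : Set (Ideal (K ⊗[R] A))), (Q.comap incl : Set A) := fun a ha => by
      obtain ⟨Q, hQ, haQ⟩ := h a ha
      exact Set.mem_iUnion₂.2 ⟨Q, by simpa [S] using hQ, haQ⟩
    rcases S.eq_empty_or_nonempty with hS | ⟨Q₀, hQ₀⟩
    · obtain ⟨Q, hQ, -⟩ := h 0 (zero_mem J)
      have : Q ∈ S := by simpa [S] using hQ
      rw [hS] at this
      exact Finset.notMem_empty Q this
    obtain ⟨Q, hQ, hJQ⟩ := (Ideal.subset_union_prime Q₀ Q₀ (fun Q hQ _ _ => by
      haveI : Q.IsPrime := ((by simpa [S] using hQ : Q ∈ minimalPrimes (K ⊗[R] A))).1.1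
      exact Ideal.IsPrime.comap _)).1 hsub
    exact hmin Q (by simpa [S] using hQ) hJQ
  let N := (⊥ : Ideal A).radical
  haveI : IsReduced (A ⧸ N) := (Ideal.isRadical_iff_quotient_reduced N).1 (Ideal.radical_isRadical _)
  obtain ⟨f₁, hf₁, -, hfree₁⟩ := exists_free_baseChange (R := R) (A ⧸ N) (A ⧸ N) 1 one_ne_zero
  obtain ⟨f, hf, hf₁f, hfree⟩ := exists_free_baseChange (R := R) ((A ⧸ N) ⧸ Ideal.span {Ideal.Quotient.mk N g₀})
    ((A ⧸ N) ⧸ Ideal.span {Ideal.Quotient.mk N g₀}) f₁ hf₁
  refine ⟨f, hf, fun g hfg hg q hgq hJq => ?_⟩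
  haveI := hfree₁ g (hf₁f.trans hfg)
  haveI := hfree g hfg
  have hreg : ∀ a : A ⧸ N, Ideal.Quotient.mk N g₀ * a = 0 → ∃ n : ℕ, g ^ n • a = 0 := by
    intro a ha
    refine ⟨1, ?_⟩
    rw [pow_one, Algebra.smul_def]
    apply IsReduced.eq_zero
    rw [← mem_nilradical, nilradical_eq_sInf, Submodule.mem_sInf]
    intro P hP
    by_contra hga
    obtain ⟨P', hP'le, hP'0⟩ := exists_le_over_generic (A := A ⧸ N) hg ⟨P, hP⟩
      (fun h => hga (Ideal.mul_mem_right _ _ h))
    have hcomap : (P'.asIdeal.comap (Ideal.Quotient.mk N)).comap (algebraMap R A) = ⊥ := by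
      rw [Ideal.comap_comap]
      exact hP'0
    obtain ⟨Q, hQ⟩ := hlift ⟨P'.asIdeal.comap (Ideal.Quotient.mk N), inferInstance⟩ hcomap
    obtain ⟨Qm, hQm, hQmle⟩ := Ideal.exists_minimalPrimes_le (I := (⊥ : Ideal (K ⊗[R] A))) (J := Q.asIdeal) bot_le
    obtain ⟨a, rfl⟩ := Ideal.Quotient.mk_surjective a
    rw [← map_mul, Ideal.Quotient.eq_zero_iff_mem] at ha
    obtain ⟨n, hn⟩ := ha
    haveI := hQm.1.1
    have h3 : g₀ * a ∈ Qm.comap incl :=
      (Ideal.IsPrime.comap incl : (Qm.comap incl).IsPrime).mem_of_pow_mem n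
        (by rw [Ideal.mem_bot.1 hn]; exact zero_mem _)
    have h4 : a ∈ Qm.comap incl :=
      ((Ideal.IsPrime.comap incl : (Qm.comap incl).IsPrime).mem_or_mem h3).resolve_left (hg₀ Qm hQm)
    have h5 : a ∈ P'.asIdeal.comap (Ideal.Quotient.mk N) := by
      have h6 : a ∈ Q.asIdeal.comap incl := hQmle h4
      rwa [hQ] at h6
    exact hga (Ideal.mul_mem_left _ _ (hP'le h5))
  let y := q.asIdeal.comap (algebraMap R A)
  have hk : algebraMap R y.ResidueField g ≠ 0 := fun h =>
    hgq ((Ideal.algebraMap_residueField_eq_zero (I := y)).1 h : g ∈ y)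
  have hs := isSMulRegular_fiber (A := A ⧸ N) y.ResidueField hk hreg
  have hNq : ∀ P : Ideal A, P.IsPrime → N ≤ P := fun P hP => hP.radical_le_iff.2 bot_le
  have hcm : (q.asIdeal.map (Ideal.Quotient.mk N)).comap (Ideal.Quotient.mk N) = q.asIdeal := by
    rw [Ideal.comap_map_of_surjective' _ Ideal.Quotient.mk_surjective, Ideal.mk_ker,
      sup_eq_left.2 (hNq _ q.isPrime)]
  have hqprime : (q.asIdeal.map (Ideal.Quotient.mk N)).IsPrime := Ideal.map_isPrime_of_surjective
    Ideal.Quotient.mk_surjective (by rw [Ideal.mk_ker]; exact hNq _ q.isPrime)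
  obtain ⟨Q, hQ⟩ := exists_comap_fiber y ⟨_, hqprime⟩ (by
    show (q.asIdeal.map (Ideal.Quotient.mk N)).comap ((Ideal.Quotient.mk N).comp (algebraMap R A)) = y
    rw [← Ideal.comap_comap, hcm])
  obtain ⟨Qm, hQm, hQmle⟩ := Ideal.exists_minimalPrimes_le (I := (⊥ : Ideal (y.ResidueField ⊗[R] (A ⧸ N))))
    (J := Q.asIdeal) bot_le
  haveI := hQm.1.1
  let incl' := (Algebra.TensorProduct.includeRight : (A ⧸ N) →ₐ[R] y.ResidueField ⊗[R] (A ⧸ N)).toRingHom
  refine ⟨⟨(Qm.comap incl').comap (Ideal.Quotient.mk N), inferInstance⟩, ?_, ?_, fun h => ?_⟩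
  · exact (Ideal.comap_mono ((Ideal.comap_mono hQmle).trans hQ.le)).trans hcm.le
  · have h7 := comap_fiber (A := A ⧸ N) y Qm
    rw [Ideal.comap_comap (f := algebraMap R A)]
    exact h7
  · refine IsSMulRegular.notMem_of_mem_minimalPrimes hs (p := Qm) ?_ (h hg₀J)
    rw [show Module.annihilator (y.ResidueField ⊗[R] (A ⧸ N)) (y.ResidueField ⊗[R] (A ⧸ N)) = ⊥ from
      eq_bot_iff.2 fun x hx => Ideal.mem_bot.2 (by simpa using Module.mem_annihilator.1 hx 1)]
    exact hQm

end Groth.Agent.H7Flat.GenericFibre
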