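import Groth.Agent.H7Flat.GenericFibreScheme
import Groth.Agent.H7Flat.FibreChart
import Mathlib.AlgebraicGeometry.Properties

/-!
# Non-reduced generic fibre
-/

set_option autoImplicit false
set_option backward.isDefEq.respectTransparency false
set_option linter.style.haveILetI false

universe u

open TensorProduct

namespace Groth.Agent.H7Flat.GenericFibre

section algebra

variable {R : Type u} [CommRing R]

/-- An injection with free cokernel away from `f` stays injective on fibres. -/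
theorem baseChange_injective {f : R} (k : Type u) [Field k] [Algebra R k] (hk : algebraMap R k f ≠ 0)
    {M N P : Type u} [AddCommGroup M] [Module R M] [AddCommGroup N] [Module R N] [AddCommGroup P] [Module R P]
    (μ : M →ₗ[R] N) (q : N →ₗ[R] P) (hex : Function.Exact μ q) (hq : Function.Surjective q)
    (hμ : Function.Injective μ) [Module.Free (Localization.Away f) (Localization.Away f ⊗[R] P)] :
    Function.Injective (μ.baseChange k) := by
  letI := awayAlgebra k hk
  haveI : IsScalarTower R (Localization.Away f) k :=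
    IsScalarTower.of_algebraMap_eq fun r => (IsLocalization.Away.lift_eq f hk.isUnit r).symm
  let μ' := μ.baseChange (Localization.Away f)
  let q' := q.baseChange (Localization.Away f)
  have hq' : Function.Surjective q' := LinearMap.lTensor_surjective _ hq
  have hex' : Function.Exact μ' q' := lTensor_exact (Localization.Away f) hex hq
  haveI : Module.Flat R (Localization.Away f) := IsLocalization.flat (Localization.Away f) (Submonoid.powers f)
  have hinj : Function.Injective μ' := Module.Flat.lTensor_preserves_injective_linearMap μ hμ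
  obtain ⟨s, hs⟩ := Module.projective_lifting_property q' LinearMap.id hq'
  have hmem : ∀ z, z - s (q' z) ∈ LinearMap.range μ' := by
    intro z
    refine (hex' _).1 ?_
    rw [map_sub, show q' (s (q' z)) = q' z from LinearMap.congr_fun hs (q' z), sub_self]
  let r := (LinearEquiv.ofInjective μ' hinj).symm.toLinearMap.comp
    ((LinearMap.id - s.comp q').codRestrict (LinearMap.range μ') hmem)
  have hr : r.comp μ' = LinearMap.id := by
    apply LinearMap.ext
    intro z
    apply hinj
    have hz : q' (μ' z) = 0 := (hex' _).2 ⟨z, rfl⟩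
    have h0 : ∀ w, μ' (r w) = w - s (q' w) := fun w => by
      have h := congrArg Subtype.val (LinearEquiv.apply_symm_apply (LinearEquiv.ofInjective μ' hinj)
        ((LinearMap.id - s.comp q').codRestrict (LinearMap.range μ') hmem w))
      simp [r] at h ⊢
    show μ' (r (μ' z)) = μ' z
    rw [h0, hz, map_zero, sub_zero]
  let e₁ := TensorProduct.AlgebraTensorModule.cancelBaseChange R (Localization.Away f) k k M
  let e₂ := TensorProduct.AlgebraTensorModule.cancelBaseChange R (Localization.Away f) k k N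
  have key : ∀ w, e₂ (μ'.baseChange k w) = μ.baseChange k (e₁ w) := by
    intro w
    induction w with
    | zero => simp only [map_zero]
    | tmul c z =>
      induction z with
      | zero => simp only [TensorProduct.tmul_zero, map_zero]
      | tmul l a => simp [e₁, e₂, μ']
      | add z₁ z₂ h₁ h₂ => simp only [TensorProduct.tmul_add, map_add, h₁, h₂]
    | add w₁ w₂ h₁ h₂ => simp only [map_add, h₁, h₂]
  intro x y hxy
  obtain ⟨x', rfl⟩ := e₁.surjective x
  obtain ⟨y', rfl⟩ := e₁.surjective y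
  refine congrArg e₁ ?_
  have h2 : μ'.baseChange k x' = μ'.baseChange k y' := e₂.injective (by rw [key, key]; exact hxy)
  have h3 := congrArg (r.baseChange k) h2
  rw [← LinearMap.comp_apply, ← LinearMap.comp_apply, ← LinearMap.baseChange_comp, hr, LinearMap.baseChange_id] at h3
  exact h3

/-- A non-torsion element stays nonzero on nearby fibres. -/
theorem exists_tmul_ne_zero [IsDomain R] {A : Type u} [CommRing A] [Algebra R A] [Algebra.FiniteType R A]
    (a : A) (ha : ∀ r : R, r ≠ 0 → r • a ≠ 0) :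
    ∃ f : R, f ≠ 0 ∧ ∀ g : R, f ∣ g → g ≠ 0 → ∀ (k : Type u) [Field k] [Algebra R k],
      algebraMap R k g ≠ 0 → a ⊗ₜ[R] (1 : k) ≠ 0 := by
  obtain ⟨I, hI⟩ : ∃ I : Ideal A, ∀ x, x ∈ I ↔ x * a = 0 :=
    ⟨LinearMap.ker (LinearMap.toSpanSingleton A A a), fun x => Iff.rfl⟩
  obtain ⟨f₁, hf₁, -, hfree₁⟩ := exists_free_baseChange (R := R) (A ⧸ I) (A ⧸ I) 1 one_ne_zero
  obtain ⟨f, hf, hf₁f, hfree⟩ := exists_free_baseChange (R := R) (A ⧸ Ideal.span {a}) (A ⧸ Ideal.span {a}) f₁ hf₁
  refine ⟨f, hf, fun g hfg hg k _ _ hk h0 => ?_⟩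
  haveI := hfree₁ g (hf₁f.trans hfg)
  haveI := hfree g hfg
  haveI : Nontrivial (Localization.Away g ⊗[R] (A ⧸ I)) := by
    by_contra hn
    rw [not_nontrivial_iff_subsingleton] at hn
    obtain ⟨n, hn'⟩ := (awayTmul_eq_zero_iff (f := g) (Ideal.Quotient.mkₐ R I 1)).1 (Subsingleton.elim _ _)
    rw [← map_smul] at hn'
    have h2 : g ^ n • (1 : A) ∈ I := Ideal.Quotient.eq_zero_iff_mem.1 hn'
    rw [hI, smul_mul_assoc, one_mul] at h2
    exact ha _ (pow_ne_zero n hg) h2
  haveI : Nontrivial (k ⊗[R] (A ⧸ I)) := nontrivial_fiber_of_free (A := A ⧸ I) k hk inferInstance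
  let μ₀ : (A ⧸ I) →ₗ[A] A := I.liftQ (LinearMap.toSpanSingleton A A a) fun x hx => (hI x).1 hx
  let μ : (A ⧸ I) →ₗ[R] A := μ₀.restrictScalars R
  have hμmk : ∀ c, μ (Ideal.Quotient.mk I c) = c * a := fun c => rfl
  have hμ : Function.Injective μ := by
    rw [injective_iff_map_eq_zero]
    intro x hx
    obtain ⟨c, rfl⟩ := Ideal.Quotient.mk_surjective x
    rw [hμmk] at hx
    exact Ideal.Quotient.eq_zero_iff_mem.2 ((hI c).2 hx)
  let q : A →ₗ[R] A ⧸ Ideal.span {a} := (Ideal.Quotient.mkₐ R (Ideal.span {a})).toLinearMap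
  have hex : Function.Exact μ q := by
    intro b
    show Ideal.Quotient.mk (Ideal.span {a}) b = 0 ↔ b ∈ Set.range μ
    rw [Ideal.Quotient.eq_zero_iff_mem, Ideal.mem_span_singleton']
    constructor
    · rintro ⟨c, hc⟩
      exact ⟨Ideal.Quotient.mk I c, hc⟩
    · rintro ⟨c, hc⟩
      obtain ⟨c, rfl⟩ := Ideal.Quotient.mk_surjective c
      exact ⟨c, (hμmk c).symm.trans hc⟩
  have hinj := baseChange_injective k hk μ q hex Ideal.Quotient.mk_surjective hμ
  refine one_ne_zero (α := k ⊗[R] (A ⧸ I)) (hinj ?_)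
  rw [map_zero, Algebra.TensorProduct.one_def, LinearMap.baseChange_tmul]
  have h1 : μ 1 = a := (hμmk 1).trans (one_mul a)
  rw [h1]
  have := congrArg (Algebra.TensorProduct.comm R A k) h0
  simpa using this

end algebra

section Scheme

open CategoryTheory AlgebraicGeometry TopologicalSpace

variable {X Y : Scheme.{u}} (f : X ⟶ Y) [LocallyOfFiniteType f] [QuasiCompact f] [IrreducibleSpace Y]

/-- A non-reduced generic fibre gives non-reduced nearby fibres. -/
theorem exists_opens_not_isReduced (h : ¬ IsReduced (f.fiber (genericPoint Y))) :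
    ∃ V : Y.Opens, genericPoint Y ∈ V ∧ ∀ y ∈ V, ¬ IsReduced (f.fiber y) := by
  obtain ⟨V, hV, hη, -⟩ := exists_isAffineOpen_mem_and_subset (U := (⊤ : Y.Opens)) (x := genericPoint Y) trivial
  obtain ⟨x, hx⟩ : ∃ z : f.fiber (genericPoint Y), ¬ _root_.IsReduced ((f.fiber (genericPoint Y)).presheaf.stalk z) := by
    by_contra hcon
    push Not at hcon
    haveI := hcon
    exact h (isReduced_of_isReduced_stalk _)
  have hxV : f (f.fiberι (genericPoint Y) x) ∈ V := by
    have : f.fiberι (genericPoint Y) x ∈ Set.range (f.fiberι (genericPoint Y)) := ⟨x, rfl⟩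
    rw [f.range_fiberι] at this
    rw [show f (f.fiberι (genericPoint Y) x) = genericPoint Y from this]; exact hη
  obtain ⟨W, hW, hxW, hWV⟩ := exists_isAffineOpen_mem_and_subset (U := f ⁻¹ᵁ V) hxV
  let e : W ≤ f ⁻¹ᵁ V := hWV
  letI := (f.appLE V W e).hom.toAlgebra
  haveI : Algebra.FiniteType Γ(Y, V) Γ(X, W) := f.finiteType_appLE hV hW e
  obtain ⟨a, ha0, hanil, hsurj⟩ : ∃ a : Γ(X, W),
      (letI := (Y.evaluation V (genericPoint Y) hη).hom.toAlgebra
       a ⊗ₜ[Γ(Y, V)] (1 : Y.residueField (genericPoint Y)) ≠ 0) ∧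
      (∀ q : PrimeSpectrum Γ(X, W), f (hW.fromSpec q) = genericPoint Y → a ∈ q.asIdeal) ∧ True := by
    letI := (Y.evaluation V (genericPoint Y) hη).hom.toAlgebra
    obtain ⟨j, hj, hjr, hjι⟩ := FibreChart.exists_fibreChart f hV hW e (genericPoint Y) hη
    obtain ⟨z, rfl⟩ : x ∈ Set.range j := by rw [hjr]; exact hxW
    have hnr : ¬ _root_.IsReduced (Γ(X, W) ⊗[Γ(Y, V)] Y.residueField (genericPoint Y)) := by
      intro hred
      haveI : IsReduced (Spec (CommRingCat.of (Γ(X, W) ⊗[Γ(Y, V)] Y.residueField (genericPoint Y)))) :=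
        (affine_isReduced_iff _).2 hred
      exact hx (isReduced_of_injective (asIso (j.stalkMap z)).commRingCatIsoToRingEquiv.toRingHom
        (asIso (j.stalkMap z)).commRingCatIsoToRingEquiv.injective)
    rw [isReduced_iff] at hnr
    push Not at hnr
    obtain ⟨w, hw, hw0⟩ := hnr
    have hres : Function.Surjective (Y.residue (genericPoint Y)).hom :=
      IsLocalRing.residue_surjective
    letI := Y.presheaf.algebra_section_stalk ⟨genericPoint Y, hη⟩
    haveI := hV.isLocalization_stalk ⟨genericPoint Y, hη⟩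
    obtain ⟨a, r, hr, har⟩ : ∃ (a : Γ(X, W)) (r : Γ(Y, V)),
        IsUnit (algebraMap Γ(Y, V) (Y.residueField (genericPoint Y)) r) ∧
        algebraMap Γ(Y, V) (Γ(X, W) ⊗[Γ(Y, V)] Y.residueField (genericPoint Y)) r * w = a ⊗ₜ 1 := by
      clear hw hw0
      induction w with
      | zero => exact ⟨0, 1, by simp, by simp⟩
      | tmul b c =>
        obtain ⟨c', rfl⟩ := hres c
        obtain ⟨⟨n, d⟩, hd⟩ := IsLocalization.surj (M := (hV.primeIdealOf ⟨genericPoint Y, hη⟩).asIdeal.primeCompl)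
          (S := Y.presheaf.stalk (genericPoint Y)) c'
        have h1 : algebraMap Γ(Y, V) (Y.residueField (genericPoint Y)) (d : Γ(Y, V)) * (Y.residue (genericPoint Y)).hom c' =
            algebraMap Γ(Y, V) (Y.residueField (genericPoint Y)) n := by
          show (Y.evaluation V (genericPoint Y) hη).hom _ * _ = (Y.evaluation V (genericPoint Y) hη).hom _
          simp only [Scheme.evaluation, CommRingCat.hom_comp, RingHom.comp_apply]
          rw [← map_mul]
          refine congrArg _ ?_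
          rw [mul_comm]
          exact hd
        refine ⟨n • b, d, ?_, ?_⟩
        · exact (IsLocalization.map_units (Y.presheaf.stalk (genericPoint Y)) d).map (Y.residue (genericPoint Y)).hom
        · rw [Algebra.TensorProduct.algebraMap_apply' (R := Γ(Y, V)), Algebra.TensorProduct.tmul_mul_tmul, one_mul, h1,
            TensorProduct.smul_tmul, Algebra.smul_def, mul_one]
      | add x y hx hy =>
        obtain ⟨a, r, hr, hx⟩ := hx
        obtain ⟨b, s, hs, hy⟩ := hy
        refine ⟨s • a + r • b, r * s, by rw [map_mul]; exact hr.mul hs, ?_⟩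
        rw [TensorProduct.add_tmul, ← TensorProduct.smul_tmul', ← TensorProduct.smul_tmul', Algebra.smul_def,
          Algebra.smul_def, ← hx, ← hy, map_mul]
        ring
    refine ⟨a, fun h0 => hw0 ?_, fun q hq => ?_, trivial⟩
    · rw [h0] at har
      refine (IsUnit.mul_right_eq_zero ?_).1 har
      rw [Algebra.TensorProduct.algebraMap_apply' (R := Γ(Y, V))]
      exact hr.map (Algebra.TensorProduct.includeRight : Y.residueField (genericPoint Y) →ₐ[Γ(Y, V)] _)
    · obtain ⟨z', hz'⟩ : ∃ z' : f.fiber (genericPoint Y), f.fiberι _ z' = hW.fromSpec q := by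
        have : hW.fromSpec q ∈ Set.range (f.fiberι (genericPoint Y)) := by rw [f.range_fiberι]; exact hq
        exact this
      obtain ⟨Q, rfl⟩ : z' ∈ Set.range j := by
        rw [hjr, Set.mem_preimage, hz']
        exact hW.range_fromSpec.le ⟨q, rfl⟩
      have hQ : q = PrimeSpectrum.comap Algebra.TensorProduct.includeLeftRingHom Q :=
        hW.fromSpec.isOpenEmbedding.injective (hz'.symm.trans congr($hjι Q))
      rw [hQ]
      show a ⊗ₜ[Γ(Y, V)] (1 : Y.residueField (genericPoint Y)) ∈ Q.asIdeal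
      rw [← har]
      obtain ⟨n, hn⟩ := hw
      exact Ideal.mul_mem_left _ _ (Q.isPrime.mem_of_pow_mem n (by rw [hn]; exact zero_mem _))
  clear hsurj
  let p₀ := (hV.primeIdealOf ⟨genericPoint Y, hη⟩).asIdeal
  have hp₀ : ∀ p : PrimeSpectrum Γ(Y, V), p₀ ≤ p.asIdeal := by
    intro p
    have h : genericPoint Y ⤳ hV.fromSpec p := (genericPoint_spec Y).specializes trivial
    have h' : hV.fromSpec (hV.primeIdealOf ⟨genericPoint Y, hη⟩) ⤳ hV.fromSpec p := by
      rw [hV.fromSpec_primeIdealOf]; exact h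
    exact (PrimeSpectrum.le_iff_specializes _ p).2 (hV.fromSpec.isOpenEmbedding.isInducing.specializes_iff.1 h')
  let N := p₀.map (algebraMap Γ(Y, V) Γ(X, W))
  let A' := Γ(X, W) ⧸ N
  letI : Algebra (Γ(Y, V) ⧸ p₀) A' :=
    (Ideal.quotientMap N (algebraMap Γ(Y, V) Γ(X, W)) Ideal.le_comap_map).toAlgebra
  haveI : IsScalarTower Γ(Y, V) (Γ(Y, V) ⧸ p₀) A' := IsScalarTower.of_algebraMap_eq fun r => rfl
  haveI : Algebra.FiniteType Γ(Y, V) A' := (inferInstance : Algebra.FiniteType Γ(Y, V) Γ(X, W)).of_surjective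
    (Ideal.Quotient.mkₐ Γ(Y, V) N) Ideal.Quotient.mk_surjective
  haveI : Algebra.FiniteType (Γ(Y, V) ⧸ p₀) A' :=
    Algebra.FiniteType.of_restrictScalars_finiteType Γ(Y, V) (Γ(Y, V) ⧸ p₀) A'
  let a' : A' := Ideal.Quotient.mk N a
  have hNq : ∀ q : PrimeSpectrum Γ(X, W), N ≤ q.asIdeal := fun q =>
    Ideal.map_le_iff_le_comap.2 (hp₀ (PrimeSpectrum.comap (algebraMap Γ(Y, V) Γ(X, W)) q))
  obtain ⟨r, hr, hrq⟩ := exists_forall_mem (R := Γ(Y, V) ⧸ p₀) (A := Localization.Away a') (⊥ : Ideal (Localization.Away a'))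
    fun Q _ hQ => by
      have h1 : a' ∈ Q.asIdeal.comap (algebraMap A' (Localization.Away a')) := by
        let q : PrimeSpectrum Γ(X, W) :=
          ⟨(Q.asIdeal.comap (algebraMap A' (Localization.Away a'))).comap (Ideal.Quotient.mk N), inferInstance⟩
        show a ∈ q.asIdeal
        refine hanil q ?_
        refine (congr($(IsAffineOpen.SpecMap_appLE_fromSpec f hV hW e) q)).symm.trans ?_
        refine Eq.trans ?_ (hV.fromSpec_primeIdealOf ⟨genericPoint Y, hη⟩)
        show hV.fromSpec _ = hV.fromSpec _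
        refine congrArg _ (PrimeSpectrum.ext ?_)
        ext s
        show algebraMap Γ(Y, V) Γ(X, W) s ∈ q.asIdeal ↔ s ∈ p₀
        have h2 := SetLike.ext_iff.1 hQ (Ideal.Quotient.mk p₀ s)
        rw [Ideal.mem_bot, Ideal.Quotient.eq_zero_iff_mem] at h2
        rw [← h2]
        rfl
      exact Q.isPrime.ne_top (Ideal.eq_top_of_isUnit_mem _ h1 (IsLocalization.Away.algebraMap_isUnit a'))
  have hnil : IsNilpotent (algebraMap (Γ(Y, V) ⧸ p₀) A' r * a') := by
    rw [← mem_nilradical, nilradical_eq_sInf, Submodule.mem_sInf]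
    intro P hP
    by_cases haP : a' ∈ P
    · exact Ideal.mul_mem_left _ _ haP
    · obtain ⟨Q, hQ⟩ : (⟨P, hP⟩ : PrimeSpectrum A') ∈ Set.range (PrimeSpectrum.comap (algebraMap A' (Localization.Away a'))) := by
        rw [PrimeSpectrum.localization_away_comap_range (Localization.Away a') a']
        exact haP
      refine Ideal.mul_mem_right _ _ ?_
      have := hrq Q bot_le
      rw [IsScalarTower.algebraMap_apply (Γ(Y, V) ⧸ p₀) A' (Localization.Away a')] at this
      rw [show P = Q.asIdeal.comap (algebraMap A' (Localization.Away a')) from (congrArg PrimeSpectrum.asIdeal hQ).symm]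
      exact this
  have htors : ∀ s : Γ(Y, V) ⧸ p₀, s ≠ 0 → s • a' ≠ 0 := by
    intro s hs h0
    obtain ⟨s, rfl⟩ := Ideal.Quotient.mk_surjective s
    letI := (Y.evaluation V (genericPoint Y) hη).hom.toAlgebra
    apply ha0
    have hsu : IsUnit (algebraMap Γ(Y, V) (Y.residueField (genericPoint Y)) s) := by
      letI := Y.presheaf.algebra_section_stalk ⟨genericPoint Y, hη⟩
      haveI := hV.isLocalization_stalk ⟨genericPoint Y, hη⟩
      exact (IsLocalization.map_units (M := p₀.primeCompl) (Y.presheaf.stalk (genericPoint Y))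
        ⟨s, fun hc => hs (Ideal.Quotient.eq_zero_iff_mem.2 hc)⟩).map (Y.residue (genericPoint Y)).hom
    have hmem : s • a ∈ N := by
      rw [← Ideal.Quotient.eq_zero_iff_mem]
      exact h0
    have hkill : ∀ b ∈ N, b ⊗ₜ[Γ(Y, V)] (1 : Y.residueField (genericPoint Y)) = 0 := by
      have hle : N ≤ RingHom.ker (Algebra.TensorProduct.includeLeftRingHom :
          Γ(X, W) →+* Γ(X, W) ⊗[Γ(Y, V)] Y.residueField (genericPoint Y)) := Ideal.map_le_iff_le_comap.2 fun p hp => by
        show algebraMap Γ(Y, V) Γ(X, W) p ⊗ₜ[Γ(Y, V)] (1 : Y.residueField (genericPoint Y)) = 0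
        rw [← mul_one (algebraMap Γ(Y, V) Γ(X, W) p), ← Algebra.smul_def, TensorProduct.smul_tmul, Algebra.smul_def, mul_one]
        have : algebraMap Γ(Y, V) (Y.residueField (genericPoint Y)) p = 0 := by
          letI := Y.presheaf.algebra_section_stalk ⟨genericPoint Y, hη⟩
          haveI := hV.isLocalization_stalk ⟨genericPoint Y, hη⟩
          show IsLocalRing.residue _ (algebraMap Γ(Y, V) (Y.presheaf.stalk (genericPoint Y)) p) = 0
          rw [IsLocalRing.residue_eq_zero_iff]
          exact (IsLocalization.AtPrime.to_map_mem_maximal_iff (Y.presheaf.stalk (genericPoint Y)) p₀ p).2 hp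
        rw [this, TensorProduct.tmul_zero]
      exact fun b hb => hle hb
    have h1 := hkill _ hmem
    rw [TensorProduct.smul_tmul, Algebra.smul_def, mul_one] at h1
    rw [show a ⊗ₜ[Γ(Y, V)] algebraMap Γ(Y, V) (Y.residueField (genericPoint Y)) s =
      (a ⊗ₜ[Γ(Y, V)] (1 : Y.residueField (genericPoint Y))) *
        ((1 : Γ(X, W)) ⊗ₜ[Γ(Y, V)] algebraMap Γ(Y, V) (Y.residueField (genericPoint Y)) s) by
      rw [Algebra.TensorProduct.tmul_mul_tmul, mul_one, one_mul]] at h1
    exact (IsUnit.mul_left_eq_zero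
      (hsu.map (Algebra.TensorProduct.includeRight : Y.residueField (genericPoint Y) →ₐ[Γ(Y, V)] _))).1 h1
  obtain ⟨g₀, hg₀, hgne⟩ := exists_tmul_ne_zero a' htors
  obtain ⟨g, hg⟩ := Ideal.Quotient.mk_surjective (g₀ * r)
  refine ⟨Y.basicOpen g, ?_, fun y hy hred => ?_⟩
  · by_contra hc
    have hgp : g ∈ p₀ := by
      by_contra hgp
      refine hc ?_
      have h1 : hV.primeIdealOf ⟨genericPoint Y, hη⟩ ∈ hV.fromSpec ⁻¹ᵁ Y.basicOpen g := by
        rw [hV.fromSpec_preimage_basicOpen]
        exact hgp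
      have h2 : hV.fromSpec (hV.primeIdealOf ⟨genericPoint Y, hη⟩) ∈ Y.basicOpen g := h1
      rw [hV.fromSpec_primeIdealOf] at h2
      exact h2
    exact mul_ne_zero hg₀ hr (hg.symm.trans (Ideal.Quotient.eq_zero_iff_mem.2 hgp))
  · have hyV : y ∈ V := Y.basicOpen_le g hy
    letI := (Y.evaluation V y hyV).hom.toAlgebra
    obtain ⟨j, hj, -, -⟩ := FibreChart.exists_fibreChart f hV hW e y hyV
    haveI := hred
    haveI : IsReduced (Spec (CommRingCat.of (Γ(X, W) ⊗[Γ(Y, V)] Y.residueField y))) :=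
      isReduced_of_isOpenImmersion j
    haveI hring : _root_.IsReduced (Γ(X, W) ⊗[Γ(Y, V)] Y.residueField y) :=
      (affine_isReduced_iff _).1 this
    have hker : ∀ p ∈ p₀, algebraMap Γ(Y, V) (Y.residueField y) p = 0 := by
      intro p hp
      letI := Y.presheaf.algebra_section_stalk ⟨y, hyV⟩
      haveI := hV.isLocalization_stalk ⟨y, hyV⟩
      show IsLocalRing.residue _ (algebraMap Γ(Y, V) (Y.presheaf.stalk y) p) = 0
      rw [IsLocalRing.residue_eq_zero_iff]
      exact (IsLocalization.AtPrime.to_map_mem_maximal_iff (Y.presheaf.stalk y) (hV.primeIdealOf ⟨y, hyV⟩).asIdeal p).2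
        (hp₀ _ hp)
    letI : Algebra (Γ(Y, V) ⧸ p₀) (Y.residueField y) :=
      (Ideal.Quotient.lift p₀ (algebraMap Γ(Y, V) (Y.residueField y)) hker).toAlgebra
    have hgk : algebraMap (Γ(Y, V) ⧸ p₀) (Y.residueField y) (g₀ * r) ≠ 0 := by
      rw [← hg]
      show algebraMap Γ(Y, V) (Y.residueField y) g ≠ 0
      exact IsUnit.ne_zero ((Scheme.mem_basicOpen Y g y hyV).1 hy |>.map (Y.residue y).hom)
    have hne := hgne (g₀ * r) (dvd_mul_right _ _) (mul_ne_zero hg₀ hr) (Y.residueField y) hgk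
    let χ : Γ(X, W) ⊗[Γ(Y, V)] Y.residueField y →+* A' ⊗[Γ(Y, V) ⧸ p₀] Y.residueField y :=
      haveI : IsScalarTower Γ(Y, V) (Γ(Y, V) ⧸ p₀) (Y.residueField y) := IsScalarTower.of_algebraMap_eq fun r => rfl
      (Algebra.TensorProduct.lift (R := Γ(Y, V)) (S := Γ(Y, V))
        (((Algebra.TensorProduct.includeLeft : A' →ₐ[Γ(Y, V) ⧸ p₀] A' ⊗[Γ(Y, V) ⧸ p₀] Y.residueField y).restrictScalars Γ(Y, V)).comp
          (Ideal.Quotient.mkₐ Γ(Y, V) N))
        ((Algebra.TensorProduct.includeRight : Y.residueField y →ₐ[Γ(Y, V) ⧸ p₀] A' ⊗[Γ(Y, V) ⧸ p₀] Y.residueField y).restrictScalars Γ(Y, V))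
        fun _ _ => Commute.all _ _).toRingHom
    have hχ : χ (a ⊗ₜ 1) = a' ⊗ₜ 1 := by
      simp [χ, a']
      rfl
    obtain ⟨n, hn⟩ := hnil
    obtain ⟨r₀, hr₀⟩ := Ideal.Quotient.mk_surjective r
    have hmem : (algebraMap Γ(Y, V) Γ(X, W) r₀ * a) ^ n ∈ N := by
      rw [← Ideal.Quotient.eq_zero_iff_mem, map_pow, map_mul, ← hn, ← hr₀]
      rfl
    have hle : N ≤ RingHom.ker (Algebra.TensorProduct.includeLeftRingHom :
        Γ(X, W) →+* Γ(X, W) ⊗[Γ(Y, V)] Y.residueField y) := Ideal.map_le_iff_le_comap.2 fun p hp => by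
      show algebraMap Γ(Y, V) Γ(X, W) p ⊗ₜ[Γ(Y, V)] (1 : Y.residueField y) = 0
      rw [← mul_one (algebraMap Γ(Y, V) Γ(X, W) p), ← Algebra.smul_def, TensorProduct.smul_tmul, Algebra.smul_def,
        mul_one, hker p hp, TensorProduct.tmul_zero]
    have h1 : (algebraMap Γ(Y, V) Γ(X, W) r₀ * a) ⊗ₜ[Γ(Y, V)] (1 : Y.residueField y) = 0 := by
      apply hring.eq_zero
      refine ⟨n, ?_⟩
      rw [Algebra.TensorProduct.tmul_pow, one_pow]
      exact hle hmem
    rw [← Algebra.smul_def, TensorProduct.smul_tmul, Algebra.smul_def, mul_one] at h1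
    have h2 := congrArg χ (show (a ⊗ₜ[Γ(Y, V)] (1 : Y.residueField y)) *
        ((1 : Γ(X, W)) ⊗ₜ[Γ(Y, V)] algebraMap Γ(Y, V) (Y.residueField y) r₀) = 0 by
      rw [Algebra.TensorProduct.tmul_mul_tmul, mul_one, one_mul]; exact h1)
    rw [map_mul, map_zero, hχ] at h2
    have hr₀u : IsUnit (algebraMap Γ(Y, V) (Y.residueField y) r₀) := by
      refine Ne.isUnit fun h => hgk ?_
      rw [map_mul, ← hr₀]
      show _ * algebraMap Γ(Y, V) (Y.residueField y) r₀ = 0
      rw [h, mul_zero]
    exact hne ((IsUnit.mul_left_eq_zero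
      ((hr₀u.map (Algebra.TensorProduct.includeRight : Y.residueField y →ₐ[Γ(Y, V)] Γ(X, W) ⊗[Γ(Y, V)] Y.residueField y)).map χ)).1 h2)

end Scheme

end Groth.Agent.H7Flat.GenericFibre
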