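import Groth.Agent.H7Flat.HenselQuotient
import Groth.Agent.H7Flat.FlatTransfer
import Groth.Agent.H7Flat.GaussValuation
import Groth.Agent.H7Flat.UnivInjCover
import Groth.Agent.H9Hens.PtNormal
import Groth.Agent.H9Hens.PtBase
import Groth.Agent.H7Flat.SpecializationDense

/-!
The closed fibre of the henselization of a polynomial ring over a local ring.
-/

set_option autoImplicit false
universe u

namespace Groth.Agent.H7Flat.HenselClosedFibre

open TensorProduct IsLocalRing MvPolynomial GaussValuation

attribute [local instance] Algebra.TensorProduct.rightAlgebra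
attribute [local instance] MvPolynomial.algebraMvPolynomial

set_option backward.isDefEq.respectTransparency false
set_option maxHeartbeats 1000000
set_option synthInstance.maxHeartbeats 400000

/-- The closed fibre is a domain algebraic over the polynomial ring over the residue field. -/
theorem closedFibre {R : Type u} [CommRing R] [IsLocalRing R] {n : ℕ}
    (y : Ideal (MvPolynomial (Fin n) R)) [y.IsPrime] (hy : y.comap C = maximalIdeal R)
    (L : Type u) [CommRing L] [IsLocalRing L] [Algebra (Localization.AtPrime y) L]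
    [IsLocalHom (algebraMap (Localization.AtPrime y) L)]
    [Hensel.IsHenselization (Localization.AtPrime y) L]
    [Algebra (MvPolynomial (Fin n) R) L]
    [IsScalarTower (MvPolynomial (Fin n) R) (Localization.AtPrime y) L]
    [Algebra R L] [IsScalarTower R (MvPolynomial (Fin n) R) L] :
    ((maximalIdeal R).map (algebraMap R L)).IsPrime ∧
      ((maximalIdeal R).map (algebraMap R L)).comap (algebraMap (MvPolynomial (Fin n) R) L) =
        (maximalIdeal R).map C ∧
      ∀ c ∉ (maximalIdeal R).map (algebraMap R L), ∃ a : MvPolynomial (Fin n) R,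
        a ∉ (maximalIdeal R).map C ∧
          algebraMap _ L a ∈ Ideal.span {c} ⊔ (maximalIdeal R).map (algebraMap R L) := by
  let k := ResidueField R
  have hres : Function.Surjective (algebraMap R k) := residue_surjective
  have hker : RingHom.ker (algebraMap R k) = maximalIdeal R := ker_residue (R := R)
  let Pl := MvPolynomial (Fin n) R
  let Pk := MvPolynomial (Fin n) k
  let red : Pl →+* Pk := algebraMap Pl Pk
  have hredsurj : Function.Surjective red := MvPolynomial.map_surjective _ hres
  have hredker : RingHom.ker red = (maximalIdeal R).map C := by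
    rw [← hker]
    exact MvPolynomial.ker_map _
  have hle : RingHom.ker red ≤ y := by
    rw [hredker, Ideal.map_le_iff_le_comap, hy]
  let y₁ : Ideal Pk := y.map red
  have : y₁.IsPrime := Ideal.map_isPrime_of_surjective hredsurj hle
  have hy₁ : y₁.comap red = y := by
    rw [Ideal.comap_map_of_surjective red hredsurj, ← RingHom.ker_eq_comap_bot, sup_eq_left]
    exact hle
  obtain ⟨L₁, _, _, _, _, _, _, _, _, _, _, _, _, hH, hp, hsurj, hcomp⟩ :=
    HenselQuotient.exists_quotient_stage hres y y₁ hy₁ L
  let W₁ := Localization.AtPrime y₁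
  obtain ⟨π₁, hπ₁⟩ := H9Hens.exists_isPtColim_of_isHenselization (R := W₁) L₁
  have := hπ₁.faithfullyFlat H9Hens.ker_algebraMap_residueField
  have : IsDomain W₁ := IsLocalization.isDomain_localization (Ideal.primeCompl_le_nonZeroDivisors y₁)
  have : IsIntegrallyClosed Pk := isIntegrallyClosed_mvPolynomial_fin k n
  have : IsIntegrallyClosed W₁ :=
    isIntegrallyClosed_of_isLocalization W₁ y₁.primeCompl (Ideal.primeCompl_le_nonZeroDivisors y₁)
  have := hπ₁.isDomain
  have hinj : Function.Injective (algebraMap Pk L₁) := by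
    rw [IsScalarTower.algebraMap_eq Pk W₁ L₁]
    exact (FaithfulSMul.algebraMap_injective W₁ L₁).comp
      (IsLocalization.injective W₁ (Ideal.primeCompl_le_nonZeroDivisors y₁))
  have hk : RingHom.ker (algebraMap L L₁) = (maximalIdeal R).map (algebraMap R L) := by
    rw [HenselQuotient.ker_le_of_isPushout hres, hker]
  refine ⟨hk ▸ RingHom.ker_isPrime _, ?_, fun c hc => ?_⟩
  · rw [← hk, RingHom.ker_eq_comap_bot, Ideal.comap_comap,
      show (algebraMap L L₁).comp (algebraMap Pl L) = (algebraMap Pk L₁).comp red from
        RingHom.ext hcomp, ← Ideal.comap_comap,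
      show (⊥ : Ideal L₁).comap (algebraMap Pk L₁) = ⊥ from (RingHom.injective_iff_ker_eq_bot _).mp hinj,
      ← RingHom.ker_eq_comap_bot, hredker]
  · have hc1 : algebraMap L L₁ c ≠ 0 := fun h => hc (hk ▸ (RingHom.mem_ker.mpr h))
    obtain ⟨a₁, ha₁, hdvd⟩ := FlatTransfer.exists_dvd_algebraMap hπ₁
      (FaithfulSMul.algebraMap_injective W₁ L₁) _ hc1
    obtain ⟨num, den, rfl⟩ := IsLocalization.exists_mk'_eq y₁.primeCompl a₁
    obtain ⟨a, rfl⟩ := hredsurj num
    refine ⟨a, fun h => ha₁ ?_, ?_⟩
    · rw [← hredker] at h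
      rw [RingHom.mem_ker.mp h, IsLocalization.mk'_zero]
    · obtain ⟨b, hb⟩ := hdvd
      obtain ⟨b', hb'⟩ := hsurj (b * algebraMap Pk L₁ den)
      have h1 : algebraMap L L₁ (algebraMap Pl L a) = algebraMap L L₁ (c * b') := by
        rw [hcomp, map_mul, hb', ← mul_assoc, ← hb, IsScalarTower.algebraMap_apply Pk W₁ L₁ den,
          ← map_mul, IsLocalization.mk'_spec, ← IsScalarTower.algebraMap_apply]
        rfl
      rw [← hk]
      refine Submodule.mem_sup.mpr ⟨c * b', Ideal.mem_span_singleton'.mpr ⟨b', mul_comm _ _⟩,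
        algebraMap Pl L a - c * b', ?_, add_sub_cancel _ _⟩
      rw [RingHom.mem_ker, map_sub, h1, sub_self]

/-- Stages of the henselization are flat below it. -/
theorem flat_stage {Pl : Type u} [CommRing Pl] (y : Ideal Pl) [y.IsPrime] (L : Type u) [CommRing L]
    [IsLocalRing L] [Algebra (Localization.AtPrime y) L]
    [IsLocalHom (algebraMap (Localization.AtPrime y) L)]
    [Hensel.IsHenselization (Localization.AtPrime y) L] [Algebra Pl L]
    [IsScalarTower Pl (Localization.AtPrime y) L] (G : Type u) [CommRing G] [Algebra Pl G]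
    [Algebra.Etale Pl G] [Algebra G L] [IsScalarTower Pl G L] : Module.Flat G L := by
  let W := Localization.AtPrime y
  obtain ⟨π, hπ⟩ := H9Hens.exists_isPtColim_of_isHenselization (R := W) L
  let S2 := W ⊗[Pl] G
  let φ : S2 →ₐ[Pl] L := Algebra.TensorProduct.lift (IsScalarTower.toAlgHom Pl W L)
    (IsScalarTower.toAlgHom Pl G L) fun _ _ => mul_comm _ _
  let : Algebra S2 L := φ.toRingHom.toAlgebra
  have : IsScalarTower W S2 L := IsScalarTower.of_algebraMap_eq fun w => by
    change algebraMap W L w = φ (w ⊗ₜ[Pl] (1 : G))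
    rw [Algebra.TensorProduct.lift_tmul, map_one, mul_one]
    rfl
  have : IsScalarTower G S2 L := IsScalarTower.of_algebraMap_eq fun g => by
    change algebraMap G L g = φ ((1 : W) ⊗ₜ[Pl] g)
    rw [Algebra.TensorProduct.lift_tmul, map_one, one_mul]
    rfl
  have := hπ.flat_of_etale S2
  have : Module.Flat Pl W := IsLocalization.flat W y.primeCompl
  have : Module.Flat G S2 := Module.Flat.isBaseChange Pl G W S2
    (Algebra.IsPushout.symm (inferInstance : Algebra.IsPushout Pl W G S2)).out
  exact Module.Flat.trans G S2 L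

/-- Membership in extended ideals descends along a flat algebra away from primes which stay proper. -/
theorem exists_notMem_mul_mem {G L : Type u} [CommRing G] [CommRing L] [Algebra G L] [Module.Flat G L]
    (J : Ideal G) (x : G) (hx : algebraMap G L x ∈ J.map (algebraMap G L)) (q : Ideal G)
    (hq : q.map (algebraMap G L) ≠ ⊤) : ∃ g ∉ q, g * x ∈ J := by
  have hbc : IsBaseChange L (TensorProduct.mk G L (G ⧸ J) 1) := TensorProduct.isBaseChange G _ L
  have h0 : TensorProduct.mk G L (G ⧸ J) 1 (Ideal.Quotient.mk J x) = 0 := by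
    apply (TensorProduct.tensorQuotEquivQuotSMul L J).injective
    rw [map_zero, TensorProduct.mk_apply, show Ideal.Quotient.mk J x = x • Ideal.Quotient.mk J (1 : G) by
      rw [Algebra.smul_def, Ideal.Quotient.algebraMap_eq, ← map_mul, mul_one],
      TensorProduct.tmul_smul, map_smul, TensorProduct.tensorQuotEquivQuotSMul_tmul_mk, one_smul,
      ← Submodule.Quotient.mk_smul, Submodule.Quotient.mk_eq_zero, Ideal.smul_top_eq_map,
      Submodule.restrictScalars_mem, Algebra.smul_def, mul_one]
    exact hx
  have htop := UnivInjCover.map_annihilator_eq_top hbc h0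
  by_contra h
  push Not at h
  refine hq (top_le_iff.mp (htop.ge.trans (Ideal.map_mono fun g hg => ?_)))
  by_contra hgq
  refine h g hgq (Ideal.Quotient.eq_zero_iff_mem.mp ?_)
  rw [map_mul, ← Ideal.Quotient.algebraMap_eq, ← Algebra.smul_def]
  exact (Submodule.mem_annihilator_span_singleton _ g).mp hg

end Groth.Agent.H7Flat.HenselClosedFibre
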