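import Groth.Agent.H7Flat.HenselGaussInj
import Groth.Agent.H7Flat.HenselClosedFibre
import Groth.Agent.H7Flat.FibreRegular
import Groth.Agent.H7Flat.ImpurityRebase
import Groth.Agent.H9Hens.BranchNormal
import Groth.Agent.H9Hens.Split
import Mathlib.RingTheory.Etale.QuasiFinite

/-!
Over a henselian local ring, relations in fibres of flat modules over henselizations of polynomial
rings.
-/

set_option autoImplicit false
universe u

namespace Groth.Agent.H7Flat.HenselFibreInj

open TensorProduct IsLocalRing MvPolynomial GaussValuation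
open FlatMor

attribute [local instance] Algebra.TensorProduct.rightAlgebra
attribute [local instance] MvPolynomial.algebraMvPolynomial

set_option backward.isDefEq.respectTransparency false
set_option maxHeartbeats 1000000
set_option synthInstance.maxHeartbeats 400000

/-- A relation with coefficients in `p` between elements independent on the closed fibre has
coefficients in `p`: the case of the generic point of the closed fibre. -/
theorem mem_map_of_sum_mem_generic {R : Type u} [CommRing R] [HenselianLocalRing R] (p : Ideal R)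
    [p.IsPrime] {n : ℕ}
    (L : Type u) [CommRing L] [IsLocalRing L]
    [Algebra (Localization.AtPrime ((maximalIdeal R).map (C : R →+* MvPolynomial (Fin n) R))) L]
    [IsLocalHom (algebraMap
      (Localization.AtPrime ((maximalIdeal R).map (C : R →+* MvPolynomial (Fin n) R))) L)]
    [Hensel.IsHenselization
      (Localization.AtPrime ((maximalIdeal R).map (C : R →+* MvPolynomial (Fin n) R))) L]
    [Algebra (MvPolynomial (Fin n) R) L]
    [IsScalarTower (MvPolynomial (Fin n) R)
      (Localization.AtPrime ((maximalIdeal R).map (C : R →+* MvPolynomial (Fin n) R))) L]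
    [Algebra R L] [IsScalarTower R (MvPolynomial (Fin n) R) L]
    {M : Type u} [AddCommGroup M] [Module L M] [Module R M] [IsScalarTower R L M] [Module.Flat R M]
    {r : ℕ} (e : Fin r → M)
    (hind : ∀ z : Fin r → L, ∑ i, z i • e i ∈ maximalIdeal L • (⊤ : Submodule L M) →
      ∀ i, z i ∈ maximalIdeal L)
    (z : Fin r → L) (hz : ∑ i, z i • e i ∈ p • (⊤ : Submodule R M)) :
    ∀ i, z i ∈ p.map (algebraMap R L) := by
  let R₁ := R ⧸ p
  have : Nontrivial R₁ := Ideal.Quotient.nontrivial_iff.mpr (Ideal.IsPrime.ne_top inferInstance)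
  have : IsLocalRing R₁ := IsLocalRing.of_surjective' (Ideal.Quotient.mk p) Ideal.Quotient.mk_surjective
  have : HenselianLocalRing R₁ := H9Hens.henselianLocalRing_quotient p
  have hpm : p ≤ maximalIdeal R := le_maximalIdeal (Ideal.IsPrime.ne_top inferInstance)
  have hsurjR : Function.Surjective (algebraMap R R₁) := Ideal.Quotient.mk_surjective
  have : IsLocalHom (algebraMap R R₁) := hsurjR.isLocalHom _
  have hy : ((maximalIdeal R₁).map (C : R₁ →+* MvPolynomial (Fin n) R₁)).comap
      (algebraMap (MvPolynomial (Fin n) R) (MvPolynomial (Fin n) R₁)) = (maximalIdeal R).map C := by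
    ext f
    rw [Ideal.mem_comap, MvPolynomial.mem_map_C_iff, MvPolynomial.mem_map_C_iff]
    refine forall_congr' fun d => ?_
    rw [show (algebraMap (MvPolynomial (Fin n) R) (MvPolynomial (Fin n) R₁) f).coeff d =
      algebraMap R R₁ (f.coeff d) from MvPolynomial.coeff_map _ _ _, ← Ideal.mem_comap,
      IsLocalRing.maximalIdeal_comap]
  obtain ⟨L₁, _, _, _, _, _, _, _, _, _, _, _, _, hH, hp, hsurj, -⟩ :=
    HenselQuotient.exists_quotient_stage hsurjR _ _ hy L
  have hker : RingHom.ker (algebraMap L L₁) = p.map (algebraMap R L) := by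
    rw [HenselQuotient.ker_le_of_isPushout hsurjR]
    exact congrArg _ (Ideal.mk_ker (I := p))
  have : IsLocalHom (algebraMap L L₁) := hsurj.isLocalHom _
  have hL₁ : ∀ a : L, algebraMap L L₁ a ∈ maximalIdeal L₁ ↔ a ∈ maximalIdeal L := fun a => by
    rw [← Ideal.mem_comap, IsLocalRing.maximalIdeal_comap]
  let M₁ := L₁ ⊗[L] M
  let ι : M →ₗ[L] M₁ := TensorProduct.mk L L₁ M 1
  have : Module.Flat R₁ M₁ :=
    Module.Flat.of_linearEquiv (Algebra.IsPushout.cancelBaseChange R R₁ L L₁ M)
  have : IsScalarTower R₁ L₁ M₁ := inferInstance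
  have hιsurj : Function.Surjective ι := fun x => by
    induction x using TensorProduct.induction_on with
    | zero => exact ⟨0, map_zero _⟩
    | add a b ha hb =>
      obtain ⟨a', rfl⟩ := ha
      obtain ⟨b', rfl⟩ := hb
      exact ⟨a' + b', map_add _ _ _⟩
    | tmul a m =>
      obtain ⟨a', rfl⟩ := hsurj a
      refine ⟨a' • m, ?_⟩
      rw [map_smul, TensorProduct.mk_apply, TensorProduct.smul_tmul', Algebra.smul_def, mul_one]
  have hιker : ∀ x : M, ι x = 0 ↔ x ∈ p • (⊤ : Submodule R M) := fun x => by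
    rw [← (Algebra.IsPushout.cancelBaseChange R R₁ L L₁ M).map_eq_zero_iff,
      TensorProduct.mk_apply, Algebra.IsPushout.cancelBaseChange_tmul,
      ← (TensorProduct.quotTensorEquivQuotSMul M p).map_eq_zero_iff,
      ← Submodule.Quotient.mk_eq_zero]
    rw [show TensorProduct.quotTensorEquivQuotSMul M p ((1 : R₁) ⊗ₜ[R] x) =
      Submodule.Quotient.mk x from
        (TensorProduct.quotTensorEquivQuotSMul_mk_tmul p 1 x).trans (congrArg _ (one_smul R x))]
  have hsmul : ∀ (a : L) (x : M), algebraMap L L₁ a • ι x = ι (a • x) := fun a x => by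
    rw [algebraMap_smul, map_smul]
  have hind₁ : ∀ w : Fin r → L₁, ∑ i, w i • ι (e i) ∈ maximalIdeal L₁ • (⊤ : Submodule L₁ M₁) →
      ∀ i, w i ∈ maximalIdeal L₁ := by
    intro w hw
    choose w' hw' using fun i => hsurj (w i)
    have h1 : ∀ x ∈ maximalIdeal L₁ • (⊤ : Submodule L₁ M₁),
        ∃ x' ∈ maximalIdeal L • (⊤ : Submodule L M), ι x' = x := by
      intro x hx
      refine Submodule.smul_induction_on hx (fun a ha m _ => ?_) fun a b ha hb => ?_
      · obtain ⟨a', rfl⟩ := hsurj a
        obtain ⟨m', rfl⟩ := hιsurj m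
        exact ⟨a' • m', Submodule.smul_mem_smul ((hL₁ a').mp ha) Submodule.mem_top,
          (hsmul a' m').symm⟩
      · obtain ⟨a', ha', rfl⟩ := ha
        obtain ⟨b', hb', rfl⟩ := hb
        exact ⟨a' + b', add_mem ha' hb', map_add _ _ _⟩
    obtain ⟨x', hx', hx⟩ := h1 _ hw
    have h2 : ι ((∑ i, w' i • e i) - x') = 0 := by
      rw [map_sub, hx, map_sum]
      exact sub_eq_zero.mpr (Finset.sum_congr rfl fun i _ => by rw [← hsmul, hw'])
    have h3 : ∀ y ∈ p • (⊤ : Submodule R M), y ∈ maximalIdeal L • (⊤ : Submodule L M) := by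
      intro y hy
      refine Submodule.smul_induction_on hy (fun a ha m _ => ?_) fun a b ha hb => add_mem ha hb
      rw [← algebraMap_smul L a m]
      refine Submodule.smul_mem_smul ?_ Submodule.mem_top
      refine (hL₁ _).mp ?_
      rw [RingHom.mem_ker.mp (hker.ge (Ideal.mem_map_of_mem _ ha))]
      exact zero_mem _
    intro i
    rw [← hw', hL₁]
    refine hind w' ?_ i
    have := add_mem (h3 _ ((hιker _).mp h2)) hx'
    rwa [sub_add_cancel] at this
  have h0 : ∑ i, algebraMap L L₁ (z i) • ι (e i) = 0 := by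
    rw [Finset.sum_congr rfl fun i _ => hsmul (z i) (e i), ← map_sum]
    exact (hιker _).mpr hz
  have h := HenselGaussInj.injective_of_domain (R := R₁) (n := n) L₁ (fun i => ι (e i)) hind₁ _ h0
  exact fun i => hker.le (RingHom.mem_ker.mpr (congrFun h i))

/-- Functionals on the fibre at a prime dual to elements independent modulo it. -/
theorem exists_functional {L M : Type u} [CommRing L] [AddCommGroup M] [Module L M] (𝔭 : Ideal L)
    [𝔭.IsPrime] {r : ℕ} (e : Fin r → M)
    (hind : ∀ z : Fin r → L, ∑ i, z i • e i ∈ 𝔭 • (⊤ : Submodule L M) → ∀ i, z i ∈ 𝔭) :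
    ∃ φ : M →ₗ[L] (Fin r → 𝔭.ResidueField), ∀ i, φ (e i) = Pi.single i 1 := by
  classical
  let Lb := L ⧸ 𝔭
  let F := 𝔭.ResidueField
  let w : (Fin r → F) →ₗ[F] F ⊗[L] M :=
    Fintype.linearCombination F fun i => (1 : F) ⊗ₜ[L] e i
  have hw : LinearMap.ker w = ⊥ := by
    rw [LinearMap.ker_eq_bot']
    intro m hm
    obtain ⟨⟨s, hs⟩, hsm⟩ := IsLocalization.exist_integer_multiples_of_finite (nonZeroDivisors Lb) m
    choose a ha using fun i => hsm i
    choose a' ha' using fun i => Ideal.Quotient.mk_surjective (a i)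
    obtain ⟨s', rfl⟩ := Ideal.Quotient.mk_surjective s
    have h1 : (1 : F) ⊗ₜ[L] (∑ i, a' i • e i) = 0 := by
      rw [TensorProduct.tmul_sum]
      have h2 : s' • w m = 0 := by rw [hm, smul_zero]
      rw [← h2]
      simp only [w, Fintype.linearCombination_apply, Finset.smul_sum]
      refine Finset.sum_congr rfl fun i _ => ?_
      rw [← smul_assoc, TensorProduct.tmul_smul, ← algebraMap_smul F (a' i),
        IsScalarTower.algebraMap_apply L Lb F, Ideal.Quotient.algebraMap_eq, ha', ha,
        ← algebraMap_smul Lb s' (m i)]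
      rfl
    let N := Lb ⊗[L] M
    have h3 : TensorProduct.mk Lb F N 1 ((1 : Lb) ⊗ₜ[L] (∑ i, a' i • e i)) = 0 := by
      apply (AlgebraTensorModule.cancelBaseChange L Lb F F M).injective
      rw [map_zero, TensorProduct.mk_apply, AlgebraTensorModule.cancelBaseChange_tmul, one_smul, h1]
    have : IsLocalizedModule (nonZeroDivisors Lb) (TensorProduct.mk Lb F N 1) :=
      (isLocalizedModule_iff_isBaseChange (nonZeroDivisors Lb) F _).mpr
        (TensorProduct.isBaseChange Lb N F)
    obtain ⟨⟨t, ht⟩, htz⟩ := (IsLocalizedModule.eq_zero_iff (nonZeroDivisors Lb)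
      (TensorProduct.mk Lb F N 1)).mp h3
    obtain ⟨t', rfl⟩ := Ideal.Quotient.mk_surjective t
    have h4 : (∑ i, (t' * a' i) • e i) ∈ 𝔭 • (⊤ : Submodule L M) := by
      rw [Finset.sum_congr rfl fun i _ => mul_smul t' (a' i) (e i), ← Finset.smul_sum,
        ← Submodule.Quotient.mk_eq_zero]
      have h5 := congrArg (TensorProduct.quotTensorEquivQuotSMul M 𝔭) htz
      rw [map_zero] at h5
      refine Eq.trans ?_ h5
      rw [Submonoid.smul_def]
      change _ = TensorProduct.quotTensorEquivQuotSMul M 𝔭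
        ((Ideal.Quotient.mk 𝔭 t' * 1) ⊗ₜ[L] (∑ i, a' i • e i))
      rw [mul_one]
      exact (TensorProduct.quotTensorEquivQuotSMul_mk_tmul 𝔭 t' _).symm
    funext i
    have h6 := hind _ h4 i
    have ht0 : t' ∉ 𝔭 := fun h => nonZeroDivisors.ne_zero ht (Ideal.Quotient.eq_zero_iff_mem.mpr h)
    have ha0 : a i = 0 := by
      rw [← ha', Ideal.Quotient.eq_zero_iff_mem]
      exact ((Ideal.IsPrime.mem_or_mem ‹𝔭.IsPrime› h6)).resolve_left ht0
    have h7 := ha i
    rw [ha0, map_zero] at h7
    rw [Pi.zero_apply]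
    exact (smul_eq_zero.mp h7.symm).resolve_left (nonZeroDivisors.ne_zero hs)
  obtain ⟨ψ, hψ⟩ := w.exists_leftInverse_of_injective hw
  refine ⟨(ψ.restrictScalars L).comp (TensorProduct.mk L F M 1), fun i => ?_⟩
  have := LinearMap.congr_fun hψ (Pi.single i 1)
  change ψ ((1 : F) ⊗ₜ[L] e i) = _
  simpa [w] using this

/-- Independence on the closed fibre passes to a local algebra over a stage. -/
theorem sum_tmul_mem_maximal {G L T M : Type u} [CommRing G] [CommRing L] [CommRing T] [IsLocalRing T]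
    [Algebra G L] [Algebra G T] [AddCommGroup M] [Module L M] [Module G M] [IsScalarTower G L M]
    (𝔭 : Ideal L) [𝔭.IsPrime] (𝔭G : Ideal G) [𝔭G.IsPrime]
    (h𝔭 : 𝔭G = 𝔭.comap (algebraMap G L)) (ν : 𝔭G.ResidueField →ₐ[G] ResidueField T) {r : ℕ}
    (e : Fin r → M) (hind : ∀ z : Fin r → L, ∑ i, z i • e i ∈ 𝔭 • (⊤ : Submodule L M) → ∀ i, z i ∈ 𝔭)
    (t : Fin r → T)
    (ht : ∑ i, t i ⊗ₜ[G] e i ∈ maximalIdeal T • (⊤ : Submodule T (T ⊗[G] M))) :
    ∀ i, t i ∈ maximalIdeal T := by
  classical
  obtain ⟨φ, hφ⟩ := exists_functional 𝔭 e hind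
  let F := 𝔭.ResidueField
  let μ : 𝔭G.ResidueField →ₐ[G] F := Ideal.ResidueField.mapₐ 𝔭G 𝔭 (Algebra.ofId G L) h𝔭
  let : Algebra 𝔭G.ResidueField F := μ.toRingHom.toAlgebra
  have : IsScalarTower G 𝔭G.ResidueField F :=
    IsScalarTower.of_algebraMap_eq fun g => (μ.commutes g).symm
  obtain ⟨ρ, hρ⟩ := (Algebra.linearMap 𝔭G.ResidueField F).exists_leftInverse_of_injective
    (LinearMap.ker_eq_bot.mpr (algebraMap 𝔭G.ResidueField F).injective)
  have hρ1 : ρ 1 = 1 := by
    have := LinearMap.congr_fun hρ 1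
    simpa using this
  intro k
  let Φ₀ : M →ₗ[G] ResidueField T :=
    (ν.toLinearMap.comp (ρ.restrictScalars G)).comp
      ((LinearMap.proj k).comp (φ.restrictScalars G))
  have hΦ₀ : ∀ i, Φ₀ (e i) = if i = k then 1 else 0 := fun i => by
    change ν (ρ (φ (e i) k)) = _
    rw [hφ, Pi.single_apply]
    by_cases h : i = k
    · subst h
      rw [if_pos rfl, hρ1, map_one, if_pos rfl]
    · rw [if_neg (Ne.symm h), map_zero, map_zero, if_neg h]
  have h2 : ∀ x ∈ maximalIdeal T • (⊤ : Submodule T (T ⊗[G] M)), Φ₀.liftBaseChange T x = 0 := fun x hx => by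
    refine Submodule.smul_induction_on hx (fun a ha m _ => ?_) fun a b ha hb => ?_
    · rw [map_smul, Algebra.smul_def,
        show algebraMap T (ResidueField T) a = 0 from (residue_eq_zero_iff a).mpr ha, zero_mul]
    · rw [map_add, ha, hb, add_zero]
  have h1 := h2 _ ht
  rw [map_sum, Finset.sum_eq_single k
    (fun i _ hi => by rw [LinearMap.liftBaseChange_tmul, hΦ₀, if_neg hi, smul_zero])
    (fun h => absurd (Finset.mem_univ k) h), LinearMap.liftBaseChange_tmul, hΦ₀, if_pos rfl,
    Algebra.smul_def, mul_one] at h1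
  exact (residue_eq_zero_iff _).mp h1

/-- Coordinates in a finite free algebra with the same maximal ideal. -/
theorem repr_mem {Wh T : Type u} [CommRing Wh] [CommRing T] [Algebra Wh T] {d : ℕ}
    (b : Module.Basis (Fin d) Wh T) (I : Ideal Wh) (x : T) (hx : x ∈ I.map (algebraMap Wh T))
    (j : Fin d) : b.repr x j ∈ I := by
  have hx' : x ∈ I • (⊤ : Submodule Wh T) := by rwa [Ideal.smul_top_eq_map]
  refine Submodule.smul_induction_on hx' (fun a ha m _ => ?_) fun a c ha hc => ?_
  · rw [map_smul, Finsupp.smul_apply, smul_eq_mul]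
    exact I.mul_mem_right _ ha
  · rw [map_add, Finsupp.add_apply]
    exact add_mem ha hc

/-- The relation at a finite stage: the element lies in the extension of `p` to the local algebra. -/
theorem mem_map_stage {R : Type u} [CommRing R] [HenselianLocalRing R] (p : Ideal R) [p.IsPrime]
    {n : ℕ} (Wh : Type u) [CommRing Wh] [IsLocalRing Wh]
    [Algebra (Localization.AtPrime ((maximalIdeal R).map (C : R →+* MvPolynomial (Fin n) R))) Wh]
    [IsLocalHom (algebraMap
      (Localization.AtPrime ((maximalIdeal R).map (C : R →+* MvPolynomial (Fin n) R))) Wh)]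
    [Hensel.IsHenselization
      (Localization.AtPrime ((maximalIdeal R).map (C : R →+* MvPolynomial (Fin n) R))) Wh]
    [Algebra (MvPolynomial (Fin n) R) Wh]
    [IsScalarTower (MvPolynomial (Fin n) R)
      (Localization.AtPrime ((maximalIdeal R).map (C : R →+* MvPolynomial (Fin n) R))) Wh]
    [Algebra R Wh] [IsScalarTower R (MvPolynomial (Fin n) R) Wh]
    {G T L M : Type u} [CommRing G] [CommRing T] [IsLocalRing T] [CommRing L] [Algebra R G]
    [Algebra G T] [Algebra R T] [IsScalarTower R G T] [Algebra Wh T] [IsScalarTower R Wh T]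
    [Module.Flat G T] [Algebra G L] [AddCommGroup M] [Module L M] [Module G M] [IsScalarTower G L M]
    [Module R M] [IsScalarTower R G M] [Module.Flat R M] {d : ℕ} (b : Module.Basis (Fin d) Wh T)
    (hmT : (maximalIdeal Wh).map (algebraMap Wh T) = maximalIdeal T)
    (𝔭 : Ideal L) [𝔭.IsPrime] (𝔭G : Ideal G) [𝔭G.IsPrime] (h𝔭 : 𝔭G = 𝔭.comap (algebraMap G L))
    (ν : 𝔭G.ResidueField →ₐ[G] ResidueField T) {r : ℕ}
    (e : Fin r → M) (hind : ∀ z : Fin r → L, ∑ i, z i • e i ∈ 𝔭 • (⊤ : Submodule L M) → ∀ i, z i ∈ 𝔭)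
    (zG : Fin r → G) (hz : ∑ i, zG i • e i ∈ p • (⊤ : Submodule R M)) (i : Fin r) :
    algebraMap G T (zG i) ∈ (p.map (algebraMap R G)).map (algebraMap G T) := by
  classical
  let MT := T ⊗[G] M
  have : Module.Flat R MT := FlatTransfer.flat_tensor
  have : SMulCommClass G Wh T := ⟨fun a v x => by
    rw [Algebra.smul_def a, Algebra.smul_def v, Algebra.smul_def a, Algebra.smul_def v, mul_left_comm]⟩
  have : IsScalarTower R Wh MT := IsScalarTower.of_algebraMap_smul fun a x => by
    rw [← algebraMap_smul T (algebraMap R Wh a) x, ← IsScalarTower.algebraMap_apply R Wh T,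
      algebraMap_smul]
  let σ : Fin (r * d) ≃ Fin r × Fin d := finProdFinEquiv.symm
  let e' : Fin (r * d) → MT := fun k => b (σ k).2 ⊗ₜ[G] e (σ k).1
  have hexp : ∀ w : Fin (r * d) → Wh,
      ∑ k, w k • e' k = ∑ i, (∑ j, w (σ.symm (i, j)) • b j) ⊗ₜ[G] e i := fun w => by
    rw [← Equiv.sum_comp σ.symm, Fintype.sum_prod_type]
    refine Finset.sum_congr rfl fun i _ => ?_
    rw [TensorProduct.sum_tmul]
    refine Finset.sum_congr rfl fun j _ => ?_
    simp only [e', Equiv.apply_symm_apply]
    rw [TensorProduct.smul_tmul']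
  have hind' : ∀ w : Fin (r * d) → Wh,
      ∑ k, w k • e' k ∈ maximalIdeal Wh • (⊤ : Submodule Wh MT) → ∀ k, w k ∈ maximalIdeal Wh := by
    intro w hw k
    rw [hexp] at hw
    have h1 : ∀ x ∈ maximalIdeal Wh • (⊤ : Submodule Wh MT),
        x ∈ maximalIdeal T • (⊤ : Submodule T MT) := fun x hx => by
      refine Submodule.smul_induction_on hx (fun a ha m _ => ?_) fun a c ha hc => add_mem ha hc
      rw [← algebraMap_smul T a m]
      exact Submodule.smul_mem_smul (hmT.le (Ideal.mem_map_of_mem _ ha)) Submodule.mem_top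
    have h2 := repr_mem b _ _
      (hmT.ge (sum_tmul_mem_maximal 𝔭 𝔭G h𝔭 ν e hind _ (h1 _ hw) (σ k).1)) (σ k).2
    rwa [Module.Basis.repr_sum_self, show σ.symm ((σ k).1, (σ k).2) = k from σ.symm_apply_apply k] at h2
  let w₀ : Fin (r * d) → Wh := fun k => b.repr (algebraMap G T (zG (σ k).1)) (σ k).2
  have hw₀ : ∑ k, w₀ k • e' k ∈ p • (⊤ : Submodule R MT) := by
    rw [hexp]
    have h1 : ∀ i, (∑ j, w₀ (σ.symm (i, j)) • b j) ⊗ₜ[G] e i = 1 ⊗ₜ[G] (zG i • e i) := fun i => by
      simp only [w₀, Equiv.apply_symm_apply]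
      rw [b.sum_repr, TensorProduct.tmul_smul, TensorProduct.smul_tmul', Algebra.smul_def, mul_one]
    rw [Finset.sum_congr rfl fun i _ => h1 i, ← TensorProduct.tmul_sum]
    have h3 : ∀ x ∈ p • (⊤ : Submodule R M), (1 : T) ⊗ₜ[G] x ∈ p • (⊤ : Submodule R MT) :=
      fun x hx => by
        refine Submodule.smul_induction_on hx (fun a ha m _ => ?_) fun a c ha hc => ?_
        · rw [← algebraMap_smul G a m, TensorProduct.tmul_smul, algebraMap_smul]
          exact Submodule.smul_mem_smul ha Submodule.mem_top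
        · rw [TensorProduct.tmul_add]
          exact add_mem ha hc
    exact h3 _ hz
  have hgen := mem_map_of_sum_mem_generic p (n := n) Wh e' hind' w₀ hw₀
  rw [← b.sum_repr (algebraMap G T (zG i))]
  refine Ideal.sum_mem _ fun j _ => ?_
  rw [Algebra.smul_def]
  refine Ideal.mul_mem_right _ _ ?_
  have h1 := hgen (σ.symm (i, j))
  simp only [w₀, Equiv.apply_symm_apply] at h1
  have h2 := Ideal.mem_map_of_mem (algebraMap Wh T) h1
  rwa [Ideal.map_map, ← IsScalarTower.algebraMap_eq, IsScalarTower.algebraMap_eq R G T,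
    ← Ideal.map_map] at h2

/-- An element outside the generic point of the closed fibre is regular on it near the closed point. -/
theorem fiber_regular {R G L : Type u} [CommRing R] [IsLocalRing R] [CommRing G] [CommRing L]
    [Algebra R G] [Algebra G L] [Algebra R L] [IsScalarTower R G L] [Module.Flat G L]
    (hprime : ((maximalIdeal R).map (algebraMap R L)).IsPrime) (𝔮 : Ideal G) [𝔮.IsPrime]
    [𝔮.LiesOver (maximalIdeal R)] (hqL : 𝔮.map (algebraMap G L) ≠ ⊤)
    (hout : ∀ v : G, v ∉ 𝔮 → algebraMap G L v ∉ (maximalIdeal R).map (algebraMap R L))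
    (g : G) (hg : algebraMap G L g ∉ (maximalIdeal R).map (algebraMap R L))
    (x : FlatCA.fiberMod (maximalIdeal R) G G) (hx : ∃ c ∉ 𝔮, c • g • x = 0) :
    ∃ c ∉ 𝔮, c • x = 0 := by
  obtain ⟨c, hc, hcx⟩ := hx
  have hqm : 𝔮.LiesOver (maximalIdeal R) := inferInstance
  obtain ⟨a, ha, x₀, hx₀⟩ := Groth.Agent.H02CA.FibreAss.exists_rep (maximalIdeal R) x
  have hau : algebraMap R G a ∉ 𝔮 := fun h => ha (hqm.over.ge (Ideal.mem_comap.mpr h))
  have h1 : FlatCA.toFiberMod (maximalIdeal R) G G (c • g • x₀) = 0 := by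
    rw [map_smul, map_smul, ← hx₀, smul_comm g, smul_comm c, hcx, smul_zero]
  obtain ⟨a', ha', h2⟩ := (Groth.Agent.H02CA.FibreAss.toFiberMod_eq_zero_iff _ _).mp h1
  rw [Ideal.smul_eq_mul, Ideal.mul_top, smul_eq_mul, smul_eq_mul, smul_eq_mul] at h2
  have hau' : algebraMap R G a' ∉ 𝔮 := fun h => ha' (hqm.over.ge (Ideal.mem_comap.mpr h))
  have h3 := Ideal.mem_map_of_mem (algebraMap G L) h2
  rw [Ideal.map_map, ← IsScalarTower.algebraMap_eq, map_mul, map_mul, map_mul] at h3
  have hx𝔭 : algebraMap G L x₀ ∈ (maximalIdeal R).map (algebraMap R L) :=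
    ((hprime.mem_or_mem ((hprime.mem_or_mem ((hprime.mem_or_mem h3).resolve_left
      (hout _ hau'))).resolve_left (hout c hc)))).resolve_left hg
  have h4 : algebraMap G L x₀ ∈ ((maximalIdeal R).map (algebraMap R G)).map (algebraMap G L) := by
    rwa [Ideal.map_map, ← IsScalarTower.algebraMap_eq]
  obtain ⟨v, hv, hvx⟩ := HenselClosedFibre.exists_notMem_mul_mem _ x₀ h4 𝔮 hqL
  refine ⟨v * algebraMap R G a, fun h => (Ideal.IsPrime.mem_or_mem inferInstance h).elim hv hau, ?_⟩
  rw [mul_smul, hx₀, ← map_smul]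
  refine (Groth.Agent.H02CA.FibreAss.toFiberMod_eq_zero_iff _ _).mpr ⟨1, ?_, ?_⟩
  · exact fun h => (maximalIdeal.isMaximal R).ne_top ((Ideal.eq_top_iff_one _).mpr h)
  · rw [map_one, one_smul, Ideal.smul_eq_mul, Ideal.mul_top, smul_eq_mul]
    exact hvx

/-- Over a henselian local ring a relation with coefficients in `p` between elements of a flat
module over the henselization of a polynomial ring which are independent on the closed fibre has
coefficients in `p`. -/
theorem mem_map_of_sum_mem {R : Type u} [CommRing R] [HenselianLocalRing R] (p : Ideal R)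
    [p.IsPrime] {n : ℕ} (y : Ideal (MvPolynomial (Fin n) R)) [y.IsPrime]
    (hy : y.comap C = maximalIdeal R)
    (L : Type u) [CommRing L] [IsLocalRing L] [Algebra (Localization.AtPrime y) L]
    [IsLocalHom (algebraMap (Localization.AtPrime y) L)]
    [Hensel.IsHenselization (Localization.AtPrime y) L]
    [Algebra (MvPolynomial (Fin n) R) L]
    [IsScalarTower (MvPolynomial (Fin n) R) (Localization.AtPrime y) L]
    [Algebra R L] [IsScalarTower R (MvPolynomial (Fin n) R) L]
    {M : Type u} [AddCommGroup M] [Module L M] [Module R M] [IsScalarTower R L M] [Module.Flat R M]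
    {r : ℕ} (e : Fin r → M)
    (hind : ∀ z : Fin r → L,
      ∑ i, z i • e i ∈ (maximalIdeal R).map (algebraMap R L) • (⊤ : Submodule L M) →
        ∀ i, z i ∈ (maximalIdeal R).map (algebraMap R L))
    (z : Fin r → L) (hz : ∑ i, z i • e i ∈ p • (⊤ : Submodule R M)) :
    ∀ i, z i ∈ p.map (algebraMap R L) := by
  classical
  obtain ⟨hprime, hcomap, -⟩ := HenselClosedFibre.closedFibre y hy L
  let 𝔭 := (maximalIdeal R).map (algebraMap R L)
  have : 𝔭.IsPrime := hprime
  let Pl := MvPolynomial (Fin n) R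
  let mP : Ideal Pl := (maximalIdeal R).map C
  obtain ⟨G, _, _, ψ, hψs, hnhd⟩ :=
    EtaleNbhdHensel.exists_etaleNhd_hitting y L (Finset.univ.image z)
  choose zG hzG using fun i => hψs (z i) (Finset.mem_image_of_mem z (Finset.mem_univ i))
  have : Algebra.Etale Pl G := hnhd.1
  let : Algebra G L := ψ.toRingHom.toAlgebra
  have : IsScalarTower Pl G L := IsScalarTower.of_algebraMap_eq fun f => (ψ.commutes f).symm
  have hflatGL : Module.Flat G L := HenselClosedFibre.flat_stage y L G
  let : Algebra R G := ((algebraMap Pl G).comp (algebraMap R Pl)).toAlgebra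
  have : IsScalarTower R Pl G := IsScalarTower.of_algebraMap_eq fun _ => rfl
  have : IsScalarTower R G L := IsScalarTower.of_algebraMap_eq fun a => by
    change _ = ψ (algebraMap Pl G (algebraMap R Pl a))
    rw [ψ.commutes, ← IsScalarTower.algebraMap_apply]
  have : Algebra.FinitePresentation R G := Algebra.FinitePresentation.trans R Pl G
  have : Module.Flat R G := Module.Flat.trans R Pl G
  let 𝔮 : Ideal G := (maximalIdeal L).comap ψ.toRingHom
  let 𝔭G : Ideal G := 𝔭.comap ψ.toRingHom
  have : 𝔭G.IsPrime := Ideal.comap_isPrime _ _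
  have : 𝔮.IsPrime := Ideal.comap_isPrime _ _
  have hover : 𝔭G.LiesOver mP := ⟨by
    rw [Ideal.under, Ideal.comap_comap,
      show ψ.toRingHom.comp (algebraMap Pl G) = algebraMap Pl L from RingHom.ext ψ.commutes]
    exact hcomap.symm⟩
  obtain ⟨Wh, _, _, _, _, π, hπ, hWh⟩ :=
    H9Hens.exists_isHenselization_colim (Localization.AtPrime mP)
  have := hWh.henselian
  let : Algebra Pl Wh := ((algebraMap (Localization.AtPrime mP) Wh).comp (algebraMap Pl _)).toAlgebra
  have : IsScalarTower Pl (Localization.AtPrime mP) Wh := IsScalarTower.of_algebraMap_eq fun _ => rfl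
  let : Algebra R Wh := ((algebraMap Pl Wh).comp (algebraMap R Pl)).toAlgebra
  have : IsScalarTower R Pl Wh := IsScalarTower.of_algebraMap_eq fun _ => rfl
  have hflatW : Module.Flat Pl Wh := by
    have := hπ.flat
    have : Module.Flat Pl (Localization.AtPrime mP) :=
      IsLocalization.flat (Localization.AtPrime mP) mP.primeCompl
    exact Module.Flat.trans Pl (Localization.AtPrime mP) Wh
  have hmW : (maximalIdeal Wh).LiesOver mP := ⟨by
    rw [Ideal.under, IsScalarTower.algebraMap_eq Pl (Localization.AtPrime mP) Wh, ← Ideal.comap_comap,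
      IsLocalRing.maximalIdeal_comap]
    exact (IsLocalization.AtPrime.under_maximalIdeal (Localization.AtPrime mP) mP).symm⟩
  obtain ⟨Q, hQ, hQW, hQG⟩ := ImpurityRebase.exists_prime_over_pair mP (maximalIdeal Wh) 𝔭G
  let E := Wh ⊗[Pl] G
  let T := Localization.AtPrime Q
  have hQlies : Q.LiesOver (maximalIdeal Wh) := ⟨hQW.symm⟩
  have : Algebra.QuasiFinite Pl G := inferInstance
  have : Algebra.QuasiFiniteAt Wh Q := inferInstance
  have : Module.Finite Wh T := H9Hens.finite_localization_of_quasiFiniteAt Q hQlies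
  have : Module.Flat Wh E := inferInstance
  have : Module.Flat E T := IsLocalization.flat T Q.primeCompl
  have : Module.Flat Wh T := Module.Flat.trans Wh E T
  have : IsLocalHom (algebraMap Wh T) := ⟨fun a ha => by
    rw [IsScalarTower.algebraMap_apply Wh E T, IsLocalization.AtPrime.isUnit_to_map_iff T Q] at ha
    exact IsLocalRing.notMem_maximalIdeal.mp fun h => ha (hQW.ge h)⟩
  have : Module.Free Wh T := Module.free_of_flat_of_isLocalRing
  have : Module.Flat G E := Module.Flat.isBaseChange Pl G Wh E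
    (Algebra.IsPushout.symm (inferInstance : Algebra.IsPushout Pl Wh G E)).out
  have : Module.Flat G T := Module.Flat.trans G E T
  have : Algebra.EssFiniteType Wh T := Algebra.EssFiniteType.comp Wh E T
  have : Algebra.FormallyUnramified E T := Algebra.FormallyUnramified.of_isLocalization Q.primeCompl
  have : Algebra.FormallyUnramified Wh T := Algebra.FormallyUnramified.comp Wh E T
  have hmT : (maximalIdeal Wh).map (algebraMap Wh T) = maximalIdeal T :=
    Algebra.FormallyUnramified.map_maximalIdeal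
  let b := Module.finBasis Wh T
  let d := Module.finrank Wh T
  let : Module G M := Module.compHom M ψ.toRingHom
  have : IsScalarTower G L M := IsScalarTower.of_algebraMap_smul fun _ _ => rfl
  have : IsScalarTower R G M := IsScalarTower.of_algebraMap_smul fun a m => by
    change algebraMap G L (algebraMap R G a) • m = a • m
    rw [← IsScalarTower.algebraMap_apply, algebraMap_smul]
  have : IsScalarTower R Wh T := inferInstance
  have : IsScalarTower R Pl T := inferInstance
  have : IsScalarTower R G T := IsScalarTower.of_algebraMap_eq fun a => by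
    rw [IsScalarTower.algebraMap_apply R Pl T, IsScalarTower.algebraMap_apply R Pl G,
      ← IsScalarTower.algebraMap_apply Pl G T]
  let ν : 𝔭G.ResidueField →ₐ[G] ResidueField T :=
    Ideal.ResidueField.mapₐ 𝔭G Q (Algebra.ofId G E) hQG.symm
  intro i
  let J : Ideal G := p.map (algebraMap R G)
  have hT : algebraMap G T (zG i) ∈ J.map (algebraMap G T) :=
    mem_map_stage p (n := n) Wh b hmT 𝔭 𝔭G rfl ν e hind zG (by
      convert hz using 2 with j
      rw [← hzG]
      rfl) i
  have hT' : 𝔭G.map (algebraMap G T) ≠ ⊤ := fun h => (maximalIdeal.isMaximal T).ne_top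
    (top_le_iff.mp (h.ge.trans (Ideal.map_le_iff_le_comap.mpr fun g hg => by
      rw [Ideal.mem_comap, IsScalarTower.algebraMap_apply G E T,
        IsLocalization.AtPrime.to_map_mem_maximal_iff T Q]
      exact hQG.ge hg)))
  obtain ⟨g, hg, hgz⟩ := HenselClosedFibre.exists_notMem_mul_mem J (zG i) hT 𝔭G hT'
  -- regularity on the closed fibre
  have hqm : 𝔮.LiesOver (maximalIdeal R) := ⟨by
    rw [Ideal.under, Ideal.comap_comap,
      show ψ.toRingHom.comp (algebraMap R G) = algebraMap R L from
        (IsScalarTower.algebraMap_eq R G L).symm,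
      IsScalarTower.algebraMap_eq R Pl L, ← Ideal.comap_comap,
      IsScalarTower.algebraMap_eq Pl (Localization.AtPrime y) L, ← Ideal.comap_comap,
      IsLocalRing.maximalIdeal_comap]
    refine Eq.trans ?_ (congrArg (Ideal.comap (algebraMap R Pl)) (IsLocalization.AtPrime.under_maximalIdeal (Localization.AtPrime y) y).symm)
    exact hy.symm⟩
  have hqL : 𝔮.map (algebraMap G L) ≠ ⊤ := fun h => (maximalIdeal.isMaximal L).ne_top
    (top_le_iff.mp (h.ge.trans Ideal.map_comap_le))
  have hs : ∀ x : FlatCA.fiberMod (maximalIdeal R) G G,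
      (∃ c ∉ 𝔮, c • g • x = 0) → ∃ c ∉ 𝔮, c • x = 0 :=
    fiber_regular hprime 𝔮 hqL (fun v hv h => hv (le_maximalIdeal hprime.ne_top h)) g hg
  let θ : G ⊗[R] (R ⧸ p) := zG i ⊗ₜ 1
  have hθ : ∀ v : G, v * zG i ∈ J ↔ v • θ = 0 := fun v => by
    rw [TensorProduct.smul_tmul', smul_eq_mul,
      ← (TensorProduct.tensorQuotEquivQuotSMul G p).map_eq_zero_iff,
      show (1 : R ⧸ p) = Ideal.Quotient.mk p 1 from rfl,
      TensorProduct.tensorQuotEquivQuotSMul_tmul_mk, one_smul, Submodule.Quotient.mk_eq_zero,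
      Ideal.smul_top_eq_map, Submodule.restrictScalars_mem]
  obtain ⟨c, hc, hcz⟩ := FibreRegular.smul_regular (maximalIdeal R) 𝔮 g hs (R ⧸ p) θ ((hθ g).mp hgz)
  have h5 := Ideal.mem_map_of_mem (algebraMap G L) ((hθ c).mpr hcz)
  rw [Ideal.map_map, ← IsScalarTower.algebraMap_eq, map_mul] at h5
  rw [← hzG]
  exact (Ideal.unit_mul_mem_iff_mem _ (IsLocalRing.notMem_maximalIdeal.mp hc)).mp h5

end Groth.Agent.H7Flat.HenselFibreInj
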