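import Groth.Agent.H7Flat.FlatTransfer
import Groth.Agent.H7Flat.GaussValuation
import Groth.Agent.H7Flat.SpecializationDense
import Groth.Agent.H9Hens.PairBaseChange
import Groth.Agent.H9Hens.PtNormal
import Mathlib.RingTheory.TensorProduct.MvPolynomial

/-!
Over a henselian local domain the henselization of the polynomial ring along the closed fibre
embeds into the one over a dominating valuation ring.
-/

set_option autoImplicit false
universe u

namespace Groth.Agent.H7Flat.HenselGauss

open TensorProduct IsLocalRing MvPolynomial GaussValuation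

attribute [local instance] Algebra.TensorProduct.rightAlgebra
attribute [local instance] MvPolynomial.algebraMvPolynomial

set_option backward.isDefEq.respectTransparency false
set_option maxHeartbeats 1000000
set_option synthInstance.maxHeartbeats 400000

/-- A valuation ring of the fraction field dominating a local domain. -/
theorem exists_valuation (R : Type u) [CommRing R] [IsDomain R] [IsLocalRing R] :
    ∃ V : ValuationSubring (FractionRing R), ∃ h : ∀ r : R, algebraMap R (FractionRing R) r ∈ V,
      ∀ r : R, IsUnit (⟨algebraMap R (FractionRing R) r, h r⟩ : V) → IsUnit r := by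
  obtain ⟨V, hV⟩ := LocalSubring.exists_le_valuationSubring
    (LocalSubring.range (algebraMap R (FractionRing R)))
  have hmem : ∀ r : R,
      algebraMap R (FractionRing R) r ∈ (LocalSubring.range (algebraMap R (FractionRing R))).toSubring :=
    fun r => (RingHom.mem_range).mpr ⟨r, rfl⟩
  refine ⟨V, fun r => hV.1 (hmem r), fun r hr => ?_⟩
  have h1 : IsUnit (⟨_, hmem r⟩ : (LocalSubring.range (algebraMap R (FractionRing R))).toSubring) :=
    hV.2.1 _ hr
  obtain ⟨⟨x, hx⟩, hb⟩ := isUnit_iff_exists_inv.mp h1
  obtain ⟨b, rfl⟩ := RingHom.mem_range.mp hx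
  refine isUnit_iff_exists_inv.mpr ⟨b, IsFractionRing.injective R (FractionRing R) ?_⟩
  rw [map_mul, map_one]
  exact congrArg Subtype.val hb

/-- An integral extension of a domain localised at a prime with a unique prime above it. -/
theorem isLocalRing_localization {Pl P' : Type u} [CommRing Pl] [CommRing P'] [Algebra Pl P']
    [Algebra.IsIntegral Pl P'] (mP : Ideal Pl) [mP.IsPrime] (m' : Ideal P') [m'.IsPrime]
    (hm : m'.comap (algebraMap Pl P') = mP)
    (huniq : ∀ N : Ideal P', N.IsPrime → N.comap (algebraMap Pl P') = mP → N = m') :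
    IsLocalRing (Localization (Algebra.algebraMapSubmonoid P' mP.primeCompl)) ∧
      ∀ x : P', x ∉ m' →
        IsUnit (algebraMap P' (Localization (Algebra.algebraMapSubmonoid P' mP.primeCompl)) x) := by
  let T := Algebra.algebraMapSubmonoid P' mP.primeCompl
  let W'' := Localization T
  let W := Localization.AtPrime mP
  let : Algebra W W'' := localizationAlgebra mP.primeCompl P'
  have : Algebra.IsIntegral W W'' := ⟨isIntegral_localization⟩
  have : IsScalarTower Pl W W'' := isScalarTower_localizationAlgebra mP.primeCompl P'
  have hmax : ∀ M : Ideal W'', M.IsMaximal → M.comap (algebraMap P' W'') = m' := fun M hM => by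
    have hMc : M.comap (algebraMap W W'') = maximalIdeal W :=
      eq_maximalIdeal (Ideal.isMaximal_comap_of_isIntegral_of_isMaximal (R := W) M)
    refine huniq _ (Ideal.comap_isPrime _ _) ?_
    rw [Ideal.comap_comap, ← IsScalarTower.algebraMap_eq, IsScalarTower.algebraMap_eq Pl W W'',
      ← Ideal.comap_comap, hMc]
    exact IsLocalization.AtPrime.under_maximalIdeal W mP
  have hdisj : Disjoint (T : Set P') (m' : Set P') :=
    Set.disjoint_left.mpr fun _ ⟨f, hf, hfx⟩ hx => hf (hm.le (by
      rw [Ideal.mem_comap, show algebraMap Pl P' f = _ from hfx]; exact hx))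
  have hp := IsLocalization.isPrime_of_isPrime_disjoint T W'' m' inferInstance hdisj
  obtain ⟨M₀, hM₀, hle⟩ := Ideal.exists_le_maximal _ hp.ne_top
  refine ⟨IsLocalRing.of_unique_max_ideal ⟨M₀, hM₀, fun M hM => ?_⟩, fun x hx => ?_⟩
  · rw [← IsLocalization.map_under T W'' M, ← IsLocalization.map_under T W'' M₀]
    exact congrArg (Ideal.map (algebraMap P' W''))
      (((hmax M hM).trans (hmax M₀ hM₀).symm : M.comap (algebraMap P' W'') = M₀.comap _))
  · by_contra hu
    obtain ⟨M, hM, hxM⟩ := Ideal.exists_le_maximal (Ideal.span {algebraMap P' W'' x})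
      (fun h => hu (Ideal.span_singleton_eq_top.mp h))
    exact hx ((hmax M hM).le (hxM (Ideal.mem_span_singleton_self _)))

/-- Polynomial rings over integral extensions with a unique prime above the maximal ideal. -/
theorem eq_map_maximalIdeal {R R' : Type u} [CommRing R] [IsLocalRing R] [CommRing R']
    [IsLocalRing R'] [Algebra R R'] [Algebra.IsIntegral R R'] {n : ℕ}
    [IsLocalHom (algebraMap R R')]
    (hint : Algebra.IsIntegral (MvPolynomial (Fin n) R) (MvPolynomial (Fin n) R'))
    (N : Ideal (MvPolynomial (Fin n) R')) [hN : N.IsPrime]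
    (hNc : N.comap (algebraMap (MvPolynomial (Fin n) R) (MvPolynomial (Fin n) R')) =
      (maximalIdeal R).map C) :
    N = (maximalIdeal R').map C := by
  let Pl := MvPolynomial (Fin n) R
  let P' := MvPolynomial (Fin n) R'
  let m' : Ideal P' := (maximalIdeal R').map C
  have hC : ((maximalIdeal R).map (C : R →+* Pl)).comap C = maximalIdeal R :=
    ((maximalIdeal.isMaximal R).eq_of_le (Ideal.comap_ne_top _ (Ideal.IsPrime.ne_top
      inferInstance)) Ideal.le_comap_map).symm
  have hm'c : m'.comap (algebraMap Pl P') = (maximalIdeal R).map C := by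
    ext f
    rw [Ideal.mem_comap, MvPolynomial.mem_map_C_iff, MvPolynomial.mem_map_C_iff]
    refine forall_congr' fun d => ?_
    rw [show (algebraMap Pl P' f).coeff d = algebraMap R R' (f.coeff d) from
      MvPolynomial.coeff_map _ _ _, ← Ideal.mem_comap, IsLocalRing.maximalIdeal_comap]
  have hle : m' ≤ N := by
    rw [Ideal.map_le_iff_le_comap]
    have : (N.comap (C : R' →+* P')).IsPrime := Ideal.comap_isPrime _ _
    refine le_of_eq (eq_maximalIdeal (Ideal.isMaximal_of_isIntegral_of_isMaximal_comap (R := R) _
      ?_)).symm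
    have e : (C : R' →+* P').comp (algebraMap R R') = (algebraMap Pl P').comp C :=
      RingHom.ext fun r => (MvPolynomial.map_C _ r).symm
    rw [Ideal.comap_comap, e, ← Ideal.comap_comap, hNc, hC]
    exact maximalIdeal.isMaximal R
  by_contra hne
  exact (Ideal.comap_lt_comap_of_integral_mem_sdiff (I := m') (J := N) hle
    (Classical.choose_spec (Set.exists_of_ssubset (s := (m' : Set P')) (t := (N : Set P')) (lt_of_le_of_ne hle (fun h => hne (SetLike.coe_injective h).symm))))
    (Algebra.IsIntegral.isIntegral _)).ne (hm'c.trans hNc.symm)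

/-- Polynomial rings over integral extensions are integral. -/
theorem isIntegral_mvPolynomial (R R' : Type u) [CommRing R] [CommRing R'] [Algebra R R']
    [Algebra.IsIntegral R R'] (n : ℕ) :
    Algebra.IsIntegral (MvPolynomial (Fin n) R) (MvPolynomial (Fin n) R') := by
  constructor
  intro f
  induction f using MvPolynomial.induction_on with
  | C a =>
    exact (Algebra.IsIntegral.isIntegral (R := R) a).map_of_comp_eq (C : R →+* MvPolynomial (Fin n) R)
      (C : R' →+* MvPolynomial (Fin n) R') (RingHom.ext fun r => (MvPolynomial.map_C _ r))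
  | add p q hp hq => exact hp.add hq
  | mul_X p i hp =>
    refine hp.mul ?_
    have : (X i : MvPolynomial (Fin n) R') =
        algebraMap (MvPolynomial (Fin n) R) (MvPolynomial (Fin n) R') (X i) :=
      (MvPolynomial.map_X _ i).symm
    rw [this]
    exact isIntegral_algebraMap

/-- The integral closure maps into a dominating valuation ring. -/
theorem exists_hom_valuation {R : Type u} [CommRing R] [IsDomain R] [IsLocalRing R]
    (V : Type u) [CommRing V] [IsDomain V] [IsLocalRing V] [IsIntegrallyClosed V] [Algebra R V]
    [IsLocalHom (algebraMap R V)]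
    (K : Type u) [Field K] [Algebra R K] [Algebra V K] [IsFractionRing V K]
    [IsScalarTower R V K] [IsLocalRing (integralClosure R K)] :
    ∃ ι : integralClosure R K →+* V, Function.Injective ι ∧
      ι.comp (algebraMap R (integralClosure R K)) = algebraMap R V ∧
      (maximalIdeal V).comap ι = maximalIdeal (integralClosure R K) := by
  have hKinj : Function.Injective (algebraMap V K) := IsFractionRing.injective V K
  have hVmem : ∀ x : integralClosure R K, ∃ v : V, algebraMap V K v = x := fun x =>
    IsIntegrallyClosed.isIntegral_iff.mp (IsIntegral.tower_top (R := R) (x.2 : IsIntegral R (x : K)))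
  choose ι₀ hι₀ using hVmem
  let ι : integralClosure R K →+* V :=
    { toFun := ι₀
      map_one' := hKinj (by rw [hι₀, map_one]; rfl)
      map_mul' := fun a b => hKinj (by rw [hι₀, map_mul, hι₀, hι₀]; rfl)
      map_zero' := hKinj (by rw [hι₀, map_zero]; rfl)
      map_add' := fun a b => hKinj (by rw [hι₀, map_add, hι₀, hι₀]; rfl) }
  have hιinj : Function.Injective ι := fun a b h => Subtype.ext (by
    rw [← hι₀ a, ← hι₀ b]
    exact congrArg (algebraMap V K) h)
  have hιR : ι.comp (algebraMap R (integralClosure R K)) = algebraMap R V :=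
    RingHom.ext fun r => hKinj (by
      change algebraMap V K (ι₀ _) = _
      rw [hι₀, ← IsScalarTower.algebraMap_apply]
      rfl)
  refine ⟨ι, hιinj, hιR, ?_⟩
  have : ((maximalIdeal V).comap ι).IsPrime := Ideal.comap_isPrime _ _
  refine eq_maximalIdeal (Ideal.isMaximal_of_isIntegral_of_isMaximal_comap (R := R) _ ?_)
  rw [Ideal.comap_comap, hιR, IsLocalRing.maximalIdeal_comap (algebraMap R V)]
  exact maximalIdeal.isMaximal R

/-- A normal local localisation of an integral extension mapping to a localisation. -/
theorem exists_stage {Pl P' PV : Type u} [CommRing Pl] [CommRing P'] [IsDomain P']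
    [IsIntegrallyClosed P'] [CommRing PV] [IsDomain PV] [Algebra Pl P'] [Algebra.IsIntegral Pl P']
    (hinj : Function.Injective (algebraMap Pl P')) (mP : Ideal Pl) [mP.IsPrime] (m' : Ideal P')
    [m'.IsPrime] (mV : Ideal PV) [mV.IsPrime] (hm : m'.comap (algebraMap Pl P') = mP)
    (huniq : ∀ N : Ideal P', N.IsPrime → N.comap (algebraMap Pl P') = mP → N = m')
    (κ : P' →+* PV) (hκinj : Function.Injective κ) (hκm : ∀ x : P', x ∈ m' ↔ κ x ∈ mV) :
    ∃ (W'' : Type u) (_ : CommRing W'') (_ : IsDomain W'') (_ : IsIntegrallyClosed W'')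
      (_ : IsLocalRing W'') (_ : Algebra (Localization.AtPrime mP) W''),
      Algebra.IsIntegral (Localization.AtPrime mP) W'' ∧
      Function.Injective (algebraMap (Localization.AtPrime mP) W'') ∧
      ∃ θ : W'' →+* Localization.AtPrime mV, IsLocalHom θ ∧ Function.Injective θ ∧
        ∀ f : Pl, θ (algebraMap _ W'' (algebraMap Pl (Localization.AtPrime mP) f)) =
          algebraMap PV _ (κ (algebraMap Pl P' f)) := by
  let W := Localization.AtPrime mP
  let W' := Localization.AtPrime mV
  let T := Algebra.algebraMapSubmonoid P' mP.primeCompl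
  let W'' := Localization T
  have hT0 : T ≤ nonZeroDivisors P' := by
    rintro _ ⟨f, hf, rfl⟩
    refine mem_nonZeroDivisors_of_ne_zero fun h => hf ?_
    rw [show f = 0 from hinj (h.trans (map_zero _).symm)]
    exact zero_mem _
  obtain ⟨hloc, hunit⟩ := isLocalRing_localization mP m' hm huniq
  let : Algebra W W'' := localizationAlgebra mP.primeCompl P'
  have : IsScalarTower Pl W W'' := isScalarTower_localizationAlgebra mP.primeCompl P'
  have : IsDomain W'' := IsLocalization.isDomain_localization hT0
  have hIC : IsIntegrallyClosed W'' := isIntegrallyClosed_of_isLocalization W'' T hT0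
  let θ : W'' →+* W' := IsLocalization.lift (M := T) (g := (algebraMap PV W').comp κ) (by
    rintro ⟨_, f, hf, rfl⟩
    exact IsLocalization.map_units W'
      (⟨_, fun h => hf (hm.le ((hκm _).mpr h))⟩ : mV.primeCompl))
  have hinjV : Function.Injective (algebraMap PV W') :=
    IsLocalization.injective W' (Ideal.primeCompl_le_nonZeroDivisors mV)
  have hθinj : Function.Injective θ := by
    rw [IsLocalization.lift_injective_iff]
    intro x y
    rw [(IsLocalization.injective W'' hT0).eq_iff, RingHom.comp_apply, RingHom.comp_apply,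
      hinjV.eq_iff, hκinj.eq_iff]
  have hθf : ∀ f : Pl, θ (algebraMap W W'' (algebraMap Pl W f)) =
      algebraMap PV W' (κ (algebraMap Pl P' f)) := fun f => by
    rw [← IsScalarTower.algebraMap_apply Pl W W'', IsScalarTower.algebraMap_apply Pl P' W'']
    exact IsLocalization.lift_eq _ _
  have hθloc : IsLocalHom θ := ⟨fun y hy => by
    obtain ⟨x, t, rfl⟩ := IsLocalization.exists_mk'_eq T y
    rw [IsLocalization.mk'_eq_mul_mk'_one, map_mul] at hy
    have h1 := isUnit_of_mul_isUnit_left hy
    rw [show θ (algebraMap P' W'' x) = algebraMap PV W' (κ x) from IsLocalization.lift_eq _ _,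
      IsLocalization.AtPrime.isUnit_to_map_iff W' mV] at h1
    rw [IsLocalization.mk'_eq_mul_mk'_one]
    refine (hunit x fun h => h1 ((hκm x).mp h)).mul ?_
    exact IsUnit.of_mul_eq_one _ (IsLocalization.mk'_spec W'' 1 t |>.trans (map_one _))⟩
  refine ⟨W'', inferInstance, inferInstance, hIC, hloc, inferInstance,
    ⟨isIntegral_localization⟩, ?_, θ, hθloc, hθinj, hθf⟩
  rw [injective_iff_map_eq_zero]
  intro w hw
  obtain ⟨f, t, rfl⟩ := IsLocalization.exists_mk'_eq mP.primeCompl w
  have h1 : algebraMap W W'' (algebraMap Pl W f) = 0 := by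
    rw [← IsLocalization.mk'_spec W f t, map_mul, hw, zero_mul]
  rw [← IsScalarTower.algebraMap_apply Pl W W'', IsScalarTower.algebraMap_apply Pl P' W''] at h1
  have : f = 0 := hinj
    ((IsLocalization.injective W'' hT0 (h1.trans (map_zero _).symm)).trans (map_zero _).symm)
  rw [this, IsLocalization.mk'_zero]

/-- The normal local stage between the polynomial rings over a henselian domain and a dominating
valuation ring. -/
theorem exists_normal_stage {R : Type u} [CommRing R] [IsDomain R] [HenselianLocalRing R] (n : ℕ)
    (V : Type u) [CommRing V] [IsDomain V] [ValuationRing V] [IsIntegrallyClosed V] [Algebra R V]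
    [IsLocalHom (algebraMap R V)]
    (K : Type u) [Field K] [Algebra R K] [IsFractionRing R K] [Algebra V K] [IsFractionRing V K]
    [IsScalarTower R V K] :
    ∃ (W'' : Type u) (_ : CommRing W'') (_ : IsDomain W'') (_ : IsIntegrallyClosed W'')
      (_ : IsLocalRing W'')
      (_ : Algebra (Localization.AtPrime ((maximalIdeal R).map (C : R →+* MvPolynomial (Fin n) R))) W''),
      Algebra.IsIntegral (Localization.AtPrime ((maximalIdeal R).map (C : R →+* MvPolynomial (Fin n) R))) W'' ∧
      Function.Injective (algebraMap (Localization.AtPrime ((maximalIdeal R).map (C : R →+* MvPolynomial (Fin n) R))) W'') ∧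
      ∃ θ : W'' →+* Localization.AtPrime ((maximalIdeal V).map (C : V →+* MvPolynomial (Fin n) V)),
        IsLocalHom θ ∧ Function.Injective θ ∧ ∀ f : MvPolynomial (Fin n) R,
          θ (algebraMap _ W'' (algebraMap _ (Localization.AtPrime
            ((maximalIdeal R).map (C : R →+* MvPolynomial (Fin n) R))) f)) =
          algebraMap _ _ (MvPolynomial.map (algebraMap R V) f) := by
  have hRR' : Function.Injective (algebraMap R (integralClosure R K)) := fun a b hab =>
    IsFractionRing.injective R K (congrArg Subtype.val hab)
  have := FlatTransfer.isLocalRing_integralClosure R K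
  have : FaithfulSMul R (integralClosure R K) := (faithfulSMul_iff_algebraMap_injective _ _).mpr hRR'
  have : IsLocalHom (algebraMap R (integralClosure R K)) :=
    Algebra.IsIntegral.isLocalHom R (integralClosure R K)
  have : IsIntegrallyClosed (integralClosure R K) :=
    integralClosure.isIntegrallyClosedOfFiniteExtension (L := K) K
  have := isIntegrallyClosed_mvPolynomial_fin (integralClosure R K) n
  have hint := isIntegral_mvPolynomial R (integralClosure R K) n
  obtain ⟨ι, hιinj, hιR, hιloc⟩ := exists_hom_valuation (R := R) V K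
  have hm : ((maximalIdeal (integralClosure R K)).map
        (C : _ →+* MvPolynomial (Fin n) (integralClosure R K))).comap
      (algebraMap (MvPolynomial (Fin n) R) _) = (maximalIdeal R).map C := by
    ext f
    rw [Ideal.mem_comap, MvPolynomial.mem_map_C_iff, MvPolynomial.mem_map_C_iff]
    refine forall_congr' fun d => ?_
    rw [show (algebraMap (MvPolynomial (Fin n) R) (MvPolynomial (Fin n) (integralClosure R K)) f).coeff d =
      algebraMap R (integralClosure R K) (f.coeff d) from MvPolynomial.coeff_map _ _ _,
      ← Ideal.mem_comap, IsLocalRing.maximalIdeal_comap]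
  obtain ⟨W'', i₁, i₂, i₃, i₄, i₅, h₁, h₂, θ, h₃, h₄, h₅⟩ := exists_stage
    (MvPolynomial.map_injective _ hRR') ((maximalIdeal R).map (C : R →+* MvPolynomial (Fin n) R))
    ((maximalIdeal (integralClosure R K)).map C)
    ((maximalIdeal V).map (C : V →+* MvPolynomial (Fin n) V)) hm
    (fun N hN hNc => eq_map_maximalIdeal (R := R) hint N (hN := hN) hNc)
    (MvPolynomial.map ι) (MvPolynomial.map_injective ι hιinj) (fun x => by
      rw [MvPolynomial.mem_map_C_iff, MvPolynomial.mem_map_C_iff]
      refine forall_congr' fun d => ?_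
      rw [MvPolynomial.coeff_map, ← hιloc, Ideal.mem_comap])
  refine ⟨W'', i₁, i₂, i₃, i₄, i₅, h₁, h₂, θ, h₃, h₄, fun f => (h₅ f).trans ?_⟩
  exact congrArg _ ((MvPolynomial.map_map _ _ f).trans (by rw [hιR]))

/-- The henselization over a henselian domain embeds in the one over a dominating valuation ring. -/
theorem exists_embedding_of_stage {W W'' W' : Type u} [CommRing W] [IsLocalRing W] [CommRing W'']
    [IsDomain W''] [IsIntegrallyClosed W''] [IsLocalRing W''] [Algebra W W'']
    [Algebra.IsIntegral W W''] [CommRing W'] [IsLocalRing W']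
    (hinj : Function.Injective (algebraMap W W'')) (θ : W'' →+* W') [IsLocalHom θ]
    (hθ : Function.Injective θ) (L : Type u) [CommRing L] [IsLocalRing L] [Algebra W L]
    [IsLocalHom (algebraMap W L)] [Hensel.IsHenselization W L]
    (L' : Type u) [CommRing L'] [IsLocalRing L'] [Algebra W' L'] [IsLocalHom (algebraMap W' L')]
    [Hensel.IsHenselization W' L'] :
    ∃ j : L →+* L', IsLocalHom j ∧ Function.Injective j ∧
      ∀ w, j (algebraMap W L w) = algebraMap W' L' (θ (algebraMap W W'' w)) := by
  have : FaithfulSMul W W'' := (faithfulSMul_iff_algebraMap_injective W W'').mpr hinj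
  have : IsLocalHom (algebraMap W W'') := Algebra.IsIntegral.isLocalHom W W''
  obtain ⟨hlocT, hlocH, hH⟩ := H9Hens.exists_isHenselization_tensor W W'' L
  obtain ⟨π'', hπ''⟩ := H9Hens.exists_isPtColim_of_isHenselization (R := W'') (W'' ⊗[W] L)
  obtain ⟨π, hπ⟩ := H9Hens.exists_isPtColim_of_isHenselization (R := W) L
  obtain ⟨π', hπ'⟩ := H9Hens.exists_isPtColim_of_isHenselization (R := W') L'
  have := hπ''.isDomain
  have := hπ.flat
  have := hπ'.faithfullyFlat H9Hens.ker_algebraMap_residueField
  have := Hensel.IsHenselization.henselian (R := W') (S := L')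
  let β : W'' →+* L' := (algebraMap W' L').comp θ
  have hβ : Function.Injective β := (FaithfulSMul.algebraMap_injective W' L').comp hθ
  have hβloc : IsLocalHom β := RingHom.isLocalHom_comp _ _
  obtain ⟨g, hg, -⟩ := hH.universal L' β hβloc
  let j : L →+* L' := g.comp (Algebra.TensorProduct.includeRight : L →ₐ[W] W'' ⊗[W] L).toRingHom
  have hj : ∀ w, j (algebraMap W L w) = β (algebraMap W W'' w) := fun w => by
    change g ((Algebra.TensorProduct.includeRight : L →ₐ[W] W'' ⊗[W] L) (algebraMap W L w)) = _
    rw [AlgHom.commutes, IsScalarTower.algebraMap_apply W W'' (W'' ⊗[W] L), ← RingHom.comp_apply g, hg]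
  have hginj : Function.Injective g := by
    rw [injective_iff_map_eq_zero]
    intro d hd
    by_contra hd0
    have hinjH : Function.Injective (algebraMap W'' (W'' ⊗[W] L)) := fun a b hab => hβ (by
      rw [← hg]
      exact congrArg g hab)
    obtain ⟨a, ha, c, hc⟩ := FlatTransfer.exists_dvd_algebraMap hπ'' hinjH d hd0
    refine ha (hβ ?_)
    rw [map_zero, ← hg, RingHom.comp_apply, hc, map_mul, hd, zero_mul]
  refine ⟨j, ?_, hginj.comp (Algebra.TensorProduct.includeRight_injective hinj), hj⟩
  refine ((local_hom_TFAE j).out 0 2).mpr ?_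
  rw [← hπ.map_maximalIdeal H9Hens.ker_algebraMap_residueField, Ideal.map_map,
    show j.comp (algebraMap W L) = β.comp (algebraMap W W'') from RingHom.ext hj, ← Ideal.map_map]
  exact (Ideal.map_mono (map_maximalIdeal_le (algebraMap W W''))).trans (map_maximalIdeal_le β)

end Groth.Agent.H7Flat.HenselGauss
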