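import Groth.Agent.H7Flat.HenselGauss
import Groth.Agent.H7Flat.EtaleNbhdHensel
import Groth.Agent.H9Hens.PtBase
import Mathlib.RingTheory.Flat.TorsionFree

/-!
Over a henselian local domain, linear maps from free modules over the henselization of the
polynomial ring along the closed fibre into flat modules are injective as soon as they are so
modulo the maximal ideal.
-/

set_option autoImplicit false
universe u

namespace Groth.Agent.H7Flat.HenselGaussInj

open TensorProduct IsLocalRing MvPolynomial GaussValuation

attribute [local instance] Algebra.TensorProduct.rightAlgebra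
attribute [local instance] MvPolynomial.algebraMvPolynomial

set_option backward.isDefEq.respectTransparency false
set_option maxHeartbeats 1000000
set_option synthInstance.maxHeartbeats 400000

/-- Relations among elements independent modulo the maximal ideal vanish after mapping to a ring
whose elements are units times scalars of a valuation ring over which the base change is flat. -/
theorem eq_zero_of_flat_valuation {V G L L' M : Type u} [CommRing V] [IsDomain V] [ValuationRing V]
    [CommRing G] [CommRing L] [IsLocalRing L] [CommRing L'] [IsLocalRing L'] [Algebra G L]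
    [Algebra G L'] [Algebra V L'] (j : L →+* L') [IsLocalHom j]
    (hj : ∀ g, j (algebraMap G L g) = algebraMap G L' g)
    (hV : ∀ x : L', ∃ (γ : V) (v : L'ˣ), x = v * algebraMap V L' γ)
    [AddCommGroup M] [Module L M] [Module G M] [IsScalarTower G L M]
    [Module.Flat V (L' ⊗[G] M)]
    {r : ℕ} (e : Fin r → M)
    (hind : ∀ z : Fin r → L, ∑ i, z i • e i ∈ maximalIdeal L • (⊤ : Submodule L M) →
      ∀ i, z i ∈ maximalIdeal L)
    (zG : Fin r → G) (hz : ∑ i, zG i • e i = 0) : ∀ i, algebraMap G L' (zG i) = 0 := by
  classical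
  choose γ v hγ using fun i => hV (algebraMap G L' (zG i))
  by_contra hne
  push Not at hne
  obtain ⟨i₁, hi₁⟩ := hne
  obtain ⟨i₀, -, hdvd⟩ := H9Hens.exists_forall_dvd_of_nonempty γ Finset.univ ⟨i₁, Finset.mem_univ _⟩
  have hγ₀ : γ i₀ ≠ 0 := fun h => hi₁ (by
    rw [hγ i₁, show γ i₁ = 0 from zero_dvd_iff.mp (h ▸ hdvd i₁ (Finset.mem_univ _)), map_zero,
      mul_zero])
  choose c hc using fun i => hdvd i (Finset.mem_univ i)
  let z₀ : Fin r → L' := fun i => v i * algebraMap V L' (c i)
  let E : Fin r → L' ⊗[G] M := fun i => 1 ⊗ₜ[G] e i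
  have hsum : γ i₀ • ∑ i, z₀ i • E i = 0 := by
    rw [Finset.smul_sum]
    have h1 : ∀ i, γ i₀ • z₀ i • E i = 1 ⊗ₜ[G] (zG i • e i) := fun i => by
      rw [← algebraMap_smul L' (γ i₀), smul_smul]
      calc (algebraMap V L' (γ i₀) * z₀ i) • E i = algebraMap G L' (zG i) • E i := by
            congr 1
            rw [hγ i, hc i, map_mul]
            ring
        _ = 1 ⊗ₜ[G] (zG i • e i) := by
            rw [algebraMap_smul, TensorProduct.tmul_smul]
    rw [Finset.sum_congr rfl fun i _ => h1 i, ← TensorProduct.tmul_sum, hz, TensorProduct.tmul_zero]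
  have h0 : ∑ i, z₀ i • E i = 0 := (smul_eq_zero.mp hsum).resolve_left hγ₀
  -- functionals on the closed fibre
  let κ := ResidueField L
  let κ' := ResidueField L'
  let w : (Fin r → κ) →ₗ[κ] κ ⊗[L] M :=
    Fintype.linearCombination κ fun i => (1 : κ) ⊗ₜ[L] e i
  have hw : LinearMap.ker w = ⊥ := by
    rw [LinearMap.ker_eq_bot']
    intro m hm
    choose m₀ hm₀ using fun i => residue_surjective (m i)
    have h1 : (1 : κ) ⊗ₜ[L] (∑ i, m₀ i • e i) = 0 := by
      rw [TensorProduct.tmul_sum, ← hm]
      simp only [w, Fintype.linearCombination_apply]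
      refine Finset.sum_congr rfl fun i _ => ?_
      rw [TensorProduct.tmul_smul, ← algebraMap_smul κ (m₀ i), ResidueField.algebraMap_eq, hm₀]
    have h2 := congrArg (TensorProduct.quotTensorEquivQuotSMul M (maximalIdeal L)) h1
    rw [map_zero] at h2
    have h3 : (∑ i, m₀ i • e i) ∈ maximalIdeal L • (⊤ : Submodule L M) := by
      rw [← Submodule.Quotient.mk_eq_zero, ← one_smul L (Submodule.Quotient.mk (p := maximalIdeal L • (⊤ : Submodule L M)) (∑ i, m₀ i • e i))]
      exact h2
    funext i
    rw [← hm₀, Pi.zero_apply, residue_eq_zero_iff]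
    exact hind m₀ h3 i
  obtain ⟨ψ, hψ⟩ := w.exists_leftInverse_of_injective hw
  let χ : κ →+* κ' := ResidueField.map j
  have key : ∀ k : Fin r, residue L' (z₀ k) = 0 := by
    intro k
    let Φ₀ : M →ₗ[G] κ' :=
      { toFun := fun m => χ (ψ ((1 : κ) ⊗ₜ[L] m) k)
        map_add' := fun a b => by rw [TensorProduct.tmul_add, map_add, Pi.add_apply, map_add]
        map_smul' := fun g m => by
          rw [RingHom.id_apply, ← algebraMap_smul L g m, TensorProduct.tmul_smul,
            ← algebraMap_smul κ (algebraMap G L g), map_smul, Pi.smul_apply, smul_eq_mul, map_mul,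
            ResidueField.algebraMap_eq]
          change residue L' (j (algebraMap G L g)) * _ = _
          rw [hj, Algebra.smul_def]
          rfl }
    let Φ : L' ⊗[G] M →ₗ[L'] κ' := Φ₀.liftBaseChange L'
    have hE : ∀ i, Φ (E i) = if i = k then 1 else 0 := fun i => by
      change Φ₀.liftBaseChange L' (1 ⊗ₜ[G] e i) = _
      rw [LinearMap.liftBaseChange_tmul, one_smul]
      change χ (ψ ((1 : κ) ⊗ₜ[L] e i) k) = _
      have h1 : ψ ((1 : κ) ⊗ₜ[L] e i) = Pi.single i 1 := by
        have := LinearMap.congr_fun hψ (Pi.single i 1)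
        simpa [w] using this
      rw [h1, Pi.single_apply]
      by_cases h : i = k
      · simp [h]
      · simp [h, Ne.symm h]
    have h4 := congrArg Φ h0
    rw [map_sum, map_zero, Finset.sum_eq_single k (fun i _ hi => by rw [map_smul, hE, if_neg hi, smul_zero])
      (fun h => absurd (Finset.mem_univ k) h), map_smul, hE, if_pos rfl] at h4
    rwa [Algebra.smul_def, mul_one] at h4
  have hc₀ : c i₀ = 1 := (mul_left_cancel₀ hγ₀ ((mul_one _).trans (hc i₀))).symm
  have h5 := key i₀
  rw [residue_eq_zero_iff, mem_maximalIdeal] at h5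
  exact h5 (by simp [z₀, hc₀])

/-- Base change along a henselization over a flat polynomial base is flat over the coefficients. -/
theorem flat_baseChange_stage {R V Pl PV W' G L' M k : Type u} [CommRing R] [CommRing V] [CommRing Pl]
    [CommRing PV] [CommRing W'] [CommRing G] [CommRing L'] [CommRing k] [Algebra R V] [Algebra R Pl]
    [Algebra V PV] [Algebra Pl PV] [Algebra R PV] [IsScalarTower R V PV] [IsScalarTower R Pl PV]
    [Algebra.IsPushout R V Pl PV] [Algebra PV W'] [Module.Flat PV W'] [Algebra Pl W'] [Algebra V W']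
    [IsScalarTower Pl PV W'] [IsScalarTower V PV W'] [Algebra Pl G] [Algebra.Etale Pl G]
    [Algebra W' L'] [Algebra G L'] [Algebra Pl L'] [IsScalarTower Pl W' L'] [IsScalarTower Pl G L']
    [Algebra V L'] [IsScalarTower V W' L'] [Algebra W' k] {π : L' →ₐ[W'] k}
    (hH : H9Hens.IsPtColim π) [AddCommGroup M] [Module G M] [Module Pl M] [IsScalarTower Pl G M]
    [Module R M] [IsScalarTower R Pl M] [Module.Flat R M] : Module.Flat V (L' ⊗[G] M) := by
  let S2 := W' ⊗[Pl] G
  let φ : S2 →ₐ[Pl] L' := Algebra.TensorProduct.lift (IsScalarTower.toAlgHom Pl W' L')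
    (IsScalarTower.toAlgHom Pl G L') fun _ _ => mul_comm _ _
  let : Algebra S2 L' := φ.toRingHom.toAlgebra
  have : IsScalarTower W' S2 L' := IsScalarTower.of_algebraMap_eq fun w => by
    change algebraMap W' L' w = φ (w ⊗ₜ[Pl] (1 : G))
    rw [Algebra.TensorProduct.lift_tmul, map_one, mul_one]
    rfl
  have : IsScalarTower G S2 L' := IsScalarTower.of_algebraMap_eq fun g => by
    change algebraMap G L' g = φ ((1 : W') ⊗ₜ[Pl] g)
    rw [Algebra.TensorProduct.lift_tmul, map_one, one_mul]
    rfl
  have hfl : Module.Flat S2 L' := hH.flat_of_etale S2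
  have : SMulCommClass Pl V W' := ⟨fun a v x => by
    rw [Algebra.smul_def a, Algebra.smul_def v, Algebra.smul_def a, Algebra.smul_def v, mul_left_comm]⟩
  have : IsScalarTower V S2 L' := IsScalarTower.of_algebraMap_eq fun v => by
    rw [IsScalarTower.algebraMap_apply V W' S2, ← IsScalarTower.algebraMap_apply W' S2 L',
      ← IsScalarTower.algebraMap_apply V W' L']
  have h1 : Module.Flat V (PV ⊗[Pl] M) :=
    Module.Flat.of_linearEquiv (Algebra.IsPushout.cancelBaseChange R V Pl PV M)
  have h2 : Module.Flat V (W' ⊗[PV] (PV ⊗[Pl] M)) := FlatTransfer.flat_tensor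
  have h3 : Module.Flat V (W' ⊗[Pl] M) := Module.Flat.of_linearEquiv
    ((AlgebraTensorModule.cancelBaseChange Pl PV W' W' M).symm.restrictScalars V)
  have : SMulCommClass G V S2 := ⟨fun a v x => by
    rw [Algebra.smul_def a, Algebra.smul_def v, Algebra.smul_def a, Algebra.smul_def v, mul_left_comm]⟩
  have h4 : Module.Flat V (S2 ⊗[G] M) := Module.Flat.of_linearEquiv
    ((Algebra.IsPushout.cancelBaseChange Pl W' G S2 M).restrictScalars V)
  have h5 : Module.Flat V (L' ⊗[S2] (S2 ⊗[G] M)) := FlatTransfer.flat_tensor
  exact Module.Flat.of_linearEquiv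
    ((AlgebraTensorModule.cancelBaseChange G S2 L' L' M).symm.restrictScalars V)

/-- Over a henselian local domain, injectivity modulo the maximal ideal implies injectivity for maps
from free modules over the henselization along the closed fibre into flat modules. -/
theorem injective_of_domain {R : Type u} [CommRing R] [IsDomain R] [HenselianLocalRing R] {n : ℕ}
    (L : Type u) [CommRing L] [IsLocalRing L]
    [Algebra (Localization.AtPrime ((maximalIdeal R).map (C : R →+* MvPolynomial (Fin n) R))) L]
    [IsLocalHom (algebraMap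
      (Localization.AtPrime ((maximalIdeal R).map (C : R →+* MvPolynomial (Fin n) R))) L)]
    [Hensel.IsHenselization
      (Localization.AtPrime ((maximalIdeal R).map (C : R →+* MvPolynomial (Fin n) R))) L]
    [Algebra (MvPolynomial (Fin n) R) L]
    [IsScalarTower (MvPolynomial (Fin n) R)
      (Localization.AtPrime ((maximalIdeal R).map (C : R →+* MvPolynomial (Fin n) R))) L]
    [Algebra R L] [IsScalarTower R (MvPolynomial (Fin n) R) L]
    {M : Type u} [AddCommGroup M] [Module L M] [Module R M] [IsScalarTower R L M] [Module.Flat R M]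
    {r : ℕ} (e : Fin r → M)
    (hind : ∀ z : Fin r → L, ∑ i, z i • e i ∈ maximalIdeal L • (⊤ : Submodule L M) →
      ∀ i, z i ∈ maximalIdeal L)
    (z : Fin r → L) (hz : ∑ i, z i • e i = 0) : z = 0 := by
  classical
  obtain ⟨Vs, hVmem, hVloc⟩ := HenselGauss.exists_valuation R
  let K := FractionRing R
  let : Algebra R Vs := ((algebraMap R K).codRestrict Vs.toSubring hVmem).toAlgebra
  have : IsScalarTower R Vs K := IsScalarTower.of_algebraMap_eq fun _ => rfl
  have : IsLocalHom (algebraMap R Vs) := ⟨fun r hr => hVloc r hr⟩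
  let Pl := MvPolynomial (Fin n) R
  let PV := MvPolynomial (Fin n) Vs
  let mP : Ideal Pl := (maximalIdeal R).map C
  let W := Localization.AtPrime mP
  let W' := Localization.AtPrime ((maximalIdeal Vs).map (C : Vs →+* PV))
  obtain ⟨L', _, _, _, _, π', hπ', hL'⟩ := H9Hens.exists_isHenselization_colim W'
  obtain ⟨W'', _, _, _, _, _, hint, hinj, θ, hθl, hθi, hθf⟩ :=
    HenselGauss.exists_normal_stage (R := R) n Vs K
  obtain ⟨j, hjloc, hjinj, hj⟩ := HenselGauss.exists_embedding_of_stage hinj θ hθi L L'
  obtain ⟨G, _, _, ψ, hψs, hnhd⟩ :=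
    EtaleNbhdHensel.exists_etaleNhd_hitting mP L (Finset.univ.image z)
  choose zG hzG using fun i => hψs (z i) (Finset.mem_image_of_mem z (Finset.mem_univ i))
  let : Algebra G L := ψ.toRingHom.toAlgebra
  let : Algebra G L' := (j.comp ψ.toRingHom).toAlgebra
  have : IsScalarTower Pl PV W' := inferInstance
  let : Algebra Pl L' := ((algebraMap W' L').comp (algebraMap Pl W')).toAlgebra
  have : IsScalarTower Pl W' L' := IsScalarTower.of_algebraMap_eq fun _ => rfl
  have : IsScalarTower Pl G L' := IsScalarTower.of_algebraMap_eq fun f => by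
    change _ = j (ψ (algebraMap Pl G f))
    rw [ψ.commutes, IsScalarTower.algebraMap_apply Pl W L, hj, hθf]
    rfl
  let : Algebra Vs L' := ((algebraMap W' L').comp (algebraMap Vs W')).toAlgebra
  have : IsScalarTower Vs W' L' := IsScalarTower.of_algebraMap_eq fun _ => rfl
  have : IsScalarTower Vs PV W' := inferInstance
  let : Module G M := Module.compHom M ψ.toRingHom
  have : IsScalarTower G L M := IsScalarTower.of_algebraMap_smul fun _ _ => rfl
  let : Module Pl M := Module.compHom M (algebraMap Pl L)
  have : IsScalarTower Pl L M := IsScalarTower.of_algebraMap_smul fun _ _ => rfl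
  have : IsScalarTower Pl G M := IsScalarTower.of_algebraMap_smul fun f m => by
    change ψ (algebraMap Pl G f) • m = algebraMap Pl L f • m
    rw [ψ.commutes]
  have : IsScalarTower R Pl M := IsScalarTower.of_algebraMap_smul fun a m => by
    change algebraMap Pl L (algebraMap R Pl a) • m = a • m
    rw [← IsScalarTower.algebraMap_apply, algebraMap_smul]
  have : Algebra.Etale Pl G := hnhd.1
  have : Module.Flat PV W' := IsLocalization.flat W' ((maximalIdeal Vs).map (C : Vs →+* PV)).primeCompl
  have : Module.Flat Vs (L' ⊗[G] M) :=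
    flat_baseChange_stage (R := R) (Pl := Pl) (PV := PV) (W' := W') hπ'
  have h := eq_zero_of_flat_valuation (V := Vs) (G := G) j (fun _ => rfl)
    (fun x => exists_eq_unit_mul_hens (V := Vs) (n := n) L' x) e hind zG (by
      rw [← hz]
      exact Finset.sum_congr rfl fun i _ => congrArg (· • e i) (hzG i))
  funext i
  refine hjinj ((congrArg j (hzG i).symm).trans ((h i).trans (map_zero j).symm))

end Groth.Agent.H7Flat.HenselGaussInj
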