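import Groth.Agent.H9Hens.PairBaseChange
import Groth.Agent.H9Hens.LocalHens
import Mathlib.RingTheory.TensorProduct.MvPolynomial
import Mathlib.RingTheory.Localization.BaseChange

/-!
Henselizations of polynomial rings and quotients of the coefficient ring.
-/

set_option autoImplicit false
universe u

namespace Groth.Agent.H7Flat.HenselQuotient

open TensorProduct IsLocalRing MvPolynomial

attribute [local instance] Algebra.TensorProduct.rightAlgebra
attribute [local instance] MvPolynomial.algebraMvPolynomial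

set_option backward.isDefEq.respectTransparency false
set_option maxHeartbeats 1000000
set_option synthInstance.maxHeartbeats 400000

/-- Localisation commutes with surjections. -/
theorem isLocalization_map {P P₁ W₁ : Type u} [CommRing P] [CommRing P₁] [CommRing W₁] [Algebra P P₁]
    [Algebra P₁ W₁] (hsurj : Function.Surjective (algebraMap P P₁)) (y : Ideal P) [y.IsPrime]
    (y₁ : Ideal P₁) [y₁.IsPrime] (hy : y₁.comap (algebraMap P P₁) = y)
    [IsLocalization.AtPrime W₁ y₁] :
    IsLocalization (Algebra.algebraMapSubmonoid P₁ y.primeCompl) W₁ := by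
  have : Algebra.algebraMapSubmonoid P₁ y.primeCompl = y₁.primeCompl := by
    ext x
    constructor
    · rintro ⟨a, ha, rfl⟩ hx
      exact ha (hy ▸ hx)
    · intro hx
      obtain ⟨a, rfl⟩ := hsurj x
      exact ⟨a, fun h => hx (by rw [← hy] at h; exact h), rfl⟩
  rw [this]
  infer_instance

/-- The henselization over a quotient of the coefficient ring is the quotient of the henselization. -/
theorem exists_quotient_stage {R R₁ : Type u} [CommRing R] [CommRing R₁] [Algebra R R₁]
    (hsurj : Function.Surjective (algebraMap R R₁)) {n : ℕ}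
    (y : Ideal (MvPolynomial (Fin n) R)) [y.IsPrime]
    (y₁ : Ideal (MvPolynomial (Fin n) R₁)) [y₁.IsPrime]
    (hy : y₁.comap (algebraMap (MvPolynomial (Fin n) R) (MvPolynomial (Fin n) R₁)) = y)
    (L : Type u) [CommRing L] [IsLocalRing L] [Algebra (Localization.AtPrime y) L]
    [IsLocalHom (algebraMap (Localization.AtPrime y) L)]
    [Hensel.IsHenselization (Localization.AtPrime y) L]
    [Algebra (MvPolynomial (Fin n) R) L]
    [IsScalarTower (MvPolynomial (Fin n) R) (Localization.AtPrime y) L]
    [Algebra R L] [IsScalarTower R (MvPolynomial (Fin n) R) L] :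
    ∃ (L₁ : Type u) (_ : CommRing L₁) (_ : IsLocalRing L₁) (_ : Algebra (Localization.AtPrime y₁) L₁)
      (_ : IsLocalHom (algebraMap (Localization.AtPrime y₁) L₁))
      (_ : Algebra (MvPolynomial (Fin n) R₁) L₁)
      (_ : IsScalarTower (MvPolynomial (Fin n) R₁) (Localization.AtPrime y₁) L₁)
      (_ : Algebra R₁ L₁) (_ : IsScalarTower R₁ (MvPolynomial (Fin n) R₁) L₁)
      (_ : Algebra L L₁) (_ : Algebra R L₁) (_ : IsScalarTower R R₁ L₁) (_ : IsScalarTower R L L₁),
      Hensel.IsHenselization (Localization.AtPrime y₁) L₁ ∧ Algebra.IsPushout R R₁ L L₁ ∧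
        Function.Surjective (algebraMap L L₁) ∧
        ∀ f : MvPolynomial (Fin n) R, algebraMap L L₁ (algebraMap _ L f) =
          algebraMap (MvPolynomial (Fin n) R₁) L₁ (MvPolynomial.map (algebraMap R R₁) f) := by
  let Pl := MvPolynomial (Fin n) R
  let Pl₁ := MvPolynomial (Fin n) R₁
  let W := Localization.AtPrime y
  let W₁ := Localization.AtPrime y₁
  let φ : W →+* W₁ := Localization.localRingHom y y₁ (algebraMap Pl Pl₁) hy.symm
  let : Algebra W W₁ := φ.toAlgebra
  have hsurjP : Function.Surjective (algebraMap Pl Pl₁) := MvPolynomial.map_surjective _ hsurj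
  have hφ : Function.Surjective φ :=
    (RingHom.surjectiveOnStalks_of_surjective hsurjP).localRingHom_surjective _ _ hy.symm
  have : Module.Finite W W₁ := Module.Finite.of_surjective (Algebra.linearMap W W₁) hφ
  have : IsLocalHom (algebraMap W W₁) := Localization.isLocalHom_localRingHom _ _ _ _
  obtain ⟨hl, hlh, hH⟩ := H9Hens.exists_isHenselization_tensor W W₁ L
  let L₁ := W₁ ⊗[W] L
  have : IsScalarTower Pl W W₁ := IsScalarTower.of_algebraMap_eq fun f => by
    rw [IsScalarTower.algebraMap_apply Pl Pl₁ W₁]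
    exact (Localization.localRingHom_to_map y y₁ _ hy.symm f).symm
  have : IsLocalization (Algebra.algebraMapSubmonoid Pl₁ y.primeCompl) W₁ :=
    isLocalization_map hsurjP y y₁ hy
  have hp2 : Algebra.IsPushout Pl Pl₁ W W₁ := Algebra.isPushout_of_isLocalization y.primeCompl _ _ _
  have hp1 : Algebra.IsPushout R R₁ Pl Pl₁ := inferInstance
  have hp3 : Algebra.IsPushout W W₁ L L₁ := inferInstance
  have : IsScalarTower Pl₁ W₁ L₁ := inferInstance
  have : IsScalarTower R₁ Pl₁ L₁ := IsScalarTower.of_algebraMap_eq fun x =>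
    (IsScalarTower.algebraMap_apply R₁ W₁ L₁ x).trans
      ((congrArg _ (IsScalarTower.algebraMap_apply R₁ Pl₁ W₁ x)).trans
        (IsScalarTower.algebraMap_apply Pl₁ W₁ L₁ _).symm)
  have : IsScalarTower Pl W₁ L₁ := inferInstance
  have : IsScalarTower R W₁ L₁ := inferInstance
  have hWL : ∀ w : W, algebraMap L L₁ (algebraMap W L w) = algebraMap W₁ L₁ (algebraMap W W₁ w) :=
    fun w => by rw [← IsScalarTower.algebraMap_apply W L L₁, ← IsScalarTower.algebraMap_apply W W₁ L₁]
  have hf : ∀ f : Pl, algebraMap L L₁ (algebraMap Pl L f) =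
      algebraMap Pl₁ L₁ (algebraMap Pl Pl₁ f) := fun f => by
    rw [IsScalarTower.algebraMap_apply Pl W L, hWL, ← IsScalarTower.algebraMap_apply Pl W W₁,
      IsScalarTower.algebraMap_apply Pl Pl₁ W₁, ← IsScalarTower.algebraMap_apply Pl₁ W₁ L₁]
  have : IsScalarTower Pl L L₁ := IsScalarTower.of_algebraMap_eq (R := Pl) (S := L) (A := L₁) fun f => by
    rw [IsScalarTower.algebraMap_apply Pl W L, hWL, ← IsScalarTower.algebraMap_apply Pl W W₁,
      ← IsScalarTower.algebraMap_apply Pl W₁ L₁]
  have : IsScalarTower Pl Pl₁ L₁ := inferInstance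
  have : IsScalarTower Pl Pl₁ W₁ := inferInstance
  have : IsScalarTower Pl W L₁ := inferInstance
  have : IsScalarTower R Pl L₁ := inferInstance
  have : IsScalarTower R L L₁ := IsScalarTower.of_algebraMap_eq (R := R) (S := L) (A := L₁) fun a =>
    (IsScalarTower.algebraMap_apply R Pl L₁ a).trans
      ((IsScalarTower.algebraMap_apply Pl L L₁ _).trans
        (congrArg _ (IsScalarTower.algebraMap_apply R Pl L a).symm))
  have : IsScalarTower R R₁ L₁ := inferInstance
  have := hp2.symm
  have hp12 : Algebra.IsPushout Pl Pl₁ L L₁ :=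
    (Algebra.IsPushout.comp_iff Pl W Pl₁ W₁ (T := L) (T' := L₁)).mpr hp3.symm |>.symm
  have : Algebra.IsPushout R Pl R₁ Pl₁ := hp1.symm
  have hp : Algebra.IsPushout R R₁ L L₁ :=
    (Algebra.IsPushout.comp_iff R Pl R₁ Pl₁ (T := L) (T' := L₁)).mpr hp12.symm |>.symm
  refine ⟨L₁, inferInstance, hl, inferInstance, hlh, inferInstance, inferInstance, inferInstance,
    inferInstance, inferInstance, inferInstance, inferInstance, inferInstance, hH, hp, ?_, hf⟩
  intro x
  induction x using TensorProduct.induction_on with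
  | zero => exact ⟨0, map_zero _⟩
  | add a b ha hb =>
    obtain ⟨a', rfl⟩ := ha
    obtain ⟨b', rfl⟩ := hb
    exact ⟨a' + b', map_add _ _ _⟩
  | tmul w l =>
    obtain ⟨w', rfl⟩ := hφ w
    refine ⟨w' • l, ?_⟩
    change (1 : W₁) ⊗ₜ[W] (w' • l) = φ w' ⊗ₜ[W] l
    rw [← TensorProduct.smul_tmul, Algebra.smul_def, mul_one]
    rfl

/-- The kernel of a surjective base change. -/
theorem ker_le_of_isPushout {R R₁ L L₁ : Type u} [CommRing R] [CommRing R₁] [CommRing L] [CommRing L₁]
    [Algebra R R₁] [Algebra R L] [Algebra R₁ L₁] [Algebra L L₁] [Algebra R L₁] [IsScalarTower R R₁ L₁]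
    [IsScalarTower R L L₁] [Algebra.IsPushout R R₁ L L₁]
    (hsurj : Function.Surjective (algebraMap R R₁)) :
    RingHom.ker (algebraMap L L₁) = (RingHom.ker (algebraMap R R₁)).map (algebraMap R L) := by
  let J := (RingHom.ker (algebraMap R R₁)).map (algebraMap R L)
  refine le_antisymm ?_ (Ideal.map_le_iff_le_comap.mpr fun r hr => ?_)
  · let φ : R →+* L ⧸ J := algebraMap R (L ⧸ J)
    let f₀ : R₁ →+* L ⧸ J := (algebraMap R R₁).liftOfSurjective hsurj ⟨φ, fun r hr => by
      rw [RingHom.mem_ker]
      exact Ideal.Quotient.eq_zero_iff_mem.mpr (Ideal.mem_map_of_mem _ hr)⟩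
    let f : R₁ →ₐ[R] L ⧸ J :=
      { f₀ with commutes' := fun r => RingHom.liftOfRightInverse_comp_apply _ _ _ _ r }
    let h := Algebra.pushoutDesc L₁ f (Ideal.Quotient.mkₐ R J) fun _ _ => mul_comm _ _
    intro x hx
    have h1 := Algebra.pushoutDesc_right L₁ f (Ideal.Quotient.mkₐ R J) (fun _ _ => mul_comm _ _) x
    rw [RingHom.mem_ker.mp hx, map_zero] at h1
    exact Ideal.Quotient.eq_zero_iff_mem.mp h1.symm
  · rw [Ideal.mem_comap, RingHom.mem_ker, ← IsScalarTower.algebraMap_apply,
      IsScalarTower.algebraMap_apply R R₁ L₁, RingHom.mem_ker.mp hr, map_zero]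

end Groth.Agent.H7Flat.HenselQuotient
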