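import Groth.Agent.H7Flat.HenselianFlatSpec
import Groth.Agent.H9Hens.Split

/-!
Over a henselian Noetherian local ring, generic points over an associated point meeting the closed
fibre of a flat module specialise into every point over the closed point.
-/

set_option autoImplicit false
universe u

namespace Groth.Agent.H7Flat.HenselianFlatSpecMain

open TensorProduct FlatMor IsLocalRing ImpurityDescend FibreGenericSpec HenselianFlatSpec

attribute [local instance] Algebra.TensorProduct.rightAlgebra

set_option backward.isDefEq.respectTransparency false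
set_option maxHeartbeats 1000000
set_option synthInstance.maxHeartbeats 400000

variable {A S : Type u} [CommRing A] [HenselianLocalRing A] [IsNoetherianRing A] [CommRing S]
  [Algebra A S] [Algebra.FiniteType A S]

/-- A domain of finite type over a henselian local ring with finite nonempty closed fibre is
finite. -/
theorem finite_of_finite_closedFibre {C : Type u} [CommRing C] [IsDomain C] [Algebra A C]
    [Algebra.FiniteType A C]
    (hfin : {M : Ideal C | M.IsMaximal ∧ (maximalIdeal A).map (algebraMap A C) ≤ M}.Finite)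
    (hne : (maximalIdeal A).map (algebraMap A C) ≠ ⊤) : Module.Finite A C := by
  classical
  let L := (maximalIdeal A).map (algebraMap A C)
  let : Field (A ⧸ maximalIdeal A) := Ideal.Quotient.field _
  have : Algebra.FiniteType A (C ⧸ L) :=
    .of_surjective (Ideal.Quotient.mkₐ A L) Ideal.Quotient.mk_surjective
  have : Algebra.FiniteType (A ⧸ maximalIdeal A) (C ⧸ L) :=
    .of_restrictScalars_finiteType A _ _
  have : IsNoetherianRing (C ⧸ L) := Algebra.FiniteType.isNoetherianRing (A ⧸ maximalIdeal A) _
  have : IsJacobsonRing (C ⧸ L) := isJacobsonRing_of_finiteType (A := A ⧸ maximalIdeal A)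
  have hmaxfin : {M : Ideal (C ⧸ L) | M.IsMaximal}.Finite := by
    refine Set.Finite.of_finite_image (f := Ideal.comap (Ideal.Quotient.mk L)) (hfin.subset ?_)
      (fun a _ b _ h => Ideal.comap_injective_of_surjective _ Ideal.Quotient.mk_surjective h)
    rintro _ ⟨M, hM, rfl⟩
    have := Set.mem_setOf.mp hM
    exact ⟨Ideal.comap_isMaximal_of_surjective _ Ideal.Quotient.mk_surjective, fun a ha => by
      rw [Ideal.mem_comap, Ideal.Quotient.eq_zero_iff_mem.mpr ha]
      exact zero_mem _⟩
  have hallmax : ∀ P : Ideal (C ⧸ L), P.IsPrime → P.IsMaximal := by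
    intro P hP
    obtain ⟨M, hM, hle⟩ : ∃ M : Ideal (C ⧸ L), M.IsMaximal ∧ M ≤ P := by
      let T := hmaxfin.toFinset.filter fun M => P ≤ M
      have h1 : T.inf id ≤ P := by
        intro x hx
        rw [← IsJacobsonRing.out ‹IsJacobsonRing (C ⧸ L)› hP.isRadical]
        refine (Submodule.mem_sInf).mpr fun M hM => ?_
        exact (Submodule.mem_finsetInf.mp hx) M (Finset.mem_filter.mpr
          ⟨hmaxfin.mem_toFinset.mpr hM.2, hM.1⟩)
      obtain ⟨M, hM, hle⟩ := (Ideal.IsPrime.inf_le' hP).mp h1
      exact ⟨M, hmaxfin.mem_toFinset.mp (Finset.mem_filter.mp hM).1, hle⟩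
    rwa [← hM.eq_of_le hP.ne_top hle]
  have hspec : Finite (PrimeSpectrum (C ⧸ L)) := by
    have := hmaxfin.to_subtype
    exact Finite.of_injective (fun x => (⟨x.asIdeal, hallmax _ x.2⟩ : {M : Ideal (C ⧸ L) | M.IsMaximal}))
      fun x y h => PrimeSpectrum.ext (congrArg Subtype.val h)
  have : T1Space (PrimeSpectrum (C ⧸ L)) :=
    ⟨fun x => (PrimeSpectrum.isClosed_singleton_iff_isMaximal x).mpr (hallmax _ x.2)⟩
  obtain ⟨e, he, hfinC, hq⟩ := Groth.Agent.H9Hens.exists_idem_split (R := A) C
  obtain ⟨M, hM, hle⟩ := Ideal.exists_le_maximal L hne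
  have hMlies : M.LiesOver (maximalIdeal A) := ⟨(IsLocalRing.maximalIdeal.isMaximal A).eq_of_le
    (Ideal.comap_ne_top _ hM.ne_top) (Ideal.map_le_iff_le_comap.mp hle)⟩
  have hqf : Algebra.QuasiFiniteAt A M := by
    let x : PrimeSpectrum (C ⧸ L) := ⟨M.map (Ideal.Quotient.mk L),
      Ideal.map_isPrime_of_surjective Ideal.Quotient.mk_surjective (by rwa [Ideal.mk_ker])⟩
    have h := (Groth.Agent.H9Hens.quasiFiniteAt_iff_isOpen_singleton_closedFibre (R := A) (S := C) x).mpr
      (isOpen_discrete _)
    have hxM : (PrimeSpectrum.comap (Ideal.Quotient.mk L) x).asIdeal = M := by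
      show (M.map (Ideal.Quotient.mk L)).comap (Ideal.Quotient.mk L) = M
      rw [Ideal.comap_map_of_surjective _ Ideal.Quotient.mk_surjective, sup_eq_left,
        ← RingHom.ker_eq_comap_bot, Ideal.mk_ker]
      exact hle
    convert h using 2
    exact hxM.symm
  have he1 : e = 1 := by
    rcases IsIdempotentElem.iff_eq_zero_or_one.mp he with h | h
    · exact absurd (h ▸ zero_mem M) (hq M hMlies hqf)
    · exact h
  subst he1
  have hbot : Ideal.span {(1 : C) - 1} = ⊥ := by simp
  exact Module.Finite.equiv ((Ideal.quotientEquivAlgOfEq A hbot).toLinearEquiv.trans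
    (AlgEquiv.quotientBot A C).toLinearEquiv)

/-- Specialisation through a finite localisation of the closure. -/
theorem exists_ge_liesOver_of_finite {A' B' C : Type u} [CommRing A'] [CommRing B']
    [Algebra A A'] [Algebra S B'] [Algebra A' B'] [Algebra A B'] [IsScalarTower A S B']
    [IsScalarTower A A' B'] [hpush : Algebra.IsPushout A S A' B'] [CommRing C] [Algebra A C]
    [Algebra S C] [IsScalarTower A S C] [Module.Finite A C] (q : Ideal S) (c : S)
    [Algebra (S ⧸ q) C] [IsLocalization.Away (Ideal.Quotient.mk q c) C] [IsScalarTower S (S ⧸ q) C]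
    (t' t : Ideal A') [t'.IsPrime] [t.IsPrime] (htt : t' ≤ t) (P : Ideal B') [P.IsPrime]
    [P.LiesOver t'] (hqP : q.map (algebraMap S B') ≤ P) (hcP : algebraMap S B' c ∉ P) :
    ∃ P' : Ideal B', P'.IsPrime ∧ P ≤ P' ∧ P'.LiesOver t := by
  let D := B' ⧸ P
  let cD : D := Ideal.Quotient.mk P (algebraMap S B' c)
  have hcD : cD ≠ 0 := fun h => hcP (Ideal.Quotient.eq_zero_iff_mem.mp h)
  let Dc := Localization.Away cD
  have hinj : Function.Injective (algebraMap D Dc) :=
    IsLocalization.injective Dc (powers_le_nonZeroDivisors_of_noZeroDivisors hcD)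
  let χ₀ : S →+* Dc := (algebraMap D Dc).comp ((Ideal.Quotient.mk P).comp (algebraMap S B'))
  let χ₁ : S ⧸ q →+* Dc := Ideal.Quotient.lift q χ₀ fun a ha => by
    change algebraMap D Dc (Ideal.Quotient.mk P (algebraMap S B' a)) = 0
    rw [Ideal.Quotient.eq_zero_iff_mem.mpr (hqP (Ideal.mem_map_of_mem _ ha)), map_zero]
  have hu : IsUnit (χ₁ (Ideal.Quotient.mk q c)) := by
    rw [Ideal.Quotient.lift_mk]
    exact IsLocalization.Away.algebraMap_isUnit cD
  let χ : C →+* Dc := IsLocalization.Away.lift _ hu
  have hχS : ∀ s, χ (algebraMap S C s) = χ₀ s := fun s => by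
    rw [IsScalarTower.algebraMap_apply S (S ⧸ q) C]
    exact (IsLocalization.Away.lift_eq _ hu _).trans (Ideal.Quotient.lift_mk _ _ _)
  have hintC : ∀ y : C, IsIntegral A' (χ y) := by
    intro y
    let χA : C →ₐ[A] Dc :=
      { χ with
        commutes' := fun a => by
          change χ (algebraMap A C a) = _
          rw [IsScalarTower.algebraMap_apply A S C, hχS]
          change algebraMap D Dc (Ideal.Quotient.mk P (algebraMap S B' (algebraMap A S a))) = _
          rw [← IsScalarTower.algebraMap_apply A S B', IsScalarTower.algebraMap_apply A A' B',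
            IsScalarTower.algebraMap_apply A A' Dc]
          rfl }
    exact ((Algebra.IsIntegral.isIntegral (R := A) y).map χA).tower_top
  have hint : Algebra.IsIntegral A' Dc := by
    constructor
    intro z
    have hD : ∀ d : D, IsIntegral A' (algebraMap D Dc d) := by
      intro d
      obtain ⟨b, rfl⟩ := Ideal.Quotient.mk_surjective d
      refine hpush.out.inductionOn b
        (fun b => IsIntegral A' (algebraMap D Dc (Ideal.Quotient.mk P b))) ?_ (fun a => ?_)
        (fun s b hb => ?_) (fun a b ha hb => ?_)
      · rw [map_zero, map_zero]; exact isIntegral_zero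
      · exact isIntegral_algebraMap (R := A') (A := Dc) (x := a)
      · rw [Algebra.smul_def, map_mul, map_mul]
        refine IsIntegral.mul ?_ hb
        have h := hintC (algebraMap S C s)
        rw [hχS] at h
        exact h
      · rw [map_add, map_add]; exact ha.add hb
    obtain ⟨d, ⟨_, n, rfl⟩, rfl⟩ := IsLocalization.exists_mk'_eq (Submonoid.powers cD) z
    rw [IsLocalization.mk'_eq_iff_eq_mul.mpr (show algebraMap D Dc d = algebraMap D Dc d *
      χ (IsLocalization.Away.invSelf (Ideal.Quotient.mk q c)) ^ n * algebraMap D Dc (cD ^ n) from ?_)]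
    · exact (hD d).mul ((hintC _).pow n)
    · have h1 : χ (IsLocalization.Away.invSelf (Ideal.Quotient.mk q c)) * algebraMap D Dc cD = 1 := by
        have h2 := congrArg χ (IsLocalization.Away.mul_invSelf (S := C) (Ideal.Quotient.mk q c))
        rw [map_mul, map_one, IsLocalization.Away.lift_eq, Ideal.Quotient.lift_mk] at h2
        rw [mul_comm]
        exact h2
      rw [map_pow, mul_assoc, ← mul_pow, h1, one_pow, mul_one]
  obtain ⟨Y, -, hY, hYt⟩ := Ideal.exists_ideal_over_prime_of_isIntegral t (⊥ : Ideal Dc) (by
    intro a ha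
    rw [Ideal.mem_comap, Ideal.mem_bot] at ha
    refine htt ((P.over_def t').ge ?_)
    change algebraMap A' B' a ∈ P
    refine Ideal.Quotient.eq_zero_iff_mem.mp (hinj ?_)
    rw [map_zero]
    exact ha)
  have := hY
  refine ⟨Y.comap ((algebraMap D Dc).comp (Ideal.Quotient.mk P)), Ideal.comap_isPrime _ _, ?_, ⟨?_⟩⟩
  · intro b hb
    rw [Ideal.mem_comap, RingHom.comp_apply, Ideal.Quotient.eq_zero_iff_mem.mpr hb, map_zero]
    exact zero_mem _
  · rw [Ideal.under, Ideal.comap_comap, ← hYt]
    rfl

/-- The induction over the associated point. -/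
theorem exists_ge_liesOver_aux (p : Ideal A) [p.IsPrime] (q : Ideal S) (hq : q.IsPrime)
    (hqp : q.LiesOver p)
    (N : Type u) [AddCommGroup N] [Module S N] [Module A N] [IsScalarTower A S N]
    [Module.Finite S N] (c : S)
    (hflat : ∀ (Q : Ideal S) [Q.IsPrime], Q.LiesOver (maximalIdeal A) → c ∉ Q → FlatCA.FlatAt A Q N)
    (Q : Ideal S) [Q.IsMaximal] [Q.LiesOver (maximalIdeal A)] (hqQ : q ≤ Q) (hcQ : c ∉ Q)
    (hass : FlatCA.fiberIdeal p q ∈ associatedPrimes (p.Fiber S) (FlatCA.fiberMod p S N))
    {A' B' : Type u} [CommRing A'] [CommRing B'] [Algebra A A'] [Algebra S B'] [Algebra A' B']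
    [Algebra A B'] [IsScalarTower A S B'] [IsScalarTower A A' B'] [Algebra.IsPushout A S A' B']
    (t' t : Ideal A') [t'.IsPrime] [t.IsPrime] [t'.LiesOver p] (htt : t' ≤ t)
    [t.LiesOver (maximalIdeal A)] (P : Ideal B') (hP : IsGen t' (q.map (algebraMap S B')) P)
    (hPq : P.comap (algebraMap S B') = q) :
    ∃ P' : Ideal B', P'.IsPrime ∧ P ≤ P' ∧ P'.LiesOver t := by
  have hSn : IsNoetherianRing S := Algebra.FiniteType.isNoetherianRing A S
  induction q using IsNoetherian.induction generalizing N c Q P with
  | hgt q ih =>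
    have := hq
    have := hqp
    have := hP.1
    have := hP.2.1
    have : IsNoetherianRing ((maximalIdeal A).Fiber S) :=
      Algebra.FiniteType.isNoetherianRing (maximalIdeal A).ResidueField _
    have : Module.Finite ((maximalIdeal A).Fiber S) (FlatCA.fiberMod (maximalIdeal A) S N) :=
      inferInstanceAs (Module.Finite ((maximalIdeal A).Fiber S) (((maximalIdeal A).Fiber S) ⊗[S] N))
    by_cases h : ∃ R : Ideal S, ∃ hR : R.IsMaximal, R.LiesOver (maximalIdeal A) ∧ q ≤ R ∧ c ∉ R ∧
        FlatCA.fiberIdeal (maximalIdeal A) R ∉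
          associatedPrimes ((maximalIdeal A).Fiber S) (FlatCA.fiberMod (maximalIdeal A) S N)
    · obtain ⟨R, hR, hRm, hqR, hcR, hRna⟩ := h
      have := hR.isPrime
      obtain ⟨g, hgR, hg⟩ := UnivInjCover.exists_fiber_regular (maximalIdeal A) R hRna
      obtain ⟨c₁, hc₁, hnhd⟩ := exists_nhd_fiber_regular (maximalIdeal A) R g hg
      obtain ⟨x, hxp, hxover, hqx, hxR, hxass⟩ :=
        exists_next R (hflat R hRm hcR) g hgR hg p q hqR hass
      obtain ⟨P₂, hPP₂, hP₂, hP₂x⟩ := exists_isGen_ge p t' q x hqx.le P hP
      obtain ⟨P', hP', hle, hover⟩ := ih x hqx hxp hxover (N ⧸ LinearMap.range (LinearMap.lsmul S N g)) (c * c₁)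
        (fun R' _ hR'm hcR' => flatAt_coker_smul R'
          (hflat R' hR'm fun h => hcR' (R'.mul_mem_right _ h)) g
          (hnhd R' inferInstance fun h => hcR' (R'.mul_mem_left _ h)))
        R hxR (fun h => (Ideal.IsPrime.mem_or_mem ‹R.IsPrime› h).elim hcR hc₁) hxass P₂ hP₂ hP₂x
      exact ⟨P', hP', hPP₂.trans hle, hover⟩
    · push Not at h
      let qc : S ⧸ q := Ideal.Quotient.mk q c
      have hcq : c ∉ q := fun h => hcQ (hqQ h)
      have hqc : qc ≠ 0 := fun h => hcq (Ideal.Quotient.eq_zero_iff_mem.mp h)
      let C := Localization.Away qc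
      have : IsDomain C := IsLocalization.isDomain_localization
        (powers_le_nonZeroDivisors_of_noZeroDivisors hqc)
      have : Algebra.FiniteType A (S ⧸ q) :=
        .of_surjective (Ideal.Quotient.mkₐ A q) Ideal.Quotient.mk_surjective
      have : Algebra.FiniteType A C :=
        Algebra.FiniteType.trans (S := S ⧸ q) inferInstance
          (IsLocalization.finiteType_of_monoid_fg (Submonoid.powers qc) C)
      let π : S →+* C := (algebraMap (S ⧸ q) C).comp (Ideal.Quotient.mk q)
      have hπA : ∀ a, π (algebraMap A S a) = algebraMap A C a := fun a =>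
        (IsScalarTower.algebraMap_apply A (S ⧸ q) C a).symm
      have hne : (maximalIdeal A).map (algebraMap A C) ≠ ⊤ := by
        intro htop
        have hQq : RingHom.ker (Ideal.Quotient.mk q) ≤ Q := by rwa [Ideal.mk_ker]
        have := Ideal.map_isPrime_of_surjective Ideal.Quotient.mk_surjective hQq
        have hdisj : Disjoint (Submonoid.powers qc : Set (S ⧸ q))
            (Q.map (Ideal.Quotient.mk q) : Ideal (S ⧸ q)) := by
          rw [Set.disjoint_left]
          rintro _ ⟨n, rfl⟩ hn
          have h1 := Ideal.mem_comap.mpr ((Ideal.IsPrime.mem_of_pow_mem ‹_› n hn : qc ∈ _))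
          rw [Ideal.comap_map_of_surjective _ Ideal.Quotient.mk_surjective, sup_eq_left.mpr
            (by rw [← RingHom.ker_eq_comap_bot]; exact hQq)] at h1
          exact hcQ h1
        have hne' := (IsLocalization.map_algebraMap_ne_top_iff_disjoint (Submonoid.powers qc) C
          (Q.map (Ideal.Quotient.mk q))).mpr hdisj
        refine hne' (top_le_iff.mp (htop.ge.trans (Ideal.map_le_iff_le_comap.mpr fun a ha => ?_)))
        rw [Ideal.mem_comap, ← hπA]
        exact Ideal.mem_map_of_mem _ (Ideal.mem_map_of_mem _ ((Q.over_def (maximalIdeal A)).le ha))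
      have hTfin : {R : Ideal S | ∃ Y : Ideal ((maximalIdeal A).Fiber S),
          Y ∈ associatedPrimes ((maximalIdeal A).Fiber S) (FlatCA.fiberMod (maximalIdeal A) S N) ∧
            Y.comap (algebraMap S ((maximalIdeal A).Fiber S)) = R}.Finite :=
        (associatedPrimes.finite ((maximalIdeal A).Fiber S) (FlatCA.fiberMod (maximalIdeal A) S N)).image
          (Ideal.comap (algebraMap S ((maximalIdeal A).Fiber S)))
      have hCfin : {M : Ideal C | M.IsMaximal ∧ (maximalIdeal A).map (algebraMap A C) ≤ M}.Finite := by
        refine Set.Finite.of_finite_image (f := Ideal.comap π) (hTfin.subset ?_) ?_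
        · rintro _ ⟨M, ⟨hM, hmM⟩, rfl⟩
          have hRm : (M.comap π).LiesOver (maximalIdeal A) :=
            ⟨(IsLocalRing.maximalIdeal.isMaximal A).eq_of_le
              (Ideal.comap_ne_top _ (Ideal.comap_ne_top _ hM.ne_top)) fun a ha => by
                rw [Ideal.under, Ideal.mem_comap, Ideal.mem_comap, hπA]
                exact hmM (Ideal.mem_map_of_mem _ ha)⟩
          have hRmax : (M.comap π).IsMaximal := by
            have : (M.comap π).IsPrime := Ideal.comap_isPrime _ _
            let : Field (A ⧸ maximalIdeal A) := Ideal.Quotient.field _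
            let : Algebra (A ⧸ maximalIdeal A) (C ⧸ M) :=
              (Ideal.quotientMap M (algebraMap A C) (Ideal.map_le_iff_le_comap.mp hmM)).toAlgebra
            have : IsScalarTower A (A ⧸ maximalIdeal A) (C ⧸ M) :=
              IsScalarTower.of_algebraMap_eq fun _ => rfl
            have : Algebra.FiniteType A (C ⧸ M) :=
              .of_surjective (Ideal.Quotient.mkₐ A M) Ideal.Quotient.mk_surjective
            have : Algebra.FiniteType (A ⧸ maximalIdeal A) (C ⧸ M) :=
              .of_restrictScalars_finiteType A _ _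
            let : Field (C ⧸ M) := Ideal.Quotient.field _
            have : Module.Finite (A ⧸ maximalIdeal A) (C ⧸ M) :=
              finite_of_finite_type_of_isJacobsonRing _ _
            let j : S ⧸ M.comap π →+* C ⧸ M := Ideal.quotientMap M π le_rfl
            have hj : Function.Injective j := Ideal.quotientMap_injective
            let : Algebra (A ⧸ maximalIdeal A) (S ⧸ M.comap π) :=
              (Ideal.quotientMap (M.comap π) (algebraMap A S) hRm.over.le).toAlgebra
            let jA : S ⧸ M.comap π →ₐ[A ⧸ maximalIdeal A] C ⧸ M :=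
              { j with
                commutes' := fun a => by
                  obtain ⟨a, rfl⟩ := Ideal.Quotient.mk_surjective a
                  exact congrArg (Ideal.Quotient.mk M) (hπA a) }
            have : Algebra.IsIntegral (A ⧸ maximalIdeal A) (S ⧸ M.comap π) :=
              ⟨fun z => (isIntegral_algHom_iff jA hj).mp (Algebra.IsIntegral.isIntegral _)⟩
            exact Ideal.Quotient.maximal_of_isField _
              (isField_of_isIntegral_of_isField' (Field.toIsField (A ⧸ maximalIdeal A)))
          have := hRmax.isPrime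
          refine ⟨_, h _ hRmax hRm ?_ ?_, comap_fiberIdeal (maximalIdeal A) (M.comap π)⟩
          · intro s hs
            rw [Ideal.mem_comap, RingHom.comp_apply, Ideal.Quotient.eq_zero_iff_mem.mpr hs, map_zero]
            exact zero_mem _
          · intro hc'
            exact hM.ne_top (Ideal.eq_top_of_isUnit_mem _ (Ideal.mem_comap.mp hc')
              (IsLocalization.Away.algebraMap_isUnit qc))
        · intro M₁ _ M₂ _ he
          have h1 : M₁.comap (algebraMap (S ⧸ q) C) = M₂.comap (algebraMap (S ⧸ q) C) :=
            Ideal.comap_injective_of_surjective _ Ideal.Quotient.mk_surjective he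
          rw [← IsLocalization.map_under (Submonoid.powers qc) C M₁,
            ← IsLocalization.map_under (Submonoid.powers qc) C M₂]
          exact congrArg _ h1
      have : Module.Finite A C := finite_of_finite_closedFibre hCfin hne
      have : IsScalarTower A S C := IsScalarTower.of_algebraMap_eq fun a => by
        rw [IsScalarTower.algebraMap_apply S (S ⧸ q) C]
        exact (hπA a).symm
      exact exists_ge_liesOver_of_finite (A := A) (S := S) (C := C) q c t' t htt P hP.2.2.1
        fun h => hcq (hPq ▸ h)

/-- Over a henselian Noetherian local ring a point generic over an associated point meeting the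
closed fibre at a point of flatness specialises over every point above the closed point. -/
theorem exists_ge_liesOver (p : Ideal A) [p.IsPrime] (q : Ideal S) [q.IsPrime] [q.LiesOver p]
    (N : Type u) [AddCommGroup N] [Module S N] [Module A N] [IsScalarTower A S N]
    [Module.Finite S N] (c : S)
    (hflat : ∀ (Q : Ideal S) [Q.IsPrime], Q.LiesOver (maximalIdeal A) → c ∉ Q → FlatCA.FlatAt A Q N)
    (Q : Ideal S) [Q.IsMaximal] [Q.LiesOver (maximalIdeal A)] (hqQ : q ≤ Q) (hcQ : c ∉ Q)
    (hass : FlatCA.fiberIdeal p q ∈ associatedPrimes (p.Fiber S) (FlatCA.fiberMod p S N))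
    {A' B' : Type u} [CommRing A'] [CommRing B'] [Algebra A A'] [Algebra S B'] [Algebra A' B']
    [Algebra A B'] [IsScalarTower A S B'] [IsScalarTower A A' B'] [Algebra.IsPushout A S A' B']
    (t' t : Ideal A') [t'.IsPrime] [t.IsPrime] [t'.LiesOver p] (htt : t' ≤ t)
    [t.LiesOver (maximalIdeal A)] (P : Ideal B') (hP : IsGen t' (q.map (algebraMap S B')) P)
    (hPq : P.comap (algebraMap S B') = q) :
    ∃ P' : Ideal B', P'.IsPrime ∧ P ≤ P' ∧ P'.LiesOver t :=
  exists_ge_liesOver_aux p q inferInstance inferInstance N c hflat Q hqQ hcQ hass t' t htt P hP hPq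

end Groth.Agent.H7Flat.HenselianFlatSpecMain
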