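import Groth.Agent.H7Flat.IndQuasiAffine
import Groth.Agent.H13Desc.QuasiAffineDescent

/-!
# Ind-quasi-affine morphisms: restriction to quasi-compact opens, fpqc descent
-/

set_option autoImplicit false
set_option backward.isDefEq.respectTransparency false
set_option linter.style.haveILetI false

universe u

open AlgebraicGeometry CategoryTheory Limits

namespace Groth.Agent.H7Flat

variable {X Y : Scheme.{u}}

theorem indQA_resLE {f : X ⟶ Y} (hf : MoreMor.IsIndQuasiAffineHom f) {V : Y.Opens} {U : X.Opens}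
    (hUV : U ≤ f ⁻¹ᵁ V) [QuasiCompact (f.resLE V U hUV)] : Mor2.IsQuasiAffine (f.resLE V U hUV) := by
  rw [indQA_iff] at hf
  refine ⟨inferInstance, fun W hW => ?_⟩
  let k := f.resLE V U hUV
  have := hf (V.ι ''ᵁ W) (hW.image_of_isOpenImmersion V.ι) (U.ι ''ᵁ (k ⁻¹ᵁ W))
    ((k.isCompact_preimage (U := W) hW.isCompact).image U.ι.continuous) (by
      rintro _ ⟨z, hz, rfl⟩
      exact ⟨k z, hz, Scheme.Hom.coe_resLE_apply f hUV z⟩)
  exact H11QAff.isQuasiAffine_of_iso (U.ι.isoImage (k ⁻¹ᵁ W))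

theorem indQA_iff_resLE (f : X ⟶ Y) :
    MoreMor.IsIndQuasiAffineHom f ↔ ∀ (V : Y.Opens), IsCompact (V : Set Y) → IsQuasiSeparated (V : Set Y) →
      ∀ (U : X.Opens) (hUV : U ≤ f ⁻¹ᵁ V), IsCompact (U : Set X) → MoreMor.IsQuasiAffineHom (f.resLE V U hUV) := by
  constructor
  · intro h V _ hVs U hUV hU
    haveI : CompactSpace U.toScheme := isCompact_iff_compactSpace.1 hU
    haveI : QuasiSeparatedSpace V.toScheme := (isQuasiSeparated_iff_quasiSeparatedSpace _ V.2).1 hVs
    haveI : QuasiCompact (f.resLE V U hUV) := quasiCompact_of_compactSpace _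
    exact indQA_resLE h hUV
  · intro h
    rw [indQA_iff]
    intro V hV U hU hUV
    haveI : IsAffine V.toScheme := hV
    exact H13Desc.QuasiAffineDescent.isQuasiAffine_top _ (h V hV.isCompact hV.isQuasiSeparated U hUV hU)

theorem indQA_descends {X' Y' : Scheme.{u}} {f : X ⟶ Y} {f' : X' ⟶ Y'} {g' : X' ⟶ X} {g : Y' ⟶ Y}
    (hc : IsPullback g' f' f g) [Flat g] [Surjective g] [QuasiCompact g]
    (hf' : MoreMor.IsIndQuasiAffineHom f') : MoreMor.IsIndQuasiAffineHom f := by
  rw [indQA_iff]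
  intro V hV U hU hUV
  haveI : IsAffine V.toScheme := hV
  haveI : CompactSpace U.toScheme := isCompact_iff_compactSpace.1 hU
  have hU' : g' ⁻¹ᵁ U ≤ f' ⁻¹ᵁ (g ⁻¹ᵁ V) := by
    rw [← Scheme.Hom.comp_preimage, ← hc.w, Scheme.Hom.comp_preimage]
    exact g'.preimage_mono hUV
  have sq := Scheme.Hom.isPullback_resLE hc (US := V) (UT := g ⁻¹ᵁ V) (UX := U) le_rfl hUV
    (UY := g' ⁻¹ᵁ U) (inf_eq_left.2 hU').symm
  haveI : QuasiCompact (f.resLE V U hUV) := (quasiCompact_iff_compactSpace _).2 inferInstance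
  haveI : QuasiCompact (f'.resLE (g ⁻¹ᵁ V) (g' ⁻¹ᵁ U) hU') :=
    MorphismProperty.of_isPullback (P := @QuasiCompact) sq inferInstance
  have hq : H18Descent.fpqc (g.resLE V (g ⁻¹ᵁ V) le_rfl) := by
    rw [Scheme.Hom.resLE_eq_morphismRestrict]
    exact ⟨⟨IsZariskiLocalAtTarget.restrict (P := @Surjective) inferInstance V,
      IsZariskiLocalAtTarget.restrict (P := @Flat) inferInstance V⟩,
      IsZariskiLocalAtTarget.restrict (P := @QuasiCompact) inferInstance V⟩
  have hk := MorphismProperty.of_isPullback_of_descendsAlong (P := H13Desc.QuasiAffineDescent.qAff)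
    (Q := H18Descent.fpqc) sq.flip hq (indQA_resLE hf' hU')
  exact H13Desc.QuasiAffineDescent.isQuasiAffine_top _ hk

end Groth.Agent.H7Flat
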