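import Mathlib
import Groth.Agent.H8Props.FlatInfinitesimalScheme
import Groth.Agent.H06EGA9.AtPoint

/-! Smoothness and etaleness from all infinitesimal neighbourhoods of a closed subscheme. -/

set_option backward.isDefEq.respectTransparency false

universe u

open CategoryTheory CategoryTheory.Limits AlgebraicGeometry

namespace Groth.Agent.H7Flat.Infinitesimal

variable {X S Z : Scheme.{u}}

theorem exists_lift_residueField (i : Z ⟶ S) [IsClosedImmersion i] (s : S) (hs : s ∈ Set.range i) :
    ∃ l : Spec (S.residueField s) ⟶ Z, l ≫ i = S.fromSpecResidueField s := by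
  obtain ⟨z, rfl⟩ := hs
  haveI : IsIso (i.residueFieldMap z) := by
    refine (ConcreteCategory.isIso_iff_bijective _).mpr ⟨RingHom.injective (i.residueFieldMap z).hom, fun y => ?_⟩
    obtain ⟨y, rfl⟩ := Scheme.residue_surjective _ z y
    obtain ⟨a, rfl⟩ := i.stalkMap_surjective z y
    exact ⟨S.residue _ a, RingHom.congr_fun (congrArg CommRingCat.Hom.hom (Scheme.residue_residueFieldMap i z)) a⟩
  refine ⟨Spec.map (inv (i.residueFieldMap z)) ≫ Z.fromSpecResidueField z, ?_⟩
  rw [Category.assoc, ← Scheme.Hom.SpecMap_residueFieldMap_fromSpecResidueField, ← Spec.map_comp_assoc,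
    IsIso.hom_inv_id, Spec.map_id, Category.id_comp]

theorem fiber_of_baseChange (P : MorphismProperty Scheme.{u}) [P.IsStableUnderBaseChange] (f : X ⟶ S)
    (i : Z ⟶ S) (s : S) (l : Spec (S.residueField s) ⟶ Z) (hl : l ≫ i = S.fromSpecResidueField s)
    (h : P (pullback.snd f i)) : P (f.fiberToSpecResidueField s) := by
  show P (pullback.snd f (S.fromSpecResidueField s))
  rw [← hl]
  rw [← (pullbackLeftPullbackSndIso f i l).inv_hom_id_assoc (pullback.snd f (l ≫ i)),
    pullbackLeftPullbackSndIso_hom_snd]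
  exact (MorphismProperty.cancel_left_of_respectsIso P _ _).mpr (MorphismProperty.pullback_snd _ _ h)

theorem mem_smoothLocus (f : X ⟶ S) [IsLocallyNoetherian S] [LocallyOfFinitePresentation f]
    (I : S.IdealSheafData) (h : ∀ n : ℕ, Smooth (pullback.snd f (I ^ (n + 1)).subschemeι)) (x : X)
    (hx : f x ∈ I.support) : x ∈ f.smoothLocus := by
  haveI : IsLocallyNoetherian X := LocallyOfFiniteType.isLocallyNoetherian f
  have hflat := H8Props.FlatInfinitesimal.flat_stalkMap f I (fun n => by have := h n; infer_instance) x hx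
  have hs : f x ∈ Set.range (I ^ (0 + 1)).subschemeι := by
    rw [Scheme.IdealSheafData.range_subschemeι, zero_add, pow_one]
    exact hx
  obtain ⟨l, hl⟩ := exists_lift_residueField _ _ hs
  haveI : Smooth (f.fiberToSpecResidueField (f x)) := fiber_of_baseChange @Smooth f _ _ l hl (h 0)
  refine H17.LocusBC.mem_smoothLocus_of_flat_of_fiber f x hflat ?_
  rw [Scheme.Hom.smoothLocus_eq_top]
  trivial

theorem exists_etale (f : X ⟶ S) [IsLocallyNoetherian S] [LocallyOfFinitePresentation f]
    (I : S.IdealSheafData) (h : ∀ n : ℕ, Etale (pullback.snd f (I ^ (n + 1)).subschemeι)) (x : X)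
    (hx : f x ∈ I.support) : ∃ U : X.Opens, x ∈ U ∧ Etale (U.ι ≫ f) := by
  rw [H06EGA9.exists_etale_iff]
  refine ⟨mem_smoothLocus f I (fun n => by have := h n; infer_instance) x hx, ?_⟩
  rw [← H06EGA9.exists_formallyUnramified_iff]
  have hs : f x ∈ Set.range (I ^ (0 + 1)).subschemeι := by
    rw [Scheme.IdealSheafData.range_subschemeι, zero_add, pow_one]
    exact hx
  obtain ⟨l, hl⟩ := exists_lift_residueField _ _ hs
  haveI : Etale (f.fiberToSpecResidueField (f x)) := fiber_of_baseChange @Etale f _ _ l hl (h 0)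
  have hF : IsPullback (f.fiberι (f x)) (f.fiberToSpecResidueField (f x)) f
      (S.fromSpecResidueField (f x)) := IsPullback.of_hasPullback _ _
  obtain ⟨z, hz⟩ := (f.range_fiberι (f x)).ge (rfl : f x = f x)
  haveI : FormallyUnramified ((⊤ : (f.fiber (f x)).Opens).ι ≫ f.fiberToSpecResidueField (f x)) :=
    inferInstance
  obtain ⟨U, hU, hU'⟩ := H17.LocusBC.exists_formallyUnramified_of_baseChange hF z ⊤ trivial
  exact ⟨U, hz ▸ hU, hU'⟩

end Groth.Agent.H7Flat.Infinitesimal
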