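import Groth.Agent.H7Flat.FiniteFlatFP
import Groth.Agent.H7Flat.ImpurityRebase
import Mathlib.RingTheory.Finiteness.Descent

/-!
Finite modules over local rings of algebras of finite presentation which are flat over the base are
finitely presented.
-/

set_option autoImplicit false
universe u

namespace Groth.Agent.H7Flat.LocalizationFP

open TensorProduct IsLocalRing MvPolynomial

attribute [local instance] MvPolynomial.algebraMvPolynomial

set_option backward.isDefEq.respectTransparency false
set_option maxHeartbeats 1000000
set_option synthInstance.maxHeartbeats 400000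

/-- Finite presentation descends along faithfully flat algebras. -/
theorem fp_descent {W L M : Type u} [CommRing W] [CommRing L] [Algebra W L] [Module.FaithfullyFlat W L]
    [AddCommGroup M] [Module W M] [Module.Finite W M] [Module.FinitePresentation L (L ⊗[W] M)] :
    Module.FinitePresentation W M := by
  obtain ⟨n, f, hf⟩ := Module.Finite.exists_fin' W M
  let K := LinearMap.ker f
  let fT := f.baseChange L
  have hfT : Function.Surjective fT := LinearMap.lTensor_surjective L hf
  have hfg : (LinearMap.ker fT).FG := Module.FinitePresentation.fg_ker fT hfT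
  let j := K.subtype.baseChange L
  have hj : Function.Injective j :=
    Module.Flat.lTensor_preserves_injective_linearMap (M := L) K.subtype (Submodule.injective_subtype K)
  have hex : Function.Exact j fT :=
    lTensor_exact L (LinearMap.exact_subtype_ker_map f) hf
  let e : (L ⊗[W] K) ≃ₗ[L] LinearMap.ker fT :=
    (LinearEquiv.ofInjective j hj).trans (LinearEquiv.ofEq _ _ (LinearMap.exact_iff.mp hex).symm)
  have : Module.Finite L (LinearMap.ker fT) := Module.Finite.iff_fg.mpr hfg
  have : Module.Finite L (L ⊗[W] K) := Module.Finite.equiv e.symm
  have : Module.Finite W K := Module.Finite.of_finite_tensorProduct_of_faithfullyFlat L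
  exact Module.finitePresentation_of_surjective f hf (Module.Finite.iff_fg.mp this)

/-- Base change of a module flat over the base is flat over the new base. -/
theorem flat_pushout (R Rh P P' : Type u) [CommRing R] [CommRing Rh] [CommRing P] [CommRing P']
    [Algebra R Rh] [Algebra R P] [Algebra Rh P'] [Algebra P P'] [Algebra R P'] [IsScalarTower R Rh P']
    [IsScalarTower R P P'] [Algebra.IsPushout R Rh P P'] (M : Type u) [AddCommGroup M] [Module P M]
    [Module R M] [IsScalarTower R P M] [Module.Flat R M] : Module.Flat Rh (P' ⊗[P] M) :=
  Module.Flat.of_linearEquiv (Algebra.IsPushout.cancelBaseChange R Rh P P' M)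

/-- The descent from a flat local algebra over a pushout. -/
theorem fp_core (R Rh P P' : Type u) [CommRing R] [CommRing Rh] [CommRing P] [CommRing P']
    [Algebra R Rh] [Algebra R P] [Algebra Rh P'] [Algebra P P'] [Algebra R P'] [IsScalarTower R Rh P']
    [IsScalarTower R P P'] [Algebra.IsPushout R Rh P P'] [Module.Flat R Rh]
    (q : Ideal P) [q.IsPrime] (L : Type u) [CommRing L] [IsLocalRing L] [Algebra P' L]
    [Module.Flat P' L] [Algebra Rh L] [IsScalarTower Rh P' L] [Algebra P L] [IsScalarTower P P' L]
    [Algebra (Localization.AtPrime q) L] [IsScalarTower P (Localization.AtPrime q) L]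
    [IsLocalHom (algebraMap (Localization.AtPrime q) L)]
    (M : Type u) [AddCommGroup M] [Module (Localization.AtPrime q) M] [Module P M]
    [IsScalarTower P (Localization.AtPrime q) M] [Module R M] [IsScalarTower R P M]
    [Module.Finite (Localization.AtPrime q) M] [Module.Flat R M]
    (hfp : ∀ (G : Type u) [AddCommGroup G] [Module L G] [Module Rh G] [IsScalarTower Rh L G]
      [Module.Finite L G] [Module.Flat Rh G], Module.FinitePresentation L G) :
    Module.FinitePresentation (Localization.AtPrime q) M := by
  let W := Localization.AtPrime q
  have : Module.Flat P P' :=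
    Module.Flat.isBaseChange R P Rh P' (Algebra.IsPushout.symm ‹Algebra.IsPushout R Rh P P'›).out
  have : Module.Flat P L := Module.Flat.trans P P' L
  have : Module.Flat W L := (Module.flat_iff_of_isLocalization W q.primeCompl L).mpr ‹_›
  have : Module.FaithfullyFlat W L := Module.FaithfullyFlat.of_flat_of_isLocalHom
  have : Module.Flat Rh (P' ⊗[P] M) := flat_pushout R Rh P P' M
  let G := L ⊗[P'] (P' ⊗[P] M)
  have : Module.Flat Rh G := FlatTransfer.flat_tensor
  let e : L ⊗[W] M ≃ₗ[L] G :=
    (have := IsLocalization.tensorProduct_compatibleSMul q.primeCompl W L M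
     TensorProduct.equivOfCompatibleSMul P W L L M).trans
      (AlgebraTensorModule.cancelBaseChange P P' L L M).symm
  have : Module.Finite L G := Module.Finite.equiv e
  have : Module.FinitePresentation L G := hfp G
  have : Module.FinitePresentation L (L ⊗[W] M) := Module.FinitePresentation.of_equiv e.symm
  exact fp_descent (L := L)

/-- The case of polynomial rings. -/
theorem fp_of_flat_polynomial {R : Type u} [CommRing R] {n : ℕ}
    (q : Ideal (MvPolynomial (Fin n) R)) [q.IsPrime] (M : Type u) [AddCommGroup M]
    [Module (Localization.AtPrime q) M] [Module (MvPolynomial (Fin n) R) M]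
    [IsScalarTower (MvPolynomial (Fin n) R) (Localization.AtPrime q) M] [Module R M]
    [IsScalarTower R (MvPolynomial (Fin n) R) M] [Module.Finite (Localization.AtPrime q) M]
    [Module.Flat R M] : Module.FinitePresentation (Localization.AtPrime q) M := by
  let P := MvPolynomial (Fin n) R
  let W := Localization.AtPrime q
  let p : Ideal R := q.under R
  have : q.LiesOver p := ⟨rfl⟩
  let Rp := Localization.AtPrime p
  obtain ⟨Rh, _, _, _, _, π, hπ, hRh⟩ := H9Hens.exists_isHenselization_colim Rp
  have := hRh.henselian
  let : Algebra R Rh := ((algebraMap Rp Rh).comp (algebraMap R Rp)).toAlgebra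
  have : IsScalarTower R Rp Rh := IsScalarTower.of_algebraMap_eq fun _ => rfl
  have := hπ.flat
  have : Module.Flat R Rp := IsLocalization.flat Rp p.primeCompl
  have : Module.Flat R Rh := Module.Flat.trans R Rp Rh
  have hmR : (maximalIdeal Rh).LiesOver p := ⟨by
    rw [Ideal.under, IsScalarTower.algebraMap_eq R Rp Rh, ← Ideal.comap_comap,
      IsLocalRing.maximalIdeal_comap]
    exact (IsLocalization.AtPrime.under_maximalIdeal Rp p).symm⟩
  obtain ⟨Q, hQ, hQh, hQP⟩ := ImpurityRebase.exists_prime_over_pair p (maximalIdeal Rh) q
  let P' := MvPolynomial (Fin n) Rh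
  let ε := MvPolynomial.algebraTensorAlgEquiv (σ := Fin n) R Rh
  let y : Ideal P' := Q.comap ε.symm.toAlgHom.toRingHom
  have : y.IsPrime := Ideal.comap_isPrime _ _
  have hy : y.comap C = maximalIdeal Rh := by
    rw [Ideal.comap_comap, ← hQh]
    congr 1
    exact RingHom.ext fun r => ε.symm.commutes r
  have hyq : y.comap (algebraMap P P') = q := by
    rw [Ideal.comap_comap, ← hQP]
    congr 1
    exact RingHom.ext fun f => MvPolynomial.algebraTensorAlgEquiv_symm_map R Rh f
  obtain ⟨L, _, _, _, _, π', hπ', hL⟩ := H9Hens.exists_isHenselization_colim (Localization.AtPrime y)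
  have := hL.henselian
  let : Algebra P' L := ((algebraMap (Localization.AtPrime y) L).comp (algebraMap P' _)).toAlgebra
  have : IsScalarTower P' (Localization.AtPrime y) L := IsScalarTower.of_algebraMap_eq fun _ => rfl
  let : Algebra Rh L := ((algebraMap P' L).comp (algebraMap Rh P')).toAlgebra
  have : IsScalarTower Rh P' L := IsScalarTower.of_algebraMap_eq fun _ => rfl
  let : Algebra P L := ((algebraMap P' L).comp (algebraMap P P')).toAlgebra
  have : IsScalarTower P P' L := IsScalarTower.of_algebraMap_eq fun _ => rfl
  let χ : W →+* L := (algebraMap (Localization.AtPrime y) L).comp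
    (Localization.localRingHom q y (algebraMap P P') hyq.symm)
  have : IsLocalHom (Localization.localRingHom q y (algebraMap P P') hyq.symm) :=
    Localization.isLocalHom_localRingHom _ _ _ _
  let : Algebra W L := χ.toAlgebra
  have : IsLocalHom (algebraMap W L) := RingHom.isLocalHom_comp _ _
  have : IsScalarTower P W L := IsScalarTower.of_algebraMap_eq fun f => by
    refine Eq.symm (Eq.trans ?_ (IsScalarTower.algebraMap_apply P P' L f).symm)
    change algebraMap (Localization.AtPrime y) L
      (Localization.localRingHom q y (algebraMap P P') hyq.symm (algebraMap P W f)) = _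
    rw [Localization.localRingHom_to_map, ← IsScalarTower.algebraMap_apply]
  -- flatness
  have hpush : Algebra.IsPushout R Rh P P' := inferInstance
  have := hπ'.flat
  have : Module.Flat P' (Localization.AtPrime y) :=
    IsLocalization.flat (Localization.AtPrime y) y.primeCompl
  have : Module.Flat P' L := Module.Flat.trans P' (Localization.AtPrime y) L
  exact fp_core R Rh P P' q L M fun G _ _ _ _ _ _ => FiniteFlatFP.fp_of_flat n y hy L G

/-- Finite modules over local rings of algebras of finite presentation which are flat over the base
are finitely presented. -/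
theorem fp_of_flat_atPrime {R S : Type u} [CommRing R] [CommRing S] [Algebra R S]
    [Algebra.FinitePresentation R S] (q : Ideal S) [q.IsPrime] (M : Type u) [AddCommGroup M]
    [Module (Localization.AtPrime q) M] [Module S M] [IsScalarTower S (Localization.AtPrime q) M]
    [Module R M] [IsScalarTower R S M] [Module.Finite (Localization.AtPrime q) M] [Module.Flat R M] :
    Module.FinitePresentation (Localization.AtPrime q) M := by
  obtain ⟨n, f, hf, -⟩ := Algebra.FinitePresentation.out (R := R) (A := S)
  let P := MvPolynomial (Fin n) R
  let : Algebra P S := f.toRingHom.toAlgebra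
  have : IsScalarTower R P S := IsScalarTower.of_algebraMap_eq fun r => (f.commutes r).symm
  let q' : Ideal P := q.comap f.toRingHom
  have : q'.IsPrime := Ideal.comap_isPrime _ _
  let W := Localization.AtPrime q'
  let Sq := Localization.AtPrime q
  let φ : W →+* Sq := Localization.localRingHom q' q f.toRingHom rfl
  let : Algebra W Sq := φ.toAlgebra
  have hφ : Function.Surjective φ :=
    (RingHom.surjectiveOnStalks_of_surjective hf).localRingHom_surjective _ _ rfl
  have : Module.Finite W Sq := Module.Finite.of_surjective (Algebra.linearMap W Sq) hφ
  let : Module W M := Module.compHom M φ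
  have : IsScalarTower W Sq M := IsScalarTower.of_algebraMap_smul fun _ _ => rfl
  let : Module P M := Module.compHom M f.toRingHom
  have : IsScalarTower P W M := IsScalarTower.of_algebraMap_smul fun x m => by
    change φ (algebraMap P W x) • m = f x • m
    rw [Localization.localRingHom_to_map]
    exact algebraMap_smul Sq (f x) m
  have : IsScalarTower R P M := IsScalarTower.of_algebraMap_smul fun r m => by
    change f (algebraMap R P r) • m = r • m
    rw [f.commutes, algebraMap_smul]
  have : Module.Finite W M := Module.Finite.trans Sq M
  have : Module.FinitePresentation W M := fp_of_flat_polynomial q' M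
  exact FiniteFlatFP.fp_of_finite (S' := W)

end Groth.Agent.H7Flat.LocalizationFP
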