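import Mathlib

/-!
Linear maps into flat modules which are injective on all cyclic quotients; divisible elements in
finite modules over local algebras over domains.
-/

set_option autoImplicit false
universe u

namespace Groth.Agent.H7Flat.ModMaxBase

open TensorProduct

set_option backward.isDefEq.respectTransparency false
set_option maxHeartbeats 1000000

/-- In a flat module colons of ideals are computed on the ideal. -/
theorem mem_colon_smul {A M : Type u} [CommRing A] [AddCommGroup M] [Module A M] [Module.Flat A M]
    (I J : Ideal A) (c : A) (hJ : ∀ d, d ∈ J ↔ d * c ∈ I) (m : M)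
    (h : c • m ∈ I • (⊤ : Submodule A M)) : m ∈ J • (⊤ : Submodule A M) := by
  let f : (A ⧸ J) →ₗ[A] (A ⧸ I) := Submodule.mapQ J I (LinearMap.lsmul A A c) fun d hd => by
    rw [Submodule.mem_comap, LinearMap.lsmul_apply, smul_eq_mul, mul_comm]
    exact (hJ d).mp hd
  have hf : Function.Injective f := by
    rw [injective_iff_map_eq_zero]
    intro x hx
    obtain ⟨d, rfl⟩ := Submodule.Quotient.mk_surjective _ x
    rw [Submodule.Quotient.mk_eq_zero]
    rw [Submodule.mapQ_apply, Submodule.Quotient.mk_eq_zero] at hx
    refine (hJ d).mpr ?_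
    rwa [LinearMap.lsmul_apply, smul_eq_mul, mul_comm] at hx
  have h1 := Module.Flat.rTensor_preserves_injective_linearMap (M := M) f hf
  rw [← Submodule.Quotient.mk_eq_zero]
  apply (TensorProduct.quotTensorEquivQuotSMul M J).symm.injective
  apply h1
  rw [map_zero, map_zero]
  apply (TensorProduct.quotTensorEquivQuotSMul M I).injective
  rw [map_zero]
  change TensorProduct.quotTensorEquivQuotSMul M I (f.rTensor M
    ((TensorProduct.quotTensorEquivQuotSMul M J).symm (Submodule.Quotient.mk m))) = 0
  rw [TensorProduct.quotTensorEquivQuotSMul_symm_mk, LinearMap.rTensor_tmul]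
  have h2 : f 1 = Ideal.Quotient.mk I c := by
    change f (Submodule.Quotient.mk (1 : A)) = _
    rw [Submodule.mapQ_apply, LinearMap.lsmul_apply, smul_eq_mul, mul_one]
    rfl
  rw [h2, TensorProduct.quotTensorEquivQuotSMul_mk_tmul, Submodule.Quotient.mk_eq_zero]
  exact h

/-- Injectivity on cyclic quotients, in tensor form. -/
theorem rTensor_quot_injective {A N M : Type u} [CommRing A] [AddCommGroup N] [Module A N]
    [AddCommGroup M] [Module A M] (u : N →ₗ[A] M) (J : Ideal A)
    (h : ∀ x, u x ∈ J • (⊤ : Submodule A M) → x ∈ J • (⊤ : Submodule A N)) :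
    Function.Injective (u.lTensor (A ⧸ J)) := by
  rw [injective_iff_map_eq_zero]
  intro z hz
  obtain ⟨x, rfl⟩ : ∃ x : N, (1 : A ⧸ J) ⊗ₜ[A] x = z := by
    obtain ⟨w, hw⟩ := (TensorProduct.quotTensorEquivQuotSMul N J).symm.surjective z
    obtain ⟨x, rfl⟩ := Submodule.Quotient.mk_surjective _ w
    exact ⟨x, by rw [← hw, TensorProduct.quotTensorEquivQuotSMul_symm_mk]⟩
  rw [LinearMap.lTensor_tmul, ← TensorProduct.quotTensorEquivQuotSMul_symm_mk,
    LinearEquiv.map_eq_zero_iff, Submodule.Quotient.mk_eq_zero] at hz
  rw [← TensorProduct.quotTensorEquivQuotSMul_symm_mk, (Submodule.Quotient.mk_eq_zero _).mpr (h x hz),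
    map_zero]

/-- A map into a flat module which is injective on cyclic quotients is universally injective and
its source is flat. -/
theorem univInj_and_flat {A N M : Type u} [CommRing A] [AddCommGroup N] [Module A N] [AddCommGroup M]
    [Module A M] [Module.Flat A M] (u : N →ₗ[A] M)
    (h : ∀ (J : Ideal A) x, u x ∈ J • (⊤ : Submodule A M) → x ∈ J • (⊤ : Submodule A N)) :
    (∀ (Q : Type u) [AddCommGroup Q] [Module A Q], Function.Injective (u.lTensor Q)) ∧
      Module.Flat A N := by
  have hcyc : ∀ (X : Type u) [AddCommGroup X] [Module A X] (v : X),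
      Submodule.span A {v} = ⊤ → Function.Injective (u.lTensor X) := by
    intro X _ _ v hv
    let g : A →ₗ[A] X := LinearMap.toSpanSingleton A X v
    have hg : Function.Surjective g := fun x => Submodule.mem_span_singleton.mp (hv ▸ Submodule.mem_top)
    let J : Ideal A := LinearMap.ker g
    let e : (A ⧸ J) ≃ₗ[A] X := g.quotKerEquivOfSurjective hg
    have hnat : ∀ w, u.lTensor X (TensorProduct.congr e (LinearEquiv.refl A N) w) =
        TensorProduct.congr e (LinearEquiv.refl A M) (u.lTensor (A ⧸ J) w) := by
      intro w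
      induction w using TensorProduct.induction_on with
      | zero => simp
      | tmul a b => simp
      | add a b ha hb => simp only [map_add, ha, hb]
    intro z z' hzz
    obtain ⟨w, rfl⟩ := (TensorProduct.congr e (LinearEquiv.refl A N)).surjective z
    obtain ⟨w', rfl⟩ := (TensorProduct.congr e (LinearEquiv.refl A N)).surjective z'
    rw [hnat, hnat] at hzz
    rw [rTensor_quot_injective u J (h J) ((TensorProduct.congr e (LinearEquiv.refl A M)).injective hzz)]
  have hgen : ∀ (n : ℕ) (X : Type u) [AddCommGroup X] [Module A X] (f : Fin n → X),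
      Submodule.span A (Set.range f) = ⊤ → Function.Injective (u.lTensor X) := by
    intro n
    induction n with
    | zero =>
      intro X _ _ f hf
      have : Subsingleton X := by
        refine subsingleton_of_forall_eq 0 fun x => ?_
        have hx : x ∈ Submodule.span A (Set.range f) := hf ▸ Submodule.mem_top
        rwa [Set.range_eq_empty, Submodule.span_empty, Submodule.mem_bot] at hx
      exact Function.injective_of_subsingleton _
    | succ n ih =>
      intro X _ _ f hf
      rw [injective_iff_map_eq_zero]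
      intro z hz
      let P := Submodule.span A {f 0}
      have hquot : Submodule.span A (Set.range fun i : Fin n => P.mkQ (f i.succ)) = ⊤ := by
        refine top_le_iff.mp ?_
        rw [← Submodule.range_mkQ P, LinearMap.range_eq_map, ← hf, Submodule.map_span, Submodule.span_le]
        rintro _ ⟨_, ⟨i, rfl⟩, rfl⟩
        refine Fin.cases ?_ (fun j => Submodule.subset_span ⟨j, rfl⟩) i
        rw [Submodule.mkQ_apply, (Submodule.Quotient.mk_eq_zero P).mpr (Submodule.mem_span_singleton_self _)]
        exact zero_mem _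
      have h1 : P.mkQ.rTensor N z = 0 := by
        apply ih (X ⧸ P) _ hquot
        rw [map_zero, ← LinearMap.comp_apply, LinearMap.lTensor_comp_rTensor, ← LinearMap.rTensor_comp_lTensor,
          LinearMap.comp_apply, hz, map_zero]
      obtain ⟨w, rfl⟩ := (rTensor_exact N (LinearMap.exact_subtype_mkQ P) P.mkQ_surjective z).mp h1
      have h2 : u.lTensor P w = 0 := by
        apply Module.Flat.rTensor_preserves_injective_linearMap (M := M) P.subtype P.injective_subtype
        rw [map_zero, ← LinearMap.comp_apply, LinearMap.rTensor_comp_lTensor, ← LinearMap.lTensor_comp_rTensor,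
          LinearMap.comp_apply, hz]
      rw [(injective_iff_map_eq_zero _).mp (hcyc P ⟨f 0, Submodule.mem_span_singleton_self _⟩ (by
        refine Submodule.map_injective_of_injective P.injective_subtype ?_
        rw [Submodule.map_span, Set.image_singleton, Submodule.map_subtype_top]
        rfl)) w h2, map_zero]
  have key : ∀ (Q : Type u) [AddCommGroup Q] [Module A Q], Function.Injective (u.lTensor Q) := by
    intro Q _ _
    rw [injective_iff_map_eq_zero]
    intro z hz
    obtain ⟨P, hP, hzP⟩ := exists_finite_submodule_left_of_setFinite ({z} : Set (Q ⊗[A] N))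
      (Set.finite_singleton z)
    obtain ⟨t, ht⟩ := hzP (Set.mem_singleton z)
    have ht' : P.subtype.rTensor N t = z := ht
    have hut : u.lTensor P t = 0 := by
      apply Module.Flat.rTensor_preserves_injective_linearMap (M := M) P.subtype P.injective_subtype
      rw [map_zero, ← LinearMap.comp_apply, LinearMap.rTensor_comp_lTensor, ← LinearMap.lTensor_comp_rTensor,
        LinearMap.comp_apply, ht', hz]
    obtain ⟨n, f, hf⟩ := Module.Finite.exists_fin (R := A) (M := P)
    rw [← ht', (injective_iff_map_eq_zero _).mp (hgen n P f hf) t hut, map_zero]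
  refine ⟨key, ?_⟩
  rw [Module.Flat.iff_rTensor_injective']
  intro J
  refine Function.Injective.of_comp (f := u.lTensor A) ?_
  rw [← LinearMap.coe_comp, LinearMap.lTensor_comp_rTensor, ← LinearMap.rTensor_comp_lTensor]
  exact (Module.Flat.rTensor_preserves_injective_linearMap (M := M) J.subtype J.injective_subtype).comp
    (key J)

/-- Over a domain, a quotient by divisible elements is flat as soon as it is torsion free and its
reductions modulo all nonzero elements are flat. -/
theorem flat_of_flat_quot_of_torsionFree {R X : Type u} [CommRing R] [AddCommGroup X] [Module R X]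
    (htf : ∀ a : R, a ≠ 0 → ∀ y : X, a • y = 0 → y = 0)
    (hflat : ∀ a : R, a ≠ 0 → Module.Flat (R ⧸ Ideal.span {a}) ((R ⧸ Ideal.span {a}) ⊗[R] X)) :
    Module.Flat R X := by
  rw [Module.Flat.iff_rTensor_injective']
  intro J
  by_cases hJ : J = ⊥
  · subst hJ
    have : Subsingleton ((⊥ : Ideal R) ⊗[R] X) := by
      refine subsingleton_of_forall_eq 0 fun z => ?_
      induction z using TensorProduct.induction_on with
      | zero => rfl
      | tmul i y => rw [show i = 0 from Subsingleton.elim _ _, zero_tmul]
      | add a b ha hb => rw [ha, hb, add_zero]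
    exact Function.injective_of_subsingleton _
  obtain ⟨a, haJ, ha⟩ := Submodule.exists_mem_ne_zero_of_ne_bot hJ
  let Rb := R ⧸ Ideal.span {a}
  let K : Ideal Rb := J.map (Ideal.Quotient.mk _)
  let ρ : J →ₗ[R] K :=
    { toFun := fun j => ⟨Ideal.Quotient.mk _ j, Ideal.mem_map_of_mem _ j.2⟩
      map_add' := fun _ _ => Subtype.ext (map_add _ _ _)
      map_smul' := fun _ _ => Subtype.ext (map_mul _ _ _) }
  have hρ : Function.Surjective ρ := fun k => by
    obtain ⟨j, hj, hjk⟩ :=
      (Ideal.mem_map_iff_of_surjective _ Ideal.Quotient.mk_surjective).mp k.2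
    exact ⟨⟨j, hj⟩, Subtype.ext hjk⟩
  let ψ : R →ₗ[R] J := LinearMap.toSpanSingleton R J ⟨a, haJ⟩
  have hex : Function.Exact ψ ρ := by
    intro j
    constructor
    · intro h
      have h' : Ideal.Quotient.mk (Ideal.span {a}) (j : R) = 0 := congrArg Subtype.val h
      obtain ⟨r, hr⟩ := Ideal.mem_span_singleton'.mp (Ideal.Quotient.eq_zero_iff_mem.mp h')
      exact ⟨r, Subtype.ext (by simpa [ψ] using hr)⟩
    · rintro ⟨r, rfl⟩
      refine Subtype.ext ?_
      change Ideal.Quotient.mk (Ideal.span {a}) (r * a) = 0
      exact Ideal.Quotient.eq_zero_iff_mem.mpr (Ideal.mul_mem_left _ _ (Ideal.mem_span_singleton_self a))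
  let κ : K →ₗ[R] Rb := K.subtype.restrictScalars R
  have := hflat a ha
  have hκ : Function.Injective (κ.rTensor X) := by
    let e₁ := AlgebraTensorModule.cancelBaseChange R Rb Rb K X
    let e₂ := AlgebraTensorModule.cancelBaseChange R Rb Rb Rb X
    have hnat : ∀ w, κ.rTensor X (e₁ w) = e₂ (K.subtype.rTensor (Rb ⊗[R] X) w) := by
      intro w
      induction w using TensorProduct.induction_on with
      | zero => simp
      | tmul k v =>
        induction v using TensorProduct.induction_on with
        | zero => simp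
        | tmul r y => simp [e₁, e₂, κ]
        | add v v' hv hv' => simp only [tmul_add, map_add, hv, hv']
      | add w w' hw hw' => simp only [map_add, hw, hw']
    intro z z' h
    obtain ⟨w, rfl⟩ := e₁.surjective z
    obtain ⟨w', rfl⟩ := e₁.surjective z'
    rw [hnat, hnat] at h
    rw [Module.Flat.rTensor_preserves_injective_linearMap (M := Rb ⊗[R] X) K.subtype
      K.injective_subtype (e₂.injective h)]
  rw [injective_iff_map_eq_zero]
  intro t ht
  have h1 : ρ.rTensor X t = 0 := by
    apply hκ
    rw [map_zero, ← LinearMap.comp_apply, ← LinearMap.rTensor_comp,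
      show κ ∘ₗ ρ = (Algebra.linearMap R Rb) ∘ₗ J.subtype from rfl, LinearMap.rTensor_comp,
      LinearMap.comp_apply, ht, map_zero]
  obtain ⟨z, rfl⟩ := (rTensor_exact X hex hρ t).mp h1
  obtain ⟨y, rfl⟩ : ∃ y, (1 : R) ⊗ₜ[R] y = z := ⟨TensorProduct.lid R X z, by
    rw [← TensorProduct.lid_symm_apply, LinearEquiv.symm_apply_apply]⟩
  have h2 := congrArg (TensorProduct.lid R X) ht
  rw [LinearMap.rTensor_tmul, LinearMap.rTensor_tmul, TensorProduct.lid_tmul, map_zero] at h2
  have h3 : y = 0 := htf a ha y (by simpa [ψ] using h2)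
  rw [h3, tmul_zero, map_zero]

/-- In a finite module over a local algebra over a domain, elements divisible by all nonzero
scalars vanish, if flat quotients are finitely presented. -/
theorem eq_zero_of_mem_all_smul {R B N : Type u} [CommRing R] [IsDomain R] [CommRing B] [Algebra R B]
    [AddCommGroup N] [Module B N] [Module R N] [IsScalarTower R B N]
    (a₀ : R) (ha₀ : a₀ ≠ 0) (hb₀ : algebraMap R B a₀ ∈ Ideal.jacobson (⊥ : Ideal B))
    (htor : ∀ a : R, a ≠ 0 → ∀ x : N, a • x = 0 → ∀ b : R, b ≠ 0 → ∃ y, b • y = x)
    (hflat : ∀ a : R, a ≠ 0 → Module.Flat (R ⧸ Ideal.span {a}) ((R ⧸ Ideal.span {a}) ⊗[R] N))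
    (hfg : ∀ D : Submodule B N, Module.Flat R (N ⧸ D) → D.FG)
    (x : N) (hx : ∀ a : R, a ≠ 0 → ∃ y, a • y = x) : x = 0 := by
  let D : Submodule B N :=
    { carrier := {d | ∀ a : R, a ≠ 0 → ∃ y, a • y = d}
      zero_mem' := fun a _ => ⟨0, smul_zero a⟩
      add_mem' := fun {d d'} h h' a ha => by
        obtain ⟨y, rfl⟩ := h a ha
        obtain ⟨y', rfl⟩ := h' a ha
        exact ⟨y + y', smul_add a y y'⟩
      smul_mem' := fun c d h a ha => by
        obtain ⟨y, rfl⟩ := h a ha
        exact ⟨c • y, smul_comm a c y⟩ }
  have hdiv : ∀ d ∈ D, ∀ a : R, a ≠ 0 → ∃ n ∈ D, a • n = d := by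
    intro d hd a ha
    obtain ⟨n, rfl⟩ := hd a ha
    refine ⟨n, fun b hb => ?_, rfl⟩
    obtain ⟨n', hn'⟩ := hd (a * b) (mul_ne_zero ha hb)
    obtain ⟨y, hy⟩ := htor a ha (n - b • n') (by rw [smul_sub, smul_smul, hn', sub_self]) b hb
    exact ⟨n' + y, by rw [smul_add, hy, add_sub_cancel]⟩
  have htf : ∀ a : R, a ≠ 0 → ∀ y : N ⧸ D, a • y = 0 → y = 0 := by
    intro a ha y hy
    obtain ⟨n, rfl⟩ := Submodule.Quotient.mk_surjective D y
    rw [← Submodule.Quotient.mk_smul, Submodule.Quotient.mk_eq_zero] at hy
    obtain ⟨d, hd, hda⟩ := hdiv _ hy a ha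
    have h1 : n - d ∈ D := fun b hb => htor a ha (n - d) (by rw [smul_sub, hda, sub_self]) b hb
    rw [Submodule.Quotient.mk_eq_zero]
    simpa using add_mem h1 hd
  have hflat' : ∀ a : R, a ≠ 0 →
      Module.Flat (R ⧸ Ideal.span {a}) ((R ⧸ Ideal.span {a}) ⊗[R] (N ⧸ D)) := by
    intro a ha
    let Rb := R ⧸ Ideal.span {a}
    let π : N →ₗ[R] N ⧸ D := D.mkQ.restrictScalars R
    have hπ : Function.Surjective π := Submodule.mkQ_surjective D
    have hbij : Function.Bijective (π.baseChange Rb) := by
      refine ⟨(injective_iff_map_eq_zero _).mpr fun z hz => ?_, ?_⟩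
      · have hex : Function.Exact (D.subtype.restrictScalars R) π := LinearMap.exact_subtype_mkQ D
        obtain ⟨w, rfl⟩ := (lTensor_exact Rb hex hπ z).mp hz
        induction w using TensorProduct.induction_on with
        | zero => rw [map_zero]
        | tmul r d =>
          obtain ⟨n, hn, hnd⟩ := hdiv d d.2 a ha
          rw [LinearMap.lTensor_tmul, LinearMap.restrictScalars_apply, Submodule.subtype_apply, ← hnd,
            tmul_smul, smul_tmul', Algebra.smul_def, Ideal.Quotient.algebraMap_eq,
            Ideal.Quotient.eq_zero_iff_mem.mpr (Ideal.mem_span_singleton_self a), zero_mul, zero_tmul]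
        | add w w' hw hw' =>
          rw [map_add] at hz ⊢
          rw [hw (by
            rw [show π.baseChange Rb _ = π.lTensor Rb _ from rfl, ← LinearMap.comp_apply,
              ← LinearMap.lTensor_comp, hex.linearMap_comp_eq_zero, LinearMap.lTensor_zero,
              LinearMap.zero_apply]), hw' (by
            rw [show π.baseChange Rb _ = π.lTensor Rb _ from rfl, ← LinearMap.comp_apply,
              ← LinearMap.lTensor_comp, hex.linearMap_comp_eq_zero, LinearMap.lTensor_zero,
              LinearMap.zero_apply]), add_zero]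
      · exact LinearMap.lTensor_surjective Rb hπ
    have := hflat a ha
    exact Module.Flat.of_linearEquiv (LinearEquiv.ofBijective (π.baseChange Rb) hbij).symm
  have hD : D = ⊥ := by
    refine Submodule.eq_bot_of_le_smul_of_le_jacobson_bot (Ideal.span {algebraMap R B a₀}) D
      (hfg D (flat_of_flat_quot_of_torsionFree htf hflat')) (fun d hd => ?_)
      ((Ideal.span_singleton_le_iff_mem _).mpr hb₀)
    obtain ⟨n, hn, rfl⟩ := hdiv d hd a₀ ha₀
    rw [← algebraMap_smul B a₀ n]
    exact Submodule.smul_mem_smul (Ideal.mem_span_singleton_self _) hn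
  have hxD : x ∈ D := hx
  rwa [hD, Submodule.mem_bot] at hxD

end Groth.Agent.H7Flat.ModMaxBase
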