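import Groth.Agent.H7Flat.ModMax

/-!
Content of elements of flat finite modules over local algebras essentially of finite type.
-/

set_option autoImplicit false
universe u

namespace Groth.Agent.H7Flat.ModMaxContent

open TensorProduct IsLocalRing

set_option backward.isDefEq.respectTransparency false
set_option maxHeartbeats 1000000

/-- At an ideal maximal with `x ∉ I N` there is `b ∉ I` with `𝔪 b ⊆ I`. -/
theorem exists_socle {A B N : Type u} [CommRing A] [IsLocalRing A] [CommRing B] [IsLocalRing B]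
    [Algebra A B] [IsLocalHom (algebraMap A B)] (hB : PolyLoc.IsPolyLoc A B)
    [AddCommGroup N] [Module B N] [Module A N] [IsScalarTower A B N] [Module.FinitePresentation B N]
    [Module.Flat A N] (I : Ideal A) (x : N) (hxI : x ∉ I • (⊤ : Submodule A N))
    (hbig : ∀ a ∉ I, x ∈ (I ⊔ Ideal.span {a}) • (⊤ : Submodule A N)) :
    ∃ b ∉ I, ∀ d ∈ maximalIdeal A, d * b ∈ I := by
  obtain ⟨n, f, hs, hk⟩ := id hB
  let P := MvPolynomial (Fin n) A
  let : Algebra P B := f.toRingHom.toAlgebra
  have : IsScalarTower A P B := IsScalarTower.of_algebraMap_eq fun a => (f.commutes a).symm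
  let : Module P N := Module.compHom N f.toRingHom
  have : IsScalarTower P B N := IsScalarTower.of_algebraMap_smul fun _ _ => rfl
  have : IsScalarTower A P N := IsScalarTower.of_algebraMap_smul fun a m => by
    change f (algebraMap A P a) • m = a • m
    rw [f.commutes, algebraMap_smul]
  obtain ⟨N₀, i₁, i₂, i₃, ι, i₄⟩ := UnivInjFibres.exists_fp_localization (L := B) (N := N)
    (PolyLoc.units f) (fun t ht => ht)
    (fun b => by
      obtain ⟨t, ht, p, hp⟩ := hs b
      exact ⟨t, ht, p, hp⟩)
    ∅ (fun y hy => by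
      obtain ⟨t, ht, hty⟩ := hk y hy
      exact ⟨t, ht, by simp [hty]⟩)
    (fun y hy => absurd hy (Finset.notMem_empty y))
  rw [PolyLoc.units_eq] at i₄
  let : Module A N₀ := Module.compHom N₀ (algebraMap A P)
  have : IsScalarTower A P N₀ := IsScalarTower.of_algebraMap_smul fun _ _ => rfl
  obtain ⟨p, b, hp, hIp, hdb, hI'⟩ :=
    ModMaxWitness.exists_witness ((maximalIdeal B).comap f.toRingHom) ι I x hxI
  have hbI : b ∉ I := fun h => hdb 1 ((Ideal.ne_top_iff_one p).mp hp.ne_top) (by rwa [one_mul])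
  have hcolon : ∀ d, d ∈ p ↔ d * b ∈ I := by
    refine fun d => ⟨fun hd => ?_, fun h => by_contra fun hd => hdb d hd h⟩
    by_contra hdbI
    obtain ⟨e, he, heb⟩ := hI' (I ⊔ Ideal.span {d * b}) le_sup_left (hbig _ hdbI)
    obtain ⟨i, hi, _, hw, hiw⟩ := Submodule.mem_sup.mp heb
    obtain ⟨r, rfl⟩ := Ideal.mem_span_singleton'.mp hw
    refine hdb (e - r * d) (fun h => he ?_) ?_
    · simpa using add_mem h (Ideal.mul_mem_left p r hd)
    · rwa [sub_mul, ← hiw, mul_assoc, add_sub_cancel_right]
  obtain ⟨i, hi, y, hiy⟩ : ∃ i ∈ I • (⊤ : Submodule A N), ∃ y, i + b • y = x := by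
    have h := hbig b hbI
    rw [Submodule.sup_smul, Submodule.ideal_span_singleton_smul] at h
    obtain ⟨i, hi, w, hw, hiw⟩ := Submodule.mem_sup.mp h
    obtain ⟨y, -, rfl⟩ := hw
    exact ⟨i, hi, y, hiw⟩
  refine ⟨b, hbI, fun d hd => (hcolon d).mp ?_⟩
  by_contra hdp
  have hpm : p ≠ maximalIdeal A := fun h => hdp (h ▸ hd)
  have hy : y ∈ p • (⊤ : Submodule A N) := by
    refine ModMaxFlat.mem_prime_smul hB (LinearMap.id : N →ₗ[A] N) (fun _ h => h) p hpm y fun e he => ?_
    have h := hbig (e * b) fun h => he ((hcolon e).mpr h)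
    rw [Submodule.sup_smul, Submodule.ideal_span_singleton_smul] at h
    obtain ⟨i', hi', w, hw, hiw⟩ := Submodule.mem_sup.mp h
    obtain ⟨y', -, rfl⟩ := hw
    refine ⟨y', ModMaxBase.mem_colon_smul I p b hcolon _ ?_⟩
    rw [smul_sub, smul_smul, mul_comm b e, show b • y = x - i by rw [← hiy, add_sub_cancel_left],
      show (e * b) • y' = x - i' by
        rw [← hiw]; change _ = i' + (e * b) • y' - i'; rw [add_sub_cancel_left],
      sub_sub_sub_cancel_left]
    exact sub_mem hi' hi
  refine hxI ?_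
  rw [← hiy]
  refine add_mem hi ?_
  clear hiy
  induction hy using Submodule.smul_induction_on' with
  | smul a ha m _ =>
    rw [smul_smul, mul_comm]
    exact Submodule.smul_mem_smul ((hcolon a).mp ha) trivial
  | add y _ y' _ h h' => rw [smul_add]; exact add_mem h h'

/-- Every element has a maximal ideal avoiding it and a socle element modulo it. -/
theorem exists_maximal_socle {A B N : Type u} [CommRing A] [IsLocalRing A] [CommRing B] [IsLocalRing B]
    [Algebra A B] [IsLocalHom (algebraMap A B)] [Algebra.EssFiniteType A B]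
    [AddCommGroup N] [Module B N] [Module A N] [IsScalarTower A B N] [Module.Finite B N]
    [Module.Flat A N] (x : N) (hx : x ≠ 0) :
    ∃ (I : Ideal A) (b : A), x ∉ I • (⊤ : Submodule A N) ∧ b ∉ I ∧ (∀ d ∈ maximalIdeal A, d * b ∈ I) ∧
      ∀ J : Ideal A, I < J → x ∈ J • (⊤ : Submodule A N) := by
  classical
  obtain ⟨σ, hσ⟩ := (Algebra.essFiniteType_iff A B).1 inferInstance
  let s : Fin σ.card → B := fun i => (σ.equivFin.symm i : B)
  have hrs : Set.range s = (σ : Set B) := by
    ext b
    exact ⟨fun ⟨i, hi⟩ => hi ▸ (σ.equivFin.symm i).2, fun hb => ⟨σ.equivFin ⟨b, hb⟩, by simp [s]⟩⟩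
  let φ : MvPolynomial (Fin σ.card) A →ₐ[A] B := MvPolynomial.aeval s
  have hrange : φ.range = Algebra.adjoin A (σ : Set B) := by
    rw [← hrs, Algebra.adjoin_range_eq_range_aeval]
  let P := MvPolynomial (Fin σ.card) A
  let q : Ideal P := (maximalIdeal B).comap φ.toRingHom
  have : q.IsPrime := Ideal.comap_isPrime _ _
  let L := Localization.AtPrime q
  have hunit : ∀ t : q.primeCompl, IsUnit (φ.toRingHom t) := fun t => by
    by_contra h
    exact t.2 ((mem_maximalIdeal _).2 h)
  let ψ : L →+* B := IsLocalization.lift hunit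
  have hψ : ∀ x, ψ (algebraMap P L x) = φ x := fun x => IsLocalization.lift_eq hunit x
  have hψs : Function.Surjective ψ := by
    intro b
    obtain ⟨t, ht, htu, hts⟩ := hσ b
    rw [← hrange] at ht hts
    obtain ⟨T, hT⟩ := ht
    obtain ⟨p, hp⟩ := hts
    have hT' : φ T = t := hT
    have hp' : φ p = b * t := hp
    have hTq : T ∉ q := fun h => ((mem_maximalIdeal _).1 h) (by
      change IsUnit (φ T)
      rw [hT']
      exact htu)
    refine ⟨IsLocalization.mk' L p (⟨T, hTq⟩ : q.primeCompl), ?_⟩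
    rw [IsLocalization.lift_mk'_spec]
    change φ p = φ T * b
    rw [hT', hp', mul_comm]
  let : Algebra L B := ψ.toAlgebra
  have : IsScalarTower A L B := IsScalarTower.of_algebraMap_eq fun a => by
    change _ = ψ (algebraMap A L a)
    rw [IsScalarTower.algebraMap_apply A P L, hψ, φ.commutes]
  let : Module L N := Module.compHom N ψ
  have : IsScalarTower L B N := IsScalarTower.of_algebraMap_smul fun _ _ => rfl
  have : IsScalarTower A L N := IsScalarTower.of_algebraMap_smul fun a x => by
    rw [← algebraMap_smul B (algebraMap A L a) x, ← IsScalarTower.algebraMap_apply, algebraMap_smul]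
  have : Module.Finite L B := Module.Finite.of_surjective (Algebra.linearMap L B) hψs
  have : Module.Finite L N := Module.Finite.trans B N
  have : IsLocalHom (algebraMap A L) := ⟨fun a ha => by
    have h := ha.map ψ
    rw [show ψ (algebraMap A L a) = algebraMap A B a from
      (IsScalarTower.algebraMap_apply A L B a).symm] at h
    exact isUnit_of_map_unit (algebraMap A B) a h⟩
  have hPL : PolyLoc.IsPolyLoc A L := ⟨σ.card, IsScalarTower.toAlgHom A P L, fun b => by
      obtain ⟨⟨p, t⟩, hpt⟩ := IsLocalization.surj q.primeCompl b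
      exact ⟨t, IsLocalization.map_units L t, p, (mul_comm _ _).trans hpt⟩,
    fun x hx => by
      obtain ⟨t, ht⟩ := (IsLocalization.map_eq_zero_iff q.primeCompl L x).1 hx
      exact ⟨t, IsLocalization.map_units L t, ht⟩⟩
  have : Module.FinitePresentation L N := PolyLoc.fp_of_flat hPL N
  have hx₀ : x ∉ (⊥ : Ideal A) • (⊤ : Submodule A N) := by
    rwa [Submodule.bot_smul, Submodule.mem_bot]
  obtain ⟨I, -, hmax⟩ := zorn_le_nonempty₀ {I : Ideal A | x ∉ I • (⊤ : Submodule A N)}
    (fun c hc hchain J hJ => by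
      refine ⟨sSup c, fun hmem => ?_, fun _ h => le_sSup h⟩
      have : Nonempty c := ⟨⟨J, hJ⟩⟩
      have hdir : Directed (· ≤ ·) fun K : c => (K : Ideal A) • (⊤ : Submodule A N) := fun K L' =>
        (hchain.total K.2 L'.2).elim (fun h => ⟨L', Submodule.smul_mono_left h, le_rfl⟩)
          (fun h => ⟨K, le_rfl, Submodule.smul_mono_left h⟩)
      rw [sSup_eq_iSup', Submodule.iSup_smul, Submodule.mem_iSup_of_directed _ hdir] at hmem
      obtain ⟨⟨K, hK⟩, hxK⟩ := hmem
      exact hc hK hxK) ⊥ hx₀
  have hbig : ∀ J : Ideal A, I < J → x ∈ J • (⊤ : Submodule A N) := fun J hJ => by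
    by_contra h
    exact hJ.not_ge (hmax.le_of_ge h hJ.le)
  obtain ⟨b, hb, hbm⟩ := exists_socle (B := L) hPL I x hmax.prop fun a ha =>
    hbig _ (Submodule.lt_sup_iff_notMem.2 ha)
  exact ⟨I, b, hmax.prop, hb, hbm, hbig⟩

end Groth.Agent.H7Flat.ModMaxContent
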