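import Groth.Agent.H7Flat.LocalizationFP
import Groth.Agent.H7Flat.UnivInjFibres
import Groth.Agent.H7Flat.ModMaxBase

/-!
Local rings which are localizations of polynomial rings, and passage to quotients by ideals of the
base for modules over them.
-/

set_option autoImplicit false
universe u

namespace Groth.Agent.H7Flat.PolyLoc

open TensorProduct IsLocalRing

set_option backward.isDefEq.respectTransparency false
set_option maxHeartbeats 1000000

/-- `B` is a localization of a polynomial ring over `A`. -/
def IsPolyLoc (A B : Type u) [CommRing A] [CommRing B] [Algebra A B] : Prop :=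
  ∃ (n : ℕ) (f : MvPolynomial (Fin n) A →ₐ[A] B),
    (∀ b, ∃ t, IsUnit (f t) ∧ ∃ p, f t * b = f p) ∧ ∀ x, f x = 0 → ∃ t, IsUnit (f t) ∧ t * x = 0

/-- The submonoid of polynomials which become invertible. -/
noncomputable def units {A B : Type u} [CommRing A] [CommRing B] [Algebra A B] {n : ℕ}
    (f : MvPolynomial (Fin n) A →ₐ[A] B) : Submonoid (MvPolynomial (Fin n) A) :=
  (IsUnit.submonoid B).comap f.toRingHom.toMonoidHom

theorem mem_units {A B : Type u} [CommRing A] [CommRing B] [Algebra A B] {n : ℕ}
    (f : MvPolynomial (Fin n) A →ₐ[A] B) (t : MvPolynomial (Fin n) A) :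
    t ∈ units f ↔ IsUnit (f t) := Iff.rfl

theorem units_eq {A B : Type u} [CommRing A] [CommRing B] [IsLocalRing B] [Algebra A B] {n : ℕ}
    (f : MvPolynomial (Fin n) A →ₐ[A] B) :
    units f = ((maximalIdeal B).comap f.toRingHom).primeCompl := by
  ext t
  rw [mem_units, ← not_not (a := IsUnit (f t))]
  exact Iff.rfl

theorem isLocalization {A B : Type u} [CommRing A] [CommRing B] [Algebra A B] {n : ℕ}
    (f : MvPolynomial (Fin n) A →ₐ[A] B) (hs : ∀ b, ∃ t, IsUnit (f t) ∧ ∃ p, f t * b = f p)
    (hk : ∀ x, f x = 0 → ∃ t, IsUnit (f t) ∧ t * x = 0) :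
    letI := f.toRingHom.toAlgebra
    IsLocalization (units f) B := by
  let := f.toRingHom.toAlgebra
  refine ⟨fun t => t.2, fun b => ?_, fun {x y} h => ?_⟩
  · obtain ⟨t, ht, p, hp⟩ := hs b
    exact ⟨(p, ⟨t, ht⟩), (mul_comm _ _).trans hp⟩
  · obtain ⟨t, ht, htx⟩ := hk (x - y) (by rw [map_sub, sub_eq_zero]; exact h)
    exact ⟨⟨t, ht⟩, sub_eq_zero.mp (by rw [← mul_sub]; exact htx)⟩

/-- Finite modules over localizations of polynomial rings which are flat over the base are finitely
presented. -/
theorem fp_of_flat {A B : Type u} [CommRing A] [CommRing B] [IsLocalRing B] [Algebra A B]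
    (hB : IsPolyLoc A B) (N : Type u) [AddCommGroup N] [Module B N] [Module A N] [IsScalarTower A B N]
    [Module.Finite B N] [Module.Flat A N] : Module.FinitePresentation B N := by
  obtain ⟨n, f, hs, hk⟩ := hB
  let P := MvPolynomial (Fin n) A
  let : Algebra P B := f.toRingHom.toAlgebra
  have := isLocalization f hs hk
  rw [units_eq] at this
  let q : Ideal P := (maximalIdeal B).comap f.toRingHom
  let e : Localization.AtPrime q ≃ₐ[P] B := IsLocalization.algEquiv q.primeCompl _ B
  let : Algebra (Localization.AtPrime q) B := e.toAlgHom.toRingHom.toAlgebra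
  let : Module (Localization.AtPrime q) N := Module.compHom N e.toAlgHom.toRingHom
  have : IsScalarTower (Localization.AtPrime q) B N := IsScalarTower.of_algebraMap_smul fun _ _ => rfl
  let : Module P N := Module.compHom N f.toRingHom
  have : IsScalarTower P (Localization.AtPrime q) N := IsScalarTower.of_algebraMap_smul fun p x => by
    change e (algebraMap P _ p) • x = f p • x
    rw [AlgEquiv.commutes]
    rfl
  have : IsScalarTower A P N := IsScalarTower.of_algebraMap_smul fun a x => by
    change f (algebraMap A P a) • x = a • x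
    rw [f.commutes, algebraMap_smul]
  have : Module.Finite (Localization.AtPrime q) B :=
    Module.Finite.of_surjective (Algebra.linearMap _ B) e.surjective
  have : Module.Finite (Localization.AtPrime q) N := Module.Finite.trans B N
  have := LocalizationFP.fp_of_flat_atPrime (R := A) q N
  exact FiniteFlatFP.fp_of_finite (S' := Localization.AtPrime q)

/-- The image of a submodule extended from an ideal, for a base change along a surjection. -/
theorem mem_smul_iff {A A' N N' : Type u} [CommRing A] [CommRing A'] [Algebra A A']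
    (hA : Function.Surjective (algebraMap A A')) [AddCommGroup N] [Module A N] [AddCommGroup N']
    [Module A N'] [Module A' N'] [IsScalarTower A A' N'] {π : N →ₗ[A] N'} (hπ : IsBaseChange A' π) :
    Function.Surjective π ∧ (∀ x, π x = 0 ↔ x ∈ RingHom.ker (algebraMap A A') • (⊤ : Submodule A N)) ∧
      ∀ (J' : Ideal A') x, π x ∈ J' • (⊤ : Submodule A' N') ↔
        x ∈ J'.comap (algebraMap A A') • (⊤ : Submodule A N) := by
  have hsurj : Function.Surjective π := by
    intro y
    induction y using hπ.inductionOn with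
    | zero => exact ⟨0, map_zero π⟩
    | tmul x => exact ⟨x, rfl⟩
    | smul r y hy =>
      obtain ⟨x, rfl⟩ := hy
      obtain ⟨a, rfl⟩ := hA r
      exact ⟨a • x, by rw [map_smul, algebraMap_smul]⟩
    | add y y' hy hy' =>
      obtain ⟨x, rfl⟩ := hy
      obtain ⟨x', rfl⟩ := hy'
      exact ⟨x + x', map_add π x x'⟩
  let K := RingHom.ker (algebraMap A A')
  let eA : (A ⧸ K) ≃ₗ[A] A' :=
    ((Submodule.quotEquivOfEq K (LinearMap.ker (Algebra.linearMap A A'))
      (by ext; rfl)).trans ((Algebra.linearMap A A').quotKerEquivOfSurjective hA))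
  have hker : ∀ x, π x = 0 ↔ x ∈ K • (⊤ : Submodule A N) := by
    intro x
    have h1 : π x = hπ.equiv ((1 : A') ⊗ₜ x) := by rw [hπ.equiv_tmul, one_smul]
    have h2 : (1 : A') ⊗ₜ[A] x = TensorProduct.congr eA (LinearEquiv.refl A N)
        ((TensorProduct.quotTensorEquivQuotSMul N K).symm (Submodule.Quotient.mk x)) := by
      rw [TensorProduct.quotTensorEquivQuotSMul_symm_mk, TensorProduct.congr_tmul]
      congr 1
      exact (map_one (algebraMap A A')).symm
    rw [h1, LinearEquiv.map_eq_zero_iff, h2, LinearEquiv.map_eq_zero_iff, LinearEquiv.map_eq_zero_iff,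
      Submodule.Quotient.mk_eq_zero]
  refine ⟨hsurj, hker, fun J' x => ⟨fun hx => ?_, fun hx => ?_⟩⟩
  · have h : ∀ y ∈ J' • (⊤ : Submodule A' N'),
        ∃ w ∈ J'.comap (algebraMap A A') • (⊤ : Submodule A N), π w = y := by
      intro y hy
      induction hy using Submodule.smul_induction_on' with
      | smul r hr m _ =>
        obtain ⟨a, rfl⟩ := hA r
        obtain ⟨x, rfl⟩ := hsurj m
        exact ⟨a • x, Submodule.smul_mem_smul (Ideal.mem_comap.mpr hr) trivial,
          by rw [map_smul, algebraMap_smul]⟩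
      | add y _ y' _ h h' =>
        obtain ⟨w, hw, rfl⟩ := h
        obtain ⟨w', hw', rfl⟩ := h'
        exact ⟨w + w', add_mem hw hw', map_add π w w'⟩
    obtain ⟨w, hw, hwx⟩ := h _ hx
    have h0 : x - w ∈ K • (⊤ : Submodule A N) := (hker _).mp (by rw [map_sub, hwx, sub_self])
    rw [← sub_add_cancel x w]
    exact add_mem (Submodule.smul_mono_left (fun a ha => Ideal.mem_comap.mpr (by
      rw [RingHom.mem_ker.mp ha]; exact zero_mem J')) h0) hw
  · induction hx using Submodule.smul_induction_on' with
    | smul a ha m _ =>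
      rw [map_smul, ← algebraMap_smul A' a (π m)]
      exact Submodule.smul_mem_smul ha trivial
    | add y _ y' _ h h' => rw [map_add]; exact add_mem h h'

/-- Passage to the quotient by an ideal of the base. -/
theorem quot_cases {A B N M : Type u} [CommRing A] [IsLocalRing A] [CommRing B] [IsLocalRing B]
    [Algebra A B] [IsLocalHom (algebraMap A B)] (hB : IsPolyLoc A B)
    [AddCommGroup N] [Module B N] [Module A N] [IsScalarTower A B N] [Module.FinitePresentation B N]
    [AddCommGroup M] [Module A M] [Module.Flat A M] (u : N →ₗ[A] M)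
    (hmod : ∀ x, u x ∈ maximalIdeal A • (⊤ : Submodule A M) → x ∈ maximalIdeal A • (⊤ : Submodule A N))
    (J : Ideal A) (hJ : J ≠ ⊤) {G : Prop}
    (H : ∀ (A' B' N' M' : Type u) [CommRing A'] [IsLocalRing A'] [Algebra A A'] [CommRing B']
      [IsLocalRing B'] [Algebra A' B'] [IsLocalHom (algebraMap A' B')] [AddCommGroup N'] [Module B' N']
      [Module A' N'] [IsScalarTower A' B' N'] [Module.FinitePresentation B' N'] [Module A N']
      [IsScalarTower A A' N'] [AddCommGroup M'] [Module A' M'] [Module.Flat A' M'] [Module A M']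
      [IsScalarTower A A' M'] (_ : IsPolyLoc A' B') (π : N →ₗ[A] N') (ν : M →ₗ[A] M')
      (u' : N' →ₗ[A'] M'), Function.Surjective (algebraMap A A') → RingHom.ker (algebraMap A A') = J →
      IsBaseChange A' π → IsBaseChange A' ν → (∀ x, u' (π x) = ν (u x)) →
      (∀ y, u' y ∈ maximalIdeal A' • (⊤ : Submodule A' M') →
        y ∈ maximalIdeal A' • (⊤ : Submodule A' N')) → G) : G := by
  let A' := A ⧸ J
  let JB := J.map (algebraMap A B)
  let B' := B ⧸ JB
  have hJm : J ≤ maximalIdeal A := le_maximalIdeal hJ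
  have hJBm : JB ≤ maximalIdeal B := Ideal.map_le_iff_le_comap.mpr fun a ha =>
    ((maximalIdeal_comap (algebraMap A B)).ge (hJm ha))
  have hJB : JB ≠ ⊤ := fun h => (maximalIdeal.isMaximal B).ne_top (top_le_iff.mp (h ▸ hJBm))
  have : Nontrivial A' := Ideal.Quotient.nontrivial_iff.mpr hJ
  have : Nontrivial B' := Ideal.Quotient.nontrivial_iff.mpr hJB
  have : IsLocalRing A' := IsLocalRing.of_surjective' _ Ideal.Quotient.mk_surjective
  have : IsLocalRing B' := IsLocalRing.of_surjective' _ Ideal.Quotient.mk_surjective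
  have hAsurj : Function.Surjective (algebraMap A A') := Ideal.Quotient.mk_surjective
  have hloc : IsLocalHom (algebraMap A' B') := by
    refine ⟨fun a ha => ?_⟩
    obtain ⟨a, rfl⟩ := Ideal.Quotient.mk_surjective a
    by_contra hna
    have ha' : algebraMap A B a ∈ maximalIdeal B :=
      (maximalIdeal_comap (algebraMap A B)).ge (show a ∈ maximalIdeal A from fun hu => hna (hu.map _))
    obtain ⟨c, hc⟩ := isUnit_iff_exists_inv.mp ha
    obtain ⟨c, rfl⟩ := Ideal.Quotient.mk_surjective c
    rw [Ideal.Quotient.algebraMap_quotient_map_quotient, ← map_mul, ← map_one (Ideal.Quotient.mk JB),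
      Ideal.Quotient.eq] at hc
    exact (maximalIdeal.isMaximal B).ne_top ((Ideal.eq_top_iff_one _).mpr (by
      simpa using sub_mem (Ideal.mul_mem_right c (maximalIdeal B) ha') (hJBm hc)))
  let N' := N ⧸ JB • (⊤ : Submodule B N)
  let : Module A' N' := Module.compHom N' (algebraMap A' B')
  have : IsScalarTower A' B' N' := IsScalarTower.of_algebraMap_smul fun _ _ => rfl
  have : IsScalarTower A A' N' := IsScalarTower.of_algebraMap_smul fun a y => by
    obtain ⟨x, rfl⟩ := Submodule.Quotient.mk_surjective _ y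
    change Ideal.Quotient.mk JB (algebraMap A B a) • (Submodule.Quotient.mk x : N') = _
    change (Submodule.Quotient.mk (algebraMap A B a • x) : N') = Submodule.Quotient.mk (a • x)
    rw [algebraMap_smul]
  have : Module.FinitePresentation B' N' :=
    let e : B' ⊗[B] N ≃ₗ[B] N' := TensorProduct.quotTensorEquivQuotSMul N JB
    Module.FinitePresentation.of_equiv (R := B')
      (e.extendScalarsOfSurjective (Ideal.Quotient.mk_surjective (I := JB)))
  let π : N →ₗ[A] N' := (JB • (⊤ : Submodule B N)).mkQ.restrictScalars A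
  have hres : (JB • (⊤ : Submodule B N)).restrictScalars A = J • (⊤ : Submodule A N) := by
    rw [Ideal.smul_restrictScalars, Submodule.restrictScalars_top]
  let e : A' ⊗[A] N ≃ₗ[A] N' := TensorProduct.quotTensorEquivQuotSMul N J ≪≫ₗ
    Submodule.quotEquivOfEq _ _ hres.symm ≪≫ₗ
    Submodule.Quotient.restrictScalarsEquiv A (JB • (⊤ : Submodule B N))
  let e' : A' ⊗[A] N ≃ₗ[A'] N' := e.extendScalarsOfSurjective hAsurj
  have he : ∀ x, e' ((1 : A') ⊗ₜ x) = π x := fun x => by
    change e ((1 : A') ⊗ₜ x) = π x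
    simp only [e, LinearEquiv.trans_apply]
    rw [show (1 : A') = Ideal.Quotient.mk J 1 from rfl, TensorProduct.quotTensorEquivQuotSMul_mk_tmul,
      one_smul]
    rfl
  have hπ : IsBaseChange A' π := IsBaseChange.of_equiv e' he
  let M' := A' ⊗[A] M
  let ν : M →ₗ[A] M' := TensorProduct.mk A A' M 1
  let u' : N' →ₗ[A'] M' := u.baseChange A' ∘ₗ e'.symm.toLinearMap
  have hu : ∀ x, u' (π x) = ν (u x) := fun x => by
    change u.baseChange A' (e'.symm (π x)) = _
    rw [← he, LinearEquiv.symm_apply_apply, LinearMap.baseChange_tmul]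
    rfl
  have hν : IsBaseChange A' ν := TensorProduct.isBaseChange A M A'
  obtain ⟨n, f, hs, hk⟩ := hB
  let g : MvPolynomial (Fin n) A' →ₐ[A'] B' :=
    MvPolynomial.aeval fun i => Ideal.Quotient.mk JB (f (MvPolynomial.X i))
  have hg : ∀ p, g (MvPolynomial.map (Ideal.Quotient.mk J) p) = Ideal.Quotient.mk JB (f p) := by
    intro p
    induction p using MvPolynomial.induction_on with
    | C a =>
      rw [MvPolynomial.map_C, MvPolynomial.aeval_C, ← MvPolynomial.algebraMap_eq, AlgHom.commutes]
      rfl
    | add p q hp hq => rw [map_add, map_add, hp, hq, map_add, map_add]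
    | mul_X p i hp => rw [map_mul, map_mul, hp, MvPolynomial.map_X, map_mul, map_mul,
        MvPolynomial.aeval_X]
  have hJB' : ∀ b ∈ JB, ∃ t, IsUnit (f t) ∧ ∃ y ∈ J.map (MvPolynomial.C (σ := Fin n)), f t * b = f y := by
    intro b hb
    induction hb using Submodule.span_induction with
    | mem b hb =>
      obtain ⟨j, hj, rfl⟩ := hb
      exact ⟨1, by simp, MvPolynomial.C j, Ideal.mem_map_of_mem _ hj, by
        rw [map_one, one_mul, ← MvPolynomial.algebraMap_eq, AlgHom.commutes]⟩
    | zero => exact ⟨1, by simp, 0, zero_mem _, by simp⟩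
    | add b c _ _ hb hc =>
      obtain ⟨t, ht, y, hy, h⟩ := hb
      obtain ⟨t', ht', y', hy', h'⟩ := hc
      exact ⟨t * t', by rw [map_mul]; exact ht.mul ht', t' * y + t * y',
        add_mem (Ideal.mul_mem_left _ _ hy) (Ideal.mul_mem_left _ _ hy'), by
        simp only [map_mul, map_add, ← h, ← h']; ring⟩
    | smul c b _ hb =>
      obtain ⟨t, ht, y, hy, h⟩ := hb
      obtain ⟨t', ht', p, hp⟩ := hs c
      exact ⟨t' * t, by rw [map_mul]; exact ht'.mul ht, p * y, Ideal.mul_mem_left _ _ hy, by
        simp only [map_mul, ← h, ← hp, smul_eq_mul]; ring⟩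
  have hPL : IsPolyLoc A' B' := by
    refine ⟨n, g, fun b' => ?_, fun x' hx' => ?_⟩
    · obtain ⟨b, rfl⟩ := Ideal.Quotient.mk_surjective b'
      obtain ⟨t, ht, p, hp⟩ := hs b
      exact ⟨_, by rw [hg]; exact ht.map _, MvPolynomial.map (Ideal.Quotient.mk J) p, by
        rw [hg t, hg, ← hp, map_mul]⟩
    · obtain ⟨x, rfl⟩ := MvPolynomial.map_surjective _ Ideal.Quotient.mk_surjective x'
      rw [hg, Ideal.Quotient.eq_zero_iff_mem] at hx'
      obtain ⟨t, ht, y, hy, h⟩ := hJB' _ hx'
      obtain ⟨s, hs', hs0⟩ := hk (t * x - y) (by rw [map_sub, map_mul, h, sub_self])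
      refine ⟨MvPolynomial.map (Ideal.Quotient.mk J) (s * t), by
        rw [hg, map_mul]; exact (hs'.mul ht).map _, ?_⟩
      have hy0 : MvPolynomial.map (Ideal.Quotient.mk J) y = 0 := by
        refine (Ideal.map_le_iff_le_comap.mpr (fun j hj => ?_) :
          J.map MvPolynomial.C ≤ RingHom.ker (MvPolynomial.map (Ideal.Quotient.mk J))) hy
        rw [Ideal.mem_comap, RingHom.mem_ker, MvPolynomial.map_C,
          Ideal.Quotient.eq_zero_iff_mem.mpr hj, map_zero]
      rw [← map_mul, show s * t * x = s * (t * x - y) + s * y by ring, hs0, zero_add, map_mul, hy0,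
        mul_zero]
  refine H A' B' N' M' hPL π ν u' hAsurj Ideal.mk_ker hπ hν hu fun y hy => ?_
  obtain ⟨x, rfl⟩ := (mem_smul_iff hAsurj hπ).1 y
  rw [hu] at hy
  have hc : (maximalIdeal A').comap (algebraMap A A') = maximalIdeal A := by
    have : IsLocalHom (algebraMap A A') := IsLocalHom.of_surjective _ hAsurj
    exact maximalIdeal_comap _
  rw [(mem_smul_iff hAsurj hπ).2.2, hc]
  rw [(mem_smul_iff hAsurj hν).2.2, hc] at hy
  exact hmod x hy

end Groth.Agent.H7Flat.PolyLoc
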