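import Groth.Agent.H7Flat.ModMaxWitness
import Groth.Agent.H7Flat.PolyLoc

/-!
For a flat finitely presented module over a localization of a polynomial ring, a map to a flat
module which is injective modulo the maximal ideal is injective modulo every ideal.
-/

set_option autoImplicit false
universe u

namespace Groth.Agent.H7Flat.ModMaxFlat

open TensorProduct IsLocalRing

set_option backward.isDefEq.respectTransparency false
set_option maxHeartbeats 1000000

/-- Elements of a flat module divisible by all elements outside a nonmaximal prime lie in the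
submodule extended from the prime. -/
theorem mem_prime_smul {A B N M : Type u} [CommRing A] [IsLocalRing A] [CommRing B] [IsLocalRing B]
    [Algebra A B] [IsLocalHom (algebraMap A B)] (hB : PolyLoc.IsPolyLoc A B)
    [AddCommGroup N] [Module B N] [Module A N] [IsScalarTower A B N] [Module.FinitePresentation B N]
    [Module.Flat A N] [AddCommGroup M] [Module A M] [Module.Flat A M] (u : N →ₗ[A] M)
    (hmod : ∀ x, u x ∈ maximalIdeal A • (⊤ : Submodule A M) → x ∈ maximalIdeal A • (⊤ : Submodule A N))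
    (p : Ideal A) [p.IsPrime] (hpm : p ≠ maximalIdeal A) (y : N)
    (hy : ∀ d ∉ p, ∃ y', y - d • y' ∈ p • (⊤ : Submodule A N)) :
    y ∈ p • (⊤ : Submodule A N) := by
  refine PolyLoc.quot_cases hB u hmod p (Ideal.IsPrime.ne_top ‹_›) ?_
  intro A' B' N' M' _ _ _ _ _ _ _ _ _ _ _ _ _ _ _ _ _ _ _ hB' π ν u' hA hker hπ _ _ _
  have : IsDomain A' := by
    let e : (A ⧸ p) ≃+* A' :=
      (Ideal.quotEquivOfEq hker.symm).trans (RingHom.quotientKerEquivOfSurjective hA)
    exact e.symm.isDomain_iff.mpr inferInstance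
  have : Module.Flat A' N' :=
    Module.Flat.of_linearEquiv hπ.equiv.symm
  obtain ⟨c, hcm, hcp⟩ : ∃ c ∈ maximalIdeal A, c ∉ p := by
    by_contra! h
    exact hpm (le_antisymm (le_maximalIdeal (Ideal.IsPrime.ne_top ‹_›)) h)
  have hne : ∀ a : A, algebraMap A A' a ≠ 0 ↔ a ∉ p := fun a => by
    rw [Ne, ← RingHom.mem_ker, hker]
  have h0 : π y = 0 := by
    refine ModMaxBase.eq_zero_of_mem_all_smul (B := B') (algebraMap A A' c) ((hne c).mpr hcp) ?_
      (fun a ha x hx b _ => ⟨0, ?_⟩) (fun a _ => inferInstance) (fun D _ => ?_) (π y) fun a ha => ?_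
    · rw [IsLocalRing.jacobson_eq_maximalIdeal ⊥ bot_ne_top]
      refine (maximalIdeal_comap (algebraMap A' B')).ge ?_
      have : IsLocalHom (algebraMap A A') := IsLocalHom.of_surjective _ hA
      exact (maximalIdeal_comap (algebraMap A A')).ge hcm
    · rw [smul_zero]
      exact ((smul_eq_zero.mp hx).resolve_left ha).symm
    · have : Module.Finite B' N' := inferInstance
      have := PolyLoc.fp_of_flat hB' (N' ⧸ D)
      have h := Module.FinitePresentation.fg_ker D.mkQ D.mkQ_surjective
      rwa [Submodule.ker_mkQ] at h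
    · obtain ⟨d, rfl⟩ := hA a
      obtain ⟨y', hy'⟩ := hy d ((hne d).mp ha)
      refine ⟨π y', ?_⟩
      rw [algebraMap_smul, ← map_smul]
      refine (sub_eq_zero.mp ?_).symm
      rw [← map_sub, (PolyLoc.mem_smul_iff hA hπ).2.1, hker]
      exact hy'
  rwa [(PolyLoc.mem_smul_iff hA hπ).2.1, hker] at h0

/-- Injectivity modulo the maximal ideal gives injectivity modulo all ideals, for flat modules. -/
theorem mem_smul_of_flat {A B N M : Type u} [CommRing A] [IsLocalRing A] [CommRing B] [IsLocalRing B]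
    [Algebra A B] [IsLocalHom (algebraMap A B)] (hB : PolyLoc.IsPolyLoc A B)
    [AddCommGroup N] [Module B N] [Module A N] [IsScalarTower A B N] [Module.FinitePresentation B N]
    [Module.Flat A N] [AddCommGroup M] [Module A M] [Module.Flat A M] (u : N →ₗ[A] M)
    (hmod : ∀ x, u x ∈ maximalIdeal A • (⊤ : Submodule A M) → x ∈ maximalIdeal A • (⊤ : Submodule A N))
    (I₀ : Ideal A) (x : N) (hux : u x ∈ I₀ • (⊤ : Submodule A M)) :
    x ∈ I₀ • (⊤ : Submodule A N) := by
  by_contra hx₀
  obtain ⟨I, hI₀, hmax⟩ := zorn_le_nonempty₀ {I : Ideal A | x ∉ I • (⊤ : Submodule A N)}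
    (fun c hc hchain J hJ => by
      refine ⟨sSup c, fun hmem => ?_, fun _ h => le_sSup h⟩
      have : Nonempty c := ⟨⟨J, hJ⟩⟩
      have hdir : Directed (· ≤ ·) fun K : c => (K : Ideal A) • (⊤ : Submodule A N) := fun K L =>
        (hchain.total K.2 L.2).elim (fun h => ⟨L, Submodule.smul_mono_left h, le_rfl⟩)
          (fun h => ⟨K, le_rfl, Submodule.smul_mono_left h⟩)
      rw [sSup_eq_iSup', Submodule.iSup_smul, Submodule.mem_iSup_of_directed _ hdir] at hmem
      obtain ⟨⟨K, hK⟩, hxK⟩ := hmem
      exact hc hK hxK) I₀ hx₀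
  have hxI : x ∉ I • (⊤ : Submodule A N) := hmax.prop
  have huI : u x ∈ I • (⊤ : Submodule A M) := Submodule.smul_mono_left hI₀ hux
  have hbig : ∀ a ∉ I, x ∈ (I ⊔ Ideal.span {a}) • (⊤ : Submodule A N) := fun a ha => by
    by_contra h
    exact ha (hmax.le_of_ge h le_sup_left ((le_sup_right : Ideal.span {a} ≤ I ⊔ Ideal.span {a}) (Ideal.mem_span_singleton_self a)))
  obtain ⟨n, f, hs, hk⟩ := id hB
  let P := MvPolynomial (Fin n) A
  let : Algebra P B := f.toRingHom.toAlgebra
  have : IsScalarTower A P B := IsScalarTower.of_algebraMap_eq fun a => (f.commutes a).symm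
  let : Module P N := Module.compHom N f.toRingHom
  have : IsScalarTower P B N := IsScalarTower.of_algebraMap_smul fun _ _ => rfl
  have : IsScalarTower A P N := IsScalarTower.of_algebraMap_smul fun a m => by
    change f (algebraMap A P a) • m = a • m
    rw [f.commutes, algebraMap_smul]
  obtain ⟨N₀, i₁, i₂, i₃, ι, i₄⟩ := UnivInjFibres.exists_fp_localization (L := B) (N := N)
    (PolyLoc.units f) (fun t ht => ht)
    (fun b => by
      obtain ⟨t, ht, p, hp⟩ := hs b
      exact ⟨t, ht, p, hp⟩)
    ∅ (fun y hy => by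
      obtain ⟨t, ht, hty⟩ := hk y hy
      exact ⟨t, ht, by simp [hty]⟩)
    (fun y hy => absurd hy (Finset.notMem_empty y))
  rw [PolyLoc.units_eq] at i₄
  let : Module A N₀ := Module.compHom N₀ (algebraMap A P)
  have : IsScalarTower A P N₀ := IsScalarTower.of_algebraMap_smul fun _ _ => rfl
  obtain ⟨p, b, hp, hIp, hdb, hI'⟩ :=
    ModMaxWitness.exists_witness ((maximalIdeal B).comap f.toRingHom) ι I x hxI
  have hbI : b ∉ I := fun h => hdb 1 ((Ideal.ne_top_iff_one p).mp hp.ne_top) (by rwa [one_mul])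
  have hcolon : ∀ d, d ∈ p ↔ d * b ∈ I := by
    refine fun d => ⟨fun hd => ?_, fun h => by_contra fun hd => hdb d hd h⟩
    by_contra hdbI
    obtain ⟨e, he, heb⟩ := hI' (I ⊔ Ideal.span {d * b}) le_sup_left (hbig _ hdbI)
    obtain ⟨i, hi, _, hw, hiw⟩ := Submodule.mem_sup.mp heb
    obtain ⟨r, rfl⟩ := Ideal.mem_span_singleton'.mp hw
    refine hdb (e - r * d) (fun h => he ?_) ?_
    · simpa using add_mem h (Ideal.mul_mem_left p r hd)
    · rwa [sub_mul, ← hiw, mul_assoc, add_sub_cancel_right]
  obtain ⟨i, hi, y, hiy⟩ : ∃ i ∈ I • (⊤ : Submodule A N), ∃ y, i + b • y = x := by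
    have h := hbig b hbI
    rw [Submodule.sup_smul, Submodule.ideal_span_singleton_smul] at h
    obtain ⟨i, hi, w, hw, hiw⟩ := Submodule.mem_sup.mp h
    obtain ⟨y, -, rfl⟩ := hw
    exact ⟨i, hi, y, hiw⟩
  refine hxI ?_
  suffices hy : y ∈ p • (⊤ : Submodule A N) by
    rw [← hiy]
    refine add_mem hi ?_
    clear hiy
    induction hy using Submodule.smul_induction_on' with
    | smul d hd m _ =>
      rw [smul_smul, mul_comm]
      exact Submodule.smul_mem_smul ((hcolon d).mp hd) trivial
    | add y _ y' _ h h' => rw [smul_add]; exact add_mem h h'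
  by_cases hpm : p = maximalIdeal A
  · rw [hpm]
    refine hmod y (hpm ▸ ModMaxBase.mem_colon_smul I p b hcolon (u y) ?_)
    rw [← map_smul, show b • y = x - i by rw [← hiy, add_sub_cancel_left], map_sub]
    refine sub_mem huI ?_
    have h := Submodule.mem_map_of_mem (f := u) hi
    rw [Submodule.map_smul''] at h
    exact Submodule.smul_mono le_rfl le_top h
  · refine mem_prime_smul hB u hmod p hpm y fun d hd => ?_
    have h := hbig (d * b) fun h => hd ((hcolon d).mpr h)
    rw [Submodule.sup_smul, Submodule.ideal_span_singleton_smul] at h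
    obtain ⟨i', hi', w, hw, hiw⟩ := Submodule.mem_sup.mp h
    obtain ⟨y', -, rfl⟩ := hw
    refine ⟨y', ModMaxBase.mem_colon_smul I p b hcolon _ ?_⟩
    rw [smul_sub, smul_smul, mul_comm b d, show b • y = x - i by rw [← hiy, add_sub_cancel_left],
      show (d * b) • y' = x - i' by
        rw [← hiw]; change _ = i' + (d * b) • y' - i'; rw [add_sub_cancel_left],
      sub_sub_sub_cancel_left]
    exact sub_mem hi' hi

end Groth.Agent.H7Flat.ModMaxFlat
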