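import Groth.Agent.H7Flat.UnivInjFibres

/-!
An element outside `I N`, for `N` flat and a localization of a finitely presented module, detects a
prime and an element of the base at that prime.
-/

set_option autoImplicit false
universe u

namespace Groth.Agent.H7Flat.ModMaxWitness

open TensorProduct FlatMor ImpurityDescend UnivInjCover WeakAssTensor FibreRepr
open Groth.Agent.H02CA.FibreAss (fiber_smul toFiberMod_eq_zero_iff)

attribute [local instance] Algebra.TensorProduct.rightAlgebra

set_option backward.isDefEq.respectTransparency false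
set_option maxHeartbeats 1000000
set_option synthInstance.maxHeartbeats 400000

/-- Modulo an ideal, `x ⊗ 1` vanishes exactly on the submodule extended from the ideal. -/
theorem tmul_one_eq_zero_iff {A N : Type u} [CommRing A] [AddCommGroup N] [Module A N] (I : Ideal A)
    (x : N) : x ⊗ₜ[A] (1 : A ⧸ I) = 0 ↔ x ∈ I • (⊤ : Submodule A N) := by
  rw [← (TensorProduct.comm A N (A ⧸ I)).map_eq_zero_iff, TensorProduct.comm_tmul,
    ← TensorProduct.quotTensorEquivQuotSMul_symm_mk, LinearEquiv.map_eq_zero_iff,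
    Submodule.Quotient.mk_eq_zero]

/-- Near a minimal prime of the support of `x ⊗ 1` there is a prime of the base and an element
outside of `I` there. -/
theorem exists_witness {A : Type u} [CommRing A] {n : ℕ} {N₀ N : Type u} [AddCommGroup N₀]
    [Module (MvPolynomial (Fin n) A) N₀] [Module A N₀] [IsScalarTower A (MvPolynomial (Fin n) A) N₀]
    [Module.FinitePresentation (MvPolynomial (Fin n) A) N₀]
    [AddCommGroup N] [Module A N] [Module (MvPolynomial (Fin n) A) N]
    [IsScalarTower A (MvPolynomial (Fin n) A) N] [Module.Flat A N]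
    (q : Ideal (MvPolynomial (Fin n) A)) [q.IsPrime]
    (ι : N₀ →ₗ[MvPolynomial (Fin n) A] N) [IsLocalizedModule q.primeCompl ι]
    (I : Ideal A) (x : N) (hx : x ∉ I • (⊤ : Submodule A N)) :
    ∃ (p : Ideal A) (b : A), p.IsPrime ∧ I ≤ p ∧ (∀ d ∉ p, d * b ∉ I) ∧
      ∀ I' : Ideal A, I ≤ I' → x ∈ I' • (⊤ : Submodule A N) → ∃ d ∉ p, d * b ∈ I' := by
  classical
  let P := MvPolynomial (Fin n) A
  let T := q.primeCompl
  let Q := A ⧸ I
  let z : N ⊗[A] Q := x ⊗ₜ 1
  have hz : z ≠ 0 := mt (tmul_one_eq_zero_iff I x).mp hx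
  have hvbij : ∀ b ∈ T, Function.Bijective fun y : N => b • y := fun b hb =>
    (Module.End.isUnit_iff _).mp (IsLocalizedModule.map_units ι ⟨b, hb⟩)
  let μ : ∀ b ∈ T, N ≃ₗ[A] N := fun b hb => LinearEquiv.ofBijective
    ((LinearMap.lsmul P N b).restrictScalars A) (hvbij b hb)
  have hμ : ∀ (b : P) (hb : b ∈ T) {Y : Type u} [AddCommGroup Y] [Module A Y] (y : N ⊗[A] Y),
      (μ b hb).toLinearMap.rTensor Y y = b • y := by
    intro b hb Y _ _ y
    induction y using TensorProduct.induction_on with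
    | zero => simp
    | tmul a b => rfl
    | add y y' hy hy' => simp only [smul_add, map_add, hy, hy']
  have hann : (Submodule.span P {z}).annihilator ≤ q := fun c hc => by
    by_contra hcq
    refine hz ?_
    have h1 := congrArg ((μ c hcq).symm.toLinearMap.rTensor Q)
      ((hμ c hcq z).trans ((Submodule.mem_annihilator_span_singleton z c).mp hc))
    rwa [← LinearMap.rTensor_comp_apply, LinearEquiv.symm_comp, LinearMap.rTensor_id,
      LinearMap.id_apply, map_zero] at h1
  obtain ⟨t, ht, htq⟩ := Ideal.exists_minimalPrimes_le hann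
  have : t.IsPrime := ht.1.1
  have hz0 : ∀ c ∉ t, c • z ≠ 0 := fun c hc h =>
    hc (ht.1.2 ((Submodule.mem_annihilator_span_singleton z c).mpr h))
  have hTt : ∀ c ∈ T, c ∉ t := fun c hc h => hc (htq h)
  let p : Ideal A := t.comap (algebraMap A P)
  have hp : p.IsPrime := Ideal.comap_isPrime _ _
  have hIp : I ≤ p := fun a ha => ht.1.2 ((Submodule.mem_annihilator_span_singleton z _).mpr (by
    rw [algebraMap_smul, ← TensorProduct.tmul_smul, Algebra.smul_def, mul_one,
      Ideal.Quotient.algebraMap_eq, Ideal.Quotient.eq_zero_iff_mem.mpr ha, tmul_zero]))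
  have : IsNoetherianRing (p.Fiber P) := Algebra.FiniteType.isNoetherianRing p.ResidueField _
  have : Module.Finite (p.Fiber P) (FlatCA.fiberMod p P N₀) :=
    inferInstanceAs (Module.Finite (p.Fiber P) ((p.Fiber P) ⊗[P] N₀))
  let K' : Submodule (p.Fiber P) (FlatCA.fiberMod p P N₀) :=
    { carrier := {X | ∃ c ∉ t, c • X = 0}
      zero_mem' := ⟨1, t.primeCompl.one_mem, smul_zero _⟩
      add_mem' := fun {X Y} ⟨c, hc, hX⟩ ⟨d, hd, hY⟩ => ⟨d * c, t.primeCompl.mul_mem hd hc, by
        rw [smul_add, mul_smul, hX, smul_zero, mul_comm, mul_smul, hY, smul_zero, add_zero]⟩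
      smul_mem' := fun a X ⟨c, hc, hX⟩ => ⟨c, hc, by
        rw [fiber_smul] at hX ⊢
        rw [smul_comm, hX, smul_zero]⟩ }
  obtain ⟨F, hF⟩ := IsNoetherian.noetherian K'
  have hmem : ∀ X : F, ∃ c ∉ t, c • (X : FlatCA.fiberMod p P N₀) = 0 := fun X =>
    (hF.le (Submodule.subset_span X.2) : (X : FlatCA.fiberMod p P N₀) ∈ K')
  choose c hc hcX using hmem
  obtain ⟨c₀, hc₀, hc₀K⟩ : ∃ c₀ ∉ t, ∀ X : FlatCA.fiberMod p P N₀,
      (∃ c ∉ t, c • X = 0) → c₀ • X = 0 := by
    refine ⟨∏ X, c X, prod_mem (S := t.primeCompl) fun X _ => hc X, fun X hX => ?_⟩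
    have hX' : X ∈ K' := hX
    rw [← hF] at hX'
    rw [fiber_smul]
    clear hX
    induction hX' using Submodule.span_induction with
    | mem Y hY =>
      rw [← fiber_smul, ← Finset.prod_erase_mul _ _ (Finset.mem_univ (⟨Y, hY⟩ : F)), mul_smul,
        hcX ⟨Y, hY⟩, smul_zero]
    | zero => rw [smul_zero]
    | add _ _ _ _ h h' => rw [smul_add, h, h', add_zero]
    | smul a _ _ h => rw [smul_comm, h, smul_zero]
  obtain ⟨R₁, _, N₁, _, _, γ, φ, hγ, hφ⟩ := exists_poly_stage N₀ c₀
  obtain ⟨m, g, hg⟩ := Submodule.fg_iff_exists_fin_generating_family.mp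
    (IsNoetherian.noetherian (p.comap (algebraMap R₁ A)))
  have hgp : ∀ i, algebraMap R₁ A (g i) ∈ p := fun i =>
    (hg.le (Submodule.subset_span (Set.mem_range_self i)) : g i ∈ p.comap (algebraMap R₁ A))
  obtain ⟨a, haz, hakill⟩ := exists_smul_killed t z hz0
    (Finset.univ.image fun i => algebraMap A P (algebraMap R₁ A (g i))) (fun y hy => by
      obtain ⟨i, -, rfl⟩ := Finset.mem_image.mp hy
      obtain ⟨c, hc, k, hk⟩ := exists_mul_pow_mem ht (hgp i)
      exact ⟨c, hc, k, by
        rw [← mul_smul]; exact (Submodule.mem_annihilator_span_singleton z _).mp hk⟩)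
  obtain ⟨w, hw⟩ := exists_of_killed (fun i => algebraMap R₁ A (g i)) (a • z) fun i => by
    have h := hakill _ (Finset.mem_image_of_mem _ (Finset.mem_univ i))
    rwa [algebraMap_smul] at h
  change N ⊗[A] tor (R := A) g Q at w
  obtain ⟨⟨w', s⟩, hwt⟩ := IsLocalizedModule.surj T
    (AlgebraTensorModule.rTensor A (tor (R := A) g Q) ι) w
  obtain ⟨r, hr, k, y, e, hind, hrep⟩ := exists_indep_repr hγ Q p c₀ φ hφ g hg w'
  have hcr : ∀ {X Y : Type u} [AddCommGroup X] [Module A X] [AddCommGroup Y] [Module A Y]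
      (h : X →ₗ[A] Y) (y : N₀ ⊗[A] X),
      (ι.restrictScalars A).rTensor Y (h.lTensor N₀ y) =
        h.lTensor N ((ι.restrictScalars A).rTensor X y) := by
    intro X Y _ _ _ _ h y
    rw [← LinearMap.comp_apply, ← LinearMap.comp_apply, LinearMap.rTensor_comp_lTensor,
      LinearMap.lTensor_comp_rTensor]
  have hsmul : ∀ {X Y : Type u} [AddCommGroup X] [Module A X] [AddCommGroup Y] [Module A Y]
      (h : X →ₗ[A] Y) (b : P) (y : N ⊗[A] X), h.lTensor N (b • y) = b • h.lTensor N y := by
    intro X Y _ _ _ _ h b y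
    induction y using TensorProduct.induction_on with
    | zero => simp
    | tmul a b => rfl
    | add y y' hy hy' => simp only [smul_add, map_add, hy, hy']
  let v : Fin k → N := fun i => ι (c₀ • y i)
  have hkey : (c₀ * s) • r • a • z = ∑ i, v i ⊗ₜ[A] e i := by
    have h1 := congrArg ((ι.restrictScalars A).rTensor Q) hrep
    rw [map_sum, LinearMap.map_smul] at h1
    have h2 : (ι.restrictScalars A).rTensor Q (c₀ • (tor (R := A) g Q).subtype.lTensor N₀ w') =
        c₀ • (ι.restrictScalars A).rTensor Q ((tor (R := A) g Q).subtype.lTensor N₀ w') :=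
      (AlgebraTensorModule.rTensor A Q ι).map_smul c₀ _
    rw [h2, hcr] at h1
    have h3 : (ι.restrictScalars A).rTensor (tor (R := A) g Q) w' = (s : P) • w := hwt.symm
    rw [h3, hsmul] at h1
    rw [smul_comm (c₀ * (s : P)) r, mul_smul, ← hw]
    exact h1
  have hvind : ∀ l : Fin k → A,
      (1 : p.ResidueField) ⊗ₜ[A] (∑ i, l i • v i) = 0 → ∀ i, l i ∈ p := by
    intro l hl
    have h3 : AlgebraTensorModule.rTensor A p.ResidueField ι
        ((c₀ • ∑ i, l i • y i) ⊗ₜ[A] (1 : p.ResidueField)) = 0 := by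
      rw [AlgebraTensorModule.rTensor_tmul, Finset.smul_sum, map_sum]
      apply (TensorProduct.comm A N p.ResidueField).injective
      rw [map_zero, TensorProduct.comm_tmul, ← hl]
      congr 1
      refine Finset.sum_congr rfl fun i _ => ?_
      rw [smul_comm, LinearMap.map_smul_of_tower]
    obtain ⟨t', ht'⟩ := (IsLocalizedModule.eq_zero_iff T
      (AlgebraTensorModule.rTensor A p.ResidueField ι)).mp h3
    have h4 := congrArg (TensorProduct.comm A N₀ p.ResidueField) ht'
    rw [Submonoid.smul_def, smul_tmul', TensorProduct.comm_tmul, map_zero, smul_smul] at h4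
    have h5 := fiber_eq_zero_of_one_tmul (S := P) p _ h4
    rw [map_smul] at h5
    have h6 := hc₀K _ ⟨_, t.primeCompl.mul_mem (hTt _ t'.2) hc₀, h5⟩
    rw [← map_smul] at h6
    exact hind l (one_tmul_eq_zero_of_fiber (S := P) p _ h6)
  obtain ⟨j, hj⟩ : ∃ j, ∀ d ∉ p, d • e j ≠ 0 := by
    by_contra hne
    push Not at hne
    choose d hd hde using hne
    have hD : algebraMap A P ((∏ i, d i) * r) ∉ t := fun h =>
      (p.primeCompl.mul_mem (prod_mem fun i _ => hd i) hr :) h
    refine haz (algebraMap A P ((∏ i, d i) * r) * (c₀ * s))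
      (t.primeCompl.mul_mem hD (t.primeCompl.mul_mem hc₀ (hTt _ s.2))) ?_
    rw [mul_smul, algebraMap_smul, mul_smul, ← smul_comm (c₀ * (s : P)) r, hkey, Finset.smul_sum]
    refine Finset.sum_eq_zero fun i _ => ?_
    rw [← tmul_smul, ← Finset.prod_erase_mul _ _ (Finset.mem_univ i), mul_smul, hde i, smul_zero,
      tmul_zero]
  obtain ⟨b, hb⟩ := Ideal.Quotient.mk_surjective (e j)
  have hsm : ∀ (J : Ideal A) (d : A), d • Ideal.Quotient.mk J b = Ideal.Quotient.mk J (d * b) :=
    fun J d => by rw [Algebra.smul_def, map_mul]; rfl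
  refine ⟨p, b, hp, hIp, fun d hd h => hj d hd ?_, fun I' hI' hxI' => ?_⟩
  · rw [← hb, hsm, Ideal.Quotient.eq_zero_iff_mem.mpr h]
  let ψ : Q →ₗ[A] A ⧸ I' := (Ideal.Quotient.factorₐ A hI').toLinearMap
  have h0 : ψ.lTensor N z = 0 := by
    rw [LinearMap.lTensor_tmul, show ψ (1 : Q) = 1 from map_one (Ideal.Quotient.factorₐ A hI'),
      tmul_one_eq_zero_iff]
    exact hxI'
  have h1 : ∑ i, v i ⊗ₜ[A] ψ (e i) = 0 := by
    have := congrArg (ψ.lTensor N) hkey
    rw [hsmul, map_smul, hsmul, h0, smul_zero, smul_zero, smul_zero, map_sum] at this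
    simpa only [LinearMap.lTensor_tmul] using this.symm
  obtain ⟨d, hd, hde⟩ := exists_notMem_smul_eq_zero p v (fun i => ψ (e i)) hvind h1
  refine ⟨d, hd, Ideal.Quotient.eq_zero_iff_mem.mp ?_⟩
  rw [← hde j, ← hb, show ψ (Ideal.Quotient.mk I b) = Ideal.Quotient.mk I' b from
    Ideal.Quotient.factor_mk hI' b, hsm]

end Groth.Agent.H7Flat.ModMaxWitness
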