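import Mathlib

/-!
Flat separated morphisms of finite type which are isomorphisms over a schematically dense
quasi-compact open are open immersions: the local algebra and the monomorphism property.
-/

namespace Groth.Agent.H7Flat.OpenImmDense

open AlgebraicGeometry CategoryTheory Limits TensorProduct

universe u

set_option backward.isDefEq.respectTransparency false

/-- A flat epimorphism of rings of finite type is, at the primes over `p`, the localization at
`p`. -/
theorem exists_kill {A B : Type u} [CommRing A] [CommRing B] [Algebra A B] [Module.Flat A B]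
    [Algebra.IsEpi A B] (q : Ideal B) [q.IsPrime] :
    (∀ b : B, ∃ u : A, algebraMap A B u ∉ q ∧ ∃ a : A, u • b = algebraMap A B a) ∧
    (∀ a : A, algebraMap A B a = 0 → ∃ u : A, algebraMap A B u ∉ q ∧ u * a = 0) := by
  classical
  let p : Ideal A := q.comap (algebraMap A B)
  let L := Localization.AtPrime p
  let T := L ⊗[A] B
  let ι : B →ₐ[A] T := Algebra.TensorProduct.includeRight
  have hepi : ∀ t : T, (1 : T) ⊗ₜ[L] t = t ⊗ₜ[L] (1 : T) := by
    have hb : ∀ b : B, (1 : T) ⊗ₜ[L] ι b = ι b ⊗ₜ[L] (1 : T) := by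
      intro b
      let F : B ⊗[A] B →ₗ[A] T ⊗[L] T := TensorProduct.lift (LinearMap.mk₂ A
        (fun c d => ι c ⊗ₜ[L] ι d) (fun c c' d => by rw [map_add, add_tmul])
        (fun r c d => by rw [map_smul, smul_tmul']) (fun c d d' => by rw [map_add, tmul_add])
        (fun r c d => by rw [map_smul, tmul_smul]))
      simpa [F] using congrArg F ((Algebra.isEpi_iff_forall_one_tmul_eq A B).mp inferInstance b)
    intro t
    induction t using TensorProduct.induction_on with
    | zero => simp
    | add x y hx hy => rw [tmul_add, add_tmul, hx, hy]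
    | tmul l b =>
      rw [show (l ⊗ₜ[A] b : T) = l • ι b by simp [ι, T, smul_tmul'], tmul_smul, hb,
        smul_tmul']
  have : Module.Flat L T := Module.Flat.baseChange A L B
  have : Module.FaithfullyFlat L T := by
    refine ⟨fun m hm h => ?_⟩
    obtain rfl := IsLocalRing.eq_maximalIdeal hm
    let g : L →ₐ[A] Localization.AtPrime q :=
      ⟨Localization.localRingHom p q (algebraMap A B) rfl, fun a => by
        rw [IsScalarTower.algebraMap_apply A B (Localization.AtPrime q)]
        exact Localization.localRingHom_to_map p q (algebraMap A B) rfl a⟩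
    let F : T →ₐ[A] Localization.AtPrime q :=
      Algebra.TensorProduct.lift g (IsScalarTower.toAlgHom A B _) (fun _ _ => .all _ _)
    have hall : ∀ t ∈ (IsLocalRing.maximalIdeal L • ⊤ : Submodule L T),
        F t ∈ IsLocalRing.maximalIdeal (Localization.AtPrime q) := by
      intro t ht
      refine Submodule.smul_induction_on ht (fun r hr x _ => ?_) (fun x y hx hy => ?_)
      · rw [show r • x = algebraMap L T r * x from Algebra.smul_def r x, map_mul]
        refine Ideal.mul_mem_right _ _ ?_
        have : F (algebraMap L T r) = g r := by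
          rw [show algebraMap L T r = r ⊗ₜ[A] (1 : B) from rfl, Algebra.TensorProduct.lift_tmul,
            map_one, mul_one]
        rw [this]
        have hl := Localization.isLocalHom_localRingHom p q (algebraMap A B) rfl
        rw [IsLocalRing.mem_maximalIdeal] at hr ⊢
        exact fun hu => hr (hl.map_nonunit r hu)
      · rw [map_add]; exact add_mem hx hy
    have h1 := hall 1 (h.symm ▸ Submodule.mem_top)
    rw [map_one] at h1
    exact (IsLocalRing.maximalIdeal.isMaximal _).ne_top ((Ideal.eq_top_iff_one _).mpr h1)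
  have hbij : Function.Bijective (Algebra.linearMap L T) := by
    rw [← Module.FaithfullyFlat.lTensor_bijective_iff_bijective L T]
    have h1 : ∀ z : T ⊗[L] T, ∃ x : T, x ⊗ₜ[L] (1 : T) = z := by
      intro z
      induction z using TensorProduct.induction_on with
      | zero => exact ⟨0, by simp⟩
      | add a b ha hb =>
        obtain ⟨x, rfl⟩ := ha
        obtain ⟨y, rfl⟩ := hb
        exact ⟨x + y, add_tmul x y _⟩
      | tmul a b =>
        refine ⟨a * b, ?_⟩
        calc (a * b) ⊗ₜ[L] (1 : T) = (a ⊗ₜ[L] (1 : T)) * (b ⊗ₜ[L] (1 : T)) := by simp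
          _ = (a ⊗ₜ[L] (1 : T)) * ((1 : T) ⊗ₜ[L] b) := by rw [hepi]
          _ = a ⊗ₜ[L] b := by simp
    have he : (Algebra.linearMap L T).lTensor T ∘ (TensorProduct.rid L T).symm =
        fun x : T => x ⊗ₜ[L] (1 : T) := by funext x; simp
    refine (Function.Bijective.of_comp_iff _ (TensorProduct.rid L T).symm.bijective).mp ?_
    rw [he]
    refine ⟨fun x y h => ?_, h1⟩
    simpa using congrArg (Algebra.TensorProduct.lmul' L (S := T)) h
  have : IsLocalizedModule p.primeCompl (TensorProduct.mk A L B 1) :=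
    (isLocalizedModule_iff_isBaseChange p.primeCompl L _).mpr (TensorProduct.isBaseChange A B L)
  refine ⟨fun b => ?_, fun a ha => ?_⟩
  · obtain ⟨l, hl⟩ := hbij.2 (ι b)
    obtain ⟨⟨a, u⟩, hau⟩ := IsLocalization.surj p.primeCompl l
    have h : (TensorProduct.mk A L B 1) ((u : A) • b) =
        (TensorProduct.mk A L B 1) (algebraMap A B a) := by
      calc (TensorProduct.mk A L B 1) ((u : A) • b) = (u : A) • ι b := by simp [ι, T]
        _ = algebraMap L T (algebraMap A L a) := by
          rw [← hl, ← hau, mul_comm, map_mul, Algebra.linearMap_apply,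
            ← IsScalarTower.algebraMap_apply A L T]
          exact Algebra.smul_def (u : A) (algebraMap L T l)
        _ = (TensorProduct.mk A L B 1) (algebraMap A B a) := by
          rw [← IsScalarTower.algebraMap_apply A L T, ← ι.commutes a]
          rfl
    obtain ⟨c, hc⟩ := (IsLocalizedModule.eq_iff_exists p.primeCompl _).mp h
    refine ⟨c * u, (c * u).2, c * a, ?_⟩
    rw [map_mul, mul_smul, ← Algebra.smul_def]
    exact hc
  · have h : algebraMap A L a = 0 := by
      apply hbij.1
      rw [map_zero, Algebra.linearMap_apply, ← IsScalarTower.algebraMap_apply A L T,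
        ← ι.commutes a, ha, map_zero]
    obtain ⟨c, hc⟩ := (IsLocalization.map_eq_zero_iff p.primeCompl L a).mp h
    exact ⟨c, c.2, hc⟩

section Away

variable {A B A' B' : Type u} [CommRing A] [CommRing B] [CommRing A'] [CommRing B'] [Algebra A A']
  [Algebra B B'] (ψ : A →+* B) (r : A) [IsLocalization.Away r A'] [IsLocalization.Away (ψ r) B']
  (φ : A' →+* B') (hφ : ∀ a, φ (algebraMap A A' a) = algebraMap B B' (ψ a))

include hφ

theorem surjective_away (h : ∀ b : B, ∃ (n : ℕ) (c : A), ψ r ^ n * b = ψ c) :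
    Function.Surjective φ := by
  intro z
  obtain ⟨⟨b, ⟨_, k, rfl⟩⟩, hz⟩ := IsLocalization.surj (Submonoid.powers (ψ r)) z
  obtain ⟨n, c, hc⟩ := h b
  let m : Submonoid.powers r := ⟨r ^ (n + k), n + k, rfl⟩
  refine ⟨IsLocalization.mk' _ c m, ?_⟩
  have hu : IsUnit (algebraMap B B' (ψ r ^ (n + k))) := by
    rw [map_pow]
    exact (IsLocalization.Away.algebraMap_isUnit _).pow _
  apply hu.mul_left_cancel
  have hm : algebraMap B B' (ψ r ^ (n + k)) = φ (algebraMap A A' m) := by
    rw [hφ]
    simp [m]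
  simp only at hz
  calc _ = φ (algebraMap A A' m * IsLocalization.mk' _ c m) := by rw [map_mul, hm]
    _ = algebraMap B B' (ψ r ^ n * b) := by rw [IsLocalization.mk'_spec', hφ, hc]
    _ = _ := by
      rw [map_mul, pow_add, map_mul, mul_assoc, mul_comm _ z]
      exact congrArg _ hz.symm

theorem injective_away (h : ∀ a : A, ψ a = 0 → ∃ n : ℕ, r ^ n * a = 0) :
    Function.Injective φ := by
  refine (injective_iff_map_eq_zero φ).mpr fun z hz => ?_
  obtain ⟨⟨a, m⟩, ham⟩ := IsLocalization.surj (Submonoid.powers r) z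
  have h0 : algebraMap B B' (ψ a) = 0 := by rw [← hφ, ← ham, map_mul, hz, zero_mul]
  obtain ⟨⟨_, k, rfl⟩, hk⟩ :=
    (IsLocalization.map_eq_zero_iff (Submonoid.powers (ψ r)) B' _).mp h0
  obtain ⟨n, hn⟩ := h (r ^ k * a) (by rw [map_mul, map_pow]; exact hk)
  have ha : algebraMap A A' a = 0 :=
    (IsLocalization.map_eq_zero_iff (Submonoid.powers r) A' a).mpr
      ⟨⟨r ^ (n + k), n + k, rfl⟩, show r ^ (n + k) * a = 0 by rw [pow_add, mul_assoc]; exact hn⟩
  exact (IsLocalization.map_units A' m).mul_left_eq_zero.mp (ham.trans ha)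

end Away

/-- Near a prime, a flat epimorphism of finite type with dense open isomorphism locus is a
localization at one element. -/
theorem exists_away {A B : Type u} [CommRing A] [CommRing B] [Algebra A B] [Module.Flat A B]
    [Algebra.IsEpi A B] [hft : Algebra.FiniteType A B] (q : Ideal B) [q.IsPrime] (G : Finset A)
    (hinj : ∀ x : A, (∀ g ∈ G, ∃ n : ℕ, g ^ n * x = 0) → x = 0)
    (hfp : ∀ g ∈ G, ∀ h : A, (Localization.awayMap (algebraMap A B) (h * g)).FinitePresentation) :
    ∃ t : A, algebraMap A B t ∉ q ∧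
      (∀ b : B, ∃ (n : ℕ) (a : A), algebraMap A B t ^ n * b = algebraMap A B a) ∧
      (∀ a : A, algebraMap A B a = 0 → ∃ n : ℕ, t ^ n * a = 0) := by
  classical
  obtain ⟨hsurj, hker⟩ := exists_kill (A := A) q
  obtain ⟨S, hS⟩ := hft.out
  choose u hu a ha using hsurj
  let s : A := ∏ b ∈ S, u b
  have hs : algebraMap A B s ∉ q := by
    rw [map_prod, Ideal.IsPrime.prod_mem_iff]
    push Not
    exact fun b _ => hu b
  have hsS : ∀ b : B, ∃ (n : ℕ) (c : A), algebraMap A B s ^ n * b = algebraMap A B c := by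
    intro b
    have hb : b ∈ Algebra.adjoin A (S : Set B) := hS ▸ Algebra.mem_top
    induction hb using Algebra.adjoin_induction with
    | mem x hx =>
      obtain ⟨v, hv⟩ := Finset.dvd_prod_of_mem u hx
      refine ⟨1, v * a x, ?_⟩
      have h := ha x
      rw [Algebra.smul_def] at h
      rw [pow_one, show s = u x * v from hv, map_mul, map_mul, ← h]
      ring
    | algebraMap r => exact ⟨0, r, by simp⟩
    | add x y _ _ hx hy =>
      obtain ⟨n, c, hc⟩ := hx
      obtain ⟨m, d, hd⟩ := hy
      refine ⟨n + m, s ^ m * c + s ^ n * d, ?_⟩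
      rw [map_add, map_mul, map_mul, ← hc, ← hd, map_pow, map_pow]
      ring
    | mul x y _ _ hx hy =>
      obtain ⟨n, c, hc⟩ := hx
      obtain ⟨m, d, hd⟩ := hy
      refine ⟨n + m, c * d, ?_⟩
      rw [map_mul, ← hc, ← hd]
      ring
  have hloc : ∀ g ∈ G, ∃ w : A, algebraMap A B w ∉ q ∧ ∀ x : A, algebraMap A B x = 0 →
      ∃ n : ℕ, (s * g) ^ n * (w * x) = 0 := by
    intro g hg
    let φ : Localization.Away (s * g) →+* Localization.Away (algebraMap A B (s * g)) :=
      Localization.awayMap (algebraMap A B) (s * g)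
    have hφ : ∀ x : A, φ (algebraMap A (Localization.Away (s * g)) x) =
        algebraMap B (Localization.Away (algebraMap A B (s * g))) (algebraMap A B x) := fun x =>
      IsLocalization.map_eq _ x
    have hφs : Function.Surjective φ :=
      surjective_away (algebraMap A B) (s * g) φ hφ fun b => by
        obtain ⟨n, c, hc⟩ := hsS b
        refine ⟨n, g ^ n * c, ?_⟩
        calc algebraMap A B (s * g) ^ n * b
            = algebraMap A B g ^ n * (algebraMap A B s ^ n * b) := by rw [map_mul]; ring
          _ = _ := by rw [hc, map_mul, map_pow]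
    algebraize [φ]
    have hφfp : φ.FinitePresentation := hfp g hg s
    have : Algebra.FinitePresentation (Localization.Away (s * g))
      (Localization.Away (algebraMap A B (s * g))) := hφfp
    obtain ⟨K, hK⟩ := Algebra.FinitePresentation.ker_fG_of_surjective
      (Algebra.ofId (Localization.Away (s * g)) _) hφs
    have hc : ∀ c ∈ K, ∃ w : A, algebraMap A B w ∉ q ∧ algebraMap A _ w * c = 0 := by
      intro c hcK
      have hc0 : φ c = 0 :=
        show c ∈ RingHom.ker (Algebra.ofId (Localization.Away (s * g)) _) from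
          hK ▸ Submodule.subset_span hcK
      obtain ⟨⟨x, ⟨y, hy⟩⟩, hxy⟩ := IsLocalization.surj (Submonoid.powers (s * g)) c
      have : φ (algebraMap A _ x) = 0 := by
        simp only at hxy
        refine (congrArg φ hxy.symm).trans ((φ.map_mul _ _).trans ?_)
        rw [hc0, zero_mul]
      rw [hφ] at this
      obtain ⟨⟨_, m, rfl⟩, hm⟩ := (IsLocalization.map_eq_zero_iff
        (Submonoid.powers (algebraMap A B (s * g))) _ _).mp this
      obtain ⟨w, hw, hw0⟩ := hker ((s * g) ^ m * x) (by rw [map_mul, map_pow]; exact hm)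
      refine ⟨w, hw, ?_⟩
      have hu : IsUnit (algebraMap A (Localization.Away (s * g)) ((s * g) ^ m) *
          algebraMap A (Localization.Away (s * g)) y) :=
        (show IsUnit (algebraMap A (Localization.Away (s * g)) ((s * g) ^ m)) by
          rw [map_pow]; exact (IsLocalization.Away.algebraMap_isUnit _).pow m).mul
          (IsLocalization.map_units (Localization.Away (s * g)) ⟨y, hy⟩)
      apply hu.mul_right_cancel
      calc algebraMap A _ w * c * (algebraMap A _ ((s * g) ^ m) * algebraMap A _ y)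
          = algebraMap A _ w * algebraMap A _ ((s * g) ^ m) * (c * algebraMap A _ y) := by ring
        _ = algebraMap A (Localization.Away (s * g)) (w * ((s * g) ^ m * x)) := by
          rw [hxy, ← map_mul, ← map_mul, mul_assoc]
        _ = _ := by rw [hw0, map_zero, zero_mul]
    choose w hw hw0 using hc
    refine ⟨∏ c ∈ K.attach, w c c.2, ?_, fun x hx => ?_⟩
    · rw [map_prod, Ideal.IsPrime.prod_mem_iff]
      push Not
      exact fun c _ => hw c c.2
    · have hxK : algebraMap A (Localization.Away (s * g)) x ∈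
          Ideal.span (K : Set (Localization.Away (s * g))) := by
        rw [show Ideal.span (K : Set (Localization.Away (s * g))) = _ from hK]
        change φ _ = 0
        rw [hφ, hx, map_zero]
      have hz : algebraMap A (Localization.Away (s * g)) ((∏ c ∈ K.attach, w c c.2) * x) = 0 := by
        rw [map_mul]
        generalize algebraMap A (Localization.Away (s * g)) x = z at hxK
        induction hxK using Submodule.span_induction with
        | mem c hc =>
          obtain ⟨v, hv⟩ := Finset.dvd_prod_of_mem (fun c : K => w c c.2)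
            (Finset.mem_attach K ⟨c, hc⟩)
          rw [hv, map_mul, mul_right_comm, hw0, zero_mul]
        | zero => rw [mul_zero]
        | add a b _ _ h1 h2 => rw [mul_add, h1, h2, add_zero]
        | smul r a _ h1 => rw [smul_eq_mul, mul_left_comm, h1, mul_zero]
      obtain ⟨⟨_, n, rfl⟩, hn⟩ :=
        (IsLocalization.map_eq_zero_iff (Submonoid.powers (s * g)) _ _).mp hz
      exact ⟨n, hn⟩
  choose w hw hwx using hloc
  let v := ∏ g ∈ G.attach, w g g.2
  refine ⟨s * v, ?_, fun b => ?_, fun x hx => ?_⟩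
  · rw [map_mul]
    refine (Ideal.IsPrime.mem_or_mem ‹q.IsPrime›).mt (not_or_intro hs ?_)
    rw [map_prod, Ideal.IsPrime.prod_mem_iff]
    push Not
    exact fun g _ => hw g g.2
  · obtain ⟨n, c, hc⟩ := hsS b
    refine ⟨n, v ^ n * c, ?_⟩
    rw [map_mul, map_mul, ← hc, map_pow]
    ring
  · have h : ∀ g ∈ G, ∃ n, (s * g) ^ n * (v * x) = 0 := by
      intro g hg
      obtain ⟨n, hn⟩ := hwx g hg x hx
      obtain ⟨r, hr⟩ := Finset.dvd_prod_of_mem (fun g : G => w g g.2) (Finset.mem_attach G ⟨g, hg⟩)
      refine ⟨n, ?_⟩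
      rw [show v = w g hg * r from hr, show (s * g) ^ n * (w g hg * r * x) =
        r * ((s * g) ^ n * (w g hg * x)) by ring, hn, mul_zero]
    choose n hn using h
    refine ⟨(∑ g ∈ G.attach, n g g.2) + 1, ?_⟩
    refine hinj _ fun g hg => ⟨n g hg, ?_⟩
    have hle : n g hg ≤ ∑ g ∈ G.attach, n g g.2 :=
      Finset.single_le_sum (f := fun g : G => n g g.2) (fun _ _ => Nat.zero_le _)
        (Finset.mem_attach G ⟨g, hg⟩)
    obtain ⟨d, hd⟩ := Nat.exists_eq_add_of_le hle
    calc g ^ n g hg * ((s * v) ^ ((∑ g ∈ G.attach, n g g.2) + 1) * x)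
        = s ^ (d + 1) * v ^ (n g hg + d) * ((s * g) ^ n g hg * (v * x)) := by rw [hd]; ring
      _ = 0 := by rw [hn g hg, mul_zero]

/-- A separated flat morphism which is an isomorphism over a schematically dense quasi-compact
open is a monomorphism. -/
theorem mono_of_iso_over_dense {X S : Scheme.{u}} (f : X ⟶ S) [IsSeparated f] [Flat f]
    (U : S.Opens) [QuasiCompact U.ι] [IsSchemeTheoreticallyDominant U.ι] [IsIso (f ∣_ U)] :
    Mono f := by
  let p := pullback.fst f f ≫ f
  let W := p ⁻¹ᵁ U
  have : IsSchemeTheoreticallyDominant W.ι :=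
    IsSchemeTheoreticallyDominant.of_isPullback (isPullback_morphismRestrict p U)
  have h1 : Set.range (W.ι ≫ pullback.fst f f) ⊆ Set.range (f ⁻¹ᵁ U).ι := by
    rintro _ ⟨w, rfl⟩
    rw [Scheme.Opens.range_ι]
    exact w.2
  have h2 : Set.range (W.ι ≫ pullback.snd f f) ⊆ Set.range (f ⁻¹ᵁ U).ι := by
    rintro _ ⟨w, rfl⟩
    rw [Scheme.Opens.range_ι]
    have h : (pullback.fst f f ≫ f) (W.ι w) ∈ U := w.2
    rw [pullback.condition] at h
    exact h
  let a := IsOpenImmersion.lift (f ⁻¹ᵁ U).ι _ h1
  let b := IsOpenImmersion.lift (f ⁻¹ᵁ U).ι _ h2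
  have hab : a = b := by
    rw [← cancel_mono (f ∣_ U), ← cancel_mono U.ι, Category.assoc, Category.assoc,
      morphismRestrict_ι, IsOpenImmersion.lift_fac_assoc, IsOpenImmersion.lift_fac_assoc,
      Category.assoc, Category.assoc, pullback.condition]
  have heq : W.ι ≫ pullback.fst f f = W.ι ≫ pullback.snd f f := by
    rw [← IsOpenImmersion.lift_fac (f ⁻¹ᵁ U).ι _ h1, ← IsOpenImmersion.lift_fac (f ⁻¹ᵁ U).ι _ h2]
    exact congrArg (· ≫ (f ⁻¹ᵁ U).ι) hab
  have hfac : W.ι = (W.ι ≫ pullback.fst f f) ≫ pullback.diagonal f := by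
    apply pullback.hom_ext
    · simp
    · simp [heq]
  have hker : (pullback.diagonal f).ker = ⊥ := by
    rw [eq_bot_iff, ← W.ι.ker_eq_bot]
    conv_rhs => rw [hfac]
    exact Scheme.Hom.le_ker_comp _ _
  have : IsIso (pullback.diagonal f) := IsClosedImmersion.isIso_iff_ker_eq_bot.mpr hker
  exact (pullback.isIso_diagonal_iff f).mp this

theorem isEpi_of_mono_SpecMap {A B : CommRingCat.{u}} (φ : A ⟶ B) [Mono (Spec.map φ)] :
    @Algebra.IsEpi A B _ _ φ.hom.toAlgebra := by
  algebraize [φ.hom]
  refine CommRingCat.epi_iff_epi.mp ?_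
  change Epi φ
  refine ⟨fun {T} g h e => Spec.map_injective ?_⟩
  rw [← cancel_mono (Spec.map φ), ← Spec.map_comp, ← Spec.map_comp, e]

/-- The open immersion criterion. -/
theorem isOpenImmersion_of_iso_over_dense {X S : Scheme.{u}} (f : X ⟶ S) [IsSeparated f]
    [LocallyOfFiniteType f] [Flat f] (U : S.Opens) [QuasiCompact U.ι]
    [IsSchemeTheoreticallyDominant U.ι] [IsIso (f ∣_ U)] : IsOpenImmersion f := by
  classical
  have := mono_of_iso_over_dense f U
  suffices H : ∀ x : X, ∃ W : X.Opens, x ∈ W ∧ IsOpenImmersion (W.ι ≫ f) by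
    choose W hxW hW using H
    have : LocallyOfFinitePresentation f := by
      have hcov : TopologicalSpace.IsOpenCover W :=
        eq_top_iff.mpr fun x _ => TopologicalSpace.Opens.mem_iSup.mpr ⟨x, hxW x⟩
      refine IsZariskiLocalAtSource.of_iSup_eq_top (P := @LocallyOfFinitePresentation.{u}) _ hcov
        fun x => ?_
      have := hW x
      infer_instance
    exact IsOpenImmersion.of_flat_of_mono f
  intro x
  obtain ⟨_, ⟨V, hV, rfl⟩, hxV, -⟩ :=
    S.isBasis_affineOpens.exists_subset_of_mem_open (Set.mem_univ (f x)) isOpen_univ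
  obtain ⟨_, ⟨W, hW, rfl⟩, hxW, hWV⟩ :=
    X.isBasis_affineOpens.exists_subset_of_mem_open (show x ∈ f ⁻¹ᵁ V from hxV)
      (f ⁻¹ᵁ V).isOpen
  let φ := f.appLE V W hWV
  algebraize [φ.hom]
  have : Mono (Spec.map φ) := by
    have : Mono (Spec.map φ ≫ hV.fromSpec) := by
      rw [hV.SpecMap_appLE_fromSpec f hW hWV]
      exact mono_comp _ _
    exact mono_of_mono _ hV.fromSpec
  have : Algebra.IsEpi Γ(S, V) Γ(X, W) := isEpi_of_mono_SpecMap φ
  have : Module.Flat Γ(S, V) Γ(X, W) := f.flat_appLE hV hW hWV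
  have : Algebra.FiniteType Γ(S, V) Γ(X, W) := f.finiteType_appLE hV hW hWV
  let q := (hW.primeIdealOf ⟨x, hxW⟩).asIdeal
  have hK : IsCompact ((V : Set S) ∩ U) := by
    have := U.ι.isCompact_preimage hV.isCompact
    have h := this.image U.ι.continuous
    convert h using 1
    change _ = U.ι '' (U.ι ⁻¹' _)
    rw [Set.image_preimage_eq_inter_range, Scheme.Opens.range_ι]
    rfl
  obtain ⟨G, hG⟩ := hK.elim_finite_subcover
    (fun g : {g : Γ(S, V) // S.basicOpen g ≤ U} => (S.basicOpen g.1 : Set S))
    (fun g => (S.basicOpen g.1).isOpen) (by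
      rintro y ⟨hyV, hyU⟩
      obtain ⟨g, hgU, hyg⟩ := hV.exists_basicOpen_le (V := U) ⟨y, hyU⟩ hyV
      exact Set.mem_iUnion.mpr ⟨⟨g, hgU⟩, hyg⟩)
  have hinj : ∀ a : Γ(S, V), (∀ g ∈ G.image Subtype.val, ∃ n : ℕ, g ^ n * a = 0) → a = 0 := by
    intro a ha
    apply Scheme.Hom.app_injective U.ι V
    rw [map_zero]
    refine (U : Scheme).IsSheaf.section_ext fun z hz => ?_
    obtain ⟨g, hgG, hzg⟩ := Set.mem_iUnion₂.mp (hG ⟨hz, z.2⟩)
    refine ⟨U.ι ⁻¹ᵁ S.basicOpen g.1, U.ι.preimage_mono (S.basicOpen_le g.1), hzg, ?_⟩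
    obtain ⟨n, hn⟩ := ha g.1 (Finset.mem_image_of_mem _ hgG)
    have := hV.isLocalization_basicOpen g.1
    have h0 : algebraMap Γ(S, V) Γ(S, S.basicOpen g.1) a = 0 :=
      (IsLocalization.map_eq_zero_iff (Submonoid.powers g.1) _ a).mpr ⟨⟨_, n, rfl⟩, hn⟩
    rw [map_zero]
    refine (congrArg (fun φ => φ a) (congrArg ConcreteCategory.hom
      (U.ι.naturality (homOfLE (S.basicOpen_le g.1)).op))).symm.trans ?_
    exact (congrArg (U.ι.app (S.basicOpen g.1)) h0).trans (map_zero (U.ι.app (S.basicOpen g.1)).hom)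
  have hfp : ∀ g ∈ G.image Subtype.val, ∀ h : Γ(S, V),
      (Localization.awayMap (algebraMap Γ(S, V) Γ(X, W)) (h * g)).FinitePresentation := by
    intro g hg h
    obtain ⟨g, -, rfl⟩ := Finset.mem_image.mp hg
    have hle : S.basicOpen (h * g.1) ≤ U := (S.basicOpen_mul h g.1).trans_le inf_le_right |>.trans g.2
    let W₀ := X.basicOpen (φ (h * g.1))
    have hW₀ : W₀ ≤ f ⁻¹ᵁ S.basicOpen (h * g.1) := by
      rw [Scheme.preimage_basicOpen]
      simp only [W₀, φ, Scheme.Hom.appLE, CommRingCat.comp_apply, Scheme.basicOpen_res]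
      exact inf_le_right
    have hAloc := hV.isLocalization_basicOpen (h * g.1)
    have hBloc := hW.isLocalization_basicOpen (φ (h * g.1))
    let ψ := f.appLE (S.basicOpen (h * g.1)) W₀ hW₀
    have hψ : ψ.hom.FinitePresentation := by
      have : IsOpenImmersion (Spec.map ψ ≫ (hV.basicOpen (h * g.1)).fromSpec) := by
        rw [(hV.basicOpen (h * g.1)).SpecMap_appLE_fromSpec f (hW.basicOpen _) hW₀]
        have hr : Set.range (hW.basicOpen (φ (h * g.1))).fromSpec ⊆ Set.range (f ⁻¹ᵁ U).ι := by
          rw [IsAffineOpen.range_fromSpec, Scheme.Opens.range_ι]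
          exact hW₀.trans (f.preimage_mono hle)
        rw [← IsOpenImmersion.lift_fac _ _ hr, Category.assoc, ← morphismRestrict_ι]
        infer_instance
      have : IsOpenImmersion (Spec.map ψ) :=
        IsOpenImmersion.of_comp _ (hV.basicOpen (h * g.1)).fromSpec
      exact (HasRingHomProperty.Spec_iff (P := @LocallyOfFinitePresentation)).mp inferInstance
    let eA := IsLocalization.algEquiv (Submonoid.powers (h * g.1))
      (Localization.Away (h * g.1)) Γ(S, S.basicOpen (h * g.1))
    let eB := IsLocalization.algEquiv (Submonoid.powers (φ (h * g.1)))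
      (Localization.Away (algebraMap Γ(S, V) Γ(X, W) (h * g.1))) Γ(X, X.basicOpen (φ (h * g.1)))
    have heq : Localization.awayMap (algebraMap Γ(S, V) Γ(X, W)) (h * g.1) =
        (eB.symm : _ →+* _).comp (ψ.hom.comp (eA : _ →+* _)) := by
      refine IsLocalization.ringHom_ext (Submonoid.powers (h * g.1)) ?_
      ext a
      have e1 : ψ.hom (algebraMap Γ(S, V) Γ(S, S.basicOpen (h * g.1)) a) =
          algebraMap Γ(X, W) Γ(X, X.basicOpen (φ (h * g.1))) (φ a) := by
        simp [ψ, φ, W₀, RingHom.algebraMap_toAlgebra, ← CommRingCat.comp_apply,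
          Scheme.Hom.appLE_map, Scheme.Hom.map_appLE]
      have e2 : eA (algebraMap _ _ a) = algebraMap _ _ a := eA.commutes a
      have e3 : eB.symm (algebraMap _ _ (φ a)) = algebraMap _ _ (φ a) := eB.symm.commutes _
      simp only [RingHom.comp_apply, RingHom.coe_coe, e2, e1, e3]
      exact (IsLocalization.map_eq _ a).trans e3.symm
    rw [heq]
    refine (RingHom.FinitePresentation.of_bijective ?_).comp
      (hψ.comp (RingHom.FinitePresentation.of_bijective ?_))
    · exact eB.symm.bijective
    · exact eA.bijective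
  obtain ⟨t, htq, hsur, hker⟩ := exists_away q (G.image Subtype.val) hinj hfp
  let W₁ := X.basicOpen (φ t)
  have hW₁ : W₁ ≤ f ⁻¹ᵁ S.basicOpen t := by
    rw [Scheme.preimage_basicOpen]
    simp [W₁, φ, Scheme.Hom.appLE, Scheme.basicOpen_res]
  have hxW₁ : x ∈ W₁ := by
    have : hW.primeIdealOf ⟨x, hxW⟩ ∈ PrimeSpectrum.basicOpen (φ t) := htq
    rw [← hW.fromSpec_preimage_basicOpen (φ t)] at this
    change hW.fromSpec (hW.primeIdealOf ⟨x, hxW⟩) ∈ W₁ at this
    rwa [IsAffineOpen.fromSpec_primeIdealOf] at this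
  refine ⟨W₁, hxW₁, ?_⟩
  let ψ := f.appLE (S.basicOpen t) W₁ hW₁
  have := hV.isLocalization_basicOpen t
  have := hW.isLocalization_basicOpen (φ t)
  have e1 : ∀ a, ψ (algebraMap Γ(S, V) Γ(S, S.basicOpen t) a) =
      algebraMap Γ(X, W) Γ(X, X.basicOpen (φ t)) (φ a) := fun a => by
    simp [ψ, φ, W₁, RingHom.algebraMap_toAlgebra, ← CommRingCat.comp_apply,
      Scheme.Hom.appLE_map, Scheme.Hom.map_appLE]
  have hbij : Function.Bijective ψ :=
    ⟨injective_away φ.hom t ψ.hom e1 hker, surjective_away φ.hom t ψ.hom e1 hsur⟩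
  have : IsIso ψ := (ConcreteCategory.isIso_iff_bijective ψ).mpr hbij
  have key := (hV.basicOpen t).SpecMap_appLE_fromSpec f (hW.basicOpen (φ t)) hW₁
  have : IsOpenImmersion ((hW.basicOpen (φ t)).isoSpec.inv ≫ W₁.ι ≫ f) := by
    rw [← Category.assoc]
    change IsOpenImmersion ((hW.basicOpen (φ t)).fromSpec ≫ f)
    rw [← key]
    infer_instance
  exact (MorphismProperty.cancel_left_of_respectsIso @IsOpenImmersion
    (hW.basicOpen (φ t)).isoSpec.inv _).mp this

end Groth.Agent.H7Flat.OpenImmDense
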