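import Groth.Agent.H17.UnivHomeoAlg
import Groth.Agent.S14254
import Mathlib.FieldTheory.PerfectClosure
import Mathlib.FieldTheory.IsPerfectClosure
import Mathlib.NumberTheory.Basic

/-!
# Universal homeomorphisms which are isomorphisms away from a prime
-/

set_option autoImplicit false

universe u

open AlgebraicGeometry CategoryTheory

namespace Groth.Agent.H7Flat.PPower

variable {A B : Type u} [CommRing A] [CommRing B] [Algebra A B] {p : ℕ} (hp : p.Prime)

/-- An element of a subring whose difference from an element of the base is divisible by `p`. -/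
theorem exists_pow_mem_range [Algebra.IsIntegral A B]
    (htor : ∀ b : B, ∃ n : ℕ, (p ^ n : B) * b ∈ (algebraMap A B).range)
    {b c : B} {a : A} (h : b - algebraMap A B a = (p : B) * c) :
    ∃ k : ℕ, b ^ p ^ k ∈ (algebraMap A B).range := by
  classical
  let R' := Algebra.adjoin A ({b, c} : Set B)
  have hfg : R'.toSubmodule.FG :=
    fg_adjoin_of_finite (Set.toFinite _) fun x _ ↦ Algebra.IsIntegral.isIntegral x
  obtain ⟨s, hs⟩ := hfg
  choose N hN using htor
  let M := s.sup N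
  have hM : ∀ z ∈ R', (p ^ M : B) * z ∈ (algebraMap A B).range := by
    intro z hz
    have hs' : ∀ x ∈ Submodule.span A (s : Set B), x ∈ R' := fun x hx ↦ by
      rw [← Subalgebra.mem_toSubmodule, ← hs]; exact hx
    have hz' : z ∈ Submodule.span A (s : Set B) := by rw [hs]; exact hz
    induction hz' using Submodule.span_induction with
    | mem x hx =>
      obtain ⟨a, ha⟩ := hN x
      refine ⟨p ^ (M - N x) * a, ?_⟩
      rw [map_mul, ha, map_pow, map_natCast, ← mul_assoc, ← pow_add,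
        Nat.sub_add_cancel (Finset.le_sup hx)]
    | zero => exact ⟨0, by simp⟩
    | add x y hx hy ihx ihy =>
      rw [mul_add]
      exact add_mem (ihx (hs' _ hx)) (ihy (hs' _ hy))
    | smul r x hx ih =>
      obtain ⟨a, ha⟩ := ih (hs' _ hx)
      exact ⟨r * a, by rw [map_mul, ha, Algebra.smul_def]; ring⟩
  let b' : R' := ⟨b, Algebra.subset_adjoin (by simp)⟩
  let c' : R' := ⟨c, Algebra.subset_adjoin (by simp)⟩
  obtain ⟨d, hd⟩ := dvd_sub_pow_of_dvd_sub (p := p) (a := b') (b := algebraMap A R' a)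
    ⟨c', Subtype.ext (by simpa [b', c'] using h)⟩ M
  refine ⟨M, ?_⟩
  have hd' : b ^ p ^ M - algebraMap A B a ^ p ^ M = (p : B) ^ (M + 1) * (d : B) := by
    simpa [b'] using congr((($hd : R') : B))
  rw [sub_eq_iff_eq_add] at hd'
  rw [hd']
  refine add_mem ?_ (pow_mem (show algebraMap A B a ∈ (algebraMap A B).range from ⟨a, rfl⟩) _)
  rw [pow_succ', mul_assoc]
  exact mul_mem (natCast_mem _ _) (hM d d.2)

/-- In characteristic `p` the image of a universal homeomorphism contains `p`-powers. -/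
theorem exists_pow_sub_mem (hU : FlatMor.IsUnivHomeo (Spec.map (CommRingCat.ofHom (algebraMap A B))))
    (hp : p.Prime) (b : B) :
    ∃ (m : ℕ) (a : A) (c : B), b ^ p ^ m - algebraMap A B a = (p : B) * c := by
  by_cases hB : IsUnit (p : B)
  · exact ⟨0, 0, hB.unit⁻¹ * b, by simp [← mul_assoc]⟩
  obtain ⟨hint, hu, hl⟩ := (Groth.Agent.H17.UnivHomeoAlg.isUnivHomeo_iff (A := A) (B := B)).mp hU
  let I := Ideal.span {(p : A)}
  let J := Ideal.span {(p : B)}
  have hIJ : I ≤ J.comap (algebraMap A B) := by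
    rw [Ideal.span_le, Set.singleton_subset_iff, SetLike.mem_coe, Ideal.mem_comap, map_natCast]
    exact Ideal.mem_span_singleton_self _
  let φ : A ⧸ I →+* B ⧸ J := Ideal.quotientMap J (algebraMap A B) hIJ
  letI : Algebra (A ⧸ I) (B ⧸ J) := φ.toAlgebra
  have hsq : ∀ a : A, φ (Ideal.Quotient.mk I a) = Ideal.Quotient.mk J (algebraMap A B a) :=
    fun a ↦ Ideal.quotientMap_mk (H := hIJ)
  have : Algebra.IsIntegral (A ⧸ I) (B ⧸ J) := by
    refine ⟨fun x ↦ ?_⟩
    obtain ⟨x, rfl⟩ := Ideal.Quotient.mk_surjective x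
    obtain ⟨P, hP, hP0⟩ := Algebra.IsIntegral.isIntegral (R := A) x
    refine ⟨P.map (Ideal.Quotient.mk I), hP.map _, ?_⟩
    rw [Polynomial.eval₂_map, show (algebraMap (A ⧸ I) (B ⧸ J)).comp (Ideal.Quotient.mk I) =
      (Ideal.Quotient.mk J).comp (algebraMap A B) from RingHom.ext hsq, ← Polynomial.hom_eval₂,
      hP0, map_zero]
  have hU' : FlatMor.IsUnivHomeo (Spec.map (CommRingCat.ofHom φ)) := by
    refine (Groth.Agent.H17.UnivHomeoAlg.isUnivHomeo_iff (A := A ⧸ I) (B := B ⧸ J)).mpr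
      ⟨inferInstance, fun L _ ψ ψ' h ↦ Ideal.Quotient.ringHom_ext (hu L _ _ (RingHom.ext fun a ↦ ?_)),
        fun K _ _ φ₀ ↦ ?_⟩
    · simp only [RingHom.comp_apply]
      rw [← hsq]
      exact congr($h (Ideal.Quotient.mk I a))
    · obtain ⟨ψ, hψ⟩ := hl K (φ₀.comp (Ideal.Quotient.mk I))
      refine ⟨Ideal.Quotient.lift J ψ fun x hx ↦ ?_, Ideal.Quotient.ringHom_ext (RingHom.ext fun a ↦ ?_)⟩
      · obtain ⟨y, rfl⟩ := Ideal.mem_span_singleton'.mp hx
        have : ψ (p : B) = 0 := by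
          rw [← map_natCast (algebraMap A B) p, ← RingHom.comp_apply, hψ, RingHom.comp_apply,
            Ideal.Quotient.eq_zero_iff_mem.mpr (Ideal.mem_span_singleton_self _), map_zero]
        rw [map_mul, this, mul_zero]
      · simp only [RingHom.comp_apply]
        rw [RingHom.algebraMap_toAlgebra, hsq, Ideal.Quotient.lift_mk]
        exact congr($hψ a)
  have hA : ¬ IsUnit (p : A) := fun h ↦ hB (by simpa using h.map (algebraMap A B))
  have := Fact.mk hp
  have : CharP (A ⧸ I) p := CharP.quotient A p hA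
  have : CharP (B ⧸ J) p := CharP.quotient B p hB
  let φ' : PerfectClosure (A ⧸ I) p →+* PerfectClosure (B ⧸ J) p :=
    PerfectClosure.lift (A ⧸ I) p (PerfectClosure (B ⧸ J) p) ((PerfectClosure.of (B ⧸ J) p).comp φ)
  have hφ' : φ'.comp (PerfectClosure.of (A ⧸ I) p) = (PerfectClosure.of (B ⧸ J) p).comp φ :=
    (PerfectClosure.lift (A ⧸ I) p (PerfectClosure (B ⧸ J) p)).symm_apply_apply _
  have hbij := (Groth.Agent.S14254.result p φ (PerfectClosure.of (A ⧸ I) p)
    (PerfectClosure.of (B ⧸ J) p) φ' hφ').mp hU'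
  obtain ⟨a', ha'⟩ := hbij.2 (PerfectClosure.of (B ⧸ J) p (Ideal.Quotient.mk J b))
  obtain ⟨m, a₀, ha₀⟩ := IsPRadical.pow_mem (PerfectClosure.of (A ⧸ I) p) p a'
  have h1 : PerfectClosure.of (B ⧸ J) p (φ a₀) =
      PerfectClosure.of (B ⧸ J) p (Ideal.Quotient.mk J b ^ p ^ m) := by
    rw [map_pow, ← ha', ← map_pow, ← ha₀]
    exact congr($hφ' a₀).symm
  obtain ⟨a, rfl⟩ := Ideal.Quotient.mk_surjective a₀
  rw [← sub_eq_zero, ← map_sub, ← RingHom.mem_ker] at h1
  obtain ⟨r, hr⟩ := mem_pNilradical.mp (IsPRadical.ker_le (PerfectClosure.of (B ⧸ J) p) p h1)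
  have : ExpChar (B ⧸ J) p := .prime hp
  rw [sub_pow_expChar_pow, ← map_pow φ, ← pow_mul, ← pow_add, ← map_pow (Ideal.Quotient.mk J),
    ← map_pow (Ideal.Quotient.mk I), hsq, ← map_sub, Ideal.Quotient.eq_zero_iff_mem,
    Ideal.mem_span_singleton'] at hr
  obtain ⟨c, hc⟩ := hr
  refine ⟨m + r, a ^ p ^ r, -c, ?_⟩
  rw [mul_neg, mul_comm, hc]
  ring

include hp in
/-- The criterion. -/
theorem isUnivHomeo_iff_of_torsion
    (htor : ∀ b : B, ∃ n : ℕ, (p ^ n : B) * b ∈ (algebraMap A B).range) :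
    FlatMor.IsUnivHomeo (Spec.map (CommRingCat.ofHom (algebraMap A B))) ↔
      (∀ a ∈ RingHom.ker (algebraMap A B), IsNilpotent a) ∧
        ∀ b : B, ∃ n : ℕ, (p ^ n : B) * b ∈ (algebraMap A B).range ∧
          b ^ p ^ n ∈ (algebraMap A B).range := by
  constructor
  · intro hU
    have hU' := (Groth.Agent.H17.UnivHomeoAlg.isUnivHomeo_iff (A := A) (B := B)).mp hU
    have := hU'.1
    refine ⟨fun a ha ↦ ?_, fun b ↦ ?_⟩
    · rw [← mem_nilradical, nilradical_eq_sInf, Submodule.mem_sInf]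
      intro q hq
      obtain ⟨x, hx⟩ := ((Groth.Agent.H7Flat.isUnivHomeo_iff _).mp hU).2.2.surj (⟨q, hq⟩ : PrimeSpectrum A)
      have : x.asIdeal.comap (algebraMap A B) = q := congr(PrimeSpectrum.asIdeal $hx)
      rw [← this, Ideal.mem_comap, RingHom.mem_ker.mp ha]
      exact zero_mem _
    · obtain ⟨m, a, c, hc⟩ := exists_pow_sub_mem hU hp b
      obtain ⟨k, hk⟩ := exists_pow_mem_range htor hc
      obtain ⟨n, a', hn⟩ := htor b
      refine ⟨n + (m + k), ?_, ?_⟩
      · exact ⟨p ^ (m + k) * a', by rw [map_mul, hn, map_pow, map_natCast]; ring⟩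
      · rw [show p ^ (n + (m + k)) = p ^ m * p ^ k * p ^ n by ring, pow_mul, pow_mul]
        exact Subring.pow_mem _ hk _
  · rintro ⟨hker, h⟩
    have hpos : ∀ n, 0 < p ^ n := fun n ↦ pow_pos hp.pos n
    have : Algebra.IsIntegral A B := ⟨fun b ↦ by
      obtain ⟨n, -, a, ha⟩ := h b
      exact .of_pow (hpos n) (ha ▸ isIntegral_algebraMap)⟩
    refine (Groth.Agent.H17.UnivHomeoAlg.isUnivHomeo_iff (A := A) (B := B)).mpr
      ⟨inferInstance, fun L _ ψ ψ' hψ ↦ RingHom.ext fun b ↦ ?_,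
        Groth.Agent.H17.UnivHomeoAlg.lf_of_integral fun a ha ↦ hker a (RingHom.mem_ker.mpr ha)⟩
    obtain ⟨n, ⟨a₁, h₁⟩, a₂, h₂⟩ := h b
    have e₁ := congr($hψ a₁)
    have e₂ := congr($hψ a₂)
    rw [RingHom.comp_apply, RingHom.comp_apply, h₁, map_mul, map_mul, map_pow, map_pow, map_natCast,
      map_natCast] at e₁
    rw [RingHom.comp_apply, RingHom.comp_apply, h₂, map_pow, map_pow] at e₂
    by_cases hK : (p : L) = 0
    · have : CharP L p := CharP.charP_iff_prime_eq_zero hp |>.mpr hK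
      have : Fact p.Prime := ⟨hp⟩
      exact iterateFrobenius_inj L p n (by simpa [iterateFrobenius_def] using e₂)
    · exact mul_left_cancel₀ (pow_ne_zero _ hK) e₁

end Groth.Agent.H7Flat.PPower
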