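import Groth.Agent.H7Flat.Chain.PureOpen
import Groth.Agent.H8Props.FlatAtBaseChange
import Mathlib

/-!
# Purity and base change: a criterion over an arbitrary base

For a cover `(A₁, S₁)` of the fibre with projective module, purity along a prime of a base change
`H` is decided by a locus `Good` of primes of `A₁`.
-/

set_option autoImplicit false
set_option linter.style.haveILetI false
set_option backward.isDefEq.respectTransparency false
set_option maxHeartbeats 1600000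
set_option synthInstance.maxHeartbeats 400000

universe u

open TensorProduct Topology PrimeSpectrum Groth.Agent.H7Flat.ElemDev Groth.Agent.H8Props.Devissage

attribute [local instance] Algebra.TensorProduct.rightAlgebra

namespace Groth.Agent.H7Flat.PureDescend

open Groth.Agent.H7Flat.Chain

section Cover

variable {A₀ B₀ : Type u} [CommRing A₀] [CommRing B₀] [Algebra A₀ B₀]
  (N₀ : Type u) [AddCommGroup N₀] [Module B₀ N₀]
  (A₁ S₁ : Type u) [CommRing A₁] [CommRing S₁] [Algebra A₀ A₁] [Algebra B₀ S₁] [Algebra A₁ S₁]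
  [Algebra A₀ S₁] [IsScalarTower A₀ A₁ S₁] [IsScalarTower A₀ B₀ S₁]

/-- The comparison map `B₀ ⊗ A₁ → S₁`. -/
noncomputable def coverHom : B₀ ⊗[A₀] A₁ →ₐ[B₀] S₁ :=
  Algebra.TensorProduct.lift (Algebra.ofId B₀ S₁) (IsScalarTower.toAlgHom A₀ A₁ S₁) fun _ _ =>
    Commute.all _ _

/-- The primes of `A₁` over which every relative associated point lifts to the cover. -/
def Good (t : PrimeSpectrum A₁) : Prop :=
  ∀ (Q : Ideal (B₀ ⊗[A₀] A₁)) [Q.IsPrime], Q.LiesOver t.asIdeal →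
    FlatCA.fiberIdeal t.asIdeal Q ∈ associatedPrimes (t.asIdeal.Fiber (B₀ ⊗[A₀] A₁))
      (FlatCA.fiberMod t.asIdeal (B₀ ⊗[A₀] A₁) ((B₀ ⊗[A₀] A₁) ⊗[B₀] N₀)) →
    ∃ Q' : Ideal S₁, Q'.IsPrime ∧ Q'.comap (coverHom A₁ S₁).toRingHom = Q

theorem coverHom_tmul (b : B₀) (a : A₁) :
    coverHom (A₀ := A₀) (B₀ := B₀) A₁ S₁ (b ⊗ₜ a) = algebraMap B₀ S₁ b * algebraMap A₁ S₁ a := by
  simp only [coverHom, Algebra.TensorProduct.lift_tmul]
  rfl

variable [Algebra.FinitePresentation A₀ B₀] [Algebra.Etale A₀ A₁] [Algebra.Etale B₀ S₁]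

/-- The image of the cover is cut out by finitely many equations. -/
theorem exists_gens : ∃ (k : ℕ) (g : Fin k → B₀ ⊗[A₀] A₁), ∀ (Q : Ideal (B₀ ⊗[A₀] A₁)) [Q.IsPrime],
    (∃ Q' : Ideal S₁, Q'.IsPrime ∧ Q'.comap (coverHom A₁ S₁).toRingHom = Q) ↔ ∃ i, g i ∉ Q := by
  let BA := B₀ ⊗[A₀] A₁
  letI : Algebra BA S₁ := (coverHom A₁ S₁).toRingHom.toAlgebra
  haveI : IsScalarTower B₀ BA S₁ :=
    IsScalarTower.of_algebraMap_eq (R := B₀) (S := BA) (A := S₁) fun b => ((coverHom A₁ S₁).commutes b).symm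
  haveI : Algebra.Etale BA S₁ := Algebra.Etale.of_restrictScalars B₀ BA S₁
  let W := Set.range (PrimeSpectrum.comap (algebraMap BA S₁))
  have hWo : IsOpen W := by
    rw [show W = PrimeSpectrum.comap (algebraMap BA S₁) '' Set.univ from Set.image_univ.symm]
    exact PrimeSpectrum.isOpenMap_comap_of_hasGoingDown_of_finitePresentation _ isOpen_univ
  have hWc : IsCompact W := isCompact_range (PrimeSpectrum.continuous_comap _)
  obtain ⟨T, hT⟩ := PrimeSpectrum.isCompact_isOpen_iff.mp ⟨hWc, hWo⟩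
  let g : Fin T.card → BA := fun i => T.equivFin.symm i
  refine ⟨T.card, g, fun Q _ => ?_⟩
  have h1 : (⟨Q, inferInstance⟩ : PrimeSpectrum BA) ∈ W ↔ ∃ i, g i ∉ Q := by
    rw [← hT, Set.mem_compl_iff, PrimeSpectrum.mem_zeroLocus, Set.not_subset]
    exact ⟨fun ⟨x, hx, hxQ⟩ => ⟨T.equivFin ⟨x, hx⟩, by simpa [g] using hxQ⟩,
      fun ⟨i, hi⟩ => ⟨g i, (T.equivFin.symm i).2, hi⟩⟩
  refine Iff.trans ?_ h1
  exact ⟨fun ⟨Q', h, h'⟩ => ⟨⟨Q', h⟩, PrimeSpectrum.ext h'⟩,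
    fun ⟨Q', h'⟩ => ⟨Q'.asIdeal, Q'.isPrime, congrArg PrimeSpectrum.asIdeal h'⟩⟩

theorem finitePresentation_tensor : Algebra.FinitePresentation A₁ (B₀ ⊗[A₀] A₁) :=
  haveI : Algebra.IsPushout A₀ A₁ B₀ (B₀ ⊗[A₀] A₁) := Algebra.IsPushout.symm inferInstance
  Algebra.FinitePresentation.equiv (Algebra.IsPushout.equiv A₀ A₁ B₀ (B₀ ⊗[A₀] A₁))

/-- The good locus is constructible. -/
theorem isConstructible_good [Module.FinitePresentation B₀ N₀] :
    IsConstructible {t : PrimeSpectrum A₁ | Good (A₀ := A₀) (B₀ := B₀) N₀ A₁ S₁ t} := by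
  obtain ⟨k, g, hg⟩ := exists_gens (A₀ := A₀) (B₀ := B₀) A₁ S₁
  let BA := B₀ ⊗[A₀] A₁
  let NA := BA ⊗[B₀] N₀
  haveI := finitePresentation_tensor (A₀ := A₀) (B₀ := B₀) A₁
  convert isConstructible_jointInjLocus (A := A₁) (B := BA) NA g using 1
  ext t
  exact ((mem_jointInjLocus_lsmul_iff NA g t).trans (forall_congr' fun Q => forall_congr' fun hQ =>
    forall_congr' fun _ => forall_congr' fun _ => (@hg Q hQ).symm)).symm

omit [Algebra A₁ S₁] [Algebra A₀ A₁] in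
/-- Base change of a module which is projective over a subring. -/
theorem projective_baseChange {BH SH NH AH : Type u} [CommRing BH] [CommRing SH] [CommRing AH]
    [Algebra B₀ BH] [Algebra BH SH] [Algebra S₁ SH] [Algebra B₀ SH] [IsScalarTower B₀ BH SH]
    [IsScalarTower B₀ S₁ SH] [Algebra A₁ S₁] [Algebra A₁ AH] [Algebra AH SH] [Algebra A₁ SH]
    [IsScalarTower A₁ AH SH] [IsScalarTower A₁ S₁ SH] [Algebra.IsPushout A₁ S₁ AH SH]
    [AddCommGroup NH] [Module BH NH] [Module B₀ NH] [IsScalarTower B₀ BH NH]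
    (f : N₀ →ₗ[B₀] NH) (hf : IsBaseChange BH f)
    [Module.Projective A₁ (S₁ ⊗[B₀] N₀)] : Module.Projective AH (SH ⊗[BH] NH) := by
  let N' := SH ⊗[BH] NH
  let f' : NH →ₗ[BH] N' := TensorProduct.mk BH SH NH 1
  have hf' : IsBaseChange SH f' := TensorProduct.isBaseChange BH NH SH
  let mk₁ : N₀ →ₗ[B₀] S₁ ⊗[B₀] N₀ := TensorProduct.mk B₀ S₁ N₀ 1
  have hmk₁ : IsBaseChange S₁ mk₁ := TensorProduct.isBaseChange B₀ N₀ S₁
  haveI : IsScalarTower B₀ BH N' := IsScalarTower.of_algebraMap_smul fun b (x : N') => by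
    rw [← algebraMap_smul SH (algebraMap B₀ BH b) x, ← IsScalarTower.algebraMap_apply, algebraMap_smul]
  haveI : IsScalarTower B₀ S₁ N' := IsScalarTower.of_algebraMap_smul fun b (x : N') => by
    rw [← algebraMap_smul SH (algebraMap B₀ S₁ b) x, ← IsScalarTower.algebraMap_apply, algebraMap_smul]
  haveI : IsScalarTower A₁ S₁ N' := IsScalarTower.of_algebraMap_smul fun a (x : N') => by
    rw [← algebraMap_smul SH (algebraMap A₁ S₁ a) x, ← IsScalarTower.algebraMap_apply, algebraMap_smul]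
  haveI : IsScalarTower A₁ AH N' := IsScalarTower.of_algebraMap_smul fun a (x : N') => by
    rw [← algebraMap_smul SH (algebraMap A₁ AH a) x, ← IsScalarTower.algebraMap_apply, algebraMap_smul]
  let d : S₁ ⊗[B₀] N₀ →ₗ[S₁] N' := hmk₁.lift ((f'.restrictScalars B₀).comp f)
  have hd : IsBaseChange SH d := by
    refine IsBaseChange.of_comp hmk₁ ?_
    rw [show d.restrictScalars B₀ ∘ₗ mk₁ = (f'.restrictScalars B₀).comp f from hmk₁.lift_comp _]
    exact IsBaseChange.comp hf hf'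
  exact Module.Projective.of_equiv (H8Props.FlatAtBC.isBaseChange_restrictScalars (R := A₁) d hd).equiv

end Cover

section Lift

variable {A₁ BA₀ S₁ NA₀ AH BAH SH NAH : Type u} [CommRing A₁] [CommRing BA₀] [CommRing S₁]
  [CommRing AH] [CommRing BAH] [CommRing SH] [Algebra A₁ BA₀] [Algebra BA₀ S₁] [Algebra A₁ AH]
  [Algebra BA₀ BAH] [Algebra AH BAH] [Algebra A₁ BAH] [IsScalarTower A₁ BA₀ BAH]
  [IsScalarTower A₁ AH BAH] [Algebra BAH SH] [Algebra S₁ SH] [Algebra BA₀ SH]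
  [IsScalarTower BA₀ BAH SH] [IsScalarTower BA₀ S₁ SH] [Algebra.IsPushout BA₀ S₁ BAH SH]
  [Algebra.FiniteType A₁ BA₀] [Algebra.FiniteType AH BAH]
  [AddCommGroup NA₀] [Module BA₀ NA₀] [Module A₁ NA₀] [IsScalarTower A₁ BA₀ NA₀] [Module.Finite BA₀ NA₀]
  [AddCommGroup NAH] [Module BAH NAH] [Module BA₀ NAH] [IsScalarTower BA₀ BAH NAH] [Module AH NAH]
  [IsScalarTower AH BAH NAH] [Module.Finite BAH NAH] [Algebra.IsPushout A₁ BA₀ AH BAH]

/-- Lifting of relative associated points to an open subset is compatible with base change. -/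
theorem lift_iff_baseChange (c : NA₀ →ₗ[BA₀] NAH) (hc : IsBaseChange BAH c) {k : ℕ} (g : Fin k → BA₀)
    (hg : ∀ (Q : Ideal BA₀) [Q.IsPrime],
      (∃ Q' : Ideal S₁, Q'.IsPrime ∧ Q'.comap (algebraMap BA₀ S₁) = Q) ↔ ∃ i, g i ∉ Q)
    (t : PrimeSpectrum AH) :
    (∀ (Q : Ideal BA₀) [Q.IsPrime], Q.LiesOver (PrimeSpectrum.comap (algebraMap A₁ AH) t).asIdeal →
      FlatCA.fiberIdeal (PrimeSpectrum.comap (algebraMap A₁ AH) t).asIdeal Q ∈
        associatedPrimes ((PrimeSpectrum.comap (algebraMap A₁ AH) t).asIdeal.Fiber BA₀)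
          (FlatCA.fiberMod (PrimeSpectrum.comap (algebraMap A₁ AH) t).asIdeal BA₀ NA₀) →
      ∃ Q' : Ideal S₁, Q'.IsPrime ∧ Q'.comap (algebraMap BA₀ S₁) = Q) ↔
    ∀ (Q : Ideal BAH) [Q.IsPrime], Q.LiesOver t.asIdeal →
      FlatCA.fiberIdeal t.asIdeal Q ∈
        associatedPrimes (t.asIdeal.Fiber BAH) (FlatCA.fiberMod t.asIdeal BAH NAH) →
      ∃ Q' : Ideal SH, Q'.IsPrime ∧ Q'.comap (algebraMap BAH SH) = Q := by
  letI : Module A₁ NAH := Module.compHom NAH (algebraMap A₁ BAH)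
  haveI : IsScalarTower A₁ BAH NAH := IsScalarTower.of_algebraMap_smul fun _ _ => rfl
  haveI : IsScalarTower A₁ BA₀ NAH := IsScalarTower.of_algebraMap_smul fun a (x : NAH) => by
    rw [← algebraMap_smul BAH (algebraMap A₁ BA₀ a) x, ← IsScalarTower.algebraMap_apply, algebraMap_smul]
  haveI : IsScalarTower A₁ AH NAH := IsScalarTower.of_algebraMap_smul fun a (x : NAH) => by
    rw [← algebraMap_smul BAH (algebraMap A₁ AH a) x, ← IsScalarTower.algebraMap_apply, algebraMap_smul]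
  have hcA : IsBaseChange AH (c.restrictScalars A₁) := H8Props.FlatAtBC.isBaseChange_restrictScalars c hc
  let gH : Fin k → BAH := fun i => algebraMap BA₀ BAH (g i)
  let t₁ := PrimeSpectrum.comap (algebraMap A₁ AH) t
  refine ((mem_jointInjLocus_lsmul_iff NA₀ g t₁).trans (forall_congr' fun Q => forall_congr' fun hQ =>
    forall_congr' fun _ => forall_congr' fun _ => (@hg Q hQ).symm)).symm.trans ?_
  refine (mem_jointInjLocus_iff (R := A₁) (A := AH)
    (fun i => (LinearMap.lsmul BAH NAH (gH i)).restrictScalars AH)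
    (fun i => (LinearMap.lsmul BA₀ NA₀ (g i)).restrictScalars A₁) hcA (fun i x => by
      show algebraMap BA₀ BAH (g i) • c x = c (g i • x)
      rw [map_smul, algebraMap_smul]) t).symm.trans ?_
  refine (mem_jointInjLocus_lsmul_iff NAH gH t).trans (forall_congr' fun Q => forall_congr' fun hQ =>
    forall_congr' fun _ => forall_congr' fun _ => ?_)
  refine Iff.trans ?_ (Iff.trans (hg (Q.comap (algebraMap BA₀ BAH))).symm ?_)
  · exact exists_congr fun i => Iff.rfl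
  · constructor
    · rintro ⟨Q', hQ', hQ'Q⟩
      obtain ⟨X, hX, -, hX₂⟩ :=
        H8Props.FlatAtBC.exists_prime_over (R := BA₀) (S' := SH) Q' Q (hQ'Q.symm)
      exact ⟨X, hX, hX₂⟩
    · rintro ⟨X, hX, hXQ⟩
      refine ⟨X.comap (algebraMap S₁ SH), inferInstance, ?_⟩
      rw [← hXQ, Ideal.comap_comap, Ideal.comap_comap, ← IsScalarTower.algebraMap_eq,
        ← IsScalarTower.algebraMap_eq]

end Lift

section Cover2

variable {A₀ B₀ A₁ S₁ BA₀ H BH AH BAH SH : Type u} [CommRing A₀] [CommRing B₀] [CommRing A₁]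
  [CommRing S₁] [CommRing BA₀] [CommRing H] [CommRing BH] [CommRing AH] [CommRing BAH] [CommRing SH]
  [Algebra A₀ B₀] [Algebra A₀ A₁] [Algebra A₀ BA₀] [Algebra B₀ BA₀] [Algebra A₁ BA₀]
  [IsScalarTower A₀ B₀ BA₀] [IsScalarTower A₀ A₁ BA₀] [Algebra.IsPushout A₀ B₀ A₁ BA₀]
  [Algebra B₀ S₁] [Algebra A₁ S₁] [Algebra BA₀ S₁] [IsScalarTower B₀ BA₀ S₁] [IsScalarTower A₁ BA₀ S₁]
  [Algebra A₀ H] [Algebra H BH] [Algebra B₀ BH] [Algebra A₀ BH] [IsScalarTower A₀ H BH]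
  [IsScalarTower A₀ B₀ BH] [Algebra H AH] [Algebra A₁ AH] [Algebra H BAH] [Algebra BH BAH]
  [Algebra AH BAH] [IsScalarTower H BH BAH] [IsScalarTower H AH BAH] [Algebra.IsPushout H BH AH BAH]
  [Algebra BA₀ BAH] [Algebra A₁ BAH] [Algebra B₀ BAH] [IsScalarTower A₁ BA₀ BAH]
  [IsScalarTower A₁ AH BAH] [IsScalarTower B₀ BA₀ BAH] [IsScalarTower B₀ BH BAH]
  [Algebra BAH SH] [Algebra S₁ SH] [Algebra BA₀ SH] [IsScalarTower BA₀ BAH SH]
  [IsScalarTower BA₀ S₁ SH] [Algebra.IsPushout BA₀ S₁ BAH SH]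
  [Algebra BH SH] [Algebra AH SH] [IsScalarTower BH BAH SH] [IsScalarTower AH BAH SH]

include BA₀ BAH in
/-- A cover of the fibre base changes to one. -/
theorem exists_cover_point (p₀ : Ideal A₀) (p₁ : Ideal A₁) [p₁.IsPrime]
    (hfs : FracSurj (algebraMap A₀ A₁) p₁)
    (hcov : ∀ (q : Ideal B₀) [q.IsPrime], q.LiesOver p₀ →
      ∃ q' : Ideal S₁, q'.IsPrime ∧ q'.comap (algebraMap B₀ S₁) = q ∧ q'.comap (algebraMap A₁ S₁) = p₁)
    (qH : Ideal H) (hqH : qH.comap (algebraMap A₀ H) = p₀) (qA : Ideal AH) [qA.IsPrime]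
    (hqA : qA.comap (algebraMap A₁ AH) = p₁) (hqA' : qA.comap (algebraMap H AH) = qH)
    (q : Ideal BH) [q.IsPrime] (hq : q.LiesOver qH) :
    ∃ q' : Ideal SH, q'.IsPrime ∧ q'.comap (algebraMap BH SH) = q ∧ q'.comap (algebraMap AH SH) = qA := by
  obtain ⟨Q, hQ, hQq, hQA⟩ := H8Props.FlatAtBC.exists_prime_over (R := H) (S' := BAH) q qA
    (hqA'.trans hq.over)
  let q₀ := q.comap (algebraMap B₀ BH)
  have hq₀ : q₀.LiesOver p₀ := ⟨by
    rw [Ideal.under_def, Ideal.comap_comap, ← IsScalarTower.algebraMap_eq,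
      IsScalarTower.algebraMap_eq A₀ H BH, ← Ideal.comap_comap]
    exact hqH.symm.trans (congrArg (Ideal.comap (algebraMap A₀ H)) hq.over)⟩
  obtain ⟨q₁, hq₁, hq₁q, hq₁p⟩ := hcov q₀ hq₀
  have hQ₁ : Q.comap (algebraMap A₁ BAH) = p₁ := by
    rw [IsScalarTower.algebraMap_eq A₁ AH BAH, ← Ideal.comap_comap, hQA, hqA]
  haveI : Algebra.IsPushout A₀ A₁ B₀ BA₀ := Algebra.IsPushout.symm inferInstance
  have heq : Q.comap (algebraMap BA₀ BAH) = q₁.comap (algebraMap BA₀ S₁) := by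
    refine eq_of_comap_eq (algebraMap A₀ A₁) (algebraMap A₀ B₀) (algebraMap A₁ BA₀)
      (algebraMap B₀ BA₀) (by rw [← IsScalarTower.algebraMap_eq, ← IsScalarTower.algebraMap_eq])
      (closure_range_pushout (A := A₀) (B := B₀) (A' := A₁) (B' := BA₀)) ?_ ?_ ?_
    · rw [Ideal.comap_comap, ← IsScalarTower.algebraMap_eq, hQ₁]
      exact hfs
    · rw [Ideal.comap_comap, ← IsScalarTower.algebraMap_eq, hq₁q, Ideal.comap_comap,
        ← IsScalarTower.algebraMap_eq, IsScalarTower.algebraMap_eq B₀ BH BAH, ← Ideal.comap_comap, hQq]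
    · rw [Ideal.comap_comap, ← IsScalarTower.algebraMap_eq, hq₁p, Ideal.comap_comap,
        ← IsScalarTower.algebraMap_eq, hQ₁]
  obtain ⟨X, hX, hX₁, hX₂⟩ := H8Props.FlatAtBC.exists_prime_over (R := BA₀) (S' := SH) q₁ Q heq
  refine ⟨X, hX, ?_, ?_⟩
  · rw [IsScalarTower.algebraMap_eq BH BAH SH, ← Ideal.comap_comap, hX₂, hQq]
  · rw [IsScalarTower.algebraMap_eq AH BAH SH, ← Ideal.comap_comap, hX₂, hQA]

end Cover2

section Core

variable {A₀ B₀ : Type u} [CommRing A₀] [CommRing B₀] [Algebra A₀ B₀] [Algebra.FinitePresentation A₀ B₀]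
  (N₀ : Type u) [AddCommGroup N₀] [Module B₀ N₀] [Module A₀ N₀] [IsScalarTower A₀ B₀ N₀]
  [Module.Finite B₀ N₀]
  (A₁ S₁ : Type u) [CommRing A₁] [CommRing S₁] [Algebra A₀ A₁] [Algebra B₀ S₁] [Algebra A₁ S₁]
  [Algebra A₀ S₁] [IsScalarTower A₀ A₁ S₁] [IsScalarTower A₀ B₀ S₁]
  [Algebra.Etale A₀ A₁] [Algebra.Etale B₀ S₁]
  {H BH AH BAH SH : Type u} [CommRing H] [CommRing BH] [CommRing AH] [CommRing BAH] [CommRing SH]
  [Algebra A₀ H] [Algebra B₀ BH] [Algebra H BH] [Algebra A₀ BH] [IsScalarTower A₀ B₀ BH]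
  [IsScalarTower A₀ H BH] [Algebra.IsPushout A₀ B₀ H BH]
  [Algebra H AH] [Algebra A₁ AH] [Algebra H BAH] [Algebra BH BAH]
  [Algebra AH BAH] [IsScalarTower H BH BAH] [IsScalarTower H AH BAH] [Algebra.IsPushout H BH AH BAH]
  [Algebra (B₀ ⊗[A₀] A₁) BAH] [Algebra A₁ BAH] [Algebra B₀ BAH]
  [IsScalarTower A₁ (B₀ ⊗[A₀] A₁) BAH] [IsScalarTower A₁ AH BAH]
  [IsScalarTower B₀ (B₀ ⊗[A₀] A₁) BAH] [IsScalarTower B₀ BH BAH]
  [Algebra.IsPushout A₁ (B₀ ⊗[A₀] A₁) AH BAH]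
  [Algebra (B₀ ⊗[A₀] A₁) S₁] [Algebra BAH SH] [Algebra S₁ SH] [Algebra (B₀ ⊗[A₀] A₁) SH]
  [IsScalarTower (B₀ ⊗[A₀] A₁) BAH SH] [IsScalarTower (B₀ ⊗[A₀] A₁) S₁ SH]
  [Algebra.IsPushout (B₀ ⊗[A₀] A₁) S₁ BAH SH]
  [Algebra BH SH] [Algebra AH SH] [IsScalarTower BH BAH SH] [IsScalarTower AH BAH SH]

include BAH SH in
/-- Purity along a prime of a base change, with the models of the base changed cover given. -/
theorem core (hψ : ∀ x, algebraMap (B₀ ⊗[A₀] A₁) S₁ x = coverHom A₁ S₁ x)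
    (p₀ : Ideal A₀) [p₀.IsPrime] (p₁ : Ideal A₁) [p₁.IsPrime] (hfs : FracSurj (algebraMap A₀ A₁) p₁)
    (hcov : ∀ (q : Ideal B₀) [q.IsPrime], q.LiesOver p₀ →
      ∃ q' : Ideal S₁, q'.IsPrime ∧ q'.comap (algebraMap B₀ S₁) = q ∧ q'.comap (algebraMap A₁ S₁) = p₁)
    (hflat : ∀ (q : Ideal B₀) [q.IsPrime], q.LiesOver p₀ → FlatCA.FlatAt A₀ q N₀)
    [Module.Projective A₁ (S₁ ⊗[B₀] N₀)]
    {NH : Type u} [AddCommGroup NH] [Module BH NH] [Module B₀ NH] [IsScalarTower B₀ BH NH]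
    [Module H NH] [IsScalarTower H BH NH]
    (f : N₀ →ₗ[B₀] NH) (hf : IsBaseChange BH f)
    (qH : Ideal H) [qH.IsPrime] (hqH : qH.comap (algebraMap A₀ H) = p₀)
    (qA : Ideal AH) [qA.IsPrime]
    (hqA : qA.comap (algebraMap A₁ AH) = p₁) (hqA' : qA.comap (algebraMap H AH) = qH)
    (hnhd : FlatCA.IsEtaleNhd H AH qH qA) :
    FlatCA.IsPureAlong H BH NH qH ↔
      ∀ t : PrimeSpectrum AH, t.asIdeal ≤ qA →
        Good (A₀ := A₀) (B₀ := B₀) N₀ A₁ S₁ (PrimeSpectrum.comap (algebraMap A₁ AH) t) := by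
  obtain ⟨k, g, hg⟩ := exists_gens (A₀ := A₀) (B₀ := B₀) A₁ S₁
  let BA₀ := B₀ ⊗[A₀] A₁
  have hψ' : (coverHom (A₀ := A₀) (B₀ := B₀) A₁ S₁).toRingHom = algebraMap BA₀ S₁ :=
    RingHom.ext fun x => (hψ x).symm
  haveI : IsScalarTower B₀ BA₀ S₁ :=
    IsScalarTower.of_algebraMap_eq (R := B₀) (S := BA₀) (A := S₁) fun b => by
      rw [hψ]; exact ((coverHom A₁ S₁).commutes b).symm
  haveI : IsScalarTower A₁ BA₀ S₁ :=
    IsScalarTower.of_algebraMap_eq (R := A₁) (S := BA₀) (A := S₁) fun a => by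
      rw [hψ]
      show algebraMap A₁ S₁ a = coverHom A₁ S₁ ((1 : B₀) ⊗ₜ[A₀] a)
      rw [coverHom_tmul, map_one, one_mul]
  haveI : Algebra.Etale BA₀ S₁ := Algebra.Etale.of_restrictScalars B₀ BA₀ S₁
  haveI : Algebra.Etale BAH SH :=
    haveI : Algebra.IsPushout BA₀ BAH S₁ SH := Algebra.IsPushout.symm inferInstance
    Algebra.Etale.of_equiv (Algebra.IsPushout.equiv BA₀ BAH S₁ SH)
  haveI : Algebra.Etale H AH := hnhd.1
  haveI : Algebra.Etale BH BAH :=
    Algebra.Etale.of_equiv (Algebra.IsPushout.equiv H BH AH BAH)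
  haveI : Algebra.Etale BH SH := Algebra.Etale.comp BH BAH SH
  haveI : Algebra.FinitePresentation H BH :=
    haveI : Algebra.IsPushout A₀ H B₀ BH := Algebra.IsPushout.symm inferInstance
    Algebra.FinitePresentation.equiv (Algebra.IsPushout.equiv A₀ H B₀ BH)
  haveI : Algebra.FiniteType AH BAH :=
    haveI : Algebra.IsPushout H AH BH BAH := Algebra.IsPushout.symm inferInstance
    haveI := Algebra.FinitePresentation.equiv (Algebra.IsPushout.equiv H AH BH BAH)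
    inferInstance
  haveI : Algebra.FiniteType BAH SH := inferInstance
  haveI : Algebra.FiniteType AH SH := Algebra.FiniteType.trans (S := BAH) inferInstance inferInstance
  haveI : Algebra.FiniteType A₁ BA₀ :=
    haveI := finitePresentation_tensor (A₀ := A₀) (B₀ := B₀) A₁
    inferInstance
  haveI : Module.Finite BH NH := Module.Finite.of_surjective hf.equiv.toLinearMap hf.equiv.surjective
  letI : Algebra H SH := ((algebraMap BH SH).comp (algebraMap H BH)).toAlgebra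
  haveI : IsScalarTower H BH SH := IsScalarTower.of_algebraMap_eq fun _ => rfl
  haveI : IsScalarTower H AH SH := IsScalarTower.of_algebraMap_eq fun h => by
    show algebraMap BH SH (algebraMap H BH h) = algebraMap AH SH (algebraMap H AH h)
    rw [IsScalarTower.algebraMap_apply BH BAH SH, IsScalarTower.algebraMap_apply AH BAH SH,
      ← IsScalarTower.algebraMap_apply H BH BAH, ← IsScalarTower.algebraMap_apply H AH BAH]
  letI : Algebra A₁ SH := ((algebraMap BAH SH).comp (algebraMap A₁ BAH)).toAlgebra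
  haveI : IsScalarTower A₁ BAH SH := IsScalarTower.of_algebraMap_eq fun _ => rfl
  haveI : IsScalarTower A₁ BA₀ SH := IsScalarTower.of_algebraMap_eq fun a => by
    show algebraMap BAH SH (algebraMap A₁ BAH a) = _
    rw [IsScalarTower.algebraMap_apply A₁ BA₀ BAH, ← IsScalarTower.algebraMap_apply BA₀ BAH SH]
  haveI : IsScalarTower A₁ AH SH := IsScalarTower.of_algebraMap_eq fun a => by
    show algebraMap BAH SH (algebraMap A₁ BAH a) = _
    rw [IsScalarTower.algebraMap_apply A₁ AH BAH, ← IsScalarTower.algebraMap_apply AH BAH SH]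
  haveI : IsScalarTower A₁ S₁ SH := IsScalarTower.of_algebraMap_eq fun a => by
    rw [IsScalarTower.algebraMap_apply A₁ BA₀ SH, IsScalarTower.algebraMap_apply A₁ BA₀ S₁,
      ← IsScalarTower.algebraMap_apply BA₀ S₁ SH]
  haveI hp6 : Algebra.IsPushout A₁ S₁ AH SH :=
    (Algebra.IsPushout.comp_iff A₁ BA₀ AH BAH (T := S₁) (T' := SH)).mpr inferInstance
  letI : Algebra B₀ SH := ((algebraMap BH SH).comp (algebraMap B₀ BH)).toAlgebra
  haveI : IsScalarTower B₀ BH SH := IsScalarTower.of_algebraMap_eq fun _ => rfl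
  haveI : IsScalarTower B₀ S₁ SH := IsScalarTower.of_algebraMap_eq fun b => by
    show algebraMap BH SH (algebraMap B₀ BH b) = algebraMap S₁ SH (algebraMap B₀ S₁ b)
    rw [IsScalarTower.algebraMap_apply BH BAH SH, ← IsScalarTower.algebraMap_apply B₀ BH BAH,
      IsScalarTower.algebraMap_apply B₀ BA₀ BAH, IsScalarTower.algebraMap_apply B₀ BA₀ S₁,
      ← IsScalarTower.algebraMap_apply BA₀ BAH SH, ← IsScalarTower.algebraMap_apply BA₀ S₁ SH]
  -- the modules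
  let N' := SH ⊗[BH] NH
  haveI : Module.Projective AH N' :=
    projective_baseChange (B₀ := B₀) N₀ A₁ S₁ (BH := BH) (SH := SH) (NH := NH) (AH := AH) f hf
  have hpure : FlatCA.IsPureAlong AH SH N' qA := by
    intro A'' B'' N'' _ _ _ _ _ _ _ _ _ _ _ _ _ _ f s' s _ _ P _ _
    exact ProjectivePure.isUnivPureAlong_of_projective N' qA A'' B'' N'' f s' s P
  letI : Module A₀ NH := Module.compHom NH (algebraMap A₀ BH)
  haveI : IsScalarTower A₀ BH NH := IsScalarTower.of_algebraMap_smul fun _ _ => rfl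
  haveI : IsScalarTower A₀ H NH := IsScalarTower.of_algebraMap_smul fun a (x : NH) => by
    rw [← algebraMap_smul BH (algebraMap A₀ H a) x, ← IsScalarTower.algebraMap_apply, algebraMap_smul]
  haveI : IsScalarTower A₀ B₀ NH := IsScalarTower.of_algebraMap_smul fun a (x : NH) => by
    rw [← algebraMap_smul BH (algebraMap A₀ B₀ a) x, ← IsScalarTower.algebraMap_apply, algebraMap_smul]
  have hflatH : ∀ (q : Ideal BH) [q.IsPrime], q.LiesOver qH → FlatCA.FlatAt H q NH := fun q _ hq => by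
    refine H8Props.FlatAtBC.flat_localizedModule_of_comap (R := A₀) (S := B₀) f hf q (hflat _ ⟨?_⟩)
    rw [Ideal.under_def, Ideal.comap_comap, ← IsScalarTower.algebraMap_eq,
      IsScalarTower.algebraMap_eq A₀ H BH, ← Ideal.comap_comap]
    exact hqH.symm.trans (congrArg (Ideal.comap (algebraMap A₀ H)) hq.over)
  let NA₀ := BA₀ ⊗[B₀] N₀
  let NAH := BAH ⊗[BH] NH
  let fAH : NH →ₗ[BH] NAH := TensorProduct.mk BH BAH NH 1
  have hfAH : IsBaseChange BAH fAH := TensorProduct.isBaseChange BH NH BAH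
  haveI : IsScalarTower B₀ BA₀ NAH := IsScalarTower.of_algebraMap_smul fun b (x : NAH) => by
    rw [← algebraMap_smul BAH (algebraMap B₀ BA₀ b) x, ← IsScalarTower.algebraMap_apply, algebraMap_smul]
  haveI : IsScalarTower B₀ BH NAH := IsScalarTower.of_algebraMap_smul fun b (x : NAH) => by
    rw [← algebraMap_smul BAH (algebraMap B₀ BH b) x, ← IsScalarTower.algebraMap_apply, algebraMap_smul]
  let mk₀ : N₀ →ₗ[B₀] NA₀ := TensorProduct.mk B₀ BA₀ N₀ 1
  have hmk₀ : IsBaseChange BA₀ mk₀ := TensorProduct.isBaseChange B₀ N₀ BA₀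
  let c : NA₀ →ₗ[BA₀] NAH := hmk₀.lift ((fAH.restrictScalars B₀).comp f)
  have hc : IsBaseChange BAH c := by
    refine IsBaseChange.of_comp hmk₀ ?_
    rw [show c.restrictScalars B₀ ∘ₗ mk₀ = (fAH.restrictScalars B₀).comp f from hmk₀.lift_comp _]
    exact IsBaseChange.comp hf hfAH
  have hgood : ∀ t : PrimeSpectrum AH,
      Good (A₀ := A₀) (B₀ := B₀) N₀ A₁ S₁ (PrimeSpectrum.comap (algebraMap A₁ AH) t) ↔
      ∀ (Q : Ideal BAH) [Q.IsPrime], Q.LiesOver t.asIdeal →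
        FlatCA.fiberIdeal t.asIdeal Q ∈
          associatedPrimes (t.asIdeal.Fiber BAH) (FlatCA.fiberMod t.asIdeal BAH NAH) →
        ∃ Q' : Ideal SH, Q'.IsPrime ∧ Q'.comap (algebraMap BAH SH) = Q := fun t => by
    unfold Good
    rw [hψ']
    exact lift_iff_baseChange (S₁ := S₁) c hc g (by rw [← hψ']; exact hg) t
  refine (Groth.Agent.S1255.result NH qH hflatH AH qA hnhd SH N' (TensorProduct.mk BH SH NH 1)
    (TensorProduct.isBaseChange BH NH SH) hpure
    (fun q _ hq _ => exists_cover_point (BA₀ := BA₀) (BAH := BAH) (SH := SH) p₀ p₁ hfs hcov qH hqH qA hqA hqA' q hq)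
    BAH NAH fAH hfAH).trans ?_
  exact ⟨fun h t ht => (hgood t).mpr fun Q _ hQ hass => h t.asIdeal ht Q hQ hass,
    fun h t _ ht Q _ hQ hass => (hgood ⟨t, ‹_›⟩).mp (h ⟨t, ‹_›⟩ ht) Q hQ hass⟩

end Core

section Main

variable {A₀ B₀ : Type u} [CommRing A₀] [CommRing B₀] [Algebra A₀ B₀]
  (N₀ : Type u) [AddCommGroup N₀] [Module B₀ N₀]
  (A₁ S₁ : Type u) [CommRing A₁] [CommRing S₁] [Algebra A₀ A₁] [Algebra B₀ S₁] [Algebra A₁ S₁]
  [Algebra A₀ S₁] [IsScalarTower A₀ A₁ S₁] [IsScalarTower A₀ B₀ S₁]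
  [Algebra.FinitePresentation A₀ B₀] [Algebra.Etale A₀ A₁] [Algebra.Etale B₀ S₁]

variable [Module A₀ N₀] [IsScalarTower A₀ B₀ N₀] [Module.Finite B₀ N₀]

/-- Purity along a prime of a base change is decided by the good locus. -/
theorem isPureAlong_iff_good (p₀ : Ideal A₀) [p₀.IsPrime] (p₁ : Ideal A₁) [p₁.IsPrime]
    (het : FlatCA.IsEtaleNhd A₀ A₁ p₀ p₁)
    (hcov : ∀ (q : Ideal B₀) [q.IsPrime], q.LiesOver p₀ →
      ∃ q' : Ideal S₁, q'.IsPrime ∧ q'.comap (algebraMap B₀ S₁) = q ∧ q'.comap (algebraMap A₁ S₁) = p₁)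
    (hflat : ∀ (q : Ideal B₀) [q.IsPrime], q.LiesOver p₀ → FlatCA.FlatAt A₀ q N₀)
    [Module.Projective A₁ (S₁ ⊗[B₀] N₀)]
    {H BH NH : Type u} [CommRing H] [CommRing BH] [Algebra A₀ H] [Algebra B₀ BH] [Algebra H BH]
    [Algebra A₀ BH] [IsScalarTower A₀ B₀ BH] [IsScalarTower A₀ H BH] [Algebra.IsPushout A₀ B₀ H BH]
    [AddCommGroup NH] [Module BH NH] [Module B₀ NH] [IsScalarTower B₀ BH NH] [Module H NH]
    [IsScalarTower H BH NH]
    (f : N₀ →ₗ[B₀] NH) (hf : IsBaseChange BH f)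
    (qH : Ideal H) [qH.IsPrime] (hqH : qH.comap (algebraMap A₀ H) = p₀)
    (qA : Ideal (A₁ ⊗[A₀] H)) [qA.IsPrime]
    (hqA : qA.comap (Algebra.TensorProduct.includeLeftRingHom : A₁ →+* A₁ ⊗[A₀] H) = p₁)
    (hqA' : qA.comap (algebraMap H (A₁ ⊗[A₀] H)) = qH) :
    FlatCA.IsPureAlong H BH NH qH ↔
      ∀ t : PrimeSpectrum (A₁ ⊗[A₀] H), t.asIdeal ≤ qA →
        Good (A₀ := A₀) (B₀ := B₀) N₀ A₁ S₁ (PrimeSpectrum.comap (algebraMap A₁ (A₁ ⊗[A₀] H)) t) := by
  let BA₀ := B₀ ⊗[A₀] A₁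
  let NA₀ := BA₀ ⊗[B₀] N₀
  let AH := A₁ ⊗[A₀] H
  have : Algebra.Etale H AH := etale_tensor
  letI : Algebra BA₀ S₁ := (coverHom A₁ S₁).toRingHom.toAlgebra
  have : IsScalarTower B₀ BA₀ S₁ :=
    IsScalarTower.of_algebraMap_eq (R := B₀) (S := BA₀) (A := S₁) fun b => ((coverHom A₁ S₁).commutes b).symm
  have : IsScalarTower A₁ BA₀ S₁ :=
    IsScalarTower.of_algebraMap_eq (R := A₁) (S := BA₀) (A := S₁) fun a => by
      show algebraMap A₁ S₁ a = coverHom A₁ S₁ ((1 : B₀) ⊗ₜ[A₀] a)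
      rw [coverHom_tmul, map_one, one_mul]
  have : Algebra.Etale BA₀ S₁ := Algebra.Etale.of_restrictScalars B₀ BA₀ S₁
  -- the base changed cover
  let BAH := BH ⊗[H] AH
  have : IsScalarTower A₀ AH BAH := IsScalarTower.of_algebraMap_eq fun a => by
    rw [IsScalarTower.algebraMap_apply A₀ H BAH, IsScalarTower.algebraMap_apply A₀ H AH,
      ← IsScalarTower.algebraMap_apply H AH BAH]
  letI : Algebra A₁ BAH := ((algebraMap AH BAH).comp (algebraMap A₁ AH)).toAlgebra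
  have : IsScalarTower A₁ AH BAH := IsScalarTower.of_algebraMap_eq fun _ => rfl
  have : IsScalarTower A₀ A₁ BAH := IsScalarTower.of_algebraMap_eq fun a => by
    rw [IsScalarTower.algebraMap_apply A₀ AH BAH, IsScalarTower.algebraMap_apply A₀ A₁ AH,
      ← IsScalarTower.algebraMap_apply A₁ AH BAH]
  have : IsScalarTower B₀ BH BAH := inferInstance
  have : IsScalarTower A₀ B₀ BAH := IsScalarTower.of_algebraMap_eq fun a => by
    exact ((IsScalarTower.algebraMap_apply A₀ BH BAH a).trans (congrArg (algebraMap BH BAH)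
      (IsScalarTower.algebraMap_apply A₀ B₀ BH a))).trans (IsScalarTower.algebraMap_apply B₀ BH BAH _).symm
  let ψ : BA₀ →ₐ[B₀] BAH := Algebra.TensorProduct.lift (Algebra.ofId B₀ BAH)
    (IsScalarTower.toAlgHom A₀ A₁ BAH) fun _ _ => Commute.all _ _
  letI : Algebra BA₀ BAH := ψ.toRingHom.toAlgebra
  have : IsScalarTower B₀ BA₀ BAH :=
    IsScalarTower.of_algebraMap_eq (R := B₀) (S := BA₀) (A := BAH) fun b => (ψ.commutes b).symm
  have : IsScalarTower A₁ BA₀ BAH :=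
    IsScalarTower.of_algebraMap_eq (R := A₁) (S := BA₀) (A := BAH) fun a => by
      show algebraMap A₁ BAH a = ψ ((1 : B₀) ⊗ₜ[A₀] a)
      refine ((Algebra.TensorProduct.lift_tmul _ _ _ (1 : B₀) a).trans ?_).symm
      rw [map_one, one_mul]
      rfl
  have hp1 : Algebra.IsPushout A₀ A₁ H AH := inferInstance
  have hp2 : Algebra.IsPushout H BH AH BAH := inferInstance
  have hp3 : Algebra.IsPushout A₀ B₀ AH BAH := by
    have : Algebra.IsPushout H AH BH BAH := hp2.symm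
    have : Algebra.IsPushout A₀ H B₀ BH := Algebra.IsPushout.symm ‹Algebra.IsPushout A₀ B₀ H BH›
    exact ((Algebra.IsPushout.comp_iff A₀ H B₀ BH (T := AH) (T' := BAH)).mpr inferInstance).symm
  have : IsScalarTower A₀ BA₀ BAH := IsScalarTower.of_algebraMap_eq fun a =>
    ((IsScalarTower.algebraMap_apply A₀ B₀ BAH a).trans (IsScalarTower.algebraMap_apply B₀ BA₀ BAH _)).trans
      (congrArg (algebraMap BA₀ BAH) (IsScalarTower.algebraMap_apply A₀ B₀ BA₀ a).symm)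
  have hp4 : Algebra.IsPushout A₁ BA₀ AH BAH := by
    have : Algebra.IsPushout A₀ A₁ B₀ BA₀ := Algebra.IsPushout.symm inferInstance
    have : Algebra.IsPushout A₀ AH B₀ BAH := hp3.symm
    exact ((Algebra.IsPushout.comp_iff A₀ A₁ B₀ BA₀ (T := AH) (T' := BAH)).mp inferInstance).symm
  let SH := BAH ⊗[BA₀] S₁
  obtain ⟨hp₁, hfs⟩ := isEtaleNhd_fracSurj het
  have hqfs : FracSurj (algebraMap A₀ A₁)
      (qA.comap (Algebra.TensorProduct.includeLeftRingHom : A₁ →+* A₁ ⊗[A₀] H)) := by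
    rw [hqA]; exact hfs
  have hnhd : FlatCA.IsEtaleNhd H AH qH qA :=
    isEtaleNhd_of_fracSurj hqA'.symm (fracSurj_tensor qA hqfs)
  exact core N₀ A₁ S₁ (BAH := BAH) (SH := SH) (fun _ => rfl) p₀ p₁ hfs hcov hflat f hf qH hqH qA hqA hqA' hnhd

end Main

end Groth.Agent.H7Flat.PureDescend
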