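import Groth.Agent.H8Props.ModuleModel.Alg

/-!
# Noetherian models with an algebraic pushout square
-/

set_option autoImplicit false
set_option linter.style.haveILetI false
universe u

open TensorProduct
open Groth.Agent.H13Flat

namespace Groth.Agent.H7Flat.PureDescend

/-- A finitely presented module over a finitely presented algebra comes from a Noetherian model. -/
theorem exists_model_pushout (A C : Type u) [CommRing A] [CommRing C] [Algebra A C]
    [Algebra.FinitePresentation A C] (M : Type u) [AddCommGroup M] [Module C M]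
    [Module.FinitePresentation C M] :
    ∃ (R₀ S₀ : Type u) (_ : CommRing R₀) (_ : CommRing S₀) (_ : Algebra R₀ S₀) (_ : Algebra R₀ A)
      (_ : Algebra S₀ C) (_ : Algebra R₀ C) (_ : IsScalarTower R₀ A C) (_ : IsScalarTower R₀ S₀ C)
      (M₀ : Type u) (_ : AddCommGroup M₀) (_ : Module S₀ M₀),
      Algebra.FinitePresentation ℤ R₀ ∧ Algebra.FinitePresentation R₀ S₀ ∧
      Module.FinitePresentation S₀ M₀ ∧
      Algebra.IsPushout R₀ S₀ A C ∧ Nonempty (C ⊗[S₀] M₀ ≃ₗ[C] M) := by
  classical
  obtain ⟨m, φ, hφ, ⟨G, hG⟩⟩ := Algebra.FinitePresentation.out (R := A) (A := C)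
  obtain ⟨r, n, π, g, hπ, hπg⟩ := Module.FinitePresentation.exists_fin' C M
  choose P hP using fun (i : Fin n) (j : Fin r) => hφ (g (Pi.single i 1) j)
  let T : Finset A := G.biUnion MvPolynomial.coeffs ∪
    Finset.univ.biUnion fun i => Finset.univ.biUnion fun j => (P i j).coeffs
  let R₀ := Algebra.adjoin ℤ (T : Set A)
  have hin : ∀ {d : ℕ} (p : MvPolynomial (Fin d) A), p.coeffs ⊆ T → p ∈ Set.range (incl R₀) :=
    fun p hp => MvPolynomial.mem_range_map_iff_coeffs_subset.2 fun a ha =>
      ⟨⟨a, Algebra.subset_adjoin (Finset.mem_coe.2 (hp ha))⟩, rfl⟩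
  have hGR : (G : Set (MvPolynomial (Fin m) A)) ⊆ Set.range (incl R₀) := fun p hp =>
    hin p fun a ha => Finset.mem_union_left _ (Finset.mem_biUnion.2 ⟨p, hp, ha⟩)
  choose P₀ hP₀ using fun i j => hin (P i j) fun a ha => Finset.mem_union_right _
    (Finset.mem_biUnion.2 ⟨i, Finset.mem_univ i, Finset.mem_biUnion.2 ⟨j, Finset.mem_univ j, ha⟩⟩)
  let N := stageIdeal (G : Set (MvPolynomial (Fin m) A)) R₀
  let S₀ := MvPolynomial (Fin m) R₀ ⧸ N
  let u : S₀ →+* C := Ideal.Quotient.lift N (φ.toRingHom.comp (incl R₀)) fun p hp => by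
    refine (Ideal.span_le (I := RingHom.ker (φ.toRingHom.comp (incl R₀)))).mpr ?_ hp
    intro q hq
    exact hG.le (Ideal.subset_span hq)
  letI : Algebra S₀ C := u.toAlgebra
  haveI : IsScalarTower R₀ S₀ C := IsScalarTower.of_algebraMap_eq (R := R₀) (S := S₀) (A := C) fun a => by
    show algebraMap A C (a : A) = φ (incl R₀ (MvPolynomial.C a))
    rw [show incl R₀ (MvPolynomial.C a) = MvPolynomial.C (a : A) from MvPolynomial.map_C _ a]
    exact (φ.commutes _).symm
  have hN : Ideal.span (G : Set (MvPolynomial (Fin m) A)) ≤ N.map (incl R₀) := by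
    rw [Ideal.span_le]
    intro p hp
    obtain ⟨q, rfl⟩ := hGR hp
    exact Ideal.mem_map_of_mem _ (Ideal.subset_span hp)
  haveI : Algebra.IsPushout R₀ A S₀ C :=
    H8Props.FibreCriterion.isPushout_model φ hφ N (hG.ge.trans hN) fun _ => rfl
  let v : Fin r → M := fun j => π (Pi.single j 1)
  have hv : ∀ x : Fin r → C, π x = ∑ j, x j • v j := fun x => by
    conv_lhs => rw [pi_eq_sum_univ' x, map_sum]
    simp only [map_smul, v]
  let c : Fin n → Fin r → S₀ := fun i j => Ideal.Quotient.mk N (P₀ i j)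
  have hc : ∀ i j, algebraMap S₀ C (c i j) = g (Pi.single i 1) j := fun i j => by
    rw [RingHom.algebraMap_toAlgebra]
    show u (Ideal.Quotient.mk N (P₀ i j)) = _
    simp only [u]
    show φ (incl R₀ (P₀ i j)) = _
    rw [hP₀]
    exact hP i j
  obtain ⟨e⟩ := H06EGA11.exists_linearEquiv_baseChange (P₀ := S₀) (S := C) v c
    (top_unique fun x _ => by
      obtain ⟨a, rfl⟩ := hπ x
      rw [hv]
      exact Submodule.sum_mem _ fun j _ => Submodule.smul_mem _ _ (Submodule.subset_span ⟨j, rfl⟩))
    (fun i => by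
      simp only [hc]
      rw [← hv]
      exact (hπg _).2 ⟨_, rfl⟩)
    (fun a ha => by
      rw [← hv] at ha
      obtain ⟨b, rfl⟩ := (hπg _).1 ha
      refine (Submodule.mem_span_range_iff_exists_fun _).2 ⟨b, funext fun j => ?_⟩
      conv_rhs => rw [pi_eq_sum_univ' b, map_sum]
      simp only [Finset.sum_apply, map_smul, Pi.smul_apply, hc])
  haveI : Algebra.FiniteType ℤ R₀ := R₀.fg_iff_finiteType.1 (Subalgebra.fg_adjoin_finset T)
  haveI : IsNoetherianRing R₀ := Algebra.FiniteType.isNoetherianRing ℤ R₀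
  haveI : IsNoetherianRing S₀ := Algebra.FiniteType.isNoetherianRing R₀ S₀
  exact ⟨R₀, S₀, inferInstance, inferInstance, inferInstance, inferInstance, inferInstance, inferInstance,
    inferInstance, inferInstance, (Fin r → S₀) ⧸ Submodule.span S₀ (Set.range c), inferInstance,
    inferInstance, Algebra.FinitePresentation.of_finiteType.1 inferInstance,
    Algebra.FinitePresentation.of_finiteType.1 inferInstance, Module.finitePresentation_of_finite _ _,
    Algebra.IsPushout.symm inferInstance, ⟨e⟩⟩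

end Groth.Agent.H7Flat.PureDescend
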