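import Groth.Agent.H7Flat.PureDescend
import Groth.Agent.H7Flat.ImpurityStage
import Groth.Agent.H8Props.FunDescent.TensorStage
import Groth.Agent.H7Flat.PushoutModel
import Groth.Agent.H06EGA11.Colimit

/-!
# Flatness and purity along a fibre descend to a stage of a directed colimit of rings
-/

set_option autoImplicit false
set_option linter.style.haveILetI false
set_option backward.isDefEq.respectTransparency false
set_option maxHeartbeats 1600000
set_option synthInstance.maxHeartbeats 400000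

universe u

open TensorProduct Topology PrimeSpectrum Groth.Agent.H7Flat.ElemDev Groth.Agent.H8Props.Devissage

attribute [local instance] Algebra.TensorProduct.rightAlgebra

namespace Groth.Agent.H7Flat.PureDescend

open Groth.Agent.H7Flat.Chain

/-- Localization at an element commutes with base change. -/
theorem exists_away_equiv {H B N A' B' N' : Type u} [CommRing H] [CommRing B] [Algebra H B]
    [AddCommGroup N] [Module B N] [Module H N] [IsScalarTower H B N] [CommRing A'] [CommRing B']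
    [Algebra H A'] [Algebra B B'] [Algebra A' B'] [Algebra H B'] [IsScalarTower H B B']
    [IsScalarTower H A' B'] [hpush : Algebra.IsPushout H B A' B'] [AddCommGroup N'] [Module B' N']
    [Module B N'] [IsScalarTower B B' N'] [Module A' N'] [IsScalarTower A' B' N']
    (f : N →ₗ[B] N') (hf : IsBaseChange B' f) (g : B) :
    Nonempty (A' ⊗[H] LocalizedModule (Submonoid.powers g) N ≃ₗ[A']
      LocalizedModule (Submonoid.powers (algebraMap B B' g)) N') := by
  let g' := algebraMap B B' g
  let Bg := Localization.Away g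
  let B₂ := Localization.Away g'
  let W := LocalizedModule (Submonoid.powers g) N
  let W' := LocalizedModule (Submonoid.powers g') N'
  letI : Algebra Bg B₂ := (IsLocalization.Away.map Bg B₂ (algebraMap B B') g).toAlgebra
  haveI : IsScalarTower B Bg B₂ := IsScalarTower.of_algebraMap_eq fun b => by
    rw [IsScalarTower.algebraMap_apply B B' B₂]
    refine ((IsLocalization.map_eq (M := Submonoid.powers g) (T := Submonoid.powers g') (S := Bg)
      (Q := B₂) (g := algebraMap B B') (Submonoid.powers_le.mpr ?_) b)).symm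
    exact Submonoid.mem_comap.mpr (Submonoid.mem_powers g')
  haveI : IsLocalization (Algebra.algebraMapSubmonoid B' (Submonoid.powers g)) B₂ := by
    rw [Algebra.algebraMapSubmonoid_powers]
    exact inferInstanceAs (IsLocalization.Away g' B₂)
  haveI hp₂ : Algebra.IsPushout B B' Bg B₂ := Algebra.isPushout_of_isLocalization (Submonoid.powers g) Bg B' B₂
  haveI : IsScalarTower H Bg B₂ := IsScalarTower.of_algebraMap_eq fun r => by
    rw [IsScalarTower.algebraMap_apply H B B₂, IsScalarTower.algebraMap_apply B Bg B₂,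
      ← IsScalarTower.algebraMap_apply H B Bg]
  haveI hp₃ : Algebra.IsPushout H Bg A' B₂ :=
    (Algebra.IsPushout.comp_iff H B A' B' (T := Bg) (T' := B₂)).mpr hp₂.symm
  letI : Module Bg W' := Module.compHom W' (algebraMap Bg B₂)
  haveI : IsScalarTower Bg B₂ W' := IsScalarTower.of_algebraMap_smul fun _ _ => rfl
  haveI : IsScalarTower B Bg W' := IsScalarTower.of_algebraMap_smul fun b w => by
    show algebraMap Bg B₂ (algebraMap B Bg b) • w = b • w
    rw [← IsScalarTower.algebraMap_apply, algebraMap_smul]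
  letI : Module H W' := Module.compHom W' (algebraMap H B₂)
  haveI : IsScalarTower H B₂ W' := IsScalarTower.of_algebraMap_smul fun _ _ => rfl
  haveI : IsScalarTower H Bg W' := IsScalarTower.of_algebraMap_smul fun (r : H) (w : W') => by
    show algebraMap Bg B₂ (algebraMap H Bg r) • w = r • w
    rw [← IsScalarTower.algebraMap_apply, algebraMap_smul]
  haveI : IsScalarTower H A' W' := IsScalarTower.of_algebraMap_smul fun (r : H) (w : W') => by
    rw [← algebraMap_smul B₂ (algebraMap H A' r) w, ← IsScalarTower.algebraMap_apply, algebraMap_smul]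
  let mk' := LocalizedModule.mkLinearMap (Submonoid.powers g') N'
  have h1 : IsBaseChange Bg (LocalizedModule.mkLinearMap (Submonoid.powers g) N) :=
    IsLocalizedModule.isBaseChange (Submonoid.powers g) Bg _
  have h2 : IsBaseChange B₂ ((mk'.restrictScalars B).comp f) :=
    IsBaseChange.comp hf (IsLocalizedModule.isBaseChange (Submonoid.powers g') B₂ mk')
  let φ : W →ₗ[Bg] W' := h1.lift ((mk'.restrictScalars B).comp f)
  have hφ : IsBaseChange B₂ φ := by
    refine IsBaseChange.of_comp h1 ?_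
    rw [show φ.restrictScalars B ∘ₗ (LocalizedModule.mkLinearMap (Submonoid.powers g) N) =
      (mk'.restrictScalars B).comp f from h1.lift_comp _]
    exact h2
  exact ⟨(H8Props.FlatAtBC.isBaseChange_restrictScalars (R := H) (R' := A') φ hφ).equiv⟩

/-- A module flat at every prime off `V(g)` is flat after inverting `g`. -/
theorem flat_away_of_flatAt {A B N : Type u} [CommRing A] [CommRing B] [Algebra A B] [AddCommGroup N]
    [Module B N] [Module A N] [IsScalarTower A B N] (g : B)
    (h : ∀ (Q : Ideal B) [Q.IsPrime], g ∉ Q → FlatCA.FlatAt A Q N) :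
    Module.Flat A (LocalizedModule (Submonoid.powers g) N) := by
  refine H06EGA11.flat_localizedModule _ fun J x hx => ?_
  have hrad : g ∈ (Submodule.span B {x}).annihilator.radical := by
    rw [Ideal.radical_eq_sInf, Ideal.mem_sInf]
    rintro Q ⟨hQ, hQp⟩
    by_contra hgQ
    haveI := hQp
    haveI : Module.Flat A (LocalizedModule Q.primeCompl N) := h Q hgQ
    obtain ⟨t, ht, htx⟩ :=
      H06EGA11.exists_smul_eq_zero_of_flat Q.primeCompl J.subtype Subtype.val_injective x hx
    exact ht (hQ ((Submodule.mem_annihilator_span_singleton x t).mpr htx))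
  obtain ⟨n, hn⟩ := hrad
  exact ⟨g ^ n, ⟨n, rfl⟩, (Submodule.mem_annihilator_span_singleton x _).mp hn⟩

/-- The models over intermediate rings. -/
theorem exists_model_at {R S A B G : Type u} [CommRing R] [CommRing S] [CommRing A] [CommRing B]
    [CommRing G] [Algebra R S] [Algebra R A] [Algebra S B] [Algebra R B] [Algebra A B]
    [IsScalarTower R A B] [IsScalarTower R S B] [Algebra.IsPushout R S A B]
    [Algebra.FinitePresentation R S] [Algebra R G] [Algebra G A] [IsScalarTower R G A]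
    {M N : Type u} [AddCommGroup M] [Module S M] [Module.FinitePresentation S M] [AddCommGroup N]
    [Module B N] (e : B ⊗[S] M ≃ₗ[B] N) :
    ∃ (BG NG : Type u) (_ : CommRing BG) (_ : Algebra G BG) (_ : Algebra BG B) (_ : Algebra G B)
      (_ : IsScalarTower G A B) (_ : IsScalarTower G BG B) (_ : AddCommGroup NG) (_ : Module BG NG)
      (_ : Module G NG) (_ : IsScalarTower G BG NG) (_ : Module BG N) (_ : IsScalarTower BG B N)
      (f : NG →ₗ[BG] N), Algebra.FinitePresentation G BG ∧ Algebra.IsPushout G BG A B ∧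
      Module.FinitePresentation BG NG ∧ IsBaseChange B f ∧
      ∃ (_ : Algebra S BG) (_ : Algebra R BG) (_ : IsScalarTower R S BG) (_ : IsScalarTower R G BG)
        (_ : Module S NG) (_ : IsScalarTower S BG NG) (fM : M →ₗ[S] NG),
        Algebra.IsPushout R S G BG ∧ IsBaseChange BG fM := by
  let BG := G ⊗[R] S
  let φ : BG →ₐ[R] B := Algebra.TensorProduct.lift
    ((IsScalarTower.toAlgHom R A B).comp (IsScalarTower.toAlgHom R G A))
    (IsScalarTower.toAlgHom R S B) fun _ _ => mul_comm _ _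
  letI : Algebra BG B := φ.toRingHom.toAlgebra
  letI : Algebra G B := ((algebraMap A B).comp (algebraMap G A)).toAlgebra
  haveI : IsScalarTower G A B := IsScalarTower.of_algebraMap_eq fun _ => rfl
  haveI : IsScalarTower G BG B := IsScalarTower.of_algebraMap_eq (R := G) (S := BG) (A := B) fun x => by
    show algebraMap A B (algebraMap G A x) = φ (x ⊗ₜ[R] 1)
    refine ((Algebra.TensorProduct.lift_tmul _ _ _ x (1 : S)).trans ?_).symm
    rw [map_one, mul_one]
    rfl
  haveI : IsScalarTower S BG B := IsScalarTower.of_algebraMap_eq (R := S) (S := BG) (A := B) fun s => by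
    show algebraMap S B s = φ ((1 : G) ⊗ₜ[R] s)
    refine ((Algebra.TensorProduct.lift_tmul _ _ _ (1 : G) s).trans ?_).symm
    rw [map_one, one_mul]
    rfl
  haveI : IsScalarTower R BG B :=
    IsScalarTower.of_algebraMap_eq (R := R) (S := BG) (A := B) fun r => (φ.commutes r).symm
  haveI : Algebra.IsPushout R G S BG := inferInstance
  haveI : Algebra.IsPushout G BG A B := by
    haveI : Algebra.IsPushout R A S B := Algebra.IsPushout.symm ‹Algebra.IsPushout R S A B›
    exact ((Algebra.IsPushout.comp_iff R G S BG (T := A) (T' := B)).mp inferInstance).symm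
  haveI : Algebra.FinitePresentation G BG := inferInstance
  let NG := BG ⊗[S] M
  haveI : Module.FinitePresentation BG NG := inferInstance
  letI : Module BG N := Module.compHom N (algebraMap BG B)
  haveI : IsScalarTower BG B N := IsScalarTower.of_algebraMap_smul fun _ _ => rfl
  letI : Module S N := Module.compHom N (algebraMap S B)
  haveI : IsScalarTower S B N := IsScalarTower.of_algebraMap_smul fun _ _ => rfl
  haveI : IsScalarTower S BG N := IsScalarTower.of_algebraMap_smul fun s (x : N) => by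
    show algebraMap BG B (algebraMap S BG s) • x = algebraMap S B s • x
    rw [← IsScalarTower.algebraMap_apply]
  let f₀ : M →ₗ[S] N := (e.toLinearMap.restrictScalars S).comp (TensorProduct.mk S B M 1)
  have hf₀ : IsBaseChange B f₀ := IsBaseChange.of_equiv e fun x => rfl
  have hm : IsBaseChange BG (TensorProduct.mk S BG M 1) := TensorProduct.isBaseChange S M BG
  refine ⟨BG, NG, inferInstance, inferInstance, inferInstance, inferInstance, inferInstance, inferInstance,
    inferInstance, inferInstance, inferInstance, inferInstance, inferInstance, inferInstance,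
    hm.lift f₀, inferInstance, inferInstance, inferInstance, ?_,
    inferInstance, inferInstance, inferInstance, inferInstance, inferInstance, inferInstance,
    TensorProduct.mk S BG M 1, Algebra.IsPushout.symm inferInstance, hm⟩
  refine IsBaseChange.of_comp hm ?_
  rw [show (hm.lift f₀).restrictScalars S ∘ₗ TensorProduct.mk S BG M 1 = f₀ from hm.lift_comp _]
  exact hf₀

section Topology

variable {A₀ A₁ T : Type u} [CommRing A₀] [CommRing A₁] [CommRing T] [Algebra A₀ A₁] [Algebra A₀ T]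
  (φ : A₁ →ₐ[A₀] T) {H : Type u} [CommRing H] [Algebra A₀ H]

/-- The generizations of a point of a base change avoid the base change of an image. -/
theorem forall_notMem_range_iff (qA : Ideal (A₁ ⊗[A₀] H)) [qA.IsPrime] :
    (∀ t : PrimeSpectrum (A₁ ⊗[A₀] H), t.asIdeal ≤ qA →
      PrimeSpectrum.comap (algebraMap A₁ (A₁ ⊗[A₀] H)) t ∉ Set.range (PrimeSpectrum.comap φ.toRingHom)) ↔
    ∃ u : A₁ ⊗[A₀] H, u ∉ qA ∧ Algebra.TensorProduct.map φ (AlgHom.id A₀ H) u = 0 := by
  let AH := A₁ ⊗[A₀] H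
  let TH := T ⊗[A₀] H
  let Φ : AH →ₐ[A₀] TH := Algebra.TensorProduct.map φ (AlgHom.id A₀ H)
  letI : Algebra A₁ T := φ.toRingHom.toAlgebra
  haveI : IsScalarTower A₀ A₁ T := IsScalarTower.of_algebraMap_eq fun a => (φ.commutes a).symm
  letI : Algebra AH TH := Φ.toRingHom.toAlgebra
  haveI : IsScalarTower H AH TH := IsScalarTower.of_algebraMap_eq (R := H) (S := AH) (A := TH) fun h => by
    show (1 : T) ⊗ₜ[A₀] h = Φ ((1 : A₁) ⊗ₜ[A₀] h)
    refine ((Algebra.TensorProduct.map_tmul _ _ (1 : A₁) h).trans ?_).symm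
    rw [map_one]
    rfl
  haveI : IsScalarTower A₁ AH TH := IsScalarTower.of_algebraMap_eq (R := A₁) (S := AH) (A := TH) fun a => by
    show φ a ⊗ₜ[A₀] (1 : H) = Φ (a ⊗ₜ[A₀] (1 : H))
    exact (Algebra.TensorProduct.map_tmul φ (AlgHom.id A₀ H) a (1 : H)).symm
  haveI : IsScalarTower A₀ AH TH :=
    IsScalarTower.of_algebraMap_eq (R := A₀) (S := AH) (A := TH) fun a => (Φ.commutes a).symm
  haveI : Algebra.IsPushout A₁ T AH TH :=
    (Algebra.IsPushout.comp_iff A₀ A₁ H AH (T := T) (T' := TH)).mp inferInstance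
  constructor
  · intro h
    have hker : ¬ RingHom.ker (algebraMap AH TH) ≤ qA := fun hle => by
      obtain ⟨P, hP, hPle⟩ := Ideal.exists_minimalPrimes_le hle
      haveI := hP.1.1
      obtain ⟨X, hX, -, hXP⟩ := Ideal.exists_comap_eq_of_mem_minimalPrimes (algebraMap AH TH) P hP
      refine h ⟨P, inferInstance⟩ hPle ⟨⟨X.comap (algebraMap T TH), inferInstance⟩, PrimeSpectrum.ext ?_⟩
      show (X.comap (algebraMap T TH)).comap (algebraMap A₁ T) = P.comap (algebraMap A₁ AH)
      rw [← hXP, Ideal.comap_comap, Ideal.comap_comap, ← IsScalarTower.algebraMap_eq,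
        ← IsScalarTower.algebraMap_eq]
    obtain ⟨u, hu, huq⟩ := SetLike.not_le_iff_exists.mp hker
    exact ⟨u, huq, hu⟩
  · rintro ⟨u, hu, hu0⟩ t ht ⟨τ, hτ⟩
    have hcomap : t.asIdeal.comap (algebraMap A₁ AH) = τ.asIdeal.comap (algebraMap A₁ T) :=
      (congrArg PrimeSpectrum.asIdeal hτ).symm
    obtain ⟨X, hX, -, hXt⟩ := H8Props.FlatAtBC.exists_prime_over (R := A₁) (S' := TH) τ.asIdeal t.asIdeal hcomap
    refine hu (ht ?_)
    rw [← hXt, Ideal.mem_comap]
    show Φ u ∈ X
    rw [show Φ u = 0 from hu0]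
    exact X.zero_mem

end Topology

/-- An arrow of a directed system, as data. -/
structure Arrow {ι : Type u} [Preorder ι] (i j : ι) : Type u where
  down : i ≤ j

section Stage

variable {A₀ B₀ : Type u} [CommRing A₀] [CommRing B₀] [Algebra A₀ B₀] [Algebra.FinitePresentation A₀ B₀]
  {N₀ : Type u} [AddCommGroup N₀] [Module B₀ N₀] [Module A₀ N₀] [IsScalarTower A₀ B₀ N₀]
  [Module.FinitePresentation B₀ N₀]
  {A B N : Type u} [CommRing A] [CommRing B] [Algebra A B] [Algebra A₀ A] [Algebra B₀ B] [Algebra A₀ B]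
  [IsScalarTower A₀ B₀ B] [IsScalarTower A₀ A B] [Algebra.IsPushout A₀ B₀ A B]
  [AddCommGroup N] [Module B N] [Module B₀ N] [IsScalarTower B₀ B N] [Module A N] [IsScalarTower A B N]
  {ι : Type u} [Preorder ι] {G : ι → Type u} [∀ i, CommRing (G i)] [∀ i, Algebra A₀ (G i)]
  (sy : H8Props.FunDescent.Stage.Sys (R := A₀) G A Arrow)

/-- Flatness along a fibre descends to a stage. -/
theorem exists_stage_flatAlong (f₀ : N₀ →ₗ[B₀] N) (hf₀ : IsBaseChange B f₀) (p : Ideal A) [p.IsPrime]
    (hflat : ∀ (q : Ideal B) [q.IsPrime], q.LiesOver p → FlatCA.FlatAt A q N) :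
    ∃ i : ι, ∀ (BH NH : Type u) [CommRing BH] [Algebra (G i) BH] [Algebra B₀ BH] [Algebra A₀ BH]
      [IsScalarTower A₀ B₀ BH] [IsScalarTower A₀ (G i) BH] [Algebra.IsPushout A₀ B₀ (G i) BH]
      [AddCommGroup NH] [Module BH NH] [Module B₀ NH] [IsScalarTower B₀ BH NH] [Module (G i) NH]
      [IsScalarTower (G i) BH NH] (f : N₀ →ₗ[B₀] NH), IsBaseChange BH f →
      ∀ (q : Ideal BH) [q.IsPrime], q.LiesOver (p.comap (sy.g i)) → FlatCA.FlatAt (G i) q NH := by
  classical
  haveI : Algebra.FinitePresentation A B :=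
    haveI : Algebra.IsPushout A₀ A B₀ B := Algebra.IsPushout.symm ‹Algebra.IsPushout A₀ B₀ A B›
    Algebra.FinitePresentation.equiv (Algebra.IsPushout.equiv A₀ A B₀ B)
  haveI : Module.FinitePresentation B N := Module.FinitePresentation.of_equiv hf₀.equiv
  -- finitely many flat basic opens cover the fibre
  let S : Set B := {g | ∀ (Q : Ideal B) [Q.IsPrime], g ∉ Q → FlatCA.FlatAt A Q N}
  obtain ⟨s, hs, hsmem⟩ : ∃ s, s ∉ p ∧ algebraMap A B s ∈ Ideal.span S ⊔ p.map (algebraMap A B) := by
    by_contra! hcon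
    obtain ⟨P, hP, hle, hdisj⟩ := Ideal.exists_le_prime_disjoint _
      (Algebra.algebraMapSubmonoid B p.primeCompl) (Set.disjoint_left.mpr fun y hy hy' => by
        obtain ⟨a, ha, rfl⟩ := hy'
        exact hcon a ha hy)
    haveI := hP
    have hPp : P.LiesOver p := ⟨le_antisymm
      (fun a ha => Ideal.map_le_iff_le_comap.mp (le_sup_right.trans hle) ha) fun a ha => by
        by_contra hap
        exact Set.disjoint_left.mp hdisj ha ⟨a, hap, rfl⟩⟩
    obtain ⟨_, ⟨g, rfl⟩, hgP, hgsub⟩ := PrimeSpectrum.isTopologicalBasis_basic_opens.exists_subset_of_mem_open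
      (show (⟨P, inferInstance⟩ : PrimeSpectrum B) ∈
        {q : PrimeSpectrum B | Module.Flat A (LocalizedModule q.asIdeal.primeCompl N)} from hflat P hPp)
      (H8Props.FlatLocus.isOpen_setOf_flat_localizedModule A B N)
    refine hgP ((le_sup_left.trans hle) (Ideal.subset_span ?_))
    intro Q hQ hgQ
    exact hgsub (show (⟨Q, hQ⟩ : PrimeSpectrum B) ∈ basicOpen g from hgQ)
  obtain ⟨c, hc, y, hy, hsum⟩ := Submodule.mem_sup.mp hsmem
  obtain ⟨k, a, gs, hcs⟩ := (Submodule.mem_span_set' (s := S)).mp hc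
  -- descend the data
  choose sg hsg using fun l => ImpurityStage.exists_finset_mem_range (A := A₀) (B := B₀) (A' := A) (B' := B)
    inferInstance (gs l : B)
  choose sa hsa using fun l => ImpurityStage.exists_finset_mem_range (A := A₀) (B := B₀) (A' := A) (B' := B)
    inferInstance (a l)
  obtain ⟨sy', hsy⟩ := ImpurityStage.exists_finset_mem_map (A := A₀) (B := B₀) (A' := A) (B' := B)
    inferInstance p hy
  let F : Finset A := insert s (sy' ∪ Finset.univ.biUnion fun l => sg l ∪ sa l)
  haveI := sy.ne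
  have hstage : ∀ F' : Finset A, ∃ i, ∀ x ∈ F', x ∈ Set.range (sy.g i) := by
    intro F'
    induction F' using Finset.induction with
    | empty => exact ⟨Classical.arbitrary ι, by simp⟩
    | insert x F' hx ih =>
      obtain ⟨i, hi⟩ := ih
      obtain ⟨j, z, hz⟩ := sy.surj x
      obtain ⟨l, ⟨b⟩, ⟨d⟩⟩ := sy.dir i j
      refine ⟨l, fun w hw => ?_⟩
      rcases Finset.mem_insert.mp hw with rfl | hw
      · exact ⟨sy.m d z, by rw [sy.w, hz]⟩
      · obtain ⟨v, rfl⟩ := hi w hw
        exact ⟨sy.m b v, sy.w b v⟩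
  obtain ⟨i, hi⟩ := hstage F
  obtain ⟨si, hsi⟩ := hi s (Finset.mem_insert_self _ _)
  have hiu : ∀ x ∈ sy' ∪ Finset.univ.biUnion (fun l => sg l ∪ sa l), x ∈ Set.range (sy.g i) :=
    fun x hx => hi x (Finset.mem_insert_of_mem hx)
  choose gi hgi using fun l => hsg l (G i) (sy.g i) fun x hx => hiu x (Finset.mem_union_right _
    (Finset.mem_biUnion.mpr ⟨l, Finset.mem_univ _, Finset.mem_union_left _ hx⟩))
  choose ai hai using fun l => hsa l (G i) (sy.g i) fun x hx => hiu x (Finset.mem_union_right _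
    (Finset.mem_biUnion.mpr ⟨l, Finset.mem_univ _, Finset.mem_union_right _ hx⟩))
  obtain ⟨yi, hyi, hyy⟩ := hsy (G i) (sy.g i) fun x hx => hiu x (Finset.mem_union_left _ hx)
  let d : G i ⊗[A₀] B₀ := si ⊗ₜ 1 - (∑ l, ai l * gi l + yi)
  let eAB : A ⊗[A₀] B₀ ≃ₐ[A] B :=
    haveI : Algebra.IsPushout A₀ A B₀ B := Algebra.IsPushout.symm ‹Algebra.IsPushout A₀ B₀ A B›
    Algebra.IsPushout.equiv A₀ A B₀ B
  have hd : (sy.g i).toLinearMap.rTensor B₀ d = 0 := by
    have key : ∀ z, eAB ((sy.g i).toLinearMap.rTensor B₀ z) = ImpurityStage.stageHom (G i) (sy.g i) z := by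
      intro z
      induction z using TensorProduct.induction_on with
      | zero => simp
      | add u v hu hv => simp only [map_add, hu, hv]
      | tmul x b =>
        haveI : Algebra.IsPushout A₀ A B₀ B := Algebra.IsPushout.symm ‹Algebra.IsPushout A₀ B₀ A B›
        simp [eAB, Algebra.IsPushout.equiv_tmul, ImpurityStage.stageHom_tmul, Algebra.smul_def]
    apply eAB.injective
    rw [key, map_zero]
    show ImpurityStage.stageHom (G i) (sy.g i) (si ⊗ₜ 1 - (∑ l, ai l * gi l + yi)) = 0
    rw [map_sub, map_add, map_sum, hyy, ImpurityStage.stageHom_tmul, hsi, map_one, mul_one]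
    simp only [map_mul, hai, hgi]
    rw [← hsum, ← hcs, sub_eq_zero]
    rfl
  obtain ⟨j, ⟨hij⟩, hdj⟩ := sy.exists_eq_zero i d hd
  -- the stage `j` and the flatness at the basic opens
  let T : G i ⊗[A₀] B₀ →ₐ[A₀] G j ⊗[A₀] B₀ := Algebra.TensorProduct.map (sy.m ⟨hij⟩) (AlgHom.id A₀ B₀)
  have hTd : T d = 0 := by
    have hT' : ∀ z, T z = (sy.m ⟨hij⟩).toLinearMap.rTensor B₀ z := fun z => by
      induction z using TensorProduct.induction_on with
      | zero => simp
      | add u v hu hv => simp only [map_add, hu, hv]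
      | tmul x b => simp [T]
    rw [hT']
    exact hdj
  let Bj := G j ⊗[A₀] B₀
  let gj : Fin k → Bj := fun l => T (gi l)
  let Nj := Bj ⊗[B₀] N₀
  letI : Algebra (G j) A := (sy.g j).toRingHom.toAlgebra
  haveI : IsScalarTower A₀ (G j) A := IsScalarTower.of_algebraMap_eq fun a => ((sy.g j).commutes a).symm
  let ψ : Bj →ₐ[A₀] B := ImpurityStage.stageHom (G j) (sy.g j)
  letI : Algebra Bj B := ψ.toRingHom.toAlgebra
  letI : Algebra (G j) B := ((algebraMap A B).comp (algebraMap (G j) A)).toAlgebra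
  haveI : IsScalarTower (G j) A B := IsScalarTower.of_algebraMap_eq fun _ => rfl
  haveI : IsScalarTower (G j) Bj B := IsScalarTower.of_algebraMap_eq (R := G j) (S := Bj) (A := B) fun x => by
    show algebraMap A B (sy.g j x) = ψ (x ⊗ₜ[A₀] (1 : B₀))
    refine ((ImpurityStage.stageHom_tmul (A' := A) (B' := B) (G j) (sy.g j) x (1 : B₀)).trans ?_).symm
    rw [map_one, mul_one]
  haveI : IsScalarTower B₀ Bj B := IsScalarTower.of_algebraMap_eq (R := B₀) (S := Bj) (A := B) fun b => by
    show algebraMap B₀ B b = ψ ((1 : G j) ⊗ₜ[A₀] b)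
    refine ((ImpurityStage.stageHom_tmul (A' := A) (B' := B) (G j) (sy.g j) (1 : G j) b).trans ?_).symm
    rw [map_one, map_one, one_mul]
  haveI : IsScalarTower A₀ Bj B :=
    IsScalarTower.of_algebraMap_eq (R := A₀) (S := Bj) (A := B) fun r => (ψ.commutes r).symm
  haveI : Algebra.IsPushout (G j) Bj A B := by
    haveI : Algebra.IsPushout A₀ A B₀ B := Algebra.IsPushout.symm ‹Algebra.IsPushout A₀ B₀ A B›
    exact ((Algebra.IsPushout.comp_iff A₀ (G j) B₀ Bj (T := A) (T' := B)).mp inferInstance).symm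
  haveI : Algebra.FinitePresentation (G j) Bj := inferInstance
  haveI : Module.FinitePresentation Bj Nj := inferInstance
  letI : Module Bj N := Module.compHom N (algebraMap Bj B)
  haveI : IsScalarTower Bj B N := IsScalarTower.of_algebraMap_smul fun _ _ => rfl
  haveI : IsScalarTower B₀ Bj N := IsScalarTower.of_algebraMap_smul fun b (x : N) => by
    show algebraMap Bj B (algebraMap B₀ Bj b) • x = b • x
    rw [← IsScalarTower.algebraMap_apply, algebraMap_smul]
  have hm : IsBaseChange Bj (TensorProduct.mk B₀ Bj N₀ 1) := TensorProduct.isBaseChange B₀ N₀ Bj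
  let fj : Nj →ₗ[Bj] N := hm.lift f₀
  have hfj : IsBaseChange B fj := by
    refine IsBaseChange.of_comp hm ?_
    rw [show fj.restrictScalars B₀ ∘ₗ TensorProduct.mk B₀ Bj N₀ 1 = f₀ from hm.lift_comp _]
    exact hf₀
  have hψT : ∀ z, ψ (T z) = ImpurityStage.stageHom (G i) (sy.g i) z := by
    intro z
    induction z using TensorProduct.induction_on with
    | zero => simp
    | add u v hu hv => simp only [map_add, hu, hv]
    | tmul x b =>
      simp only [ψ, T, Algebra.TensorProduct.map_tmul, AlgHom.coe_id, id_eq]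
      rw [ImpurityStage.stageHom_tmul (A' := A) (B' := B), ImpurityStage.stageHom_tmul (A' := A) (B' := B), sy.w]
  let ι' := {m : ι // j ≤ m}
  haveI : Nonempty ι' := ⟨⟨j, le_rfl⟩⟩
  letI aG : ∀ m : ι', Algebra (G j) (G m.1) := fun m => (sy.m ⟨m.2⟩).toRingHom.toAlgebra
  haveI : ∀ m : ι', IsScalarTower A₀ (G j) (G m.1) := fun m =>
    IsScalarTower.of_algebraMap_eq fun a => ((sy.m ⟨m.2⟩).commutes a).symm
  have key : ∀ l, ∃ m : ι', Module.Flat (G m.1)
      (G m.1 ⊗[G j] LocalizedModule (Submonoid.powers (gj l)) Nj) := by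
    intro l
    have hg : Module.Flat A (LocalizedModule (Submonoid.powers (algebraMap Bj B (gj l))) N) :=
      flat_away_of_flatAt _ fun Q _ hQ => by
        refine (gs l).2 Q ?_
        rwa [← hgi l, ← hψT]
    obtain ⟨e⟩ := exists_away_equiv (H := G j) (A' := A) fj hfj (gj l)
    haveI : Module.Flat A (A ⊗[G j] LocalizedModule (Submonoid.powers (gj l)) Nj) :=
      Module.Flat.of_linearEquiv e
    haveI : Algebra.FinitePresentation Bj (Localization.Away (gj l)) :=
      IsLocalization.Away.finitePresentation (gj l)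
    haveI : Algebra.FinitePresentation (G j) (Localization.Away (gj l)) :=
      Algebra.FinitePresentation.trans (G j) Bj _
    haveI : Module.FinitePresentation (Localization.Away (gj l))
        (LocalizedModule (Submonoid.powers (gj l)) Nj) :=
      inferInstance
    haveI : IsDirected ι' (· ≤ ·) := ⟨fun a b => by
      obtain ⟨l, ⟨⟨u⟩⟩, ⟨⟨v⟩⟩⟩ := sy.dir a.1 b.1
      exact ⟨⟨l, a.2.trans u⟩, u, v⟩⟩
    have hcomp : ∀ (a b c : ι) (hab : a ≤ b) (hbc : b ≤ c) (x : G a),
        sy.m ⟨hab.trans hbc⟩ x = sy.m ⟨hbc⟩ (sy.m ⟨hab⟩ x) := fun a b c hab hbc x => by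
      obtain ⟨⟨c'⟩, hc'⟩ := sy.comp ⟨hab⟩ ⟨hbc⟩
      exact hc' x
    exact H06EGA11.exists_index_flat (B₀ := Localization.Away (gj l))
      (LocalizedModule (Submonoid.powers (gj l)) Nj) (fun m : ι' => G m.1)
      (fun a b h => { (sy.m ⟨h⟩).toRingHom with
        commutes' := fun x => (hcomp j a.1 b.1 a.2 h x).symm })
      (fun m => { (sy.g m.1).toRingHom with commutes' := fun x => sy.w ⟨m.2⟩ x })
      (fun a b h => AlgHom.ext fun x => sy.w ⟨h⟩ x)
      (fun x => by
        obtain ⟨m, z, hz⟩ := sy.surj x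
        obtain ⟨n, ⟨⟨u⟩⟩, ⟨⟨v⟩⟩⟩ := sy.dir j m
        exact ⟨⟨n, u⟩, sy.m ⟨v⟩ z, (sy.w ⟨v⟩ z).trans hz⟩)
      (fun m x hx => by
        obtain ⟨n, ⟨hmn⟩, hx'⟩ := sy.eq m.1 x 0 (hx.trans (map_zero _).symm)
        exact ⟨⟨n, m.2.trans hmn⟩, hmn, hx'.trans (map_zero _)⟩)
  choose m hm' using key
  obtain ⟨n, ⟨⟨hjn⟩⟩, hmn⟩ := sy.exists_stage_ge (i := j) fun l => (m l).1
  refine ⟨n, fun BH NH _ _ _ _ _ _ _ _ _ _ _ _ _ f hf q _ hq => ?_⟩
  letI : Algebra (G j) (G n) := aG ⟨n, hjn⟩
  haveI : IsScalarTower A₀ (G j) (G n) :=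
    IsScalarTower.of_algebraMap_eq fun a => ((sy.m ⟨hjn⟩).commutes a).symm
  let θ : Bj →ₐ[A₀] BH := Algebra.TensorProduct.lift ((IsScalarTower.toAlgHom A₀ (G n) BH).comp
    (IsScalarTower.toAlgHom A₀ (G j) (G n))) (IsScalarTower.toAlgHom A₀ B₀ BH) fun _ _ => mul_comm _ _
  letI : Algebra Bj BH := θ.toRingHom.toAlgebra
  letI : Algebra (G j) BH := ((algebraMap (G n) BH).comp (algebraMap (G j) (G n))).toAlgebra
  haveI : IsScalarTower (G j) (G n) BH := IsScalarTower.of_algebraMap_eq fun _ => rfl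
  haveI : IsScalarTower (G j) Bj BH := IsScalarTower.of_algebraMap_eq (R := G j) (S := Bj) (A := BH) fun x => by
    show algebraMap (G n) BH (algebraMap (G j) (G n) x) = θ (x ⊗ₜ[A₀] (1 : B₀))
    refine ((Algebra.TensorProduct.lift_tmul _ _ _ x (1 : B₀)).trans ?_).symm
    rw [map_one, mul_one]
    rfl
  haveI : IsScalarTower B₀ Bj BH := IsScalarTower.of_algebraMap_eq (R := B₀) (S := Bj) (A := BH) fun b => by
    show algebraMap B₀ BH b = θ ((1 : G j) ⊗ₜ[A₀] b)
    refine ((Algebra.TensorProduct.lift_tmul _ _ _ (1 : G j) b).trans ?_).symm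
    rw [map_one, one_mul]
    rfl
  haveI : IsScalarTower A₀ Bj BH :=
    IsScalarTower.of_algebraMap_eq (R := A₀) (S := Bj) (A := BH) fun r => (θ.commutes r).symm
  haveI : Algebra.IsPushout (G j) Bj (G n) BH := by
    haveI : Algebra.IsPushout A₀ (G n) B₀ BH := Algebra.IsPushout.symm ‹Algebra.IsPushout A₀ B₀ (G n) BH›
    exact ((Algebra.IsPushout.comp_iff A₀ (G j) B₀ Bj (T := G n) (T' := BH)).mp inferInstance).symm
  letI : Module Bj NH := Module.compHom NH (algebraMap Bj BH)
  haveI : IsScalarTower Bj BH NH := IsScalarTower.of_algebraMap_smul fun _ _ => rfl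
  haveI : IsScalarTower B₀ Bj NH := IsScalarTower.of_algebraMap_smul fun b (x : NH) => by
    show algebraMap Bj BH (algebraMap B₀ Bj b) • x = b • x
    rw [← IsScalarTower.algebraMap_apply, algebraMap_smul]
  let fn : Nj →ₗ[Bj] NH := hm.lift f
  have hfn : IsBaseChange BH fn := by
    refine IsBaseChange.of_comp hm ?_
    rw [show fn.restrictScalars B₀ ∘ₗ TensorProduct.mk B₀ Bj N₀ 1 = f from hm.lift_comp _]
    exact hf
  -- some basic open contains `q`
  obtain ⟨l, hl⟩ : ∃ l, algebraMap Bj BH (gj l) ∉ q := by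
    by_contra! hcon
    haveI := hq
    have hsq : algebraMap (G n) BH (algebraMap (G j) (G n) (sy.m ⟨hij⟩ si)) ∉ q := fun hmem => hs (by
      have h' : algebraMap (G j) (G n) (sy.m ⟨hij⟩ si) ∈ p.comap (sy.g n) := (hq.over).symm ▸ hmem
      rw [← hsi, ← sy.w ⟨hij⟩ si, ← sy.w ⟨hjn⟩ (sy.m ⟨hij⟩ si)]
      exact h')
    refine hsq ?_
    have heq : T (si ⊗ₜ 1) = T (∑ l, ai l * gi l + yi) := by
      rw [← sub_eq_zero, ← map_sub]; exact hTd
    have hmem : θ (T (∑ l, ai l * gi l + yi)) ∈ q := by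
      rw [map_add, map_add, map_sum, map_sum]
      refine q.add_mem (Submodule.sum_mem _ fun l _ => ?_) ?_
      · rw [map_mul, map_mul]
        exact q.mul_mem_left _ (hcon l)
      · refine (?_ : ((p.comap (sy.g i)).map (algebraMap (G i) (G i ⊗[A₀] B₀))).map T.toRingHom ≤
          q.comap θ.toRingHom) (Ideal.mem_map_of_mem T.toRingHom hyi)
        rw [Ideal.map_map, Ideal.map_le_iff_le_comap]
        intro x hx
        show θ (T (x ⊗ₜ[A₀] (1 : B₀))) ∈ q
        rw [Algebra.TensorProduct.map_tmul, Algebra.TensorProduct.lift_tmul]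
        simp only [map_one, mul_one]
        show algebraMap (G n) BH (algebraMap (G j) (G n) (sy.m ⟨hij⟩ x)) ∈ q
        have h' : algebraMap (G j) (G n) (sy.m ⟨hij⟩ x) ∈ p.comap (sy.g n) := by
          show sy.g n (sy.m ⟨hjn⟩ (sy.m ⟨hij⟩ x)) ∈ p
          rw [sy.w, sy.w]
          exact hx
        rw [hq.over] at h'
        exact h'
    rw [← heq] at hmem
    simp only [T, θ, Algebra.TensorProduct.map_tmul, map_one] at hmem
    erw [Algebra.TensorProduct.lift_tmul] at hmem
    rw [map_one, mul_one] at hmem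
    exact hmem
  obtain ⟨e⟩ := exists_away_equiv (H := G j) (A' := G n) fn hfn (gj l)
  haveI : Module.Flat (G n) (G n ⊗[G j] LocalizedModule (Submonoid.powers (gj l)) Nj) := by
    obtain ⟨⟨hu⟩⟩ := hmn l
    letI : Algebra (G (m l).1) (G n) := (sy.m ⟨hu⟩).toRingHom.toAlgebra
    haveI : IsScalarTower (G j) (G (m l).1) (G n) := IsScalarTower.of_algebraMap_eq fun x => by
      obtain ⟨⟨c'⟩, hc'⟩ := sy.comp (⟨(m l).2⟩ : Arrow j (m l).1) ⟨hu⟩
      exact hc' x
    haveI := hm' l
    exact Module.Flat.of_linearEquiv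
      (AlgebraTensorModule.cancelBaseChange (G j) (G (m l).1) (G n) (G n)
        (LocalizedModule (Submonoid.powers (gj l)) Nj)).symm
  haveI : Module.Flat (G n) (LocalizedModule (Submonoid.powers (algebraMap Bj BH (gj l))) NH) :=
    Module.Flat.of_linearEquiv e.symm
  exact H06EGA11.flat_localizedModule_of_le (Submonoid.powers (algebraMap Bj BH (gj l))) q.primeCompl
    (Submonoid.powers_le.mpr hl)

/-- Purity along a fibre descends to a stage. -/
theorem exists_stage_pure (f₀ : N₀ →ₗ[B₀] N) (hf₀ : IsBaseChange B f₀) (p : Ideal A) [p.IsPrime]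
    (hflat₀ : ∀ (q : Ideal B₀) [q.IsPrime], q.LiesOver (p.comap (algebraMap A₀ A)) → FlatCA.FlatAt A₀ q N₀)
    (hpure : FlatCA.IsPureAlong A B N p) :
    ∃ i : ι, ∀ (BH NH : Type u) [CommRing BH] [Algebra (G i) BH] [Algebra B₀ BH] [Algebra A₀ BH]
      [IsScalarTower A₀ B₀ BH] [IsScalarTower A₀ (G i) BH] [Algebra.IsPushout A₀ B₀ (G i) BH]
      [AddCommGroup NH] [Module BH NH] [Module B₀ NH] [IsScalarTower B₀ BH NH] [Module (G i) NH]
      [IsScalarTower (G i) BH NH] (f : N₀ →ₗ[B₀] NH), IsBaseChange BH f →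
      FlatCA.IsPureAlong (G i) BH NH (p.comap (sy.g i)) := by
  classical
  let p₀ := p.comap (algebraMap A₀ A)
  obtain ⟨A₁, S₁, _, _, _, _, _, _, _, _, p₁, _, het, hS, hcov, hproj⟩ :=
    exists_cover_projective_over (R := A₀) (S := B₀) N₀ p₀ hflat₀
  haveI := hS
  haveI : Algebra.Etale A₀ A₁ := het.1
  haveI : Module.Projective A₁ (S₁ ⊗[B₀] N₀) := by
    haveI := hproj
    exact Module.Projective.of_equiv (M := RestrictScalars A₁ S₁ (S₁ ⊗[B₀] N₀))
      ({ RestrictScalars.addEquiv A₁ S₁ (S₁ ⊗[B₀] N₀) with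
        map_smul' := fun a x => by
          show RestrictScalars.addEquiv A₁ S₁ (S₁ ⊗[B₀] N₀) (a • x) = a • RestrictScalars.addEquiv A₁ S₁ (S₁ ⊗[B₀] N₀) x
          rw [RestrictScalars.addEquiv_map_smul, algebraMap_smul] } :
        RestrictScalars A₁ S₁ (S₁ ⊗[B₀] N₀) ≃ₗ[A₁] S₁ ⊗[B₀] N₀)
  have hc := (isConstructible_good (A₀ := A₀) (B₀ := B₀) N₀ A₁ S₁).compl
  obtain ⟨T, _, φ, hφ⟩ := PrimeSpectrum.exists_range_eq_of_isConstructible hc
  letI : Algebra A₀ T := (φ.comp (algebraMap A₀ A₁)).toAlgebra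
  let φa : A₁ →ₐ[A₀] T := { φ with commutes' := fun _ => rfl }
  obtain ⟨hp₁, hfs⟩ := isEtaleNhd_fracSurj het
  have hgood : ∀ t, Good (A₀ := A₀) (B₀ := B₀) N₀ A₁ S₁ t ↔ t ∉ Set.range (PrimeSpectrum.comap φ) :=
    fun t => by rw [hφ]; simp
  obtain ⟨qA, hqA, hqA₁, hqA₂⟩ := exists_prime_tensor p₁ p hp₁ hfs
  haveI := hqA
  have htop := (isPureAlong_iff_good N₀ A₁ S₁ p₀ p₁ het hcov hflat₀ f₀ hf₀ p rfl qA hqA₁ hqA₂).mp hpure
  obtain ⟨u, hu, hu0⟩ := (forall_notMem_range_iff φa qA).mp fun t ht => (hgood _).mp (htop t ht)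
  -- `u` comes from a stage
  obtain ⟨i, ui, hui⟩ : ∃ i ui, Algebra.TensorProduct.map (AlgHom.id A₀ A₁) (sy.g i) ui = u := by
    clear hu hu0
    haveI := sy.ne
    induction u using TensorProduct.induction_on with
    | zero => exact ⟨Classical.arbitrary ι, 0, map_zero _⟩
    | tmul a x =>
      obtain ⟨i, z, rfl⟩ := sy.surj x
      exact ⟨i, a ⊗ₜ z, by simp⟩
    | add u v hu hv =>
      obtain ⟨i, ui, rfl⟩ := hu
      obtain ⟨j, vj, rfl⟩ := hv
      obtain ⟨l, ⟨b⟩, ⟨d⟩⟩ := sy.dir i j
      have hb : ∀ {a : ι} (w : Arrow a l) z, Algebra.TensorProduct.map (AlgHom.id A₀ A₁) (sy.g l)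
          (Algebra.TensorProduct.map (AlgHom.id A₀ A₁) (sy.m w) z) =
            Algebra.TensorProduct.map (AlgHom.id A₀ A₁) (sy.g a) z := fun w z => by
        induction z using TensorProduct.induction_on with
        | zero => simp
        | add u v hu hv => simp only [map_add, hu, hv]
        | tmul a x => simp [sy.w]
      exact ⟨l, Algebra.TensorProduct.map (AlgHom.id A₀ A₁) (sy.m b) ui +
        Algebra.TensorProduct.map (AlgHom.id A₀ A₁) (sy.m d) vj, by rw [map_add, hb, hb]⟩
  -- its image vanishes at a stage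
  let zi : G i ⊗[A₀] T := TensorProduct.comm A₀ T (G i) (Algebra.TensorProduct.map φa (AlgHom.id A₀ (G i)) ui)
  have hzi : (sy.g i).toLinearMap.rTensor T zi = 0 := by
    apply (TensorProduct.comm A₀ A T).injective
    rw [map_zero, ← hu0, ← hui]
    clear hui
    simp only [zi]
    induction ui using TensorProduct.induction_on with
    | zero => simp
    | add u v hu hv => simp only [map_add, hu, hv]
    | tmul a x => simp
  obtain ⟨j, ⟨hij⟩, hzj⟩ := sy.exists_eq_zero i zi hzi
  refine ⟨j, fun BH NH _ _ _ _ _ _ _ _ _ _ _ _ _ f hf => ?_⟩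
  let uj : A₁ ⊗[A₀] G j := Algebra.TensorProduct.map (AlgHom.id A₀ A₁) (sy.m ⟨hij⟩) ui
  let qj : Ideal (A₁ ⊗[A₀] G j) := qA.comap (Algebra.TensorProduct.map (AlgHom.id A₀ A₁) (sy.g j)).toRingHom
  haveI : qj.IsPrime := Ideal.comap_isPrime _ _
  refine (isPureAlong_iff_good N₀ A₁ S₁ p₀ p₁ het hcov hflat₀ f hf (p.comap (sy.g j)) ?_ qj ?_ ?_).mpr
    fun t ht => (hgood _).mpr ((forall_notMem_range_iff φa qj).mpr ⟨uj, ?_, ?_⟩ t ht)
  · ext a
    simp only [Ideal.mem_comap]
    rw [AlgHom.commutes]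
    rfl
  · ext a
    rw [← hqA₁]
    simp only [qj, Ideal.mem_comap]
    rw [show (Algebra.TensorProduct.map (AlgHom.id A₀ A₁) (sy.g j)).toRingHom
      (Algebra.TensorProduct.includeLeftRingHom a) = Algebra.TensorProduct.includeLeftRingHom a by simp]
  · ext x
    rw [Ideal.mem_comap, Ideal.mem_comap, ← hqA₂]
    simp only [qj, Ideal.mem_comap]
    rw [show (Algebra.TensorProduct.map (AlgHom.id A₀ A₁) (sy.g j)).toRingHom
      (algebraMap (G j) (A₁ ⊗[A₀] G j) x) =
        (Algebra.TensorProduct.includeRight (R := A₀) (A := A₁) (B := A)).toRingHom (sy.g j x) from by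
      show Algebra.TensorProduct.map (AlgHom.id A₀ A₁) (sy.g j) ((1 : A₁) ⊗ₜ[A₀] x) = (1 : A₁) ⊗ₜ[A₀] sy.g j x
      simp]
  · intro hmem
    apply hu
    have : Algebra.TensorProduct.map (AlgHom.id A₀ A₁) (sy.g j) uj = u := by
      rw [← hui]
      simp only [uj]
      clear hui hzi hzj hmem
      clear uj zi
      induction ui using TensorProduct.induction_on with
      | zero => simp
      | add u v hu hv => simp only [map_add, hu, hv]
      | tmul a x => simp [sy.w]
    rw [← this]
    exact hmem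
  · apply (TensorProduct.comm A₀ T (G j)).injective
    rw [map_zero, ← hzj]
    simp only [zi, uj]
    clear hui hzi hzj
    clear uj zi
    induction ui using TensorProduct.induction_on with
    | zero => simp
    | add u v hu hv => simp only [map_add, hu, hv]
    | tmul a x => simp

end Stage

end Groth.Agent.H7Flat.PureDescend
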