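import Groth.Agent.H7Flat.ImpurityRebase

/-!
A pure module with finite fibre supports has finite support over the base.
-/

set_option autoImplicit false
universe u

namespace Groth.Agent.H7Flat.PureFinite

open TensorProduct FlatMor ImpurityDescend

set_option backward.isDefEq.respectTransparency false
set_option maxHeartbeats 1000000
set_option synthInstance.maxHeartbeats 400000

/-- Nontriviality of the base change to a field factors through a subfield. -/
theorem nontrivial_of_subfield (R k K M : Type u) [CommRing R] [Field k] [Field K] [Algebra R k]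
    [Algebra R K] [Algebra k K] [IsScalarTower R k K] [AddCommGroup M] [Module R M]
    [Nontrivial (k ⊗[R] M)] : Nontrivial (K ⊗[R] M) := by
  let e := AlgebraTensorModule.cancelBaseChange R k K K M
  have : Nontrivial (K ⊗[k] (k ⊗[R] M)) :=
    (Module.FaithfullyFlat.nontrivial_tensorProduct_iff_right k K).mpr inferInstance
  exact e.symm.toEquiv.nontrivial

/-- Nontriviality of a fibre is insensitive to base change. -/
theorem nontrivial_tensor_of_isBaseChange (R S K : Type u) [CommRing R] [CommRing S] [CommRing K]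
    [Algebra R S] [Algebra R K] [Algebra S K] [IsScalarTower R S K] {M M' : Type u}
    [AddCommGroup M] [Module R M] [AddCommGroup M'] [Module R M'] [Module S M']
    [IsScalarTower R S M'] {g : M →ₗ[R] M'} (hg : IsBaseChange S g)
    [Nontrivial (K ⊗[R] M)] : Nontrivial (K ⊗[S] M') := by
  have h : IsBaseChange K (((TensorProduct.mk S K M' 1).restrictScalars R).comp g) :=
    IsBaseChange.comp hg (TensorProduct.isBaseChange S M' K)
  exact h.equiv.symm.toEquiv.nontrivial

set_option backward.isDefEq.respectTransparency true in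
/-- Primes containing the annihilator are those with nontrivial fibre. -/
theorem annihilator_le_iff_nontrivial {R M : Type u} [CommRing R] [AddCommGroup M] [Module R M]
    [Module.Finite R M] (q : Ideal R) [hq : q.IsPrime] :
    Module.annihilator R M ≤ q ↔ Nontrivial (q.ResidueField ⊗[R] M) := by
  have h := Module.mem_support_iff_nontrivial_residueField_tensorProduct (M := M)
    (⟨q, hq⟩ : PrimeSpectrum R)
  rw [Module.support_eq_zeroLocus] at h
  exact h

/-- Fibres over the support are nontrivial. -/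
theorem nontrivial_residueField_of_liesOver {R S M : Type u} [CommRing R] [CommRing S] [Algebra R S]
    [AddCommGroup M] [Module R M] [Module.Finite R M] (q : Ideal R) [q.IsPrime] (Q : Ideal S)
    [Q.IsPrime] (hQ : q = Q.comap (algebraMap R S)) (h : Module.annihilator R M ≤ q) :
    Nontrivial (Q.ResidueField ⊗[R] M) := by
  let ν : q.ResidueField →ₐ[R] Q.ResidueField :=
    Ideal.ResidueField.mapₐ q Q (Algebra.ofId R S) hQ
  let : Algebra q.ResidueField Q.ResidueField := ν.toRingHom.toAlgebra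
  have : IsScalarTower R q.ResidueField Q.ResidueField :=
    IsScalarTower.of_algebraMap_eq fun r => (ν.commutes r).symm
  have := (annihilator_le_iff_nontrivial q).mp h
  exact nontrivial_of_subfield R q.ResidueField Q.ResidueField M

/-- Primes over the support lie in the support of a base change. -/
theorem mem_support_of_isBaseChange {R S M M' : Type u} [CommRing R] [CommRing S] [Algebra R S]
    [AddCommGroup M] [Module R M] [AddCommGroup M'] [Module R M'] [Module S M']
    [IsScalarTower R S M'] [Module.Finite R M] {g : M →ₗ[R] M'} (hg : IsBaseChange S g)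
    (Q : Ideal S) [Q.IsPrime] (h : Module.annihilator R M ≤ Q.comap (algebraMap R S)) :
    Module.annihilator S M' ≤ Q := by
  have : Module.Finite S M' := Module.Finite.equiv hg.equiv
  have : (Q.comap (algebraMap R S)).IsPrime := Ideal.comap_isPrime _ _
  have := nontrivial_residueField_of_liesOver (M := M) (Q.comap (algebraMap R S)) Q rfl h
  exact (annihilator_le_iff_nontrivial Q).mpr
    (nontrivial_tensor_of_isBaseChange R S Q.ResidueField hg)

/-- A prime of the base change over a pair of primes with the same contraction. -/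
theorem exists_prime_lift {A R' C Z : Type u} [CommRing A] [CommRing R'] [CommRing C] [CommRing Z]
    [Algebra A R'] [Algebra A C] [Algebra A Z] [Algebra C Z] [IsScalarTower A C Z]
    (w' : Ideal (R' ⊗[A] C)) [w'.IsPrime] (z₀ : Ideal Z) [z₀.IsPrime]
    (h : w'.comap (Algebra.TensorProduct.includeRight : C →ₐ[A] R' ⊗[A] C).toRingHom =
      z₀.comap (algebraMap C Z)) :
    ∃ Pz : Ideal (R' ⊗[A] Z), Pz.IsPrime ∧
      Pz.comap (Algebra.TensorProduct.map (AlgHom.id R' R') (IsScalarTower.toAlgHom A C Z)).toRingHom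
        = w' := by
  letI : Algebra C (R' ⊗[A] C) := Algebra.TensorProduct.rightAlgebra
  haveI : IsScalarTower A C (R' ⊗[A] C) := IsScalarTower.of_algebraMap_eq fun a => by
    exact ((Algebra.TensorProduct.includeRight : C →ₐ[A] R' ⊗[A] C).commutes a).symm
  let w₀ := z₀.comap (algebraMap C Z)
  haveI : w₀.IsPrime := Ideal.comap_isPrime _ _
  haveI : w'.LiesOver w₀ := ⟨h.symm⟩
  haveI : z₀.LiesOver w₀ := ⟨rfl⟩
  obtain ⟨Qp, hQp, hQl, hQr⟩ := ImpurityRebase.exists_prime_over_pair w₀ w' z₀
  let θ : R' ⊗[A] Z →ₐ[A] (R' ⊗[A] C) ⊗[C] Z := Algebra.TensorProduct.lift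
    (((Algebra.TensorProduct.includeLeft (R := C) (S := C) (A := R' ⊗[A] C) (B := Z)).restrictScalars A).comp
      (Algebra.TensorProduct.includeLeft (R := A) (S := A) (A := R') (B := C)))
    ((Algebra.TensorProduct.includeRight (R := C) (A := R' ⊗[A] C) (B := Z)).restrictScalars A)
    (fun _ _ => Commute.all _ _)
  refine ⟨Qp.comap θ.toRingHom, Ideal.comap_isPrime _ _, ?_⟩
  rw [Ideal.comap_comap, ← hQl]
  congr 1
  refine RingHom.ext fun x => ?_
  induction x using TensorProduct.induction_on with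
  | zero => simp
  | add x y hx hy => rw [map_add, map_add, hx, hy]
  | tmul r x =>
    have h1 : ((1 : R' ⊗[A] C) ⊗ₜ[C] (algebraMap C Z x)) =
        (x • (1 : R' ⊗[A] C)) ⊗ₜ[C] (1 : Z) := by
      rw [TensorProduct.smul_tmul, Algebra.smul_def, mul_one]
    change θ (r ⊗ₜ[A] algebraMap C Z x) = (r ⊗ₜ[A] x) ⊗ₜ[C] (1 : Z)
    simp only [θ, Algebra.TensorProduct.lift_tmul, AlgHom.coe_comp, Function.comp_apply,
      AlgHom.restrictScalars_apply, Algebra.TensorProduct.includeLeft_apply,
      Algebra.TensorProduct.includeRight_apply]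
    rw [h1, Algebra.TensorProduct.tmul_mul_tmul, one_mul]
    congr 1
    rw [Algebra.smul_def, mul_one]
    change (r ⊗ₜ[A] (1 : C)) * ((1 : R') ⊗ₜ[A] x) = _
    simp

section

variable {A B : Type u} [CommRing A] [CommRing B] [Algebra A B] (N : Type u) [AddCommGroup N]
  [Module B N] [Module.Finite B N]

attribute [local instance] Algebra.TensorProduct.rightAlgebra

/-- Finite fibre supports make the scheme-theoretic support quasi-finite. -/
theorem quasiFinite_of_finite_support [Algebra.FiniteType A B]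
    (hfin : ∀ (p : Ideal A) [p.IsPrime],
      (Module.support (p.Fiber B) (FlatCA.fiberMod p B N)).Finite) :
    Algebra.QuasiFinite A (B ⧸ Module.annihilator B N) := by
  rw [Algebra.QuasiFinite.iff_finite_comap_preimage_singleton]
  intro p
  let π := Ideal.Quotient.mk (Module.annihilator B N)
  let back : PrimeSpectrum (p.asIdeal.Fiber B) → PrimeSpectrum B :=
    PrimeSpectrum.comap (algebraMap B (p.asIdeal.Fiber B))
  refine Set.Finite.of_finite_image (f := PrimeSpectrum.comap π)
    (((hfin p.asIdeal).image back).subset ?_)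
    (PrimeSpectrum.comap_injective_of_surjective π Ideal.Quotient.mk_surjective).injOn
  rintro _ ⟨Z, hZ, rfl⟩
  let q : Ideal B := Z.asIdeal.comap π
  have : q.IsPrime := Ideal.comap_isPrime _ _
  have : q.LiesOver p.asIdeal := ⟨by
    rw [Ideal.under, Ideal.comap_comap]
    exact (congrArg PrimeSpectrum.asIdeal hZ).symm⟩
  let Q : Ideal (p.asIdeal.Fiber B) := FlatCA.fiberIdeal p.asIdeal q
  have hQq : Q.comap (algebraMap B (p.asIdeal.Fiber B)) = q := comap_fiberIdeal p.asIdeal q
  have hQp : Q.IsPrime := by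
    let Q' := PrimeSpectrum.primesOverOrderIsoFiber A B p.asIdeal ⟨q, inferInstance, inferInstance⟩
    have h1 : Q'.asIdeal.comap (algebraMap B (p.asIdeal.Fiber B)) = q := by
      have := congrArg Subtype.val
        ((PrimeSpectrum.primesOverOrderIsoFiber A B p.asIdeal).symm_apply_apply
          ⟨q, inferInstance, inferInstance⟩)
      rw [PrimeSpectrum.coe_primesOverOrderIsoFiber_symm_apply] at this
      exact this
    have h2 := fiberIdeal_comap p.asIdeal Q'.asIdeal
    rw [h1] at h2
    change (FlatCA.fiberIdeal p.asIdeal q).IsPrime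
    rw [h2]
    exact Q'.isPrime
  refine ⟨⟨Q, hQp⟩, ?_, PrimeSpectrum.ext hQq⟩
  have : Module.Finite (p.asIdeal.Fiber B) (FlatCA.fiberMod p.asIdeal B N) :=
    inferInstanceAs (Module.Finite (p.asIdeal.Fiber B) ((p.asIdeal.Fiber B) ⊗[B] N))
  have : IsScalarTower B (p.asIdeal.Fiber B) (FlatCA.fiberMod p.asIdeal B N) :=
    IsScalarTower.of_algebraMap_smul fun s m =>
      algebraMap_smul (p.asIdeal.Fiber B) s (show (p.asIdeal.Fiber B) ⊗[B] N from m)
  rw [Module.support_eq_zeroLocus]
  refine mem_support_of_isBaseChange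
    (g := FlatCA.toFiberMod p.asIdeal B N) (TensorProduct.isBaseChange B N (p.asIdeal.Fiber B)) Q ?_
  rw [hQq]
  intro b hb
  change π b ∈ Z.asIdeal
  rw [Ideal.Quotient.eq_zero_iff_mem.mpr hb]
  exact zero_mem _

end

/-- A quasi-finite finite type algebra has a finite subalgebra over which it is an open subscheme. -/
theorem exists_finite_subalgebra (A Z : Type u) [CommRing A] [CommRing Z] [Algebra A Z]
    [Algebra.FiniteType A Z] [Algebra.QuasiFinite A Z] :
    ∃ (C : Subalgebra A Z) (G : Set C), Module.Finite A C ∧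
      (∀ q : Ideal Z, q.IsPrime → ∃ g ∈ G, (g : Z) ∉ q) ∧
      ∀ g ∈ G, ∀ z : Z, ∃ n : ℕ, (g : Z) ^ n * z ∈ C := by
  classical
  have := fun q : PrimeSpectrum Z =>
    Algebra.QuasiFiniteAt.exists_fg_and_exists_notMem_and_awayMap_bijective (R := A) q.asIdeal
  choose S' hfg r hr hbij using this
  obtain ⟨T, hT⟩ := isCompact_univ.elim_finite_subcover
    (fun q => (PrimeSpectrum.basicOpen ((r q : Z)) : Set (PrimeSpectrum Z)))
    (fun q => (PrimeSpectrum.basicOpen _).isOpen) (fun q _ => Set.mem_iUnion.mpr ⟨q, hr q⟩)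
  choose s hs using hfg
  let gen : Set Z := ⋃ q ∈ T, (s q : Set Z)
  have hmem : ∀ q, ∀ x ∈ s q, x ∈ S' q := fun q x hx => by
    rw [← Subalgebra.mem_toSubmodule, ← hs q]
    exact Submodule.subset_span hx
  have hgen : ∀ x ∈ gen, IsIntegral A x := by
    intro x hx
    obtain ⟨q, -, hq⟩ := Set.mem_iUnion₂.mp hx
    exact IsIntegral.of_mem_of_fg (S' q) ⟨s q, hs q⟩ x (hmem q x hq)
  let C := Algebra.adjoin A gen
  have hle : ∀ q ∈ T, S' q ≤ C := by
    intro q hq x hx
    rw [← Subalgebra.mem_toSubmodule, ← hs q] at hx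
    exact (Submodule.span_le.mpr fun y hy =>
      Algebra.subset_adjoin (Set.mem_iUnion₂.mpr ⟨q, hq, hy⟩) :
        Submodule.span A (s q : Set Z) ≤ Subalgebra.toSubmodule C) hx
  refine ⟨C, {g : C | ∃ q ∈ T, (g : Z) = r q}, Module.Finite.iff_fg.mpr
    (fg_adjoin_of_finite (Set.Finite.biUnion T.finite_toSet fun q _ => (s q).finite_toSet) hgen),
    fun q hq => ?_, ?_⟩
  · obtain ⟨i, hi, hqi⟩ := Set.mem_iUnion₂.mp (hT (Set.mem_univ (⟨q, hq⟩ : PrimeSpectrum Z)))
    exact ⟨⟨r i, hle i hi (r i).2⟩, ⟨i, hi, rfl⟩, hqi⟩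
  · rintro g ⟨q, hq, hg⟩ z
    rw [hg]
    let v := (S' q).val.toRingHom (r q)
    obtain ⟨y, hy⟩ := (hbij q).2 (algebraMap Z (Localization.Away v) z)
    obtain ⟨y, ⟨_, n, rfl⟩, rfl⟩ := IsLocalization.exists_mk'_eq (Submonoid.powers (r q)) y
    rw [Localization.awayMap, IsLocalization.Away.map, IsLocalization.map_mk',
      IsLocalization.mk'_eq_iff_eq_mul, ← map_mul,
      IsLocalization.eq_iff_exists (Submonoid.powers v)] at hy
    obtain ⟨⟨_, m, rfl⟩, hm⟩ := hy
    refine ⟨m + n, ?_⟩
    have : (r q : Z) ^ m * (y : Z) = (r q : Z) ^ m * (z * (r q : Z) ^ n) := by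
      simpa [v] using hm
    rw [pow_add, mul_assoc, mul_comm _ z, ← this]
    exact hle q hq (mul_mem (pow_mem (r q).2 m) y.2)

attribute [local instance] Algebra.TensorProduct.rightAlgebra

/-- A pure module with finite fibre supports has finite support over the base. -/
theorem finite_of_isPure {A B : Type u} [CommRing A] [CommRing B] [Algebra A B]
    [Algebra.FiniteType A B] (N : Type u) [AddCommGroup N] [Module B N] [Module.Finite B N]
    (hfin : ∀ (p : Ideal A) [p.IsPrime],
      (Module.support (p.Fiber B) (FlatCA.fiberMod p B N)).Finite)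
    (hpure : FlatCA.IsPure A B N) : Module.Finite A (B ⧸ Module.annihilator B N) := by
  classical
  let Z := B ⧸ Module.annihilator B N
  have : Algebra.QuasiFinite A Z := quasiFinite_of_finite_support N hfin
  obtain ⟨C, G, hC, hG, hGC⟩ := exists_finite_subalgebra A Z
  by_cases hsurj : ∀ c : Ideal C, c.IsPrime → ∃ g ∈ G, g ∉ c
  · have htop : C = ⊤ := by
      rw [eq_top_iff]
      intro z _
      let I : Ideal C :=
        { carrier := {c | (c : Z) * z ∈ C}
          add_mem' := fun {a b} ha hb => by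
            change ((a + b : C) : Z) * z ∈ C
            rw [Subalgebra.coe_add, add_mul]
            exact add_mem ha hb
          zero_mem' := by
            change ((0 : C) : Z) * z ∈ C
            simp
          smul_mem' := fun a b hb => by
            change ((a * b : C) : Z) * z ∈ C
            rw [Subalgebra.coe_mul, mul_assoc]
            exact mul_mem a.2 hb }
      have hI : I = ⊤ := by
        by_contra hI
        obtain ⟨m, hm, hIm⟩ := Ideal.exists_le_maximal I hI
        obtain ⟨g, hg, hgm⟩ := hsurj m hm.isPrime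
        obtain ⟨n, hn⟩ := hGC g hg z
        refine hgm (hm.isPrime.mem_of_pow_mem n (hIm ?_))
        change ((g ^ n : C) : Z) * z ∈ C
        rwa [Subalgebra.coe_pow]
      have h1 : (1 : C) ∈ I := hI ▸ Submodule.mem_top
      simpa using (show ((1 : C) : Z) * z ∈ C from h1)
    subst htop
    exact Module.Finite.equiv (Subalgebra.topEquiv (R := A) (A := Z)).toLinearEquiv
  push_neg at hsurj
  obtain ⟨c, hc, hGc⟩ := hsurj
  exfalso
  haveI := hc
  let p : Ideal A := c.comap (algebraMap A C)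
  haveI : p.IsPrime := Ideal.comap_isPrime _ _
  haveI : c.LiesOver p := ⟨rfl⟩
  obtain ⟨R', _, _, _, t, _, _, n, e, he, P', _, _, hbij, -, huniq⟩ :=
    Algebra.exists_etale_completeOrthogonalIdempotents_forall_liesOver_eq (S := C) p
  obtain ⟨c', hc', hc't, hc'c⟩ := ImpurityRebase.exists_prime_over_pair p t c
  haveI := hc'
  have hc't' : c'.LiesOver t := ⟨hc't.symm⟩
  obtain ⟨i, hi⟩ : ∃ i, e i ∉ c' := by
    by_contra hcon
    push_neg at hcon
    refine hc'.ne_top ((Ideal.eq_top_iff_one c').mpr ?_)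
    rw [← he.complete]
    exact sum_mem fun i _ => hcon i
  obtain ⟨j, rfl⟩ : ∃ j : Fin n, i = j.castSucc := by
    rcases Fin.eq_castSucc_or_eq_last i with h | h
    · exact h
    · exact absurd (h ▸ (huniq c' hc' hc't').1) hi
  have huniq' : ∀ u : Ideal (R' ⊗[A] C), u.IsPrime → u.LiesOver t → e j.castSucc ∉ u → u = c' := by
    intro u hu hut hju
    rw [(huniq u hu hut).2 j hju, (huniq c' hc' hc't').2 j hi]
  haveI : IsScalarTower A C (R' ⊗[A] C) := IsScalarTower.of_algebraMap_eq fun a => by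
    exact ((Algebra.TensorProduct.includeRight : C →ₐ[A] R' ⊗[A] C).commutes a).symm
  haveI : Module.Flat C (R' ⊗[A] C) := by
    haveI : Algebra.IsPushout A C R' (R' ⊗[A] C) := Algebra.IsPushout.symm inferInstance
    exact Module.Flat.isBaseChange A C R' (R' ⊗[A] C)
      (f := (IsScalarTower.toAlgHom A R' (R' ⊗[A] C)).toLinearMap) Algebra.IsPushout.out
  obtain ⟨w₀, hw₀, hw₀c⟩ := Ideal.exists_minimalPrimes_le (bot_le : (⊥ : Ideal C) ≤ c)
  haveI := hw₀.isPrime
  obtain ⟨z₀, hz₀, hz₀w⟩ := Ideal.exists_comap_eq_of_mem_minimalPrimes_of_injective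
    (f := algebraMap C Z) Subtype.val_injective w₀ hw₀
  haveI := hz₀
  haveI : c'.LiesOver c := ⟨hc'c.symm⟩
  obtain ⟨w', hw'c, hw', hw'w⟩ :=
    Ideal.exists_ideal_le_liesOver_of_le (p := w₀) (q := c) c' hw₀c
  haveI := hw'
  haveI := hw'w
  haveI : z₀.LiesOver w₀ := ⟨hz₀w.symm⟩
  let ι : R' ⊗[A] C →ₐ[R'] R' ⊗[A] Z :=
    Algebra.TensorProduct.map (AlgHom.id R' R') (IsScalarTower.toAlgHom A C Z)
  obtain ⟨Pz, hPz, hPzC⟩ := exists_prime_lift (A := A) (R' := R') w' z₀
    (hw'w.over.symm.trans hz₀w.symm)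
  haveI := hPz
  let π : R' ⊗[A] B →ₐ[R'] R' ⊗[A] Z :=
    Algebra.TensorProduct.map (AlgHom.id R' R') (Ideal.Quotient.mkₐ A (Module.annihilator B N))
  have hπ : Function.Surjective π := by
    intro y
    induction y using TensorProduct.induction_on with
    | zero => exact ⟨0, map_zero _⟩
    | add x y hx hy =>
      obtain ⟨a, rfl⟩ := hx
      obtain ⟨b, rfl⟩ := hy
      exact ⟨a + b, map_add _ _ _⟩
    | tmul r z =>
      obtain ⟨b, rfl⟩ := Ideal.Quotient.mk_surjective z
      exact ⟨r ⊗ₜ b, by simp [π]; rfl⟩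
  let Pp : Ideal (R' ⊗[A] B) := Pz.comap π.toRingHom
  haveI : Pp.IsPrime := Ideal.comap_isPrime _ _
  let t' : Ideal R' := w'.comap (algebraMap R' (R' ⊗[A] C))
  haveI : t'.IsPrime := Ideal.comap_isPrime _ _
  have htt : t' ≤ t := (Ideal.comap_mono hw'c).trans hc't'.over.ge
  have hPp : Pp.LiesOver t' := ⟨by
    change w'.comap (algebraMap R' (R' ⊗[A] C)) =
      (Pz.comap π.toRingHom).comap (algebraMap R' (R' ⊗[A] B))
    rw [← hPzC, Ideal.comap_comap, Ideal.comap_comap, AlgHom.toRingHom_eq_coe,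
      AlgHom.toRingHom_eq_coe, AlgHom.comp_algebraMap, AlgHom.comp_algebraMap]⟩
  haveI : IsScalarTower A B (R' ⊗[A] B) := IsScalarTower.of_algebraMap_eq fun a => by
    exact ((Algebra.TensorProduct.includeRight : B →ₐ[A] R' ⊗[A] B).commutes a).symm
  let f : N →ₗ[B] (R' ⊗[A] B) ⊗[B] N := TensorProduct.mk B _ N 1
  have hf : IsBaseChange (R' ⊗[A] B) f := TensorProduct.isBaseChange B N (R' ⊗[A] B)
  have hkerπ : RingHom.ker π.toRingHom ≤
      (Module.annihilator B N).map (algebraMap B (R' ⊗[A] B)) := by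
    have h := Algebra.TensorProduct.lTensor_ker (A := R') (Ideal.Quotient.mkₐ A (Module.annihilator B N))
      Ideal.Quotient.mk_surjective
    refine le_of_eq ?_
    refine Eq.trans ?_ (h.trans ?_)
    · rfl
    · rw [show RingHom.ker (Ideal.Quotient.mkₐ A (Module.annihilator B N)) =
        Module.annihilator B N from Ideal.mk_ker]
      rfl
  have hkill : (Module.annihilator B N).map (algebraMap B (R' ⊗[A] B)) ≤
      Module.annihilator (R' ⊗[A] B) ((R' ⊗[A] B) ⊗[B] N) := by
    rw [Ideal.map_le_iff_le_comap]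
    intro b hb
    rw [Ideal.mem_comap, Module.mem_annihilator]
    intro x
    rw [algebraMap_smul]
    induction x using TensorProduct.induction_on with
    | zero => exact smul_zero _
    | add x y hx hy => rw [smul_add, hx, hy, add_zero]
    | tmul w m => rw [← TensorProduct.tmul_smul, Module.mem_annihilator.mp hb m, tmul_zero]
  let F' := t'.Fiber (R' ⊗[A] B)
  haveI : Algebra.FiniteType R' (R' ⊗[A] B) := inferInstance
  haveI : IsNoetherianRing (t'.Fiber (R' ⊗[A] B)) :=
    Algebra.FiniteType.isNoetherianRing t'.ResidueField _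
  haveI : IsScalarTower (R' ⊗[A] B) (t'.Fiber (R' ⊗[A] B))
      (FlatCA.fiberMod t' (R' ⊗[A] B) ((R' ⊗[A] B) ⊗[B] N)) :=
    IsScalarTower.of_algebraMap_smul fun s m =>
      algebraMap_smul (t'.Fiber (R' ⊗[A] B)) s
        (show (t'.Fiber (R' ⊗[A] B)) ⊗[R' ⊗[A] B] ((R' ⊗[A] B) ⊗[B] N) from m)
  haveI : Module.Finite (t'.Fiber (R' ⊗[A] B))
      (FlatCA.fiberMod t' (R' ⊗[A] B) ((R' ⊗[A] B) ⊗[B] N)) :=
    inferInstanceAs (Module.Finite (t'.Fiber (R' ⊗[A] B))
      ((t'.Fiber (R' ⊗[A] B)) ⊗[R' ⊗[A] B] ((R' ⊗[A] B) ⊗[B] N)))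
  haveI := hPp
  let Q := FlatCA.fiberIdeal t' Pp
  have hQc : Q.comap (algebraMap (R' ⊗[A] B) (t'.Fiber (R' ⊗[A] B))) = Pp :=
    comap_fiberIdeal t' Pp
  have hPann : (Module.annihilator B N).map (algebraMap B (R' ⊗[A] B)) ≤ Pp := by
    rw [Ideal.map_le_iff_le_comap]
    intro b hb
    change π ((1 : R') ⊗ₜ[A] b) ∈ Pz
    rw [show π ((1 : R') ⊗ₜ[A] b) = (1 : R') ⊗ₜ[A] (Ideal.Quotient.mk (Module.annihilator B N) b) by
      simp [π]; rfl, Ideal.Quotient.eq_zero_iff_mem.mpr hb, TensorProduct.tmul_zero]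
    exact zero_mem _
  have hQp : Q.IsPrime := by
    let Q' := PrimeSpectrum.primesOverOrderIsoFiber R' (R' ⊗[A] B) t' ⟨Pp, inferInstance, hPp⟩
    have h1 : Q'.asIdeal.comap (algebraMap (R' ⊗[A] B) (t'.Fiber (R' ⊗[A] B))) = Pp := by
      have := congrArg Subtype.val
        ((PrimeSpectrum.primesOverOrderIsoFiber R' (R' ⊗[A] B) t').symm_apply_apply
          ⟨Pp, inferInstance, hPp⟩)
      rw [PrimeSpectrum.coe_primesOverOrderIsoFiber_symm_apply] at this
      exact this
    have h2 := fiberIdeal_comap t' Q'.asIdeal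
    rw [h1] at h2
    change (FlatCA.fiberIdeal t' Pp).IsPrime
    rw [h2]
    exact Q'.isPrime
  have hann : Module.annihilator (t'.Fiber (R' ⊗[A] B))
      (FlatCA.fiberMod t' (R' ⊗[A] B) ((R' ⊗[A] B) ⊗[B] N)) ≤ Q := by
    refine mem_support_of_isBaseChange
      (g := FlatCA.toFiberMod t' (R' ⊗[A] B) ((R' ⊗[A] B) ⊗[B] N))
      (TensorProduct.isBaseChange (R' ⊗[A] B) _ (t'.Fiber (R' ⊗[A] B))) Q ?_
    rw [hQc]
    exact mem_support_of_isBaseChange hf Pp (Ideal.map_le_iff_le_comap.mp hPann)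
  have hmin : Q ∈ (Module.annihilator (t'.Fiber (R' ⊗[A] B))
      (FlatCA.fiberMod t' (R' ⊗[A] B) ((R' ⊗[A] B) ⊗[B] N))).minimalPrimes := by
    refine ⟨⟨hQp, hann⟩, fun Q₀ ⟨hQ₀, hQ₀ann⟩ hle => ?_⟩
    haveI := hQ₀
    let P₀ : Ideal (R' ⊗[A] B) := Q₀.comap (algebraMap (R' ⊗[A] B) (t'.Fiber (R' ⊗[A] B)))
    haveI : P₀.IsPrime := Ideal.comap_isPrime _ _
    haveI hP₀t : P₀.LiesOver t' := ImpurityStage.liesOver_comap_fiber t' Q₀
    have hP₀P : P₀ ≤ Pp := (Ideal.comap_mono hle).trans hQc.le
    have hP₀ker : RingHom.ker π.toRingHom ≤ P₀ := by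
      intro x hx
      refine hQ₀ann (Module.mem_annihilator.mpr fun m => ?_)
      rw [algebraMap_smul]
      change x • (show (t'.Fiber (R' ⊗[A] B)) ⊗[R' ⊗[A] B] ((R' ⊗[A] B) ⊗[B] N) from m) = 0
      generalize (show (t'.Fiber (R' ⊗[A] B)) ⊗[R' ⊗[A] B] ((R' ⊗[A] B) ⊗[B] N) from m) = y
      induction y using TensorProduct.induction_on with
      | zero => exact smul_zero _
      | add x' y' hx' hy' => rw [smul_add, hx', hy', add_zero]
      | tmul w m' =>
        rw [← TensorProduct.tmul_smul, Module.mem_annihilator.mp (hkill (hkerπ hx)) m', tmul_zero]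
    have hP₀map : (P₀.map π.toRingHom).IsPrime := Ideal.map_isPrime_of_surjective hπ hP₀ker
    have hcm : (P₀.map π.toRingHom).comap π.toRingHom = P₀ := by
      rw [Ideal.comap_map_of_surjective π.toRingHom hπ, sup_eq_left, ← RingHom.ker_eq_comap_bot]
      exact hP₀ker
    have heqZ : P₀.map π.toRingHom = Pz := by
      haveI := hP₀map
      refine Algebra.QuasiFinite.eq_of_le_of_under_eq (R := R') _ _
        (Ideal.map_le_iff_le_comap.mpr hP₀P) ?_
      rw [Ideal.under, Ideal.under, ← AlgHom.comp_algebraMap π, ← Ideal.comap_comap,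
        ← Ideal.comap_comap]
      change ((P₀.map π.toRingHom).comap π.toRingHom).comap _ = Pp.comap _
      rw [hcm]
      exact hP₀t.over.symm.trans hPp.over
    refine le_of_eq ?_
    change FlatCA.fiberIdeal t' Pp = Q₀
    rw [show Pp = P₀ from (congrArg (Ideal.comap π.toRingHom) heqZ.symm).trans hcm]
    exact fiberIdeal_comap t' Q₀
  refine hpure p R' (R' ⊗[A] B) ((R' ⊗[A] B) ⊗[B] N) f t' t Pp
    ⟨inferInstance, inferInstance, hbij⟩ ⟨Algebra.IsPushout.symm inferInstance, hf, htt,
      inferInstance, hPp, Module.associatedPrimes.minimalPrimes_annihilator_subset_associatedPrimes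
        _ _ hmin, ?_⟩
  intro P₁ _ hPP₁ hP₁t
  have hker₁ : RingHom.ker π.toRingHom ≤ P₁ := (hkerπ.trans hPann).trans hPP₁
  have hv : (P₁.map π.toRingHom).IsPrime := Ideal.map_isPrime_of_surjective hπ hker₁
  haveI := hv
  let v := P₁.map π.toRingHom
  have hvP : v.comap π.toRingHom = P₁ := by
    rw [Ideal.comap_map_of_surjective π.toRingHom hπ, sup_eq_left, ← RingHom.ker_eq_comap_bot]
    exact hker₁
  let u : Ideal (R' ⊗[A] C) := v.comap ι.toRingHom
  have hu : u.IsPrime := Ideal.comap_isPrime _ _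
  have hut : u.LiesOver t := ⟨by
    rw [Ideal.under, Ideal.comap_comap, AlgHom.toRingHom_eq_coe, AlgHom.comp_algebraMap,
      ← AlgHom.comp_algebraMap π, ← Ideal.comap_comap]
    change t = (v.comap π.toRingHom).comap _
    rw [hvP]
    exact hP₁t.over⟩
  have hPzv : Pz ≤ v := by
    rw [← Ideal.map_comap_of_surjective _ hπ Pz]
    exact Ideal.map_mono hPP₁
  have hw'u : w' ≤ u := by
    rw [← hPzC]
    exact Ideal.comap_mono hPzv
  have hju : e j.castSucc ∉ u := by
    intro hmem
    have h1 : 1 - e j.castSucc ∈ w' := by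
      have h0 : e j.castSucc * (1 - e j.castSucc) = 0 := by
        rw [mul_sub, mul_one, (he.idem j.castSucc).eq, sub_self]
      refine (hw'.mem_or_mem (h0 ▸ zero_mem w')).resolve_left fun h => hi (hw'c h)
    refine hu.ne_top ((Ideal.eq_top_iff_one u).mpr ?_)
    simpa using add_mem hmem (hw'u h1)
  have hueq := huniq' u hu hut hju
  obtain ⟨g, hg, hgv⟩ := hG (v.comap (Algebra.TensorProduct.includeRight :
    Z →ₐ[A] R' ⊗[A] Z).toRingHom) (Ideal.comap_isPrime _ _)
  refine hgv ?_
  have h2 : (algebraMap C (R' ⊗[A] C)) g ∈ c' := by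
    rw [← Ideal.mem_comap]
    exact hc'c.ge (hGc g hg)
  rw [← hueq] at h2
  change ι ((1 : R') ⊗ₜ[A] g) ∈ v at h2
  simpa [ι] using h2

end Groth.Agent.H7Flat.PureFinite
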