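import Groth.Agent.H7Flat.PushoutModel
import Groth.Agent.H7Flat.Chain.FlatLocusLocal
import Groth.Agent.H7Flat.Chain.OpenFreeMain
import Groth.Agent.H7Flat.Chain.HenselML
import Groth.Agent.H8Props.FlatAtBaseChange
import Mathlib

/-!
# Pure spreadouts after a finitely generated quotient of the local base
-/

set_option autoImplicit false
set_option linter.style.haveILetI false
set_option maxHeartbeats 1000000
set_option synthInstance.maxHeartbeats 200000

universe u

open TensorProduct IsLocalRing AlgebraicGeometry CategoryTheory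

namespace Groth.Agent.H7Flat.PureSpreadoutQuotient

/-- After a finitely generated quotient of a local base a finitely presented module becomes
projective over the base. -/
theorem exists_fg_ideal_projective {L C M : Type u} [CommRing L] [IsLocalRing L] [CommRing C]
    [Algebra L C] [Algebra.FinitePresentation L C] [AddCommGroup M] [Module C M] [Module L M]
    [IsScalarTower L C M] [Module.FinitePresentation C M] :
    ∃ I : Ideal L, I.FG ∧ I ≤ maximalIdeal L ∧
      ∀ J : Ideal L, I ≤ J → Module.Projective (L ⧸ J) ((L ⧸ J) ⊗[L] M) := by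
  obtain ⟨R₀, S₀, _, _, _, _, _, _, _, _, M₀, _, _, hR₀, -, -, hpush, ⟨e⟩⟩ :=
    PureDescend.exists_model_pushout L C M
  haveI := hR₀
  haveI := hpush
  haveI : IsNoetherianRing R₀ := Algebra.FiniteType.isNoetherianRing ℤ R₀
  let m₀ := (maximalIdeal L).comap (algebraMap R₀ L)
  haveI : m₀.IsPrime := Ideal.comap_isPrime _ _
  refine ⟨m₀.map (algebraMap R₀ L), Ideal.FG.map (IsNoetherian.noetherian m₀) _, Ideal.map_comap_le, fun J hJ => ?_⟩
  let k := m₀.ResidueField
  let f : R₀ →+* L ⧸ J := (Ideal.Quotient.mk J).comp (algebraMap R₀ L)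
  have hf₁ : m₀ ≤ RingHom.ker f := fun r hr =>
    Ideal.Quotient.eq_zero_iff_mem.mpr (hJ (Ideal.mem_map_of_mem _ hr))
  have hf₂ : m₀.primeCompl ≤ (IsUnit.submonoid (L ⧸ J)).comap f := fun r hr =>
    ((IsLocalRing.notMem_maximalIdeal).mp hr).map (Ideal.Quotient.mk J)
  letI : Algebra k (L ⧸ J) := (Ideal.ResidueField.lift m₀ f hf₁ hf₂).toAlgebra
  haveI : IsScalarTower R₀ k (L ⧸ J) := IsScalarTower.of_algebraMap_eq fun r =>
    (Ideal.ResidueField.lift_algebraMap m₀ f hf₁ hf₂ r).symm
  letI : Module R₀ M₀ := Module.compHom M₀ (algebraMap R₀ S₀)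
  haveI : IsScalarTower R₀ S₀ M₀ := IsScalarTower.of_algebraMap_smul fun _ _ => rfl
  letI : Module S₀ M := Module.compHom M (algebraMap S₀ C)
  haveI : IsScalarTower S₀ C M := IsScalarTower.of_algebraMap_smul fun _ _ => rfl
  letI : Module R₀ M := Module.compHom M (algebraMap R₀ C)
  haveI : IsScalarTower R₀ C M := IsScalarTower.of_algebraMap_smul fun _ _ => rfl
  haveI : IsScalarTower R₀ S₀ M := IsScalarTower.of_algebraMap_smul fun r (x : M) => by
    show algebraMap S₀ C (algebraMap R₀ S₀ r) • x = algebraMap R₀ C r • x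
    rw [← IsScalarTower.algebraMap_apply]
  haveI : IsScalarTower R₀ L M := IsScalarTower.of_algebraMap_smul fun r (x : M) => by
    rw [← algebraMap_smul C (algebraMap R₀ L r) x, ← IsScalarTower.algebraMap_apply, algebraMap_smul]
  let f₀ : M₀ →ₗ[S₀] M := (e.toLinearMap.restrictScalars S₀).comp (TensorProduct.mk S₀ C M₀ 1)
  have hf₀ : IsBaseChange C f₀ := IsBaseChange.of_equiv e fun _ => rfl
  have hL : IsBaseChange L (f₀.restrictScalars R₀) :=
    H8Props.FlatAtBC.isBaseChange_restrictScalars (R' := L) f₀ hf₀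
  exact Module.Projective.of_equiv
    ((AlgebraTensorModule.cancelBaseChange R₀ k (L ⧸ J) (L ⧸ J) M₀ ≪≫ₗ
      (AlgebraTensorModule.cancelBaseChange R₀ L (L ⧸ J) (L ⧸ J) M₀).symm) ≪≫ₗ
      TensorProduct.AlgebraTensorModule.congr (LinearEquiv.refl _ _) hL.equiv)

/-- An element of the product with an ideal uses finitely many elements of the ideal. -/
theorem exists_fg_mem_smul_top {L C M : Type u} [CommRing L] [CommRing C] [Algebra L C]
    [AddCommGroup M] [Module C M] {I : Ideal L} {x : M}
    (hx : x ∈ I.map (algebraMap L C) • (⊤ : Submodule C M)) :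
    ∃ J : Ideal L, J.FG ∧ J ≤ I ∧ x ∈ J.map (algebraMap L C) • (⊤ : Submodule C M) := by
  refine Submodule.smul_induction_on hx (fun c hc y _ => ?_) fun a b ⟨Ja, ha, ha', hxa⟩ ⟨Jb, hb, hb', hxb⟩ => ?_
  · obtain ⟨s, hs, hcs⟩ : ∃ J : Ideal L, (J.FG ∧ J ≤ I) ∧ c ∈ J.map (algebraMap L C) := by
      induction hc using Submodule.span_induction with
      | mem c hc =>
        obtain ⟨a, ha, rfl⟩ := hc
        exact ⟨Ideal.span {a}, ⟨Submodule.fg_span (Set.finite_singleton a),
          Ideal.span_le.mpr (Set.singleton_subset_iff.mpr ha)⟩,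
          Ideal.mem_map_of_mem _ (Ideal.mem_span_singleton_self a)⟩
      | zero => exact ⟨⊥, ⟨Submodule.fg_bot, bot_le⟩, zero_mem _⟩
      | add a b _ _ ha hb =>
        obtain ⟨Ja, ⟨ha, ha'⟩, hxa⟩ := ha
        obtain ⟨Jb, ⟨hb, hb'⟩, hxb⟩ := hb
        exact ⟨Ja ⊔ Jb, ⟨Submodule.FG.sup ha hb, sup_le ha' hb'⟩, add_mem
          (Ideal.map_mono le_sup_left hxa) (Ideal.map_mono le_sup_right hxb)⟩
      | smul r a _ ha =>
        obtain ⟨J, hJ, hxa⟩ := ha
        exact ⟨J, hJ, Ideal.mul_mem_left _ r hxa⟩
    exact ⟨s, hs.1, hs.2, Submodule.smul_mem_smul hcs trivial⟩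
  · exact ⟨Ja ⊔ Jb, Submodule.FG.sup ha hb, sup_le ha' hb', add_mem
      (Submodule.smul_mono_left (Ideal.map_mono le_sup_left) hxa)
      (Submodule.smul_mono_left (Ideal.map_mono le_sup_right) hxb)⟩

/-- A localisation map is universally injective when its denominators are. -/
theorem univInj_of_isLocalizedModule {R C M M' : Type u} [CommRing R] [CommRing C] [Algebra R C]
    [AddCommGroup M] [Module C M] [Module R M] [IsScalarTower R C M]
    [AddCommGroup M'] [Module C M'] [Module R M'] [IsScalarTower R C M']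
    (S : Submonoid C) (g : M →ₗ[C] M') [IsLocalizedModule S g]
    (h : ∀ s ∈ S, FlatCA.UnivInj R ((LinearMap.lsmul C M s).restrictScalars R)) :
    FlatCA.UnivInj R (g.restrictScalars R) := by
  intro Q _ _
  refine (injective_iff_map_eq_zero _).2 fun z hz => ?_
  let z' := TensorProduct.comm R Q M z
  have hcomm : ∀ w, AlgebraTensorModule.rTensor R Q g (TensorProduct.comm R Q M w) =
      TensorProduct.comm R Q M' ((g.restrictScalars R).lTensor Q w) := fun w => by
    induction w with
    | zero => simp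
    | tmul q m => simp
    | add a b ha hb => simp only [map_add, ha, hb]
  obtain ⟨s, hs⟩ := (IsLocalizedModule.eq_zero_iff S (AlgebraTensorModule.rTensor R Q g)).1
    (show AlgebraTensorModule.rTensor R Q g z' = 0 by rw [hcomm, hz, map_zero])
  have hsm : ∀ w, TensorProduct.comm R Q M (((LinearMap.lsmul C M (s : C)).restrictScalars R).lTensor Q w) =
      (s : C) • TensorProduct.comm R Q M w := fun w => by
    induction w with
    | zero => simp
    | tmul q m => simp [TensorProduct.smul_tmul']
    | add a b ha hb => simp only [map_add, smul_add, ha, hb]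
  refine h s s.2 Q ?_
  rw [map_zero]
  apply (TensorProduct.comm R Q M).injective
  rw [hsm, map_zero]
  exact hs

/-- Regularity on the closed fibre passes to a quotient of the local base. -/
theorem injective_lTensor_of_regular {L M N'' : Type u} [CommRing L] [IsLocalRing L] {I : Ideal L}
    (hI : I ≤ maximalIdeal L) [IsLocalRing (L ⧸ I)] [AddCommGroup M] [Module L M] [AddCommGroup N''] [Module L N'']
    [Module (L ⧸ I) N''] [IsScalarTower L (L ⧸ I) N''] {f : M →ₗ[L] N''} (hf : IsBaseChange (L ⧸ I) f)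
    (u : M →ₗ[L] M) (v : N'' →ₗ[L ⧸ I] N'') (huv : ∀ x, v (f x) = f (u x))
    (h : ∀ x, u x ∈ maximalIdeal L • (⊤ : Submodule L M) → x ∈ maximalIdeal L • (⊤ : Submodule L M)) :
    Function.Injective (v.lTensor ((L ⧸ I) ⧸ maximalIdeal (L ⧸ I))) := by
  have hsurj : Function.Surjective f := fun z => by
    obtain ⟨w, rfl⟩ := hf.equiv.surjective z
    obtain ⟨x, rfl⟩ := TensorProduct.mk_surjective L M (L ⧸ I) Ideal.Quotient.mk_surjective w
    exact ⟨x, by simp [IsBaseChange.equiv_tmul]⟩
  have hker : ∀ x, f x = 0 → x ∈ I • (⊤ : Submodule L M) := fun x hx => by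
    have h1 : (1 : L ⧸ I) ⊗ₜ[L] x = 0 :=
      hf.equiv.injective (by rw [IsBaseChange.equiv_tmul, one_smul, map_zero, hx])
    have h2 := congrArg (TensorProduct.quotTensorEquivQuotSMul M I) h1
    rw [map_zero, TensorProduct.quotTensorEquivQuotSMul_mk_one_tmul, Submodule.Quotient.mk_eq_zero] at h2
    exact h2
  have hmap : (maximalIdeal L).map (algebraMap L (L ⧸ I)) = maximalIdeal (L ⧸ I) :=
    IsLocalRing.eq_maximalIdeal (Ideal.IsMaximal.map_of_surjective_of_ker_le
      Ideal.Quotient.mk_surjective (by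
        rw [Ideal.mk_ker]
        exact hI))
  have hmem : ∀ x, f x ∈ maximalIdeal (L ⧸ I) • (⊤ : Submodule (L ⧸ I) N'') ↔
      x ∈ maximalIdeal L • (⊤ : Submodule L M) := fun x => by
    rw [← hmap, ← Submodule.restrictScalars_mem L, Submodule.restrictScalars_map_smul_eq, Submodule.restrictScalars_top,
      ← LinearMap.range_eq_top.mpr hsurj, ← Submodule.map_top, ← Submodule.map_smul'']
    refine ⟨?_, Submodule.mem_map_of_mem⟩
    rintro ⟨y, hy, hyx⟩
    have := Submodule.smul_mono_left hI (hker (x - y) (by rw [map_sub, hyx, sub_self]))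
    simpa using add_mem this hy
  refine (injective_iff_map_eq_zero _).2 fun z hz => ?_
  obtain ⟨n, rfl⟩ := TensorProduct.mk_surjective (L ⧸ I) N'' ((L ⧸ I) ⧸ maximalIdeal (L ⧸ I))
    Ideal.Quotient.mk_surjective z
  obtain ⟨x, rfl⟩ := hsurj n
  have hz' : (1 : (L ⧸ I) ⧸ maximalIdeal (L ⧸ I)) ⊗ₜ[L ⧸ I] f (u x) = 0 := by
    rw [← huv, ← LinearMap.lTensor_tmul]; exact hz
  have h2 := congrArg (TensorProduct.quotTensorEquivQuotSMul N'' (maximalIdeal (L ⧸ I))) hz'
  rw [map_zero, TensorProduct.quotTensorEquivQuotSMul_mk_one_tmul, Submodule.Quotient.mk_eq_zero, hmem] at h2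
  apply (TensorProduct.quotTensorEquivQuotSMul N'' (maximalIdeal (L ⧸ I))).injective
  show TensorProduct.quotTensorEquivQuotSMul N'' (maximalIdeal (L ⧸ I)) ((1 : _) ⊗ₜ[L ⧸ I] f x) = _
  rw [map_zero, TensorProduct.quotTensorEquivQuotSMul_mk_one_tmul, Submodule.Quotient.mk_eq_zero, hmem]
  exact h x h2

attribute [local instance] Algebra.TensorProduct.rightAlgebra in
/-- Models of the base change of an algebra and a module. -/
theorem exists_baseChange_models {A B : Type u} [CommRing A] [CommRing B] [Algebra A B]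
    [Algebra.FinitePresentation A B] (L : Type u) [CommRing L] [Algebra A L]
    (NB : Type u) [AddCommGroup NB] [Module B NB] [Module.FinitePresentation B NB] :
    ∃ (BL : Type u) (_ : CommRing BL) (_ : Algebra L BL) (_ : Algebra B BL) (_ : Algebra A BL)
      (_ : IsScalarTower A B BL) (_ : IsScalarTower A L BL) (_ : Algebra.IsPushout A B L BL)
      (_ : Algebra.FinitePresentation L BL) (NL : Type u) (_ : AddCommGroup NL) (_ : Module BL NL)
      (_ : Module B NL) (_ : IsScalarTower B BL NL) (_ : Module L NL) (_ : IsScalarTower L BL NL)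
      (_ : Module.FinitePresentation BL NL) (mk : NB →ₗ[B] NL), IsBaseChange BL mk := by
  let BL := L ⊗[A] B
  haveI : Algebra.IsPushout A B L BL := Algebra.IsPushout.symm inferInstance
  let NL := BL ⊗[B] NB
  exact ⟨BL, inferInstance, inferInstance, inferInstance, inferInstance, inferInstance, inferInstance,
    inferInstance, inferInstance, NL, inferInstance, inferInstance, inferInstance, inferInstance, inferInstance,
    inferInstance, inferInstance, TensorProduct.mk B BL NB 1, TensorProduct.isBaseChange B NB BL⟩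

section Main

set_option backward.isDefEq.respectTransparency false
set_option maxHeartbeats 1600000

/-- The pure spreadout over a finitely generated quotient, with the localized models given. -/
theorem exists_ideal_hasPureSpreadout {A B L BL : Type u} [CommRing A] [CommRing B] [Algebra A B]
    [CommRing L] [IsLocalRing L] [Algebra A L] [CommRing BL] [Algebra L BL] [Algebra B BL] [Algebra A BL]
    [IsScalarTower A B BL] [IsScalarTower A L BL] [Algebra.IsPushout A B L BL]
    [Algebra.FinitePresentation L BL]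
    (T : Submonoid B) {N NB NL : Type u} [AddCommGroup N] [Module B N] [Module A N] [IsScalarTower A B N]
    [AddCommGroup NB] [Module B NB] (j : NB →ₗ[B] N) [IsLocalizedModule T j]
    [AddCommGroup NL] [Module BL NL] [Module B NL] [IsScalarTower B BL NL] [Module L NL] [IsScalarTower L BL NL]
    [Module.FinitePresentation BL NL] (mk : NB →ₗ[B] NL) (hmk : IsBaseChange BL mk) :
    ∃ I : Ideal L, I.FG ∧ I ≤ maximalIdeal L ∧
      ∀ (B₁ N₁ : Type u) [CommRing B₁] [Algebra B B₁] [Algebra (L ⧸ I) B₁] [Algebra A B₁]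
        [IsScalarTower A B B₁] [IsScalarTower A (L ⧸ I) B₁]
        [Algebra.IsPushout A B (L ⧸ I) B₁]
        [AddCommGroup N₁] [Module (Localization (T.map (algebraMap B B₁))) N₁] [Module (L ⧸ I) N₁]
        [IsScalarTower (L ⧸ I) (Localization (T.map (algebraMap B B₁))) N₁]
        [Module B N₁] [IsScalarTower B (Localization (T.map (algebraMap B B₁))) N₁]
        [Module A N₁] [IsScalarTower A (L ⧸ I) N₁] [IsScalarTower A B N₁]
        (h : N →ₗ[B] N₁), IsBaseChange (L ⧸ I) (h.restrictScalars A) →
        FlatCA.HasPureSpreadout (L ⧸ I) B₁ (T.map (algebraMap B B₁)) N₁ := by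
  classical
  let mB : Ideal BL := (maximalIdeal L).map (algebraMap L BL)
  -- torsion of the closed fibre
  let Tors : Submodule BL NL :=
    { carrier := {x | ∃ t ∈ T, algebraMap B BL t • x ∈ mB • (⊤ : Submodule BL NL)}
      zero_mem' := ⟨1, one_mem _, by simp⟩
      add_mem' := by
        rintro a b ⟨s, hs, ha⟩ ⟨t, ht, hb⟩
        refine ⟨s * t, mul_mem hs ht, ?_⟩
        rw [map_mul, smul_add]
        refine add_mem ?_ ?_
        · rw [mul_comm, mul_smul]; exact Submodule.smul_mem _ _ ha
        · rw [mul_smul]; exact Submodule.smul_mem _ _ hb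
      smul_mem' := by
        rintro c x ⟨t, ht, hx⟩
        exact ⟨t, ht, by rw [smul_comm]; exact Submodule.smul_mem _ _ hx⟩ }
  let Q := NL ⧸ mB • (⊤ : Submodule BL NL)
  haveI : IsNoetherianRing (BL ⧸ mB) := by
    letI := Ideal.Quotient.field (maximalIdeal L)
    haveI : Algebra.FiniteType L BL := inferInstance
    haveI : Algebra.FiniteType L (BL ⧸ mB) :=
      Algebra.FiniteType.of_surjective (Ideal.Quotient.mkₐ L mB) (Ideal.Quotient.mkₐ_surjective L mB)
    haveI : Algebra.FiniteType (L ⧸ maximalIdeal L) (BL ⧸ mB) :=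
      Algebra.FiniteType.of_restrictScalars_finiteType L _ _
    exact Algebra.FiniteType.isNoetherianRing (L ⧸ maximalIdeal L) _
  haveI : _root_.IsNoetherian BL Q := H7Flat.Chain.isNoetherian_of_annihilated mB fun c hc x => by
    obtain ⟨x, rfl⟩ := Submodule.Quotient.mk_surjective _ x
    rw [← Submodule.Quotient.mk_smul, Submodule.Quotient.mk_eq_zero]
    exact Submodule.smul_mem_smul hc trivial
  obtain ⟨r, w, hw⟩ := Submodule.fg_iff_exists_fin_generating_family.mp
    (IsNoetherian.noetherian (Tors.map (mB • (⊤ : Submodule BL NL)).mkQ))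
  have hy : ∀ i, ∃ y ∈ Tors, (mB • (⊤ : Submodule BL NL)).mkQ y = w i := fun i =>
    Submodule.mem_map.mp (hw ▸ Submodule.subset_span ⟨i, rfl⟩)
  choose y hy hyw using hy
  choose t htT ht using hy
  choose J₁ hJ₁ hJ₁m hJ₁t using fun i => exists_fg_mem_smul_top (ht i)
  let Y := Submodule.span BL (Set.range y)
  let M := NL ⧸ Y
  haveI : Module.FinitePresentation BL M :=
    Module.finitePresentation_of_surjective Y.mkQ (Submodule.mkQ_surjective _) (by
      rw [Submodule.ker_mkQ]; exact Submodule.fg_span (Set.finite_range y))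
  obtain ⟨I₂, hI₂, hI₂m, hproj⟩ := exists_fg_ideal_projective (L := L) (C := BL) (M := M)
  let I := Finset.univ.sup J₁ ⊔ I₂
  have hIm : I ≤ maximalIdeal L := sup_le (Finset.sup_le fun i _ => hJ₁m i) hI₂m
  refine ⟨I, Submodule.FG.sup (Submodule.fg_finset_sup _ _ fun i _ => hJ₁ i) hI₂, hIm, ?_⟩
  intro B₁ N₁ _ _ _ _ _ _ _ _ _ _ _ _ _ _ _ _ h hh
  let A₁ := L ⧸ I
  let T₁ := T.map (algebraMap B B₁)
  haveI : Nontrivial A₁ := Ideal.Quotient.nontrivial_iff.mpr (ne_top_of_le_ne_top (maximalIdeal.isMaximal L).ne_top hIm)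
  haveI : IsLocalRing A₁ := IsLocalRing.of_surjective' _ Ideal.Quotient.mk_surjective
  letI : Algebra L B₁ := ((algebraMap A₁ B₁).comp (algebraMap L A₁)).toAlgebra
  haveI : IsScalarTower L A₁ B₁ := IsScalarTower.of_algebraMap_eq fun _ => rfl
  haveI : IsScalarTower A L B₁ := IsScalarTower.of_algebraMap_eq fun a => by
    rw [IsScalarTower.algebraMap_apply L A₁ B₁, ← IsScalarTower.algebraMap_apply A L A₁,
      ← IsScalarTower.algebraMap_apply A A₁ B₁]
  haveI : Algebra.IsPushout A L B BL := Algebra.IsPushout.symm inferInstance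
  let fl := IsScalarTower.toAlgHom A L B₁
  let fr := IsScalarTower.toAlgHom A B B₁
  have hcomm : ∀ x y, fl x * fr y = fr y * fl x := fun _ _ => mul_comm _ _
  let φ : BL →ₐ[A] B₁ := Algebra.pushoutDesc BL (R := A) (S := L) (R' := B) fl fr hcomm
  letI : Algebra BL B₁ := φ.toRingHom.toAlgebra
  haveI : IsScalarTower L BL B₁ := IsScalarTower.of_algebraMap_eq fun x =>
    (show φ (algebraMap L BL x) = fl x from Algebra.pushoutDesc_left BL fl fr hcomm x).symm
  haveI : IsScalarTower B BL B₁ := IsScalarTower.of_algebraMap_eq fun b =>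
    (show φ (algebraMap B BL b) = fr b from Algebra.pushoutDesc_right BL fl fr hcomm b).symm
  haveI : IsScalarTower A BL B₁ := IsScalarTower.of_algebraMap_eq fun a => (φ.commutes a).symm
  haveI : Algebra.IsPushout L BL A₁ B₁ := by
    haveI : Algebra.IsPushout A A₁ B B₁ := Algebra.IsPushout.symm inferInstance
    exact ((Algebra.IsPushout.comp_iff A L B BL (T := A₁) (T' := B₁)).mp inferInstance).symm
  -- the spreadout
  let N'' := B₁ ⊗[BL] M
  let π : M →ₗ[BL] N'' := TensorProduct.mk BL B₁ M 1
  have hπ : IsBaseChange B₁ π := TensorProduct.isBaseChange BL M B₁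
  haveI : Module.FinitePresentation B₁ N'' := inferInstance
  haveI : Module.Projective A₁ N'' := by
    haveI := hproj I le_sup_right
    exact Module.Projective.of_equiv
      (H8Props.FlatAtBC.isBaseChange_restrictScalars (R := L) (R' := A₁) π hπ).equiv
  have hπA : IsBaseChange A₁ (π.restrictScalars L) :=
    H8Props.FlatAtBC.isBaseChange_restrictScalars (R := L) (R' := A₁) π hπ
  have hmB : ∀ x : M, x ∈ mB • (⊤ : Submodule BL M) ↔ x ∈ maximalIdeal L • (⊤ : Submodule L M) := fun x => by
    rw [← Submodule.restrictScalars_mem L, Submodule.restrictScalars_map_smul_eq, Submodule.restrictScalars_top]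
  have hmap : ∀ z : NL, z ∈ mB • (⊤ : Submodule BL NL) → Y.mkQ z ∈ mB • (⊤ : Submodule BL M) := fun z hz => by
    have h := Submodule.mem_map_of_mem (f := Y.mkQ) hz
    rw [Submodule.map_smul'', Submodule.map_top, Submodule.range_mkQ] at h
    exact h
  have hYT : ∀ z : NL, z ∈ Tors → Y.mkQ z ∈ mB • (⊤ : Submodule BL M) := fun z hz => by
    have h1 : (mB • (⊤ : Submodule BL NL)).mkQ z ∈ Submodule.span BL (Set.range w) :=
      hw.symm ▸ Submodule.mem_map_of_mem hz
    obtain ⟨c, hc⟩ := (Submodule.mem_span_range_iff_exists_fun _).mp h1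
    have h2 : z - ∑ i, c i • y i ∈ mB • (⊤ : Submodule BL NL) := by
      rw [← Submodule.Quotient.mk_eq_zero, ← Submodule.mkQ_apply, map_sub, map_sum]
      simp only [map_smul, hyw]
      rw [hc, sub_self]
    have h3 : Y.mkQ (∑ i, c i • y i) = 0 := by
      rw [Submodule.mkQ_apply, Submodule.Quotient.mk_eq_zero]
      exact Submodule.sum_mem _ fun i _ => Submodule.smul_mem _ _ (Submodule.subset_span ⟨i, rfl⟩)
    have h4 := hmap _ h2
    rwa [map_sub, h3, sub_zero] at h4
  have hsat : ∀ s ∈ T, ∀ x : M, algebraMap B BL s • x ∈ mB • (⊤ : Submodule BL M) →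
      x ∈ mB • (⊤ : Submodule BL M) := by
    intro s hs x hx
    obtain ⟨z, rfl⟩ := Submodule.mkQ_surjective Y x
    refine hYT z ?_
    have h1 : algebraMap B BL s • z ∈ Tors := by
      have h2 : Y.mkQ (algebraMap B BL s • z) ∈ (mB • (⊤ : Submodule BL NL)).map Y.mkQ := by
        rw [Submodule.map_smul'', Submodule.map_top, Submodule.range_mkQ, map_smul]
        exact hx
      obtain ⟨a, ha, hax⟩ := h2
      have h3 : algebraMap B BL s • z - a ∈ Y := by
        rw [← Submodule.Quotient.mk_eq_zero, ← Submodule.mkQ_apply, map_sub, hax, sub_self]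
      have hYle : Y ≤ Tors := Submodule.span_le.mpr (by rintro _ ⟨i, rfl⟩; exact ⟨t i, htT i, ht i⟩)
      have haT : a ∈ Tors := ⟨1, one_mem _, by rw [map_one, one_smul]; exact ha⟩
      simpa using add_mem (hYle h3) haT
    obtain ⟨t', ht', h1⟩ := h1
    exact ⟨t' * s, mul_mem ht' hs, by rw [map_mul, mul_smul]; exact h1⟩
  -- elements regular on the closed fibre
  have hreg : ∀ s ∈ T₁, FlatCA.UnivInj A₁ ((LinearMap.lsmul B₁ N'' s).restrictScalars A₁) := by
    rintro _ ⟨s, hs, rfl⟩
    refine H7Flat.Chain.univInj_lsmul _ (injective_lTensor_of_regular hIm hπA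
      ((LinearMap.lsmul BL M (algebraMap B BL s)).restrictScalars L) _ (fun x => ?_)
      fun x hx => (hmB x).mp (hsat s hs x ((hmB _).mpr hx)))
    show algebraMap B B₁ s • π x = π (algebraMap B BL s • x)
    rw [map_smul, IsScalarTower.algebraMap_apply B BL B₁, algebraMap_smul]
  -- the map to the given localization
  letI : Module B₁ N₁ := Module.compHom N₁ (algebraMap B₁ (Localization T₁))
  haveI : IsScalarTower B₁ (Localization T₁) N₁ := IsScalarTower.of_algebraMap_smul fun _ _ => rfl
  haveI : IsScalarTower B B₁ N₁ := IsScalarTower.of_algebraMap_smul fun b (x : N₁) => by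
    show algebraMap B₁ (Localization T₁) (algebraMap B B₁ b) • x = b • x
    rw [← IsScalarTower.algebraMap_apply, algebraMap_smul]
  haveI : IsScalarTower A₁ B₁ N₁ := IsScalarTower.of_algebraMap_smul fun a (x : N₁) => by
    show algebraMap B₁ (Localization T₁) (algebraMap A₁ B₁ a) • x = a • x
    rw [← IsScalarTower.algebraMap_apply, algebraMap_smul]
  letI : Module BL N₁ := Module.compHom N₁ (algebraMap BL B₁)
  haveI : IsScalarTower BL B₁ N₁ := IsScalarTower.of_algebraMap_smul fun _ _ => rfl
  haveI : IsScalarTower B BL N₁ := IsScalarTower.of_algebraMap_smul fun b (x : N₁) => by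
    show algebraMap BL B₁ (algebraMap B BL b) • x = b • x
    rw [← IsScalarTower.algebraMap_apply, algebraMap_smul]
  have hu : ∀ s ∈ T, Function.Bijective fun x : N₁ => algebraMap B B₁ s • x := fun s hs => by
    have := IsLocalization.map_units (Localization T₁) (⟨algebraMap B B₁ s, s, hs, rfl⟩ : T₁)
    obtain ⟨v, hv⟩ := this
    have e : ∀ x : N₁, algebraMap B B₁ s • x = (v : Localization T₁) • x := fun x => by
      rw [hv]; exact (algebraMap_smul _ _ _).symm
    simp only [e]
    exact ⟨fun a b hab => by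
      have := congrArg (fun z => (↑v⁻¹ : Localization T₁) • z) hab
      simpa [smul_smul] using this, fun b => ⟨(↑v⁻¹ : Localization T₁) • b, by simp [smul_smul]⟩⟩
  let gL : NL →ₗ[BL] N₁ := hmk.lift (h.comp j)
  have hgL : ∀ x, gL (mk x) = h (j x) := fun x => hmk.lift_eq _ x
  have hIkill : ∀ z ∈ I.map (algebraMap L BL) • (⊤ : Submodule BL NL), gL z = 0 := fun z hz => by
    refine Submodule.smul_induction_on hz (fun c hc z _ => ?_) fun a b ha hb => by rw [map_add, ha, hb, add_zero]
    rw [map_smul, ← algebraMap_smul B₁ c (gL z)]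
    have hc' : algebraMap BL B₁ c = 0 := by
      have : I.map (algebraMap L BL) ≤ RingHom.ker (algebraMap BL B₁) := Ideal.map_le_iff_le_comap.mpr fun a ha => by
        rw [Ideal.mem_comap, RingHom.mem_ker, ← IsScalarTower.algebraMap_apply,
          IsScalarTower.algebraMap_apply L A₁ B₁]
        rw [show algebraMap L A₁ a = 0 from Ideal.Quotient.eq_zero_iff_mem.mpr ha, map_zero]
      exact this hc
    rw [hc', zero_smul]
  have hY : Y ≤ LinearMap.ker gL := Submodule.span_le.mpr (by
    rintro _ ⟨i, rfl⟩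
    refine (hu _ (htT i)).1 ?_
    show algebraMap B B₁ (t i) • gL (y i) = algebraMap B B₁ (t i) • 0
    rw [smul_zero, IsScalarTower.algebraMap_apply B BL B₁, algebraMap_smul, ← map_smul]
    exact hIkill _ (Submodule.smul_mono_left (Ideal.map_mono ((Finset.le_sup (Finset.mem_univ i)).trans le_sup_left))
      (hJ₁t i)))
  let g : N'' →ₗ[B₁] N₁ := hπ.lift (Y.liftQ gL hY)
  have hg : ∀ x : NB, g (π (Y.mkQ (mk x))) = h (j x) := fun x => by
    rw [show g (π (Y.mkQ (mk x))) = Y.liftQ gL hY (Y.mkQ (mk x)) from hπ.lift_eq _ _]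
    exact hgL x
  -- the inverse up to denominators
  let W := LocalizedModule T₁ N''
  let mkW : N'' →ₗ[B₁] W := LocalizedModule.mkLinearMap T₁ N''
  let k₀ : NB →ₗ[B] W := (mkW.restrictScalars B).comp
    ((π.restrictScalars B).comp ((Y.mkQ.restrictScalars B).comp mk))
  let k : N →ₗ[B] W := IsLocalizedModule.lift T j k₀ fun s => by
    rw [Module.End.isUnit_iff]
    have hb : Function.Bijective (algebraMap B₁ (Module.End B₁ W) (algebraMap B B₁ s)) :=
      (Module.End.isUnit_iff _).1
        (IsLocalizedModule.map_units mkW (⟨algebraMap B B₁ s, s, s.2, rfl⟩ : T₁))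
    have he : ∀ x : W, (algebraMap B (Module.End B W) s) x = algebraMap B B₁ (s : B) • x := fun x => by
      rw [Module.algebraMap_end_apply, algebraMap_smul]
    exact ⟨fun a b hab => hb.1 (by simpa [he] using hab), fun b => by
      obtain ⟨a, ha⟩ := hb.2 b
      exact ⟨a, by rw [he]; exact ha⟩⟩
  have hk : ∀ x, k (j x) = k₀ x := fun x => IsLocalizedModule.lift_apply T j k₀ _ x
  let ψ : N₁ →ₗ[A₁] W := hh.lift (k.restrictScalars A)
  have hψ : ∀ n, ψ (h n) = k n := fun n => hh.lift_eq _ n
  letI : Module A NB := Module.compHom NB (algebraMap A B)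
  haveI : IsScalarTower A B NB := IsScalarTower.of_algebraMap_smul fun _ _ => rfl
  letI : Module A NL := Module.compHom NL (algebraMap A BL)
  haveI : IsScalarTower A BL NL := IsScalarTower.of_algebraMap_smul fun _ _ => rfl
  haveI : IsScalarTower A B NL := IsScalarTower.of_algebraMap_smul fun a (x : NL) => by
    rw [← algebraMap_smul BL (algebraMap A B a) x, ← IsScalarTower.algebraMap_apply, algebraMap_smul]
  haveI : IsScalarTower A L NL := IsScalarTower.of_algebraMap_smul fun a (x : NL) => by
    rw [← algebraMap_smul BL (algebraMap A L a) x, ← IsScalarTower.algebraMap_apply, algebraMap_smul]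
  have hmkA : IsBaseChange L (mk.restrictScalars A) :=
    H8Props.FlatAtBC.isBaseChange_restrictScalars mk hmk
  have hgen : ∀ z : N'', z ∈ Submodule.span A₁ (Set.range fun x => π (Y.mkQ (mk x))) := by
    intro z
    obtain ⟨w, rfl⟩ := hπA.equiv.surjective z
    induction w using TensorProduct.induction_on with
    | zero => simp
    | add a b ha hb => rw [map_add]; exact add_mem ha hb
    | tmul a x =>
      rw [IsBaseChange.equiv_tmul]
      refine Submodule.smul_mem _ _ ?_
      obtain ⟨x, rfl⟩ := Submodule.mkQ_surjective Y x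
      refine hmkA.inductionOn x (fun z => π.restrictScalars L (Y.mkQ z) ∈ Submodule.span A₁
        (Set.range fun x => π (Y.mkQ (mk x)))) ?_ (fun x => Submodule.subset_span ⟨x, rfl⟩)
        (fun l z hz => ?_) fun a b ha hb => ?_
      · simp
      · rw [LinearMap.map_smul_of_tower Y.mkQ, LinearMap.map_smul, ← algebraMap_smul A₁ l]
        exact Submodule.smul_mem _ _ hz
      · rw [map_add, map_add]; exact add_mem ha hb
  have hψg : ∀ z, ψ (g z) = mkW z := fun z => by
    have : ψ.comp (g.restrictScalars A₁) = mkW.restrictScalars A₁ :=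
      LinearMap.ext_on (top_unique fun z _ => hgen z) (by
        rintro _ ⟨x, rfl⟩
        show ψ (g (π (Y.mkQ (mk x)))) = mkW (π (Y.mkQ (mk x)))
        rw [hg, hψ, hk]
        rfl)
    exact LinearMap.congr_fun this z
  haveI : IsLocalizedModule T₁ g := by
    refine ⟨fun s => ?_, fun n₁ => ?_, fun {x₁ x₂} hx => ?_⟩
    · obtain ⟨_, s, hs, rfl⟩ := s
      rw [Module.End.isUnit_iff]
      exact hu s hs
    · obtain ⟨w, rfl⟩ := hh.equiv.surjective n₁
      induction w using TensorProduct.induction_on with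
      | zero => exact ⟨(0, 1), by simp⟩
      | add a b ha hb =>
        obtain ⟨⟨za, sa⟩, ha⟩ := ha
        obtain ⟨⟨zb, sb⟩, hb⟩ := hb
        refine ⟨((sb : B₁) • za + (sa : B₁) • zb, sa * sb), ?_⟩
        simp only [Submonoid.smul_def] at ha hb
        rw [map_add, Submonoid.smul_def, map_add, map_smul, map_smul, ← ha, ← hb, smul_add, Submonoid.coe_mul,
          smul_smul, smul_smul, mul_comm (sb : B₁)]
      | tmul a n =>
        obtain ⟨⟨x, s⟩, hs⟩ := IsLocalizedModule.surj T j n
        refine ⟨(a • π (Y.mkQ (mk x)), ⟨algebraMap B B₁ (s : B), (s : B), s.2, rfl⟩), ?_⟩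
        rw [Submonoid.smul_def] at hs
        rw [IsBaseChange.equiv_tmul, Submonoid.smul_def, LinearMap.map_smul_of_tower, hg, ← hs]
        show algebraMap B B₁ (s : B) • a • h n = a • h ((s : B) • n)
        rw [map_smul h, ← algebraMap_smul B₁ (s : B) (h n), smul_comm]
    · have : mkW (x₁ - x₂) = 0 := by rw [← hψg, map_sub, hx, sub_self, map_zero]
      obtain ⟨c, hc⟩ := (IsLocalizedModule.eq_zero_iff T₁ mkW).1 this
      exact ⟨c, by rwa [smul_sub, sub_eq_zero] at hc⟩
  exact ⟨B₁, inferInstance, Algebra.id B₁, inferInstance, IsScalarTower.right, inferInstance,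
    IsScalarTower.left B₁, inferInstance, inferInstance, inferInstance, inferInstance,
    N'', inferInstance, inferInstance, inferInstance, inferInstance, g,
    (by
      show IsOpenImmersion (Spec.map (CommRingCat.ofHom (RingHom.id B₁)))
      rw [show CommRingCat.ofHom (RingHom.id B₁) = 𝟙 (CommRingCat.of B₁) from rfl, Spec.map_id]
      infer_instance),
    inferInstance, (isLocalizedModule_iff_isBaseChange T₁ (Localization T₁) g).mp inferInstance,
    inferInstance, univInj_of_isLocalizedModule T₁ g hreg⟩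


end Main

end Groth.Agent.H7Flat.PureSpreadoutQuotient
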