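import Groth.Agent.H7Flat.PushoutAffine
import Mathlib.AlgebraicGeometry.Morphisms.ClosedImmersion

/-!
# Adapted pairs of affine opens for a pushout along a closed immersion
-/

set_option autoImplicit false
set_option linter.style.haveILetI false
set_option backward.isDefEq.respectTransparency false

universe u

open CategoryTheory AlgebraicGeometry Limits TopologicalSpace Opposite

namespace Groth.Agent.H7Flat

section Ring

variable {R A' B A : Type u} [CommRing R] [CommRing A'] [CommRing B] [CommRing A]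
  {pa : R →+* A'} {pb : R →+* B} {p : A' →+* A} {q : B →+* A}

theorem RingSq.isUnit_of_isUnit (h : RingSq pa pb p q) {z : R} (h1 : IsUnit (pa z)) (h2 : IsUnit (pb z)) :
    IsUnit z := by
  obtain ⟨u, hu⟩ := h1.exists_right_inv
  obtain ⟨v, hv⟩ := h2.exists_right_inv
  have hp : p u = q v := by
    have e1 : p (pa z) * p u = 1 := by rw [← map_mul, hu, map_one]
    have e2 : q (pb z) * q v = 1 := by rw [← map_mul, hv, map_one]
    rw [← h.comm] at e2
    exact (IsUnit.of_mul_eq_one _ e1).mul_left_cancel (e1.trans e2.symm)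
  obtain ⟨w, hw1, hw2⟩ := h.exists_lift u v hp
  exact IsUnit.of_mul_eq_one _ (h.ext (z * w) 1 (by rw [map_mul, hw1, hu, map_one])
    (by rw [map_mul, hw2, hv, map_one]))

/-- A map of squares that is bijective on three corners is bijective on the fourth. -/
theorem RingSq.bijective {R' A₁ B₁ A₀ : Type u} [CommRing R'] [CommRing A₁] [CommRing B₁] [CommRing A₀]
    {pa' : R' →+* A₁} {pb' : R' →+* B₁} {p' : A₁ →+* A₀} {q' : B₁ →+* A₀}
    (h : RingSq pa pb p q) (h' : RingSq pa' pb' p' q') (f : R →+* R') (fa : A' →+* A₁) (fb : B →+* B₁)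
    (f0 : A →+* A₀) (ha : pa'.comp f = fa.comp pa) (hb : pb'.comp f = fb.comp pb)
    (hp : p'.comp fa = f0.comp p) (hq : q'.comp fb = f0.comp q)
    (hfa : Function.Bijective fa) (hfb : Function.Bijective fb) (hf0 : Function.Injective f0) :
    Function.Bijective f := by
  refine ⟨fun z z' hz => h.ext _ _ (hfa.1 ?_) (hfb.1 ?_), fun w => ?_⟩
  · exact ((RingHom.congr_fun ha z).symm.trans (congrArg pa' hz)).trans (RingHom.congr_fun ha z')
  · exact ((RingHom.congr_fun hb z).symm.trans (congrArg pb' hz)).trans (RingHom.congr_fun hb z')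
  · obtain ⟨x, hx⟩ := hfa.2 (pa' w)
    obtain ⟨y, hy⟩ := hfb.2 (pb' w)
    obtain ⟨z, hz1, hz2⟩ := h.exists_lift x y (hf0 (by
      rw [← RingHom.comp_apply f0 p, ← RingHom.comp_apply f0 q, ← hp, ← hq, RingHom.comp_apply,
        RingHom.comp_apply, hx, hy, h'.comm]))
    exact ⟨z, h'.ext _ _
      (((RingHom.congr_fun ha z).trans (congrArg fa hz1)).trans hx)
      (((RingHom.congr_fun hb z).trans (congrArg fb hz2)).trans hy)⟩

/-- Given compatible opens of `Spec A'` and `Spec B`, a point of `Spec R` coming from them has a basic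
neighbourhood whose traces lie in them. -/
theorem RingSq.exists_elem (h : RingSq pa pb p q) (OA : Opens (PrimeSpectrum A')) (OB : Opens (PrimeSpectrum B))
    (compat : ∀ x : PrimeSpectrum A, PrimeSpectrum.comap p x ∈ OA ↔ PrimeSpectrum.comap q x ∈ OB)
    (r : PrimeSpectrum R)
    (hr : (∃ α ∈ OA, PrimeSpectrum.comap pa α = r) ∨ ∃ β ∈ OB, PrimeSpectrum.comap pb β = r) :
    ∃ e : R, r ∈ PrimeSpectrum.basicOpen e ∧ PrimeSpectrum.basicOpen (pa e) ≤ OA ∧
      PrimeSpectrum.basicOpen (pb e) ≤ OB := by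
  classical
  have caseB : ∀ β ∈ OB, ∃ e : R, PrimeSpectrum.comap pb β ∈ PrimeSpectrum.basicOpen e ∧
      PrimeSpectrum.basicOpen (pa e) ≤ OA ∧ PrimeSpectrum.basicOpen (pb e) ≤ OB := by
    intro β hβ
    obtain ⟨_, ⟨b₁, rfl⟩, hb₁, hb₁W⟩ :=
      PrimeSpectrum.isTopologicalBasis_basic_opens.exists_subset_of_mem_open hβ OB.2
    obtain ⟨a₁, ha₁⟩ := h.surj (q b₁)
    obtain ⟨K, hK⟩ := (PrimeSpectrum.isClosed_iff_zeroLocus_ideal _).1 OA.2.isClosed_compl
    obtain ⟨N₀, hN₀⟩ : a₁ ∈ (K ⊔ RingHom.ker p).radical := by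
      rw [Ideal.radical_eq_sInf, Ideal.mem_sInf]
      rintro P ⟨hle, hP⟩
      by_contra ha
      have hPker : RingHom.ker p ≤ P := le_sup_right.trans hle
      obtain ⟨x, hx⟩ : (⟨P, hP⟩ : PrimeSpectrum A') ∈ Set.range (PrimeSpectrum.comap p) := by
        rw [range_comap_of_surjective _ _ h.surj]; exact hPker
      have hxb : b₁ ∉ (PrimeSpectrum.comap q x).asIdeal := by
        show q b₁ ∉ x.asIdeal
        rw [← ha₁]
        show a₁ ∉ (PrimeSpectrum.comap p x).asIdeal
        rw [hx]; exact ha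
      have hxW : PrimeSpectrum.comap p x ∈ OA := (compat x).2 (hb₁W hxb)
      have h3 : (⟨P, hP⟩ : PrimeSpectrum A') ∈ PrimeSpectrum.zeroLocus (K : Set A') := le_sup_left.trans hle
      exact (hK.symm.le h3 : _) (hx ▸ hxW)
    obtain ⟨N, hN0, hN⟩ : ∃ N, 0 < N ∧ a₁ ^ N ∈ K ⊔ RingHom.ker p :=
      ⟨N₀ + 1, Nat.succ_pos _, by rw [pow_succ]; exact Ideal.mul_mem_right _ _ hN₀⟩
    obtain ⟨k, hk, c, hc, hkc⟩ := Submodule.mem_sup.1 hN
    obtain ⟨e, he₁, he₂⟩ := h.exists_lift k (b₁ ^ N) (by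
      rw [map_pow, ← ha₁, ← map_pow, ← hkc, map_add, show p c = 0 from hc, add_zero])
    refine ⟨e, ?_, fun x hx => ?_, fun y hy => ?_⟩
    · show pb e ∉ β.asIdeal
      rw [he₂]; exact fun hh => hb₁ (β.isPrime.mem_of_pow_mem _ hh)
    · by_contra hxW
      apply hx
      rw [he₁]
      exact (hK.le hxW : _) hk
    · refine hb₁W ?_
      show b₁ ∉ y.asIdeal
      intro hh
      apply hy
      rw [he₂]
      exact Ideal.pow_mem_of_mem _ hh N hN0
  rcases hr with ⟨α, hα, rfl⟩ | ⟨β, hβ, rfl⟩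
  · by_cases hker : RingHom.ker p ≤ α.asIdeal
    · obtain ⟨x, rfl⟩ : α ∈ Set.range (PrimeSpectrum.comap p) := by
        rw [range_comap_of_surjective _ _ h.surj]; exact hker
      have hx : PrimeSpectrum.comap pa (PrimeSpectrum.comap p x) =
          PrimeSpectrum.comap pb (PrimeSpectrum.comap q x) := by
        ext z
        show p (pa z) ∈ x.asIdeal ↔ q (pb z) ∈ x.asIdeal
        rw [h.comm]
      rw [hx]
      exact caseB _ ((compat x).1 hα)
    · obtain ⟨j, hj, hjα⟩ := SetLike.not_le_iff_exists.1 hker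
      obtain ⟨_, ⟨c, rfl⟩, hc, hcW⟩ :=
        PrimeSpectrum.isTopologicalBasis_basic_opens.exists_subset_of_mem_open hα OA.2
      obtain ⟨e, he₁, he₂⟩ := h.exists_lift (j * c) 0 (by
        rw [map_mul, show p j = 0 from hj, zero_mul, map_zero])
      refine ⟨e, ?_, fun x hx => hcW ?_, fun y hy => ?_⟩
      · show pa e ∉ α.asIdeal
        rw [he₁]; exact fun hh => (α.isPrime.mem_or_mem hh).elim hjα hc
      · show c ∉ x.asIdeal
        intro hh; apply hx; rw [he₁]; exact Ideal.mul_mem_left _ _ hh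
      · exact absurd (by rw [he₂]; exact zero_mem _) hy
  · exact caseB β hβ

end Ring

variable {X Y Z : Scheme.{u}} {i : Z ⟶ X} {j : Z ⟶ Y}

/-- A pair of affine opens with the same preimage. -/
@[ext]
structure AP (i : Z ⟶ X) (j : Z ⟶ Y) : Type u where
  U : X.Opens
  V : Y.Opens
  hU : IsAffineOpen U
  hV : IsAffineOpen V
  hUV : i ⁻¹ᵁ U = j ⁻¹ᵁ V

instance : Preorder (AP i j) where
  le π π' := π.U ≤ π'.U ∧ π.V ≤ π'.V
  le_refl π := ⟨le_rfl, le_rfl⟩
  le_trans _ _ _ h h' := ⟨h.1.trans h'.1, h.2.trans h'.2⟩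

namespace AP

/-- The common preimage. -/
abbrev W (π : AP i j) : Z.Opens := i ⁻¹ᵁ π.U

theorem W_mono {π π' : AP i j} (h : π ≤ π') : π.W ≤ π'.W := fun _ hx => h.1 hx

theorem W_le (π : AP i j) : π.W ≤ j ⁻¹ᵁ π.V := π.hUV.le

theorem hW [IsAffineHom i] (π : AP i j) : IsAffineOpen π.W := π.hU.preimage i

noncomputable abbrev p (π : AP i j) : Γ(X, π.U) →+* Γ(Z, π.W) := (i.appLE π.U π.W le_rfl).hom

noncomputable abbrev q (π : AP i j) : Γ(Y, π.V) →+* Γ(Z, π.W) := (j.appLE π.V π.W π.W_le).hom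

/-- The fibre product of the rings of sections. -/
noncomputable def R (π : AP i j) : Subring (Γ(X, π.U) × Γ(Y, π.V)) :=
  RingHom.eqLocus (π.p.comp (RingHom.fst _ _)) (π.q.comp (RingHom.snd _ _))

noncomputable abbrev pa (π : AP i j) : π.R →+* Γ(X, π.U) := (RingHom.fst _ _).comp π.R.subtype

noncomputable abbrev pb (π : AP i j) : π.R →+* Γ(Y, π.V) := (RingHom.snd _ _).comp π.R.subtype

theorem ringSq [IsClosedImmersion i] (π : AP i j) : RingSq π.pa π.pb π.p π.q where
  comm z := z.2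
  surj := by
    have := i.app_surjective π.U π.hU
    rwa [AP.p, Scheme.Hom.appLE_eq_app]
  ext _ _ h1 h2 := Subtype.ext (Prod.ext h1 h2)
  exists_lift x y h := ⟨⟨(x, y), h⟩, rfl, rfl⟩

noncomputable abbrev resX {π π' : AP i j} (h : π ≤ π') : Γ(X, π'.U) →+* Γ(X, π.U) :=
  (X.presheaf.map (homOfLE h.1).op).hom

noncomputable abbrev resY {π π' : AP i j} (h : π ≤ π') : Γ(Y, π'.V) →+* Γ(Y, π.V) :=
  (Y.presheaf.map (homOfLE h.2).op).hom

noncomputable abbrev resZ {π π' : AP i j} (h : π ≤ π') : Γ(Z, π'.W) →+* Γ(Z, π.W) :=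
  (Z.presheaf.map (homOfLE (W_mono h)).op).hom

theorem p_res {π π' : AP i j} (h : π ≤ π') : π.p.comp (resX h) = (resZ h).comp π'.p := by
  rw [AP.p, AP.p, resX, resZ, ← CommRingCat.hom_comp, ← CommRingCat.hom_comp, Scheme.Hom.map_appLE,
    Scheme.Hom.appLE_map]

theorem q_res {π π' : AP i j} (h : π ≤ π') : π.q.comp (resY h) = (resZ h).comp π'.q := by
  rw [AP.q, AP.q, resY, resZ, ← CommRingCat.hom_comp, ← CommRingCat.hom_comp, Scheme.Hom.map_appLE,
    Scheme.Hom.appLE_map]

/-- The restriction map of the fibre products. -/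
noncomputable def res {π π' : AP i j} (h : π ≤ π') : π'.R →+* π.R :=
  RingHom.codRestrict (RingHom.prod ((resX h).comp π'.pa) ((resY h).comp π'.pb)) π.R fun z => by
    show π.p (resX h (π'.pa z)) = π.q (resY h (π'.pb z))
    rw [← RingHom.comp_apply π.p, ← RingHom.comp_apply π.q, p_res, q_res, RingHom.comp_apply,
      RingHom.comp_apply]
    exact congrArg _ z.2

theorem pa_res {π π' : AP i j} (h : π ≤ π') : π.pa.comp (res h) = (resX h).comp π'.pa := rfl

theorem pb_res {π π' : AP i j} (h : π ≤ π') : π.pb.comp (res h) = (resY h).comp π'.pb := rfl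

theorem res_refl (π : AP i j) : res (le_refl π) = RingHom.id _ := by
  refine RingHom.ext fun z => Subtype.ext (Prod.ext ?_ ?_)
  · show X.presheaf.map (𝟙 (op π.U)) z.1.1 = _
    rw [CategoryTheory.Functor.map_id]; rfl
  · show Y.presheaf.map (𝟙 (op π.V)) z.1.2 = _
    rw [CategoryTheory.Functor.map_id]; rfl

theorem res_comp {π π' π'' : AP i j} (h : π ≤ π') (h' : π' ≤ π'') :
    res (h.trans h') = (res h).comp (res h') := by
  refine RingHom.ext fun z => Subtype.ext (Prod.ext ?_ ?_)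
  · show _ = X.presheaf.map (homOfLE h.1).op (X.presheaf.map (homOfLE h'.1).op z.1.1)
    rw [← CommRingCat.comp_apply, ← Functor.map_comp]; rfl
  · show _ = Y.presheaf.map (homOfLE h.2).op (Y.presheaf.map (homOfLE h'.2).op z.1.2)
    rw [← CommRingCat.comp_apply, ← Functor.map_comp]; rfl

/-- The pair cut out by an element of the fibre product. -/
noncomputable def basic (π : AP i j) (e : π.R) : AP i j where
  U := X.basicOpen (π.pa e)
  V := Y.basicOpen (π.pb e)
  hU := π.hU.basicOpen _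
  hV := π.hV.basicOpen _
  hUV := by
    have h1 : Z.basicOpen (π.p (π.pa e)) = π.W ⊓ i ⁻¹ᵁ X.basicOpen (π.pa e) :=
      Scheme.basicOpen_appLE _ _ _ _ _
    have h2 : Z.basicOpen (π.q (π.pb e)) = π.W ⊓ j ⁻¹ᵁ Y.basicOpen (π.pb e) :=
      Scheme.basicOpen_appLE _ _ _ _ _
    rw [inf_eq_right.2 (show i ⁻¹ᵁ X.basicOpen (π.pa e) ≤ π.W from
      fun _ hx => X.basicOpen_le (π.pa e) hx)] at h1
    rw [inf_eq_right.2 (show j ⁻¹ᵁ Y.basicOpen (π.pb e) ≤ π.W from
      fun _ hx => π.hUV.ge (Y.basicOpen_le (π.pb e) hx))] at h2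
    rw [← h1, ← h2]
    exact congrArg _ e.2

theorem basic_le (π : AP i j) (e : π.R) : π.basic e ≤ π := ⟨X.basicOpen_le _, Y.basicOpen_le _⟩

theorem W_basic (π : AP i j) (e : π.R) : (π.basic e).W = Z.basicOpen (π.p (π.pa e)) := by
  refine ((Scheme.basicOpen_appLE _ _ _ _ _).trans (inf_eq_right.2 ?_)).symm
  exact fun _ hx => X.basicOpen_le (π.pa e) hx

variable [IsClosedImmersion i]

/-- The ring of `π.basic e` is the localization of that of `π`. -/
theorem isLocalization_basic (π : AP i j) (e : π.R) :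
    letI := (res (π.basic_le e)).toAlgebra
    IsLocalization.Away e (π.basic e).R := by
  letI := (res (π.basic_le e)).toAlgebra
  letI := (resX (π.basic_le e)).toAlgebra
  letI := (resY (π.basic_le e)).toAlgebra
  letI := (resZ (π.basic_le e)).toAlgebra
  haveI hA : IsLocalization.Away (π.pa e) Γ(X, (π.basic e).U) :=
    π.hU.isLocalization_of_eq_basicOpen _ _ rfl
  haveI hB : IsLocalization.Away (π.pb e) Γ(Y, (π.basic e).V) :=
    π.hV.isLocalization_of_eq_basicOpen _ _ rfl
  haveI h0 : IsLocalization.Away (π.p (π.pa e)) Γ(Z, (π.basic e).W) :=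
    π.hW.isLocalization_of_eq_basicOpen _ _ (π.W_basic e)
  have hunit : IsUnit (res (π.basic_le e) e) :=
    (π.basic e).ringSq.isUnit_of_isUnit (IsLocalization.Away.algebraMap_isUnit (π.pa e))
      (IsLocalization.Away.algebraMap_isUnit (π.pb e))
  let f : Localization.Away e →+* (π.basic e).R :=
    IsLocalization.Away.lift e (g := res (π.basic_le e)) hunit
  let fa := IsLocalization.algEquiv (Submonoid.powers (π.pa e)) (Localization.Away (π.pa e)) Γ(X, (π.basic e).U)
  let fb := IsLocalization.algEquiv (Submonoid.powers (π.pb e)) (Localization.Away (π.pb e)) Γ(Y, (π.basic e).V)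
  let f0 := IsLocalization.algEquiv (Submonoid.powers (π.p (π.pa e))) (Localization.Away (π.p (π.pa e)))
    Γ(Z, (π.basic e).W)
  have hsq := π.ringSq.localization e (π.pa e) (π.pb e) (π.p (π.pa e)) rfl rfl rfl e.2.symm
  have hbij : Function.Bijective f := by
    refine hsq.bijective (π.basic e).ringSq f fa.toRingEquiv.toRingHom fb.toRingEquiv.toRingHom
      f0.toRingEquiv.toRingHom ?_ ?_ ?_ ?_ fa.toRingEquiv.bijective fb.toRingEquiv.bijective
      f0.toRingEquiv.injective
    · refine IsLocalization.ringHom_ext (Submonoid.powers e) (RingHom.ext fun z => ?_)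
      simp only [RingHom.comp_apply, awMap_algebraMap]
      exact (congrArg (π.basic e).pa (IsLocalization.Away.lift_eq e hunit z)).trans (fa.commutes (π.pa z)).symm
    · refine IsLocalization.ringHom_ext (Submonoid.powers e) (RingHom.ext fun z => ?_)
      simp only [RingHom.comp_apply, awMap_algebraMap]
      exact (congrArg (π.basic e).pb (IsLocalization.Away.lift_eq e hunit z)).trans (fb.commutes (π.pb z)).symm
    · refine IsLocalization.ringHom_ext (Submonoid.powers (π.pa e)) (RingHom.ext fun z => ?_)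
      simp only [RingHom.comp_apply, awMap_algebraMap]
      exact (congrArg _ (fa.commutes z)).trans
        ((RingHom.congr_fun (p_res (π.basic_le e)) z).trans (f0.commutes _).symm)
    · refine IsLocalization.ringHom_ext (Submonoid.powers (π.pb e)) (RingHom.ext fun z => ?_)
      simp only [RingHom.comp_apply, awMap_algebraMap]
      exact (congrArg _ (fb.commutes z)).trans
        ((RingHom.congr_fun (q_res (π.basic_le e)) z).trans (f0.commutes _).symm)
  exact IsLocalization.isLocalization_of_algEquiv (Submonoid.powers e)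
    (AlgEquiv.ofBijective { f with commutes' := fun z => IsLocalization.Away.lift_eq e hunit z } hbij)

theorem isOpenImmersion_res_basic (π : AP i j) (e : π.R) :
    IsOpenImmersion (sm (res (π.basic_le e))) := by
  letI := (res (π.basic_le e)).toAlgebra
  haveI := π.isLocalization_basic e
  exact IsOpenImmersion.of_isLocalization e

theorem range_res_basic (π : AP i j) (e : π.R) :
    Set.range (sm (res (π.basic_le e))) = (PrimeSpectrum.basicOpen e : Set (PrimeSpectrum π.R)) := by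
  letI := (res (π.basic_le e)).toAlgebra
  haveI := π.isLocalization_basic e
  exact PrimeSpectrum.localization_away_comap_range _ e

theorem range_of_eq_basic (π π₀ : AP i j) (e : π.R) (heq : π₀ = π.basic e) (h : π₀ ≤ π) :
    Set.range (sm (res h)) = (PrimeSpectrum.basicOpen e : Set (PrimeSpectrum π.R)) := by
  subst heq; exact π.range_res_basic e

theorem isOpenImmersion_of_eq_basic (π π₀ : AP i j) (e : π.R) (heq : π₀ = π.basic e) (h : π₀ ≤ π) :
    IsOpenImmersion (sm (res h)) := by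
  subst heq; exact π.isOpenImmersion_res_basic e

omit [IsClosedImmersion i] in
theorem basic_eq {π π' : AP i j} (h : π' ≤ π) (e : π.R) (he : π.basic e ≤ π') :
    π.basic e = π'.basic (res h e) := by
  ext1
  · show X.basicOpen (π.pa e) = X.basicOpen (resX h (π.pa e))
    rw [resX, Scheme.basicOpen_res]; exact (inf_eq_right.2 he.1).symm
  · show Y.basicOpen (π.pb e) = Y.basicOpen (resY h (π.pb e))
    rw [resY, Scheme.basicOpen_res]; exact (inf_eq_right.2 he.2).symm

omit [IsClosedImmersion i] in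
theorem sm_res_comp {π π' π'' : AP i j} (h : π ≤ π') (h' : π' ≤ π'') :
    sm (res h) ≫ sm (res h') = sm (res (h.trans h')) := by
  exact (sm_comp _ _).symm.trans (congrArg sm (res_comp h h').symm)

omit [IsClosedImmersion i] in
/-- `Spec` of the preimage maps to the two charts compatibly. -/
theorem fromSpec_p [IsAffineHom i] (π : AP i j) :
    sm π.p ≫ π.hU.fromSpec = π.hW.fromSpec ≫ i :=
  π.hU.SpecMap_appLE_fromSpec i π.hW le_rfl

omit [IsClosedImmersion i] in
theorem fromSpec_q [IsAffineHom i] (π : AP i j) :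
    sm π.q ≫ π.hV.fromSpec = π.hW.fromSpec ≫ j :=
  π.hV.SpecMap_appLE_fromSpec j π.hW π.W_le

omit [IsClosedImmersion i] in
theorem fromSpec_resX {π π' : AP i j} (h : π ≤ π') : sm (resX h) ≫ π'.hU.fromSpec = π.hU.fromSpec :=
  π'.hU.map_fromSpec π.hU _

omit [IsClosedImmersion i] in
theorem fromSpec_resY {π π' : AP i j} (h : π ≤ π') : sm (resY h) ≫ π'.hV.fromSpec = π.hV.fromSpec :=
  π'.hV.map_fromSpec π.hV _

/-- Compatible opens inside a pair give a refinement around any point coming from them. -/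
theorem exists_basic_of_opens (π : AP i j) (OX : X.Opens) (OY : Y.Opens)
    (hO : ∀ z ∈ π.W, i z ∈ OX ↔ j z ∈ OY) (r : PrimeSpectrum π.R)
    (hr : (∃ α : PrimeSpectrum Γ(X, π.U), π.hU.fromSpec α ∈ OX ∧ PrimeSpectrum.comap π.pa α = r) ∨
      ∃ β : PrimeSpectrum Γ(Y, π.V), π.hV.fromSpec β ∈ OY ∧ PrimeSpectrum.comap π.pb β = r) :
    ∃ e : π.R, r ∈ PrimeSpectrum.basicOpen e ∧ (π.basic e).U ≤ OX ∧ (π.basic e).V ≤ OY := by
  have compat : ∀ x : PrimeSpectrum Γ(Z, π.W), PrimeSpectrum.comap π.p x ∈ π.hU.fromSpec ⁻¹ᵁ OX ↔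
      PrimeSpectrum.comap π.q x ∈ π.hV.fromSpec ⁻¹ᵁ OY := by
    intro x
    have h1 : π.hU.fromSpec (PrimeSpectrum.comap π.p x) = i (π.hW.fromSpec x) :=
      congrArg (fun m : Spec _ ⟶ X => m x) π.fromSpec_p
    have h2 : π.hV.fromSpec (PrimeSpectrum.comap π.q x) = j (π.hW.fromSpec x) :=
      congrArg (fun m : Spec _ ⟶ Y => m x) π.fromSpec_q
    show π.hU.fromSpec _ ∈ OX ↔ π.hV.fromSpec _ ∈ OY
    rw [h1, h2]
    exact hO _ (π.hW.range_fromSpec.le ⟨x, rfl⟩)
  obtain ⟨e, he, hA, hB⟩ := π.ringSq.exists_elem (π.hU.fromSpec ⁻¹ᵁ OX) (π.hV.fromSpec ⁻¹ᵁ OY) compat r hr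
  refine ⟨e, he, fun x hx => ?_, fun y hy => ?_⟩
  · obtain ⟨α, rfl⟩ := π.hU.range_fromSpec.ge (X.basicOpen_le (π.pa e) hx : x ∈ π.U)
    have : α ∈ π.hU.fromSpec ⁻¹ᵁ X.basicOpen (π.pa e) := hx
    rw [π.hU.fromSpec_preimage_basicOpen] at this
    exact hA this
  · obtain ⟨β, rfl⟩ := π.hV.range_fromSpec.ge (Y.basicOpen_le (π.pb e) hy : y ∈ π.V)
    have : β ∈ π.hV.fromSpec ⁻¹ᵁ Y.basicOpen (π.pb e) := hy
    rw [π.hV.fromSpec_preimage_basicOpen] at this
    exact hB this

/-- Every point of the smaller chart has a basic neighbourhood in the bigger one inside the smaller pair. -/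
theorem exists_basic_le {π π' : AP i j} (h : π' ≤ π) (r : PrimeSpectrum π'.R) :
    ∃ e : π.R, sm (res h) r ∈ PrimeSpectrum.basicOpen e ∧ π.basic e ≤ π' := by
  refine Exists.imp (fun e he => ⟨he.1, he.2.1, he.2.2⟩) (π.exists_basic_of_opens π'.U π'.V
    (fun z _ => iff_of_eq (congrArg (z ∈ ·) π'.hUV)) (sm (res h) r) ?_)
  obtain ⟨β, hβ⟩ | ⟨α, hα, -⟩ := π'.ringSq.exists_preimage r
  · right
    refine ⟨PrimeSpectrum.comap (resY h) β, ?_, ?_⟩
    · rw [show π.hV.fromSpec (PrimeSpectrum.comap (resY h) β) = π'.hV.fromSpec β from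
        congrArg (fun m : Spec _ ⟶ Y => m β) (fromSpec_resY h)]
      exact π'.hV.range_fromSpec.le ⟨β, rfl⟩
    · subst hβ
      show PrimeSpectrum.comap π.pb (PrimeSpectrum.comap (resY h) β) =
        PrimeSpectrum.comap (res h) (PrimeSpectrum.comap π'.pb β)
      rw [← PrimeSpectrum.comap_comp_apply, ← PrimeSpectrum.comap_comp_apply, pb_res]
  · left
    refine ⟨PrimeSpectrum.comap (resX h) α, ?_, ?_⟩
    · rw [show π.hU.fromSpec (PrimeSpectrum.comap (resX h) α) = π'.hU.fromSpec α from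
        congrArg (fun m : Spec _ ⟶ X => m α) (fromSpec_resX h)]
      exact π'.hU.range_fromSpec.le ⟨α, rfl⟩
    · subst hα
      show PrimeSpectrum.comap π.pa (PrimeSpectrum.comap (resX h) α) =
        PrimeSpectrum.comap (res h) (PrimeSpectrum.comap π'.pa α)
      rw [← PrimeSpectrum.comap_comp_apply, ← PrimeSpectrum.comap_comp_apply, pa_res]

theorem exists_local (π π' : AP i j) (h : π' ≤ π) (r : PrimeSpectrum π'.R) :
    ∃ (π₀ : AP i j) (h₀ : π₀ ≤ π') (O : Set (PrimeSpectrum π.R)),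
      IsOpenImmersion (sm (res h₀)) ∧ IsOpenImmersion (sm (res h₀) ≫ sm (res h)) ∧
      r ∈ Set.range (sm (res h₀)) ∧ Set.range (sm (res h₀)) = sm (res h) ⁻¹' O := by
  obtain ⟨e, he, hle⟩ := exists_basic_le h r
  have heq := basic_eq h e hle
  refine ⟨π.basic e, hle, PrimeSpectrum.basicOpen e, π'.isOpenImmersion_of_eq_basic _ _ heq hle, ?_, ?_⟩
  · rw [sm_res_comp]; exact π.isOpenImmersion_res_basic e
  · rw [π'.range_of_eq_basic _ _ heq hle]
    exact ⟨he, rfl⟩

/-- The transition maps are open immersions. -/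
theorem isOpenImmersion_res {π π' : AP i j} (h : π' ≤ π) : IsOpenImmersion (sm (res h)) := by
  set f := sm (res h) with hf
  have loc := fun r => π.exists_local π' h r
  have hinj : Function.Injective f := by
    intro r₁ r₂ heq
    obtain ⟨π₀, h₀, O, hg', hg, hr, hO⟩ := loc r₁
    have hr₂ : r₂ ∈ Set.range (sm (res h₀)) := by
      rw [hO, Set.mem_preimage, ← hf, ← heq]
      exact hO.le hr
    obtain ⟨s₁, rfl⟩ := hr
    obtain ⟨s₂, rfl⟩ := hr₂
    exact congrArg _ ((sm (res h₀) ≫ f).isOpenEmbedding.injective heq)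
  have hopen : IsOpenMap f := by
    intro O hO
    rw [isOpen_iff_forall_mem_open]
    rintro _ ⟨r, hr, rfl⟩
    obtain ⟨π₀, h₀, -, hg', hg, ⟨s, rfl⟩, -⟩ := loc r
    refine ⟨(sm (res h₀) ≫ f) '' (sm (res h₀) ⁻¹' O), ?_,
      (sm (res h₀) ≫ f).isOpenEmbedding.isOpenMap _ (hO.preimage (sm (res h₀)).continuous), ⟨s, hr, rfl⟩⟩
    rintro _ ⟨t, ht, rfl⟩
    exact ⟨_, ht, rfl⟩
  rw [IsOpenImmersion.iff_isIso_stalkMap]
  refine ⟨.of_continuous_injective_isOpenMap f.continuous hinj hopen, fun r => ?_⟩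
  obtain ⟨π₀, h₀, -, hg', hg, ⟨s, rfl⟩, -⟩ := loc r
  haveI h1 : IsIso (f.stalkMap (sm (res h₀) s) ≫ (sm (res h₀)).stalkMap s) := by
    rw [← Scheme.Hom.stalkMap_comp]; infer_instance
  exact IsIso.of_isIso_comp_right _ ((sm (res h₀)).stalkMap s)

end AP

end Groth.Agent.H7Flat
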