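import Groth.Agent.H7Flat.GenericFreeness
import Groth.Agent.H17.GenFinite
import Mathlib.RingTheory.QuasiFinite.Basic
import Mathlib.RingTheory.Ideal.GoingUp
import Mathlib.RingTheory.Spectrum.Prime.Topology

/-!
# Quasi-finite algebras: finiteness over nonempty opens and images of nowhere dense sets
-/

set_option autoImplicit false
set_option backward.isDefEq.respectTransparency false
set_option linter.style.haveILetI false

universe u

open TopologicalSpace
open scoped TensorProduct

namespace Groth.Agent.H7Flat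

/-- Kernels of surjections from finite type to finitely presented algebras are finitely generated. -/
theorem ker_fg_of_finiteType {L B C : Type u} [CommRing L] [CommRing B] [CommRing C] [Algebra L B] [Algebra L C]
    [Algebra.FiniteType L B] [Algebra.FinitePresentation L C] (π : B →ₐ[L] C) (hπ : Function.Surjective π) :
    (RingHom.ker π.toRingHom).FG := by
  obtain ⟨n, g, hg⟩ := Algebra.FiniteType.iff_quotient_mvPolynomial''.mp ‹Algebra.FiniteType L B›
  have h := Algebra.FinitePresentation.ker_fG_of_surjective (π.comp g) (hπ.comp hg)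
  have h2 : RingHom.ker π.toRingHom = (RingHom.ker (π.comp g).toRingHom).map g.toRingHom := by
    show RingHom.ker π.toRingHom = ((RingHom.ker π.toRingHom).comap g.toRingHom).map g.toRingHom
    exact (Ideal.map_comap_of_surjective g.toRingHom hg _).symm
  rw [h2]
  exact Ideal.FG.map h _

theorem exists_pow_tensor_eq {R A : Type u} [CommRing R] [CommRing A] [Algebra R A] (f : R)
    (z : Localization.Away f ⊗[R] A) : ∃ (k : ℕ) (a : A),
      algebraMap R (Localization.Away f ⊗[R] A) f ^ k * z = (1 : Localization.Away f) ⊗ₜ[R] a := by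
  induction z with
  | zero => exact ⟨0, 0, by simp⟩
  | tmul l a =>
    obtain ⟨k, r, hk⟩ := IsLocalization.Away.surj f l
    refine ⟨k, r • a, ?_⟩
    rw [← map_pow, Algebra.TensorProduct.algebraMap_apply, Algebra.TensorProduct.tmul_mul_tmul, one_mul,
      ← TensorProduct.smul_tmul (R := R) r (1 : Localization.Away f) a, Algebra.smul_def, mul_one, map_pow,
      mul_comm, hk]
  | add x y hx hy =>
    obtain ⟨k, a, ha⟩ := hx
    obtain ⟨l, b, hb⟩ := hy
    refine ⟨k + l, (f ^ l) • a + (f ^ k) • b, ?_⟩
    have h1 : ∀ (c : R) (v : A), (1 : Localization.Away f) ⊗ₜ[R] (c • v) =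
        algebraMap R (Localization.Away f ⊗[R] A) c * ((1 : Localization.Away f) ⊗ₜ[R] v) := fun c v => by
      rw [TensorProduct.tmul_smul]
      exact Algebra.smul_def (A := Localization.Away f ⊗[R] A) c _
    rw [TensorProduct.tmul_add, h1, h1, ← ha, ← hb, map_pow, map_pow]
    ring

/-- After inverting a suitable `f`, membership in the closed set `V(J)` is cut out by finitely many elements. -/
theorem exists_finset_ker {R A : Type u} [CommRing R] [CommRing A] [Algebra R A] [Algebra.FiniteType R A]
    (J : Ideal A) (f : R)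
    (hfp : Algebra.FinitePresentation (Localization.Away f) (Localization.Away f ⊗[R] (A ⧸ J))) :
    ∃ G : Finset A, ∀ q : Ideal A, q.IsPrime → algebraMap R A f ∉ q → ((↑G : Set A) ⊆ q ↔ J ≤ q) := by
  classical
  let π : Localization.Away f ⊗[R] A →ₐ[Localization.Away f] Localization.Away f ⊗[R] (A ⧸ J) :=
    Algebra.TensorProduct.map (AlgHom.id _ _) (Ideal.Quotient.mkₐ R J)
  have hπ : Function.Surjective π :=
    Algebra.TensorProduct.map_surjective _ _ (fun x => ⟨x, rfl⟩) Ideal.Quotient.mk_surjective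
  haveI : Algebra.FiniteType (Localization.Away f) (Localization.Away f ⊗[R] A) :=
    Algebra.FiniteType.baseChange _
  haveI := hfp
  obtain ⟨s, hs⟩ := ker_fg_of_finiteType π hπ
  choose k a ha using fun z : Localization.Away f ⊗[R] A => exists_pow_tensor_eq f z
  refine ⟨s.image a, fun q hq hfq => ?_⟩
  haveI := hq
  have hu : IsUnit (algebraMap R q.ResidueField f) := by
    rw [isUnit_iff_ne_zero, IsScalarTower.algebraMap_apply R A q.ResidueField, ne_eq,
      Ideal.algebraMap_residueField_eq_zero]
    exact hfq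
  let lL : Localization.Away f →ₐ[R] q.ResidueField :=
    IsLocalization.liftAlgHom (M := Submonoid.powers f) (f := Algebra.ofId R q.ResidueField)
      fun y => by
        obtain ⟨_, n, rfl⟩ := y
        show IsUnit (algebraMap R q.ResidueField (f ^ n))
        rw [map_pow]; exact hu.pow n
  let χ : Localization.Away f ⊗[R] A →ₐ[R] q.ResidueField :=
    Algebra.TensorProduct.lift lL (IsScalarTower.toAlgHom R A q.ResidueField) fun _ _ => Commute.all _ _
  have hχ1 : ∀ x : A, χ ((1 : Localization.Away f) ⊗ₜ[R] x) = algebraMap A q.ResidueField x := fun x => by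
    simp [χ]
  have hχa : ∀ z, algebraMap A q.ResidueField (a z) = algebraMap R q.ResidueField f ^ k z * χ z := fun z => by
    rw [← hχ1, ← ha z, map_mul, map_pow, AlgHom.commutes]
  constructor
  · intro hG x hx
    have h1 : ∀ z ∈ s, χ z = 0 := by
      intro z hz
      have h2 := hχa z
      rw [Ideal.algebraMap_residueField_eq_zero.2
        (hG (Finset.mem_coe.2 (Finset.mem_image_of_mem a hz)))] at h2
      exact (IsUnit.mul_right_eq_zero (hu.pow _)).1 h2.symm
    have h3 : RingHom.ker π.toRingHom ≤ RingHom.ker χ.toRingHom := by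
      rw [← hs, Ideal.span_le]
      exact fun z hz => h1 z hz
    have h4 : ((1 : Localization.Away f) ⊗ₜ[R] x) ∈ RingHom.ker π.toRingHom := by
      show π ((1 : Localization.Away f) ⊗ₜ[R] x) = 0
      rw [show π ((1 : Localization.Away f) ⊗ₜ[R] x) = (1 : Localization.Away f) ⊗ₜ[R] Ideal.Quotient.mk J x from rfl,
        Ideal.Quotient.eq_zero_iff_mem.2 hx, TensorProduct.tmul_zero]
    have h5 : χ ((1 : Localization.Away f) ⊗ₜ[R] x) = 0 := h3 h4
    rw [hχ1] at h5
    exact Ideal.algebraMap_residueField_eq_zero.1 h5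
  · intro hJq x hx
    obtain ⟨z, hz, rfl⟩ := Finset.mem_image.1 (Finset.mem_coe.1 hx)
    let χ' : Localization.Away f ⊗[R] (A ⧸ J) →ₐ[R] q.ResidueField :=
      Algebra.TensorProduct.lift lL
        (Ideal.Quotient.liftₐ J (IsScalarTower.toAlgHom R A q.ResidueField)
          fun y hy => Ideal.algebraMap_residueField_eq_zero.2 (hJq hy)) fun _ _ => Commute.all _ _
    have hcomp : χ = χ'.comp (π.restrictScalars R) := by
      apply Algebra.TensorProduct.ext
      · ext
      · ext y
        simp [χ, χ', π]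
    have h0 : χ z = 0 := by
      rw [hcomp]
      show χ' (π z) = 0
      rw [show π z = 0 from (hs ▸ Ideal.subset_span (Finset.mem_coe.2 hz) : z ∈ RingHom.ker π.toRingHom), map_zero]
    have h2 := hχa z
    rw [h0, mul_zero] at h2
    exact Ideal.algebraMap_residueField_eq_zero.1 h2

/-- An element of a minimal prime is killed locally by a power. -/
theorem exists_mul_pow_eq_zero_of_mem_minimalPrimes {A : Type u} [CommRing A] {q : Ideal A}
    (hq : q ∈ minimalPrimes A) {g : A} (hg : g ∈ q) : ∃ s ∉ q, ∃ n : ℕ, s * g ^ n = 0 := by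
  haveI : q.IsPrime := hq.1.1
  by_contra hcon
  push Not at hcon
  obtain ⟨Q, hQ, -, hdisj⟩ := Ideal.exists_le_prime_disjoint (⊥ : Ideal A)
    (q.primeCompl ⊔ Submonoid.powers g) (by
      rw [Set.disjoint_left]
      intro x hx hxS
      obtain ⟨s, hs, _, ⟨n, rfl⟩, rfl⟩ := Submonoid.mem_sup.1 hxS
      exact hcon s hs n (by simpa using hx))
  have hle : Q ≤ q := fun x hxQ => by
    by_contra hxq
    exact Set.disjoint_left.1 hdisj hxQ (Submonoid.mem_sup_left hxq)
  exact Set.disjoint_left.1 hdisj (hq.2 ⟨hQ, bot_le⟩ hle hg)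
    (Submonoid.mem_sup_right ⟨1, pow_one g⟩)

/-- A closed subset of a finite cover of a reduced base surjecting onto it contains a nonempty open. -/
theorem exists_basicOpen_subset_of_surjective_aux {R A : Type u} [CommRing R] [IsReduced R] [Nontrivial R]
    [CommRing A] [Algebra R A] [Module.Finite R A] (J : Ideal A)
    (hsurj : ∀ p : PrimeSpectrum R, ∃ q : PrimeSpectrum A,
      J ≤ q.asIdeal ∧ PrimeSpectrum.comap (algebraMap R A) q = p) :
    ∃ (q₀ : PrimeSpectrum A) (a : A), a ∉ q₀.asIdeal ∧ ∀ q : PrimeSpectrum A, a ∉ q.asIdeal → J ≤ q.asIdeal := by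
  classical
  obtain ⟨f, hf, -, hfp⟩ := exists_finitePresentation_algebra' (R := R) (A ⧸ J) 1 one_ne_zero
  obtain ⟨G, hG⟩ := exists_finset_ker J f (hfp f dvd_rfl)
  obtain ⟨P, hP, hfP⟩ : ∃ P : Ideal R, P.IsPrime ∧ f ∉ P := by
    by_contra h
    push Not at h
    exact hf (IsReduced.eq_zero f (mem_nilradical.1 (by
      rw [nilradical_eq_sInf, Submodule.mem_sInf]; exact fun P hP => h P hP)))
  obtain ⟨p, hp, hpP⟩ := Ideal.exists_minimalPrimes_le (I := (⊥ : Ideal R)) (J := P) bot_le
  haveI : p.IsPrime := hp.1.1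
  obtain ⟨q, hJq, hq⟩ := hsurj ⟨p, inferInstance⟩
  have hqp : q.asIdeal.comap (algebraMap R A) = p := congrArg PrimeSpectrum.asIdeal hq
  have hqmin : q.asIdeal ∈ minimalPrimes A := by
    refine ⟨⟨q.isPrime, bot_le⟩, fun q' hq' hle => ?_⟩
    haveI := hq'.1
    by_contra hne
    have hlt := Ideal.IsIntegral.comap_lt_comap (R := R) (lt_of_le_not_ge hle hne)
    exact absurd (hp.2 ⟨Ideal.IsPrime.comap _, bot_le⟩ (hlt.le.trans hqp.le)) (by
      rw [← hqp]; exact not_le_of_gt hlt)
  have hfq : algebraMap R A f ∉ q.asIdeal := fun h =>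
    hfP (hpP (by rw [← hqp]; exact h))
  choose! s hs n hn using fun g (hg : g ∈ q.asIdeal) => exists_mul_pow_eq_zero_of_mem_minimalPrimes hqmin hg
  have hGq := (hG q.asIdeal q.isPrime hfq).2 hJq
  refine ⟨q, algebraMap R A f * ∏ g ∈ G, s g, fun h => ?_, fun q' hq' => ?_⟩
  · rcases q.isPrime.mem_or_mem h with h | h
    · exact hfq h
    · obtain ⟨g, hg, hg'⟩ := q.isPrime.prod_mem_iff.1 h
      exact hs g (hGq hg) hg'
  · refine (hG q'.asIdeal q'.isPrime fun h => hq' (Ideal.mul_mem_right _ _ h)).1 fun g hg => ?_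
    have h0 : s g * g ^ n g ∈ q'.asIdeal := by rw [hn g (hGq hg)]; exact zero_mem _
    rcases q'.isPrime.mem_or_mem h0 with h | h
    · exact absurd (Ideal.mul_mem_left _ _ (q'.asIdeal.prod_mem (Finset.mem_coe.1 hg) h)) hq'
    · exact q'.isPrime.mem_of_pow_mem _ h

/-- A closed subset of a finite cover surjecting onto the base contains a nonempty open. -/
theorem exists_basicOpen_subset_of_surjective {R A : Type u} [CommRing R] [Nontrivial R]
    [CommRing A] [Algebra R A] [Module.Finite R A] (J : Ideal A)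
    (hsurj : ∀ p : PrimeSpectrum R, ∃ q : PrimeSpectrum A,
      J ≤ q.asIdeal ∧ PrimeSpectrum.comap (algebraMap R A) q = p) :
    ∃ (q₀ : PrimeSpectrum A) (a : A), a ∉ q₀.asIdeal ∧ ∀ q : PrimeSpectrum A, a ∉ q.asIdeal → J ≤ q.asIdeal := by
  let N := nilradical R
  let K := N.map (algebraMap R A)
  have hK : ∀ q : Ideal A, q.IsPrime → K ≤ q := fun q hq => Ideal.map_le_iff_le_comap.2 fun x hx => by
    obtain ⟨n, hn⟩ := mem_nilradical.1 hx
    haveI := hq
    exact (Ideal.IsPrime.comap (algebraMap R A) : (q.comap (algebraMap R A)).IsPrime).mem_of_pow_mem n (by rw [hn]; exact zero_mem _)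
  haveI : IsReduced (R ⧸ N) :=
    (Ideal.isRadical_iff_quotient_reduced N).1 (Ideal.radical_isRadical _)
  haveI : Nontrivial (R ⧸ N) := Ideal.Quotient.nontrivial_iff.2 fun h => by
    have : IsNilpotent (1 : R) := mem_nilradical.1 (by rw [show nilradical R = ⊤ from h]; trivial)
    exact not_isNilpotent_one this
  haveI : Module.Finite (R ⧸ N) (A ⧸ K) := Module.Finite.of_restrictScalars_finite R _ _
  obtain ⟨q₀, a, ha, haJ⟩ := exists_basicOpen_subset_of_surjective_aux (R := R ⧸ N)
    (J.map (Ideal.Quotient.mk K)) fun p => by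
      obtain ⟨q, hJq, hq⟩ := hsurj (PrimeSpectrum.comap (Ideal.Quotient.mk N) p)
      refine ⟨⟨q.asIdeal.map (Ideal.Quotient.mk K), Ideal.map_isPrime_of_surjective
        Ideal.Quotient.mk_surjective (by rw [Ideal.mk_ker]; exact hK _ q.isPrime)⟩, Ideal.map_mono hJq, ?_⟩
      apply PrimeSpectrum.comap_injective_of_surjective _ (Ideal.Quotient.mk_surjective (I := N))
      rw [← hq]
      ext x
      show Ideal.Quotient.mk K (algebraMap R A x) ∈ q.asIdeal.map (Ideal.Quotient.mk K) ↔ algebraMap R A x ∈ q.asIdeal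
      rw [← Ideal.mem_comap, Ideal.comap_map_of_surjective' _ Ideal.Quotient.mk_surjective, Ideal.mk_ker,
        sup_eq_left.2 (hK _ q.isPrime)]
  obtain ⟨a, rfl⟩ := Ideal.Quotient.mk_surjective a
  refine ⟨PrimeSpectrum.comap (Ideal.Quotient.mk K) q₀, a, ha, fun q hq => ?_⟩
  have hprime : (q.asIdeal.map (Ideal.Quotient.mk K)).IsPrime := Ideal.map_isPrime_of_surjective
    Ideal.Quotient.mk_surjective (by rw [Ideal.mk_ker]; exact hK _ q.isPrime)
  have hcm : (q.asIdeal.map (Ideal.Quotient.mk K)).comap (Ideal.Quotient.mk K) = q.asIdeal := by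
    rw [Ideal.comap_map_of_surjective' _ Ideal.Quotient.mk_surjective, Ideal.mk_ker,
      sup_eq_left.2 (hK _ q.isPrime)]
  have h := haJ ⟨_, hprime⟩ fun h => hq (hcm.le h)
  exact (Ideal.le_comap_map.trans (Ideal.comap_mono h)).trans hcm.le

/-- A finite type algebra with finite fibres is finite over a nonempty basic open inside any given one. -/
theorem exists_finite_away {R A : Type u} [CommRing R] [CommRing A] [Algebra R A] [Algebra.FiniteType R A]
    (hfin : ∀ p : PrimeSpectrum R, (PrimeSpectrum.comap (algebraMap R A) ⁻¹' {p}).Finite)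
    {r : R} (hr : ¬ IsNilpotent r) :
    ∃ s : R, ¬ IsNilpotent s ∧ r ∣ s ∧ ∀ (R' A' : Type u) [CommRing R'] [CommRing A'] [Algebra R R']
      [Algebra R' A'] [Algebra R A'] [Algebra A A'] [IsScalarTower R R' A'] [IsScalarTower R A A']
      [IsLocalization.Away s R'] [IsLocalization.Away (algebraMap R A s) A'], Module.Finite R' A' := by
  obtain ⟨P, hP, hrP⟩ : ∃ P : Ideal R, P.IsPrime ∧ r ∉ P := by
    by_contra h
    push Not at h
    exact hr (mem_nilradical.1 (by rw [nilradical_eq_sInf, Submodule.mem_sInf]; exact fun P hP => h P hP))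
  obtain ⟨p, hp, hpP⟩ := Ideal.exists_minimalPrimes_le (I := (⊥ : Ideal R)) (J := P) bot_le
  haveI := hp.1.1
  obtain ⟨s, hs, hint⟩ := H17.GenFinite.exists_isIntegral (B := A) p hp (hfin _)
  have hrs : r * s ∉ p := fun h => (hp.1.1.mem_or_mem h).elim (fun h => hrP (hpP h)) hs
  refine ⟨r * s, ?_, ⟨s, rfl⟩, ?_⟩
  · rintro ⟨n, hn⟩
    exact hrs (hp.1.1.mem_of_pow_mem n (by rw [hn]; exact zero_mem _))
  · intro R' A' _ _ _ _ _ _ _ _ _ _
    have hu : IsUnit (algebraMap R R' (r * s)) := IsLocalization.Away.algebraMap_isUnit _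
    have hus : IsUnit (algebraMap R R' s) := by rw [map_mul] at hu; exact isUnit_of_mul_isUnit_right hu
    haveI : Algebra.IsIntegral R' A' := by
      constructor
      intro x
      obtain ⟨k, b, hb⟩ := IsLocalization.Away.surj (algebraMap R A (r * s)) x
      obtain ⟨w, hw⟩ := hu
      have hphis : algebraMap A A' (algebraMap R A (r * s)) = algebraMap R' A' (w : R') := by
        rw [hw, ← IsScalarTower.algebraMap_apply R A A', ← IsScalarTower.algebraMap_apply R R' A']
      have hx : x = algebraMap R' A' ((↑w⁻¹ : R') ^ k) * algebraMap A A' b := by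
        rw [← hb, hphis, ← map_pow, mul_left_comm, ← map_mul, ← mul_pow, Units.inv_mul, one_pow, map_one,
          mul_one]
      rw [hx]
      exact isIntegral_algebraMap.mul (hint R' A' hus b)
    haveI : Algebra.FiniteType A A' := IsLocalization.finiteType_of_monoid_fg (Submonoid.powers (algebraMap R A (r * s))) A'
    haveI : Algebra.FiniteType R A' := Algebra.FiniteType.trans (S := A) inferInstance inferInstance
    haveI : Algebra.FiniteType R' A' := Algebra.FiniteType.of_restrictScalars_finiteType R R' A'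
    exact Algebra.IsIntegral.finite

/-- A finite type algebra with finite fibres maps closed nowhere dense sets to nowhere dense sets. -/
theorem isNowhereDense_image_comap {R A : Type u} [CommRing R] [CommRing A] [Algebra R A]
    [Algebra.FiniteType R A]
    (hfin : ∀ p : PrimeSpectrum R, (PrimeSpectrum.comap (algebraMap R A) ⁻¹' {p}).Finite)
    {T : Set (PrimeSpectrum A)} (hT : IsClosed T) (hT' : IsNowhereDense T) :
    IsNowhereDense (PrimeSpectrum.comap (algebraMap R A) '' T) := by
  by_contra hnd
  obtain ⟨x, hx⟩ := Set.nonempty_iff_ne_empty.2 hnd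
  obtain ⟨_, ⟨r, rfl⟩, hxr, hrW⟩ := PrimeSpectrum.isTopologicalBasis_basic_opens.exists_subset_of_mem_open
    hx isOpen_interior
  have hr : ¬ IsNilpotent r := fun ⟨n, hn⟩ =>
    hxr (x.isPrime.mem_of_pow_mem n (by rw [hn]; exact zero_mem _))
  obtain ⟨s, hs, ⟨c, hc⟩, hfinite⟩ := exists_finite_away hfin hr
  let M := Submonoid.powers s
  let R' := Localization M
  let A' := Localization (Algebra.algebraMapSubmonoid A M)
  haveI : IsLocalization.Away (algebraMap R A s) A' := by
    show IsLocalization (Submonoid.powers (algebraMap R A s)) A'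
    rw [← Algebra.algebraMapSubmonoid_powers]
    infer_instance
  haveI : Module.Finite R' A' := hfinite R' A'
  haveI : Nontrivial R' := by
    rw [← not_subsingleton_iff_nontrivial, IsLocalization.subsingleton_iff (M := M)]
    exact fun ⟨n, hn⟩ => hs ⟨n, hn⟩
  have hge := PrimeSpectrum.localization_away_isOpenEmbedding R' s
  have hgA := PrimeSpectrum.localization_away_isOpenEmbedding A' (algebraMap R A s)
  have hrange : Set.range (PrimeSpectrum.comap (algebraMap R R')) ⊆
      closure (PrimeSpectrum.comap (algebraMap R A) '' T) := by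
    rw [PrimeSpectrum.localization_away_comap_range R' s]
    exact (show (PrimeSpectrum.basicOpen s : Set (PrimeSpectrum R)) ⊆ PrimeSpectrum.basicOpen r from
      hc ▸ PrimeSpectrum.basicOpen_mul_le_left r c).trans (hrW.trans interior_subset)
  let J' := PrimeSpectrum.vanishingIdeal (PrimeSpectrum.comap (algebraMap A A') ⁻¹' T)
  have hzero : PrimeSpectrum.zeroLocus (J' : Set A') = PrimeSpectrum.comap (algebraMap A A') ⁻¹' T := by
    rw [PrimeSpectrum.zeroLocus_vanishingIdeal_eq_closure,
      (hT.preimage hgA.continuous).closure_eq]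
  have hsurj : ∀ p' : PrimeSpectrum R', ∃ q' : PrimeSpectrum A',
      J' ≤ q'.asIdeal ∧ PrimeSpectrum.comap (algebraMap R' A') q' = p' := by
    intro p'
    have hcl : IsClosed (PrimeSpectrum.comap (algebraMap R' A') '' PrimeSpectrum.zeroLocus (J' : Set A')) :=
      PrimeSpectrum.isClosedMap_comap_of_isIntegral _ Algebra.IsIntegral.isIntegral _
        (PrimeSpectrum.isClosed_zeroLocus _)
    have hsub : PrimeSpectrum.comap (algebraMap R R') ⁻¹' (PrimeSpectrum.comap (algebraMap R A) '' T) ⊆
        PrimeSpectrum.comap (algebraMap R' A') '' PrimeSpectrum.zeroLocus (J' : Set A') := by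
      rintro y ⟨q, hq, hqy⟩
      have hsq : algebraMap R A s ∉ q.asIdeal := by
        intro hsq
        have h1 : s ∈ (PrimeSpectrum.comap (algebraMap R R') y).asIdeal := by rw [← hqy]; exact hsq
        exact y.isPrime.ne_top (Ideal.eq_top_of_isUnit_mem _ h1 (IsLocalization.Away.algebraMap_isUnit s))
      obtain ⟨q', rfl⟩ : q ∈ Set.range (PrimeSpectrum.comap (algebraMap A A')) := by
        rw [PrimeSpectrum.localization_away_comap_range A' (algebraMap R A s)]
        exact hsq
      refine ⟨q', hzero ▸ hq, hge.injective ?_⟩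
      rw [← hqy, ← PrimeSpectrum.comap_comp_apply, ← PrimeSpectrum.comap_comp_apply,
        ← IsScalarTower.algebraMap_eq, ← IsScalarTower.algebraMap_eq]
    have hall : PrimeSpectrum.comap (algebraMap R' A') '' PrimeSpectrum.zeroLocus (J' : Set A') = Set.univ := by
      rw [← hcl.closure_eq, Set.eq_univ_iff_forall]
      intro y
      refine closure_mono hsub ?_
      rw [← hge.isOpenMap.preimage_closure_eq_closure_preimage hge.continuous]
      exact hrange (Set.mem_range_self y)
    obtain ⟨q', hq', hq'p⟩ := hall.ge (Set.mem_univ p')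
    exact ⟨q', hq', hq'p⟩
  obtain ⟨q₀, a, ha, haJ⟩ := exists_basicOpen_subset_of_surjective J' hsurj
  have hopen : IsOpen (PrimeSpectrum.comap (algebraMap A A') '' PrimeSpectrum.basicOpen a) :=
    hgA.isOpenMap _ (PrimeSpectrum.basicOpen a).isOpen
  have hsubT : PrimeSpectrum.comap (algebraMap A A') '' PrimeSpectrum.basicOpen a ⊆ T := by
    rintro _ ⟨q, hq, rfl⟩
    exact hzero.le (haJ q hq)
  have hne : PrimeSpectrum.comap (algebraMap A A') q₀ ∈ interior (closure T) :=
    interior_maximal (hsubT.trans subset_closure) hopen ⟨q₀, ha, rfl⟩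
  rw [hT'] at hne
  exact hne

end Groth.Agent.H7Flat
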