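import Groth.Agent.H7Flat.FlatAtAssoc
import Groth.Agent.H7Flat.AssLocal
import Groth.Agent.H7Flat.ModMaxWitness

/-!
At a point where a finite module is flat over the base, an element regular on the fibre is regular
modulo every ideal of the base; specializations of associated points of fibres.
-/

set_option autoImplicit false
universe u

namespace Groth.Agent.H7Flat.RegularSpecialize

open TensorProduct FlatMor ImpurityDescend UnivInjCover IsLocalRing
open Groth.Agent.H02CA.FibreAss (fiber_smul toFiberMod_eq_zero_iff)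

attribute [local instance] Algebra.TensorProduct.rightAlgebra

set_option backward.isDefEq.respectTransparency false
set_option maxHeartbeats 1000000
set_option synthInstance.maxHeartbeats 400000

/-- An element regular modulo the prime below, at a point of flatness, is regular modulo every
ideal. -/
theorem mem_smul_of_regular {R S : Type u} [CommRing R] [CommRing S] [Algebra R S]
    [Algebra.FiniteType R S] (N : Type u) [AddCommGroup N] [Module S N] [Module R N]
    [IsScalarTower R S N] [Module.Finite S N] (p : Ideal R) [p.IsPrime] (t : Ideal S) [t.IsPrime]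
    [t.LiesOver p] (hflat : FlatCA.FlatAt R t N) (s : S)
    (hs : ∀ n : N, s • n ∈ p • (⊤ : Submodule R N) → ∃ c ∉ t, c • n ∈ p • (⊤ : Submodule R N))
    (J : Ideal R) (n : N) (hn : s • n ∈ J • (⊤ : Submodule R N)) :
    ∃ c ∉ t, c • n ∈ J • (⊤ : Submodule R N) := by
  let A := Localization.AtPrime p
  let B := Localization.AtPrime t
  let NB := LocalizedModule t.primeCompl N
  let f := LocalizedModule.mkLinearMap t.primeCompl N
  have : Module.Flat R NB := hflat
  have hover : p = t.comap (algebraMap R S) := t.over_def p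
  let : Algebra A B := (Localization.localRingHom p t (algebraMap R S) hover).toAlgebra
  have : IsScalarTower R A B := IsScalarTower.of_algebraMap_eq fun r => by
    rw [RingHom.algebraMap_toAlgebra, Localization.localRingHom_to_map,
      ← IsScalarTower.algebraMap_apply R S B]
  have : IsLocalHom (algebraMap A B) := by
    rw [RingHom.algebraMap_toAlgebra]; exact Localization.isLocalHom_localRingHom p t _ hover
  have : Algebra.EssFiniteType S B := Algebra.EssFiniteType.of_isLocalization B t.primeCompl
  have : Algebra.EssFiniteType R B := Algebra.EssFiniteType.comp R S B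
  have : Algebra.EssFiniteType A B := Algebra.EssFiniteType.of_comp R A B
  let : Module A NB := Module.compHom NB (algebraMap A B)
  have : IsScalarTower A B NB := IsScalarTower.of_algebraMap_smul fun _ _ => rfl
  have : IsScalarTower R A NB := IsScalarTower.of_algebraMap_smul fun r y => by
    change algebraMap A B (algebraMap R A r) • y = r • y
    rw [← IsScalarTower.algebraMap_apply, algebraMap_smul]
  have : Module.Flat A NB := (Module.flat_iff_of_isLocalization A p.primeCompl NB).mpr inferInstance
  let u : NB →ₗ[A] NB := ((LinearMap.lsmul S NB s).restrictScalars R).extendScalarsOfIsLocalization p.primeCompl A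
  have hu : ∀ x, u x = s • x := fun _ => rfl
  have hresS : ∀ {X : Type u} [AddCommGroup X] [Module R X] [Module S X] [IsScalarTower R S X]
      (I : Ideal R) (x : X), x ∈ I.map (algebraMap R S) • (⊤ : Submodule S X) ↔
        x ∈ I • (⊤ : Submodule R X) := fun I x => by
    rw [← Submodule.restrictScalars_mem R, Ideal.smul_restrictScalars, Submodule.restrictScalars_top]
  have hresA : ∀ (I : Ideal R) (x : NB), x ∈ I.map (algebraMap R A) • (⊤ : Submodule A NB) ↔
      x ∈ I • (⊤ : Submodule R NB) := fun I x => by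
    rw [← Submodule.restrictScalars_mem R, Ideal.smul_restrictScalars, Submodule.restrictScalars_top]
  have hf : ∀ (I : Ideal R) (w : N), f w ∈ I • (⊤ : Submodule R NB) ↔
      ∃ c ∉ t, c • w ∈ I • (⊤ : Submodule R N) := by
    intro I w
    constructor
    · intro h
      obtain ⟨c, hc, v, hv, hcv⟩ := FlatAtAssoc.exists_smul_mem t.primeCompl f _ _ ((hresS I _).mpr h)
      rw [← map_smul] at hcv
      obtain ⟨⟨d, hd⟩, hdv⟩ := (IsLocalizedModule.eq_iff_exists t.primeCompl f).mp hcv
      refine ⟨d * c, t.primeCompl.mul_mem hd hc, ?_⟩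
      rw [mul_smul, ← hresS]
      exact hdv ▸ Submodule.smul_mem _ d hv
    · rintro ⟨c, hc, h⟩
      have h1 := Submodule.mem_map_of_mem (f := f) ((hresS I _).mpr h)
      rw [Submodule.map_smul'', map_smul] at h1
      have h2 : c • f w ∈ I.map (algebraMap R S) • (⊤ : Submodule S NB) :=
        Submodule.smul_mono le_rfl le_top h1
      obtain ⟨e, he⟩ := IsLocalizedModule.map_units f (⟨c, hc⟩ : t.primeCompl)
      have h3 := Submodule.mem_map_of_mem (f := (↑e⁻¹ : Module.End S NB)) h2
      rw [Submodule.map_smul'', show c • f w = (e : Module.End S NB) (f w) by rw [he]; rfl,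
        ← Module.End.mul_apply, e.inv_mul, Module.End.one_apply] at h3
      exact (hresS I _).mp (Submodule.smul_mono le_rfl le_top h3)
  obtain ⟨hinj, -, -⟩ := ModMax.main (B := B) u fun x hx => by
    have hm : maximalIdeal A = p.map (algebraMap R A) :=
      (IsLocalization.AtPrime.map_eq_maximalIdeal p A).symm
    rw [hm, hresA] at hx ⊢
    rw [hu] at hx
    obtain ⟨⟨w, c⟩, hc⟩ := IsLocalizedModule.surj t.primeCompl f x
    have hc' : (c : S) • x = f w := hc
    have h1 : f (s • w) ∈ p • (⊤ : Submodule R NB) := by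
      rw [map_smul, ← hc', smul_comm]
      exact (hresS p _).mp (Submodule.smul_mem _ _ ((hresS p _).mpr hx))
    obtain ⟨d, hd, h2⟩ := (hf p _).mp h1
    rw [smul_comm] at h2
    obtain ⟨d', hd', h3⟩ := hs _ h2
    have h4 : f w ∈ p • (⊤ : Submodule R NB) :=
      (hf p w).mpr ⟨d' * d, t.primeCompl.mul_mem hd' hd, by rw [mul_smul]; exact h3⟩
    obtain ⟨e, he⟩ := IsLocalizedModule.map_units f c
    have h5 := Submodule.mem_map_of_mem (f := (↑e⁻¹ : Module.End S NB)) ((hresS p _).mpr h4)
    rw [Submodule.map_smul'', ← hc', show (c : S) • x = (e : Module.End S NB) x by rw [he]; rfl,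
      ← Module.End.mul_apply, e.inv_mul, Module.End.one_apply] at h5
    exact (hresS p _).mp (Submodule.smul_mono le_rfl le_top h5)
  have h1 : f (s • n) ∈ J • (⊤ : Submodule R NB) :=
    (hf J _).mpr ⟨1, t.primeCompl.one_mem, by rwa [one_smul]⟩
  let Q := A ⧸ J.map (algebraMap R A)
  have h2 : u.rTensor Q (f n ⊗ₜ[A] (1 : Q)) = 0 := by
    rw [LinearMap.rTensor_tmul, ModMaxWitness.tmul_one_eq_zero_iff, hresA, hu, ← map_smul]
    exact h1
  have h3 := hinj Q (h2.trans (map_zero _).symm)
  rw [ModMaxWitness.tmul_one_eq_zero_iff, hresA] at h3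
  exact (hf J n).mp h3

/-- An associated point of a fibre specializing to a point of flatness over `p` specializes to an
associated point of the fibre over `p`. -/
theorem exists_assoc_specialization {A B : Type u} [CommRing A] [CommRing B] [Algebra A B]
    [Algebra.FiniteType A B] (N : Type u) [AddCommGroup N] [Module B N] [Module A N]
    [IsScalarTower A B N] [Module.Finite B N] (p : Ideal A) [p.IsPrime]
    (p' : Ideal A) [p'.IsPrime] (q' : Ideal B) [q'.IsPrime] [q'.LiesOver p']
    (hass : FlatCA.fiberIdeal p' q' ∈ associatedPrimes (p'.Fiber B) (FlatCA.fiberMod p' B N))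
    (t : Ideal B) [t.IsPrime] [t.LiesOver p] (hqt : q' ≤ t) (hflat : FlatCA.FlatAt A t N) :
    ∃ (q : Ideal B) (_ : q.IsPrime), q' ≤ q ∧ q.LiesOver p ∧
      FlatCA.fiberIdeal p q ∈ associatedPrimes (p.Fiber B) (FlatCA.fiberMod p B N) := by
  classical
  by_contra hno
  have : IsNoetherianRing (p.Fiber B) := Algebra.FiniteType.isNoetherianRing p.ResidueField _
  have : Module.Finite (p.Fiber B) (FlatCA.fiberMod p B N) :=
    inferInstanceAs (Module.Finite (p.Fiber B) ((p.Fiber B) ⊗[B] N))
  let ι := algebraMap B (p.Fiber B)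
  have hQ : ∀ Q ∈ associatedPrimes (p.Fiber B) (FlatCA.fiberMod p B N), ¬ q' ≤ Q.comap ι := by
    intro Q hQ hle
    have : Q.IsPrime := hQ.isPrime
    refine hno ⟨Q.comap ι, Ideal.comap_isPrime _ _, hle, ⟨le_antisymm (fun a ha => ?_) fun a ha => ?_⟩, ?_⟩
    · rw [Ideal.mem_comap, Ideal.mem_comap, ← IsScalarTower.algebraMap_apply,
        IsScalarTower.algebraMap_apply A p.ResidueField (p.Fiber B),
        Ideal.algebraMap_residueField_eq_zero.mpr ha, map_zero]
      exact zero_mem Q
    · rw [Ideal.mem_comap, Ideal.mem_comap, ← IsScalarTower.algebraMap_apply,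
        IsScalarTower.algebraMap_apply A p.ResidueField (p.Fiber B)] at ha
      by_contra hap
      exact ‹Q.IsPrime›.ne_top (Ideal.eq_top_of_isUnit_mem _ ha
        ((IsUnit.mk0 _ (mt Ideal.algebraMap_residueField_eq_zero.mp hap)).map _))
    · rw [fiberIdeal_comap]; exact hQ
  obtain ⟨s, hsq, hs⟩ : ∃ s ∈ q', ∀ Q ∈ associatedPrimes (p.Fiber B) (FlatCA.fiberMod p B N),
      s ∉ Q.comap ι := by
    have hfin := associatedPrimes.finite (p.Fiber B) (FlatCA.fiberMod p B N)
    by_contra! hall
    have hsub : (q' : Set B) ⊆ ⋃ Q ∈ (hfin.toFinset : Set (Ideal (p.Fiber B))), (Q.comap ι : Set B) :=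
      fun s hs => by
        obtain ⟨Q, hQ', hsQ⟩ := hall s hs
        simp only [Set.mem_iUnion]
        exact ⟨Q, hfin.mem_toFinset.mpr hQ', hsQ⟩
    rw [Ideal.subset_union_prime (f := fun Q : Ideal (p.Fiber B) => Q.comap ι) ⊥ ⊥ fun Q hQ' _ _ =>
      haveI : Q.IsPrime := (hfin.mem_toFinset.mp hQ').isPrime
      Ideal.comap_isPrime ι Q] at hsub
    obtain ⟨Q, hQ', hle⟩ := hsub
    exact hQ Q (hfin.mem_toFinset.mp hQ') hle
  have hreg : ∀ v : FlatCA.fiberMod p B N, s • v = 0 → v = 0 := by
    intro v hv
    by_contra hv0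
    rw [fiber_smul] at hv
    have hmem : ι s ∈ ⋃ Q ∈ associatedPrimes (p.Fiber B) (FlatCA.fiberMod p B N),
        (Q : Set (p.Fiber B)) := by
      rw [biUnion_associatedPrimes_eq_zero_divisors]
      exact ⟨v, hv0, hv⟩
    simp only [Set.mem_iUnion] at hmem
    obtain ⟨Q, hQ', hsQ⟩ := hmem
    exact hs Q hQ' hsQ
  obtain ⟨n, hn⟩ := (AssLocal.assoc_iff N p' q').mp hass
  obtain ⟨r, hr, hrs⟩ := (hn s).mp hsq
  rw [smul_comm] at hrs
  obtain ⟨c, hc, hcn⟩ := mem_smul_of_regular N p t hflat s (fun m hm => by
    have h0 : FlatCA.toFiberMod p B N m = 0 := hreg _ (by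
      rw [← map_smul, toFiberMod_eq_zero_iff]
      refine ⟨1, fun h => Ideal.IsPrime.ne_top ‹p.IsPrime› ((Ideal.eq_top_iff_one p).mpr h), ?_⟩
      rw [map_one, one_smul, ← Submodule.restrictScalars_mem A, Ideal.smul_restrictScalars,
        Submodule.restrictScalars_top]
      exact hm)
    obtain ⟨r', hr', h⟩ := (toFiberMod_eq_zero_iff p m).mp h0
    rw [← Submodule.restrictScalars_mem A, Ideal.smul_restrictScalars, Submodule.restrictScalars_top] at h
    exact ⟨_, fun hh => hr' ((Ideal.over_def t p).ge hh), h⟩) p' (r • n) hrs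
  have hcq : c * algebraMap A B r ∈ q' := (hn _).mpr ⟨1,
    fun h => Ideal.IsPrime.ne_top ‹p'.IsPrime› ((Ideal.eq_top_iff_one p').mpr h), by
    rwa [one_smul, mul_smul, algebraMap_smul]⟩
  exact (Ideal.IsPrime.mem_or_mem ‹q'.IsPrime› hcq).elim (fun h => hc (hqt h))
    fun h => hr ((Ideal.over_def q' p').ge h)

end Groth.Agent.H7Flat.RegularSpecialize
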