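import Groth.Agent.H7Flat.NilFibreFlat

/-!
# The fibrewise criterion of flatness over a base algebra essentially of finite type
-/

set_option autoImplicit false
set_option linter.style.haveILetI false
set_option maxHeartbeats 1000000
universe u

open IsLocalRing TensorProduct

namespace Groth.Agent.H7Flat.RelFlatLocus

/-- If `M` is flat over `R` and flat on the closed fibre over `S`, then `M` is flat over `S`; here `S`
is only essentially of finite type over `R`. -/
theorem flat_of_fibre {R S S' M : Type u} [CommRing R] [CommRing S] [CommRing S']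
    [IsLocalRing R] [IsLocalRing S] [IsLocalRing S'] [Algebra R S] [Algebra S S'] [Algebra R S']
    [IsScalarTower R S S'] [IsLocalHom (algebraMap R S)] [IsLocalHom (algebraMap S S')]
    [Algebra.EssFiniteType R S] (hS' : CAlgX.IsEssFinitePresentation R S')
    [AddCommGroup M] [Module S' M] [Module S M] [Module R M] [IsScalarTower S S' M] [IsScalarTower R S' M]
    [IsScalarTower R S M] [Module.FinitePresentation S' M] [Module.Flat R M]
    (hfib : Module.Flat (S ⧸ (maximalIdeal R).map (algebraMap R S))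
      ((S ⧸ (maximalIdeal R).map (algebraMap R S)) ⊗[S] M)) : Module.Flat S M := by
  classical
  rcases subsingleton_or_nontrivial M with _ | _
  · infer_instance
  let B0 := Algebra.EssFiniteType.subalgebra R S
  obtain ⟨n, π, hπ⟩ := Algebra.FiniteType.iff_quotient_mvPolynomial''.mp (inferInstance : Algebra.FiniteType R B0)
  let P := MvPolynomial (Fin n) R
  obtain ⟨K', hK', hfg, hK⟩ := NilFibreFlat.exists_fg_fibre (maximalIdeal R) (RingHom.ker π.toRingHom)
  let A := P ⧸ K'
  haveI : Algebra.FinitePresentation R A := Algebra.FinitePresentation.quotient hfg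
  let πA : A →ₐ[R] B0 := Ideal.Quotient.liftₐ K' π fun a ha => hK' ha
  let φA : A →ₐ[R] S := (IsScalarTower.toAlgHom R B0 S).comp πA
  let Q1 : Ideal A := (maximalIdeal S).comap φA.toRingHom
  haveI : Q1.IsPrime := Ideal.IsPrime.comap _
  have hQ1 : Q1.comap (algebraMap R A) = maximalIdeal R := by
    show ((maximalIdeal S).comap φA.toRingHom).comap (algebraMap R A) = _
    rw [Ideal.comap_comap, show φA.toRingHom.comp (algebraMap R A) = algebraMap R S from φA.comp_algebraMap]
    exact maximalIdeal_comap (algebraMap R S)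
  have hunit : ∀ a : Q1.primeCompl, IsUnit (φA a) := fun a => by
    by_contra h
    exact a.2 h
  let S₁ := Localization.AtPrime Q1
  let ψ : S₁ →+* S := IsLocalization.lift (M := Q1.primeCompl) (g := φA.toRingHom) hunit
  have hψ : ∀ a, ψ (algebraMap A S₁ a) = φA a := IsLocalization.lift_eq hunit
  have hψR : ∀ r, ψ (algebraMap R S₁ r) = algebraMap R S r := fun r => by
    rw [IsScalarTower.algebraMap_apply R A S₁, hψ, φA.commutes]
  letI : Algebra S₁ S := ψ.toAlgebra
  letI : Algebra S₁ S' := ((algebraMap S S').comp ψ).toAlgebra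
  haveI : IsScalarTower R S₁ S := IsScalarTower.of_algebraMap_eq fun r => (hψR r).symm
  haveI : IsScalarTower S₁ S S' := IsScalarTower.of_algebraMap_eq fun _ => rfl
  haveI : IsScalarTower R S₁ S' := IsScalarTower.of_algebraMap_eq fun r => by
    show _ = algebraMap S S' (ψ (algebraMap R S₁ r))
    rw [hψR, ← IsScalarTower.algebraMap_apply]
  letI : Module S₁ M := Module.compHom M ψ
  haveI : IsScalarTower S₁ S M := .of_algebraMap_smul fun _ _ => rfl
  haveI : IsScalarTower S₁ S' M := .of_algebraMap_smul fun r m => by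
    show algebraMap S S' (ψ r) • m = ψ r • m
    rw [algebraMap_smul]
  haveI : IsScalarTower R S₁ M := .of_algebraMap_smul fun r m => by
    show ψ (algebraMap R S₁ r) • m = r • m
    rw [hψR, algebraMap_smul]
  haveI : IsLocalHom (algebraMap R S₁) := ⟨fun r hr => by
    have h : IsUnit (algebraMap R S r) := hψR r ▸ hr.map ψ
    exact h.of_map (algebraMap R S) r⟩
  haveI hψl : IsLocalHom ψ := ⟨fun y hy => by
    obtain ⟨a, t, rfl⟩ := IsLocalization.exists_mk'_eq Q1.primeCompl y
    rw [IsLocalization.AtPrime.isUnit_mk'_iff]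
    intro ha
    have h1 : ψ (IsLocalization.mk' S₁ a t) * φA t = φA a := by
      rw [← hψ, ← hψ, ← map_mul, IsLocalization.mk'_spec]
    exact (mem_maximalIdeal _).mp ha (h1 ▸ hy.mul (hunit t))⟩
  haveI : IsLocalHom (algebraMap S₁ S') :=
    inferInstanceAs (IsLocalHom ((algebraMap S S').comp ψ))
  have hπA : Function.Surjective πA := fun b => by
    obtain ⟨x, rfl⟩ := hπ b
    exact ⟨Ideal.Quotient.mk K' x, rfl⟩
  have hsurj : Function.Surjective (algebraMap S₁ S) := fun s => by
    obtain ⟨⟨b, t⟩, hbt⟩ := IsLocalization.surj (Algebra.EssFiniteType.submonoid R S) s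
    obtain ⟨a, ha⟩ := hπA b
    obtain ⟨t', ht'⟩ := hπA t
    have ht'u : t' ∉ Q1 := fun h => by
      refine (mem_maximalIdeal _).mp (show φA t' ∈ maximalIdeal S from h) ?_
      show IsUnit (algebraMap B0 S (πA t'))
      rw [ht']
      exact IsLocalization.map_units S t
    refine ⟨IsLocalization.mk' S₁ a (⟨t', ht'u⟩ : Q1.primeCompl), ?_⟩
    refine (hunit ⟨t', ht'u⟩).mul_left_injective ?_
    show ψ _ * φA t' = s * φA t'
    rw [← hψ t', ← map_mul, IsLocalization.mk'_spec, hψ, hψ]
    show algebraMap B0 S (πA a) = s * algebraMap B0 S (πA t')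
    rw [ha, ht']
    exact hbt.symm
  have hker : RingHom.ker (algebraMap S₁ S) ≤ (maximalIdeal R).map (algebraMap R S₁) := by
    intro y hy
    obtain ⟨a, t, rfl⟩ := IsLocalization.exists_mk'_eq Q1.primeCompl y
    rw [IsScalarTower.algebraMap_eq R A S₁, ← Ideal.map_map,
      IsLocalization.mk'_mem_map_algebraMap_iff Q1.primeCompl]
    have h0 : algebraMap B0 S (πA a) = 0 := by
      show φA a = 0
      rw [← hψ, ← IsLocalization.mk'_spec S₁ a t, map_mul]
      rw [show ψ (IsLocalization.mk' S₁ a t) = 0 from hy, zero_mul]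
    obtain ⟨⟨u, hu⟩, hua⟩ := (IsLocalization.map_eq_zero_iff (Algebra.EssFiniteType.submonoid R S) S _).mp h0
    obtain ⟨u', hu'⟩ := hπA u
    have hu'Q : u' ∉ Q1 := fun h => by
      refine (mem_maximalIdeal _).mp (show φA u' ∈ maximalIdeal S from h) ?_
      show IsUnit (algebraMap B0 S (πA u'))
      rw [hu']
      exact hu
    obtain ⟨x, hx⟩ := Ideal.Quotient.mk_surjective (u' * a)
    have hxker : x ∈ RingHom.ker π.toRingHom := by
      show π x = 0
      have : πA (Ideal.Quotient.mk K' x) = π x := rfl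
      rw [← this, hx, map_mul, hu']
      exact hua
    obtain ⟨c, hc, hcx⟩ := hK x hxker
    refine ⟨algebraMap R A c * u', Q1.primeCompl.mul_mem (fun h => hc (hQ1.le h)) hu'Q, ?_⟩
    rw [mul_assoc, ← hx]
    obtain ⟨k, hk, m, hm, hkm⟩ := Submodule.mem_sup.mp hcx
    show Ideal.Quotient.mk K' (algebraMap R P c * x) ∈ _
    rw [← hkm, map_add, Ideal.Quotient.eq_zero_iff_mem.mpr hk, zero_add]
    have := Ideal.mem_map_of_mem (Ideal.Quotient.mk K') hm
    rwa [Ideal.map_map] at this
  haveI : IsLocalization.AtPrime R (maximalIdeal R) := by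
    refine ⟨fun y => isUnit_iff_exists_inv.mpr ?_, fun z => ⟨⟨z, 1⟩, by simp⟩, fun {x y} h => ⟨1, by simpa using h⟩⟩
    have hy : IsUnit (y : R) := by
      by_contra h
      exact y.2 h
    exact isUnit_iff_exists_inv.mp hy
  exact NilFibreFlat.flat_of_surjective (R := R) (S₁ := S₁) (S := S) (S' := S') (M := M)
    (NilFibreFlat.isEssFP_atPrime Q1 (maximalIdeal R) hQ1) hS' hsurj hker hfib

end Groth.Agent.H7Flat.RelFlatLocus
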