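import Groth.Agent.H7Flat.SpecializationDense
import Mathlib.RingTheory.Localization.FractionRing
import Mathlib.RingTheory.Valuation.ValuationSubring
import Mathlib.RingTheory.Localization.AtPrime.Basic
import Mathlib.RingTheory.FiniteType

/-!
# Closed points of the generic fibre of a domain specializing to a closed point of another fibre
-/

set_option autoImplicit false
set_option linter.style.haveILetI false

universe u

open IsLocalRing

namespace Groth.Agent.H7Flat

theorem exists_closed_generic_point_le {R A : Type u} [CommRing R] [CommRing A] [IsDomain A] [Algebra R A]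
    [Algebra.FiniteType R A] (P' : Ideal A) [P'.IsPrime]
    (hcl : ∀ Q : Ideal A, Q.IsPrime → P' ≤ Q → Q.comap (algebraMap R A) = P'.comap (algebraMap R A) → Q = P')
    (hne : ∃ r : R, algebraMap R A r ≠ 0 ∧ algebraMap R A r ∈ P') (u : A) (hu : u ≠ 0) :
    ∃ p : Ideal A, p.IsPrime ∧ p ≤ P' ∧ u ∉ p ∧
      p.comap (algebraMap R A) = RingHom.ker (algebraMap R A) ∧
      ∀ q : Ideal A, q.IsPrime → p ≤ q → q.comap (algebraMap R A) = RingHom.ker (algebraMap R A) → q = p := by
  classical
  let K := FractionRing A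
  let ι : A →+* K := algebraMap A K
  have hι : Function.Injective ι := IsFractionRing.injective A K
  let f : Localization.AtPrime P' →+* K :=
    IsLocalization.lift (M := P'.primeCompl) (g := ι) fun s => IsUnit.mk0 _
      ((map_ne_zero_iff ι hι).2 fun h => s.2 (h ▸ P'.zero_mem))
  obtain ⟨V, hfV, hloc⟩ := IsLocalRing.exists_factor_valuationRing f
  have hfι : ∀ a, f (algebraMap A _ a) = ι a := IsLocalization.lift_eq _
  have hAV : ∀ a, ι a ∈ V := fun a => hfι a ▸ hfV _
  -- `a ∈ P'` iff its image is a non-unit of `V`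
  have hPV : ∀ a, a ∈ P' ↔ (⟨ι a, hAV a⟩ : V) ∈ maximalIdeal V := by
    intro a
    have e : (f.codRestrict V.toSubring hfV) (algebraMap A _ a) = (⟨ι a, hAV a⟩ : V) := Subtype.ext (hfι a)
    rw [IsLocalRing.mem_maximalIdeal, mem_nonunits_iff, ← IsLocalization.AtPrime.to_map_mem_maximal_iff
      (Localization.AtPrime P') P' a, IsLocalRing.mem_maximalIdeal, mem_nonunits_iff, not_iff_not]
    refine ⟨fun h => e ▸ h.map (f.codRestrict V.toSubring hfV), fun h => ?_⟩
    exact isUnit_of_map_unit (f.codRestrict V.toSubring hfV) _ (e.symm ▸ h)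
  let K₀ : Subfield K := Subfield.closure (Set.range (ι.comp (algebraMap R A)))
  let O₀ : ValuationSubring K₀ := V.comap K₀.subtype
  have hRK : ∀ r, ι (algebraMap R A r) ∈ K₀ := fun r => Subfield.subset_closure ⟨r, rfl⟩
  let ρ : R →+* O₀ :=
    { toFun := fun r => ⟨⟨ι (algebraMap R A r), hRK r⟩, hAV _⟩
      map_one' := Subtype.ext (Subtype.ext (by simp))
      map_mul' := fun x y => Subtype.ext (Subtype.ext (by simp))
      map_zero' := Subtype.ext (Subtype.ext (by simp))
      map_add' := fun x y => Subtype.ext (Subtype.ext (by simp)) }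
  have hO₀unit : ∀ o : O₀, IsUnit (⟨((o : K₀) : K), o.2⟩ : V) → IsUnit o := by
    intro o ho
    obtain ⟨w, hw⟩ := ho.exists_right_inv
    have hwK : (w : K) = ((o : K₀) : K)⁻¹ :=
      eq_inv_of_mul_eq_one_right (congrArg (fun z : V => (z : K)) hw)
    have hw0 : (w : K) ∈ K₀ := hwK ▸ K₀.inv_mem (o : K₀).2
    refine IsUnit.of_mul_eq_one (⟨⟨(w : K), hw0⟩, w.2⟩ : O₀) (Subtype.ext (Subtype.ext ?_))
    exact congrArg (fun z : V => (z : K)) hw
  letI : Algebra O₀ K := (K₀.subtype.comp O₀.subtype).toAlgebra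
  obtain ⟨S, hS⟩ := (inferInstance : Algebra.FiniteType R A)
  let A' : Subalgebra O₀ K := Algebra.adjoin O₀ (ι '' (S : Set A))
  have hAA' : ∀ a, ι a ∈ A' := by
    intro a
    have ha : a ∈ Algebra.adjoin R (S : Set A) := hS ▸ Algebra.mem_top
    induction ha using Algebra.adjoin_induction with
    | mem x hx => exact Algebra.subset_adjoin ⟨x, hx, rfl⟩
    | algebraMap r => exact A'.algebraMap_mem (ρ r)
    | add x y _ _ hx hy => rw [map_add]; exact add_mem hx hy
    | mul x y _ _ hx hy => rw [map_mul]; exact mul_mem hx hy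
  have hA'V : ∀ x ∈ A', x ∈ V := by
    intro x hx
    induction hx using Algebra.adjoin_induction with
    | mem x hx => obtain ⟨a, -, rfl⟩ := hx; exact hAV a
    | algebraMap r => exact r.2
    | add x y _ _ hx hy => exact add_mem hx hy
    | mul x y _ _ hx hy => exact mul_mem hx hy
  let φ : A →+* A' := ι.codRestrict A'.toSubring hAA'
  let j : A' →+* V :=
    { toFun := fun x => ⟨x, hA'V _ x.2⟩
      map_one' := rfl
      map_mul' := fun _ _ => rfl
      map_zero' := rfl
      map_add' := fun _ _ => rfl }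
  haveI : Algebra.FiniteType O₀ A' :=
    ⟨(Subalgebra.fg_top _).2 (Subalgebra.fg_adjoin_finset (R := O₀) (S.image ι) |> fun h => by
      rwa [Finset.coe_image] at h)⟩
  haveI : FaithfulSMul O₀ A' := (faithfulSMul_iff_algebraMap_injective _ _).2 fun x y h => by
    have h1 : ((x : K₀) : K) = ((y : K₀) : K) := congrArg (fun z : A' => (z : K)) h
    exact Subtype.ext (Subtype.ext h1)
  let x₀ : Ideal A' := (maximalIdeal V).comap j
  haveI : x₀.IsPrime := Ideal.IsPrime.comap _
  obtain ⟨M, hM, hx₀M⟩ := x₀.exists_le_maximal (inferInstance : x₀.IsPrime).ne_top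
  have hmA : (maximalIdeal O₀).map (algebraMap O₀ A') ≤ M := by
    refine le_trans (Ideal.map_le_iff_le_comap.2 fun o ho => ?_) hx₀M
    show j (algebraMap O₀ A' o) ∈ maximalIdeal V
    rw [IsLocalRing.mem_maximalIdeal, mem_nonunits_iff] at ho ⊢
    exact fun hu' => ho (hO₀unit o hu')
  obtain ⟨r₀, hr₀, hr₀P⟩ := hne
  have hnf : maximalIdeal O₀ ≠ ⊥ := by
    refine (Submodule.ne_bot_iff _).2 ⟨ρ r₀, ?_, fun h => hr₀ ?_⟩
    · rw [IsLocalRing.mem_maximalIdeal, mem_nonunits_iff]
      intro hu'
      have h1 : IsUnit (⟨ι (algebraMap R A r₀), hAV _⟩ : V) := by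
        obtain ⟨w, hw⟩ := hu'.exists_right_inv
        exact IsUnit.of_mul_eq_one (⟨((w : K₀) : K), w.2⟩ : V)
          (Subtype.ext (congrArg (fun z : O₀ => ((z : K₀) : K)) hw))
      exact ((hPV _).1 hr₀P) h1
    · exact hι ((congrArg (fun z : O₀ => ((z : K₀) : K)) h).trans (map_zero ι).symm)
  have hφu : φ u ≠ 0 := fun h => hu (hι ((congrArg (fun z : A' => (z : K)) h).trans (map_zero ι).symm))
  haveI : IsIntegrallyClosed O₀ := inferInstance
  obtain ⟨P, hP, hPM, huP, hP0, halg⟩ := exists_prime_le_of_local O₀ hnf M hmA (φ u) hφu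
  have hMP' : M.comap φ = P' := by
    refine hcl _ (Ideal.IsPrime.comap φ) (fun a ha => hx₀M ((hPV a).1 ha)) ?_
    ext r
    refine ⟨fun hr => ?_, fun hr => hx₀M ((hPV _).1 hr)⟩
    by_contra hrP
    have h1 : IsUnit (⟨ι (algebraMap R A r), hAV _⟩ : V) := by
      by_contra h2; exact hrP ((hPV _).2 h2)
    have h2 : IsUnit (ρ r) := hO₀unit (ρ r) h1
    have h3 : IsUnit (algebraMap O₀ A' (ρ r)) := h2.map _
    exact hM.ne_top (Ideal.eq_top_of_isUnit_mem _ hr h3)
  have hker : ∀ {r : R}, algebraMap R A r ∈ P.comap φ ↔ algebraMap R A r = 0 := by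
    intro r
    refine ⟨fun hr => ?_, fun hr => by rw [hr]; exact zero_mem _⟩
    have h1 : ρ r ∈ P.comap (algebraMap O₀ A') := hr
    rw [hP0, Submodule.mem_bot] at h1
    exact hι ((congrArg (fun z : O₀ => ((z : K₀) : K)) h1).trans (map_zero ι).symm)
  refine ⟨P.comap φ, Ideal.IsPrime.comap φ, hMP' ▸ Ideal.comap_mono hPM, huP, ?_, fun q hq hpq hqR => ?_⟩
  · ext r; exact hker
  · refine le_antisymm (fun a ha => ?_) hpq
    by_contra hap
    have hρ0 : ∀ r : R, ρ r = 0 ↔ algebraMap R A r = 0 := fun r =>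
      ⟨fun h => hι ((congrArg (fun z : O₀ => ((z : K₀) : K)) h).trans (map_zero ι).symm),
        fun h => Subtype.ext (Subtype.ext (by show ι (algebraMap R A r) = 0; rw [h, map_zero]))⟩
    have hfrac : ∀ o : O₀, ∃ z y : R, ρ z ≠ 0 ∧ o * ρ z = ρ y := by
      intro o
      obtain ⟨y, hy, z, hz, hyz⟩ := Subfield.mem_closure_iff.1 ((o : K₀).2)
      rw [← RingHom.coe_range, Subring.closure_eq] at hy hz
      obtain ⟨ry, hry⟩ := hy
      obtain ⟨rz, hrz⟩ := hz
      by_cases hz0 : z = 0
      · refine ⟨1, 0, by rw [map_one]; exact one_ne_zero, ?_⟩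
        have : o = 0 := Subtype.ext (Subtype.ext (by rw [← hyz, hz0, div_zero]; rfl))
        rw [this, zero_mul, map_zero]
      · refine ⟨rz, ry, fun h => hz0 ?_, ?_⟩
        · rw [← hrz]; exact congrArg (fun z : O₀ => ((z : K₀) : K)) h
        · refine Subtype.ext (Subtype.ext ?_)
          show ((o : K₀) : K) * ι (algebraMap R A rz) = ι (algebraMap R A ry)
          rw [show ι (algebraMap R A rz) = z from hrz, show ι (algebraMap R A ry) = y from hry, ← hyz,
            div_mul_cancel₀ _ hz0]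
    have hcommon : ∀ t : Finset O₀, ∃ z : R, ρ z ≠ 0 ∧ ∀ o ∈ t, ∃ y, o * ρ z = ρ y := by
      intro t
      induction t using Finset.induction_on with
      | empty => exact ⟨1, by rw [map_one]; exact one_ne_zero, by simp⟩
      | insert o t _ ih =>
        obtain ⟨z, hz, hy⟩ := ih
        obtain ⟨z', y', hz', hy'⟩ := hfrac o
        refine ⟨z * z', by rw [map_mul]; exact mul_ne_zero hz hz', fun o' ho' => ?_⟩
        rcases Finset.mem_insert.1 ho' with rfl | ho'
        · exact ⟨y' * z, by rw [map_mul, map_mul, ← hy']; ring⟩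
        · obtain ⟨y, hy⟩ := hy o' ho'
          exact ⟨y * z', by rw [map_mul, map_mul, ← hy]; ring⟩
    obtain ⟨pol, hpol0, hpol⟩ := halg (φ a)
    obtain ⟨z, hz, hy⟩ := hcommon ((Finset.range (pol.natDegree + 1)).image pol.coeff)
    choose! y hy using fun i (hi : i ∈ Finset.range (pol.natDegree + 1)) =>
      hy _ (Finset.mem_image_of_mem pol.coeff hi)
    have hG : ∑ i ∈ Finset.range (pol.natDegree + 1), algebraMap R A (y i) * a ^ i ∈ P.comap φ := by
      rw [Ideal.mem_comap, ← Ideal.Quotient.eq_zero_iff_mem, map_sum, map_sum]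
      rw [Polynomial.aeval_eq_sum_range] at hpol
      have h2 := congrArg (fun w => algebraMap O₀ (A' ⧸ P) (ρ z) * w) hpol
      rw [mul_zero, Finset.mul_sum] at h2
      rw [← h2]
      refine Finset.sum_congr rfl fun i hi => ?_
      have e : φ (algebraMap R A (y i)) = algebraMap O₀ A' (ρ (y i)) := Subtype.ext rfl
      rw [map_mul, map_mul, map_pow, map_pow, e, Ideal.Quotient.mk_algebraMap, ← hy i hi, map_mul,
        Algebra.smul_def]
      ring
    obtain ⟨n, hn, hn0, hmin⟩ : ∃ n ∈ Finset.range (pol.natDegree + 1), algebraMap R A (y n) ≠ 0 ∧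
        ∀ i < n, algebraMap R A (y i) = 0 := by
      have hex : ∃ n, n ∈ Finset.range (pol.natDegree + 1) ∧ algebraMap R A (y n) ≠ 0 := by
        refine ⟨pol.natDegree, Finset.self_mem_range_succ _, fun h => ?_⟩
        have h3 := hy _ (Finset.self_mem_range_succ pol.natDegree)
        rw [(hρ0 _).2 h] at h3
        exact hpol0 (Polynomial.leadingCoeff_eq_zero.1 ((mul_eq_zero.1 h3).resolve_right hz))
      refine ⟨Nat.find hex, (Nat.find_spec hex).1, (Nat.find_spec hex).2, fun i hi => ?_⟩
      by_contra h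
      refine Nat.find_min hex hi ⟨?_, h⟩
      have := (Nat.find_spec hex).1
      rw [Finset.mem_range] at this ⊢
      omega
    have hsum : ∀ i ∈ Finset.range (pol.natDegree + 1), i ≠ n →
        ∃ b, algebraMap R A (y i) * a ^ i = a ^ (n + 1) * b := by
      intro i _ hin
      rcases lt_or_gt_of_ne hin with h | h
      · exact ⟨0, by rw [hmin i h, zero_mul, mul_zero]⟩
      · exact ⟨algebraMap R A (y i) * a ^ (i - (n + 1)), by
          conv_lhs => rw [show i = (n + 1) + (i - (n + 1)) by omega, pow_add]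
          rw [show n + 1 + (i - (n + 1)) = i by omega]
          ring⟩
    choose! b hb using hsum
    have hpp : (P.comap φ).IsPrime := Ideal.IsPrime.comap φ
    rw [← Finset.add_sum_erase _ _ hn,
      Finset.sum_congr rfl (fun i hi => hb i (Finset.mem_erase.1 hi).2 (Finset.mem_erase.1 hi).1),
      ← Finset.mul_sum, pow_succ, mul_comm (algebraMap R A (y n)), mul_assoc, ← mul_add] at hG
    have h4 : algebraMap R A (y n) + a * ∑ i ∈ (Finset.range (pol.natDegree + 1)).erase n, b i ∈ P.comap φ :=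
      (hpp.mem_or_mem hG).resolve_left fun h => hap (hpp.mem_of_pow_mem _ h)
    have h5 : algebraMap R A (y n) ∈ q := by
      have h6 := q.sub_mem (hpq h4) (q.mul_mem_right (∑ i ∈ (Finset.range (pol.natDegree + 1)).erase n, b i) ha)
      rwa [add_sub_cancel_right] at h6
    have h7 : y n ∈ q.comap (algebraMap R A) := h5
    rw [hqR, RingHom.mem_ker] at h7
    exact hn0 h7

end Groth.Agent.H7Flat
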