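import Groth.Agent.H4DR.TorAmp.Descent
import Groth.Agent.H4DR.TorAmp.Modules
import Groth.Agent.H9Hens.FlatEpi

/-!
# Tor amplitude along weakly étale ring maps
-/

set_option autoImplicit false
set_option linter.style.haveILetI false

universe u

open CategoryTheory CategoryTheory.Limits

attribute [local instance] HasDerivedCategory.standard

namespace Groth.Agent.H7Flat.TorAmpWE

open Groth.Agent.H4DR.TorAmp

variable {A B : Type u} [CommRing A] [CommRing B] [Algebra A B]

/-- Restriction of scalars along a flat algebra preserves tor amplitude. -/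
theorem ta_restrict_of_flat [Module.Flat A B] {K : Dual.D B} {a b : ℤ}
    (h : DRing.HasTorAmplitudeIn B a b K) :
    DRing.HasTorAmplitudeIn A a b ((DRing.restrictD (algebraMap A B)).obj K) := by
  have := ta_restrict (A := A) (B := B) (d := 0)
    (by simpa using ta_of_flat (ModuleCat.of A B)) h
  simpa using this

/-- A module over a weakly étale algebra, flat over the base, is flat. -/
theorem flat_of_restrict [Algebra.WeaklyEtale A B] (N : ModuleCat.{u} B)
    (h : Module.Flat A ((ModuleCat.restrictScalars.{u} (algebraMap A B)).obj N)) :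
    Module.Flat B N := by
  letI : Module A N := Module.compHom N (algebraMap A B)
  haveI : IsScalarTower A B N := .of_algebraMap_smul fun _ _ => rfl
  haveI : Module.Flat A N := h
  exact H9Hens.flat_of_restrictScalars_of_flat_lmul' A B (Algebra.WeaklyEtale.flat_lmul' A B) N

/-- Tor amplitude ascends along a weakly étale algebra. -/
theorem ta_of_restrict [Algebra.WeaklyEtale A B] {K : Dual.D B} {a b : ℤ}
    (h : DRing.HasTorAmplitudeIn A a b ((DRing.restrictD (algebraMap A B)).obj K)) :
    DRing.HasTorAmplitudeIn B a b K := by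
  let G := ModuleCat.restrictScalars.{u} (algebraMap A B)
  let GC := G.mapHomologicalComplex (ComplexShape.up ℤ)
  have hflat : Module.Flat A B := inferInstance
  have hres : ∀ {Q : DRing.Cx B}, (DRing.toD Q ≅ K) →
      (DRing.toD (GC.obj Q) ≅ (DRing.restrictD (algebraMap A B)).obj K) := fun e =>
    G.mapDerivedCategoryFactors.symm.app _ ≪≫ G.mapDerivedCategory.mapIso e
  have hfl : ∀ {Q : DRing.Cx B}, DRing.TermwiseFlat Q → DRing.TermwiseFlat (GC.obj Q) := fun {Q} hQ i => by
    haveI := hQ i
    letI : Module A (Q.X i) := Module.compHom (Q.X i) (algebraMap A B)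
    haveI : IsScalarTower A B (Q.X i) := .of_algebraMap_smul fun _ _ => rfl
    exact Module.Flat.trans A B (Q.X i)
  have hab : ∀ {Q : DRing.Cx B} {c : ℤ}, DRing.VanishesAbove Q c → DRing.VanishesAbove (GC.obj Q) c :=
    fun hQ i hi => G.map_isZero (hQ i hi)
  -- the cohomology of `K` vanishes outside `[a, b]`
  have hTV := tv_of_ta h
  obtain ⟨L, hL, -, ⟨eL⟩⟩ := h
  have hL' : ∀ i, (i < a ∨ b < i) → L.ExactAt i := fun i hi =>
    (HomologicalComplex.exactAt_iff _ _).2 (ShortComplex.exact_of_isZero_X₂ _ (hL i hi))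
  obtain ⟨Q, ⟨eQ⟩⟩ : ∃ Q : DRing.Cx B, Nonempty (DRing.toD Q ≅ K) :=
    ⟨_, ⟨DerivedCategory.Q.objObjPreimageIso K⟩⟩
  have hQ : ∀ i, (i < a ∨ b < i) → Q.ExactAt i := fun i hi => by
    rw [← exactAt_restrict_iff (algebraMap A B), HomologicalComplex.exactAt_iff_isZero_homology]
    have hz := (hL' i hi)
    rw [HomologicalComplex.exactAt_iff_isZero_homology] at hz
    refine IsZero.of_iso hz ?_
    exact (((DerivedCategory.homologyFunctorFactors (ModuleCat.{u} A) i).app (GC.obj Q)).symm ≪≫
      (DerivedCategory.homologyFunctor (ModuleCat.{u} A) i).mapIso (hres eQ ≪≫ eL.symm) ≪≫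
      (DerivedCategory.homologyFunctorFactors (ModuleCat.{u} A) i).app L)
  obtain ⟨P, hP, ⟨eP⟩⟩ := exists_projRep (K := K) (c := b) fun i hi => by
    refine ModuleCat.subsingleton_of_isZero ?_
    have hz := hQ i (Or.inr hi)
    rw [HomologicalComplex.exactAt_iff_isZero_homology] at hz
    exact IsZero.of_iso hz ((DerivedCategory.homologyFunctor (ModuleCat.{u} B) i).mapIso eQ.symm ≪≫
      (DerivedCategory.homologyFunctorFactors (ModuleCat.{u} B) i).app Q)
  have hex : ∀ (M : ModuleCat.{u} A) (i : ℤ), i < a → ((tens M).obj (GC.obj P)).ExactAt i :=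
    fun M i hi => hTV.exactAt (hab hP.above) (hfl hP.flat) (hres eP) M (Or.inl hi)
  have hPex : ∀ i, i < a → P.ExactAt i := fun i hi =>
    (exactAt_restrict_iff (algebraMap A B) P i).1 (exactAt_of_exactAt_tens_unit (hex _ i hi))
  haveI : P.IsGE a := (CochainComplex.isGE_iff P a).2 hPex
  refine ⟨P.truncGE a, fun i hi => ?_, fun i => ?_,
    ⟨(asIso (DerivedCategory.Q.map (P.πTruncGE a))).symm ≪≫ eP⟩⟩
  · rcases hi with hi | hi
    · exact (P.truncGE a).isZero_of_isStrictlyGE a i hi
    · by_cases hai : a < i
      · exact (hP.above i hi).of_iso (P.truncGEXIso a i hai)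
      · rcases lt_or_eq_of_le (not_lt.1 hai) with h' | rfl
        · exact (P.truncGE a).isZero_of_isStrictlyGE a i h'
        · haveI : Subsingleton (P.X i) := ModuleCat.subsingleton_of_isZero (hP.above i hi)
          refine IsZero.of_iso ?_ (P.truncGEXIsoOpcycles i ≪≫
            IsColimit.coconePointUniqueUpToIso (P.opcyclesIsCokernel (i - 1) i (by simp))
              (ModuleCat.cokernelIsColimit (P.d (i - 1) i)))
          haveI : Subsingleton (ModuleCat.cokernelCocone (P.d (i - 1) i)).pt :=
            (Submodule.mkQ_surjective (LinearMap.range (P.d (i - 1) i).hom)).subsingleton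
          exact ModuleCat.isZero_of_subsingleton _
  · rcases lt_trichotomy a i with h' | rfl | h'
    · haveI := hP.flat i
      exact Module.Flat.of_linearEquiv (P.truncGEXIso a i h').toLinearEquiv
    · haveI : Module.Flat B ((P.X a) ⧸ LinearMap.range (P.d (a - 1) a).hom) := by
        refine flat_of_restrict (A := A) (ModuleCat.of B ((P.X a) ⧸ LinearMap.range (P.d (a - 1) a).hom)) ?_
        exact flat_coker (hfl hP.flat) a fun M => hex M (a - 1) (by omega)
      haveI : Module.Flat B (ModuleCat.cokernelCocone (P.d (a - 1) a)).pt :=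
        inferInstanceAs (Module.Flat B ((P.X a) ⧸ LinearMap.range (P.d (a - 1) a).hom))
      exact Module.Flat.of_linearEquiv (P.truncGEXIsoOpcycles a ≪≫
        IsColimit.coconePointUniqueUpToIso (P.opcyclesIsCokernel (a - 1) a (by simp))
          (ModuleCat.cokernelIsColimit (P.d (a - 1) a))).toLinearEquiv
    · haveI := ModuleCat.subsingleton_of_isZero ((P.truncGE a).isZero_of_isStrictlyGE a i h')
      infer_instance

/-- Tor amplitude is detected after restriction along a weakly étale algebra. -/
theorem ta_restrict_iff [Algebra.WeaklyEtale A B] (K : Dual.D B) (a b : ℤ) :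
    DRing.HasTorAmplitudeIn A a b ((DRing.restrictD (algebraMap A B)).obj K) ↔
      DRing.HasTorAmplitudeIn B a b K :=
  ⟨ta_of_restrict, ta_restrict_of_flat⟩

end Groth.Agent.H7Flat.TorAmpWE
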