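import Mathlib
import Groth.Agent.H8Props.FiniteFactor

/-!
Universal finite open subscheme of base changes of a quasi-finite morphism of finite presentation
between affine schemes.
-/

universe u

open CategoryTheory Limits AlgebraicGeometry TopologicalSpace TensorProduct

namespace Groth.Agent.H7Flat.UniversalFiniteOpen

section Algebra

variable {A C : Type u} [CommRing A] [CommRing C] [Algebra A C]

theorem piScalarRight_map {P Q : Type u} [CommRing P] [CommRing Q] [Algebra A P] [Algebra A Q]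
    (φ : P →ₐ[A] Q) {n : ℕ} (x : P ⊗[A] (Fin n → A)) (i : Fin n) :
    piScalarRight A A Q (Fin n) (φ.toLinearMap.rTensor _ x) i =
      φ (piScalarRight A A P (Fin n) x i) := by
  induction x using TensorProduct.induction_on with
  | zero => simp
  | tmul p v => simp [piScalarRightHom_tmul]
  | add x y hx hy => simp only [map_add, Pi.add_apply, hx, hy]

theorem eq_sum_piScalarRight {P : Type u} [CommRing P] [Algebra A P] {n : ℕ} (x : P ⊗[A] (Fin n → A)) :
    x = ∑ i, piScalarRight A A P (Fin n) x i ⊗ₜ[A] (Pi.single i (1 : A)) := by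
  apply (piScalarRight A A P (Fin n)).injective
  rw [map_sum]
  ext j
  simp [Finset.sum_apply, piScalarRightHom_tmul, Pi.single_apply]

theorem exists_versal_zero [Module.FinitePresentation A C] {P : Type u} [CommRing P] [Algebra A P]
    [Algebra.FinitePresentation A P] (d : P ⊗[A] C) :
    ∃ (R : Type u) (_ : CommRing R) (_ : Algebra A R) (_ : Algebra.FinitePresentation A R)
      (ρ : P →ₐ[A] R), Algebra.TensorProduct.map ρ (AlgHom.id A C) d = 0 ∧
      ∀ (B : Type u) [CommRing B] [Algebra A B] (φ : P →ₐ[A] B),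
        Algebra.TensorProduct.map φ (AlgHom.id A C) d = 0 → ∃ ψ : R →ₐ[A] B, ψ.comp ρ = φ := by
  classical
  obtain ⟨n, π, hπ⟩ := Module.Finite.exists_fin' A C
  obtain ⟨m, r, hr⟩ := Submodule.fg_iff_exists_fin_generating_family.mp
    (Module.FinitePresentation.fg_ker π hπ)
  let g : (Fin m → A) →ₗ[A] (Fin n → A) := Fintype.linearCombination A r
  have hexact : Function.Exact g π := by
    rw [LinearMap.exact_iff, Fintype.range_linearCombination, hr]
  obtain ⟨D, hD⟩ := LinearMap.lTensor_surjective P hπ d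
  -- the natural map in terms of linear maps
  have hmap : ∀ {Q : Type u} [CommRing Q] [Algebra A Q] (φ : P →ₐ[A] Q),
      Algebra.TensorProduct.map φ (AlgHom.id A C) d = π.lTensor Q (φ.toLinearMap.rTensor _ D) := by
    intro Q _ _ φ
    rw [← hD, ← LinearMap.comp_apply (π.lTensor Q), LinearMap.lTensor_comp_rTensor]
    change (φ.toLinearMap.rTensor C) (π.lTensor P D) = _
    rw [← LinearMap.comp_apply, LinearMap.rTensor_comp_lTensor]
  let S := MvPolynomial (Fin m) P
  let incl : P →ₐ[A] S := IsScalarTower.toAlgHom A P S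
  let D' : S ⊗[A] (Fin n → A) :=
    incl.toLinearMap.rTensor _ D - ∑ l, (MvPolynomial.X l : S) ⊗ₜ[A] g (Pi.single l 1)
  let v : Fin n → S := fun i => piScalarRight A A S (Fin n) D' i
  let I : Ideal S := Ideal.span (Set.range v)
  have : Algebra.FinitePresentation A S := Algebra.FinitePresentation.trans A P S
  have : Algebra.FinitePresentation A (S ⧸ I) :=
    Algebra.FinitePresentation.quotient (Submodule.fg_span (Set.finite_range v))
  let q : S →ₐ[A] S ⧸ I := Ideal.Quotient.mkₐ A I
  have hpre : ∀ {Q : Type u} [CommRing Q] [Algebra A Q] (φ : S →ₐ[A] Q),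
      φ.toLinearMap.rTensor _ D' = (φ.comp incl).toLinearMap.rTensor _ D -
        ∑ l, φ (MvPolynomial.X l) ⊗ₜ[A] g (Pi.single l 1) := by
    intro Q _ _ φ
    simp only [D', map_sub, map_sum, LinearMap.rTensor_tmul, AlgHom.toLinearMap_apply]
    rw [← LinearMap.comp_apply, ← LinearMap.rTensor_comp, ← AlgHom.comp_toLinearMap]
  refine ⟨S ⧸ I, inferInstance, inferInstance, inferInstance, q.comp incl, ?_, ?_⟩
  · have h0 : q.toLinearMap.rTensor _ D' = 0 := by
      apply (piScalarRight A A (S ⧸ I) (Fin n)).injective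
      ext i
      rw [piScalarRight_map, LinearEquiv.map_zero, Pi.zero_apply]
      exact Ideal.Quotient.eq_zero_iff_mem.mpr (Ideal.subset_span ⟨i, rfl⟩)
    rw [hpre, sub_eq_zero] at h0
    rw [hmap, h0, map_sum]
    refine Finset.sum_eq_zero fun l _ => ?_
    rw [LinearMap.lTensor_tmul, hexact.apply_apply_eq_zero, tmul_zero]
  · intro B _ _ φ hφ
    rw [hmap] at hφ
    obtain ⟨z, hz⟩ := (lTensor_exact B hexact hπ _).mp hφ
    let ψ₀ : S →ₐ[A] B :=
      { MvPolynomial.eval₂Hom φ.toRingHom (piScalarRight A A B (Fin m) z) with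
        commutes' := fun a => by
          change MvPolynomial.eval₂Hom _ _ (algebraMap A S a) = _
          rw [IsScalarTower.algebraMap_apply A P S, MvPolynomial.algebraMap_eq, MvPolynomial.eval₂Hom_C]
          exact φ.commutes a }
    have hinc : ψ₀.comp incl = φ := AlgHom.ext fun p => MvPolynomial.eval₂Hom_C _ _ p
    have hX : ∀ l, ψ₀ (MvPolynomial.X l) = piScalarRight A A B (Fin m) z l := fun l =>
      MvPolynomial.eval₂Hom_X' _ _ l
    have h0 : ψ₀.toLinearMap.rTensor _ D' = 0 := by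
      rw [hpre, hinc, sub_eq_zero, ← hz]
      conv_lhs => rw [eq_sum_piScalarRight z]
      rw [map_sum]
      exact Finset.sum_congr rfl fun l _ => by rw [LinearMap.lTensor_tmul, hX]
    have hI : ∀ a ∈ I, ψ₀ a = 0 := fun a ha => by
      refine (Ideal.span_le.mpr ?_ ha : a ∈ RingHom.ker ψ₀)
      rintro _ ⟨i, rfl⟩
      show ψ₀ (v i) = 0
      rw [← piScalarRight_map, h0]
      simp
    refine ⟨Ideal.Quotient.liftₐ I ψ₀ hI, ?_⟩
    rw [← hinc]
    exact AlgHom.ext fun p => rfl

theorem exists_versal_idempotent [Module.FinitePresentation A C] {ι : Type u} [Fintype ι] (h : ι → C) :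
    ∃ (R : Type u) (_ : CommRing R) (_ : Algebra A R) (_ : Algebra.FinitePresentation A R) (e : R ⊗[A] C),
      IsIdempotentElem e ∧ e ∈ Ideal.span (Set.range fun k => (1 : R) ⊗ₜ[A] h k) ∧
      ∀ (B : Type u) [CommRing B] [Algebra A B] (e' : B ⊗[A] C), IsIdempotentElem e' →
        e' ∈ Ideal.span (Set.range fun k => (1 : B) ⊗ₜ[A] h k) →
        ∃ ψ : R →ₐ[A] B, Algebra.TensorProduct.map ψ (AlgHom.id A C) e = e' := by
  classical
  obtain ⟨n, π, hπ⟩ := Module.Finite.exists_fin' A C
  let P := MvPolynomial (ι × Fin n) A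
  let e₀ : P ⊗[A] C := ∑ k, (∑ i, (MvPolynomial.X (k, i) : P) ⊗ₜ[A] π (Pi.single i 1)) * (1 ⊗ₜ[A] h k)
  obtain ⟨R, _, _, _, ρ, hρ, huniv⟩ := exists_versal_zero (e₀ * e₀ - e₀)
  refine ⟨R, inferInstance, inferInstance, inferInstance,
    Algebra.TensorProduct.map ρ (AlgHom.id A C) e₀, ?_, ?_, ?_⟩
  · rw [map_sub, map_mul, sub_eq_zero] at hρ
    exact hρ
  · rw [map_sum]
    refine sum_mem fun k _ => ?_
    rw [map_mul]
    refine Ideal.mul_mem_left _ _ (Ideal.subset_span ⟨k, ?_⟩)
    simp
  · intro B _ _ e' he' hmem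
    obtain ⟨a, ha⟩ := Ideal.mem_span_range_iff_exists_fun.mp hmem
    choose w hw using fun k => LinearMap.lTensor_surjective B hπ (a k)
    let φ : P →ₐ[A] B := MvPolynomial.aeval fun p => piScalarRight A A B (Fin n) (w p.1) p.2
    have hφ : Algebra.TensorProduct.map φ (AlgHom.id A C) e₀ = e' := by
      rw [← ha, map_sum]
      refine Finset.sum_congr rfl fun k _ => ?_
      have hk : a k = ∑ i, piScalarRight A A B (Fin n) (w k) i ⊗ₜ[A] π (Pi.single i 1) := by
        conv_lhs => rw [← hw k, eq_sum_piScalarRight (w k)]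
        rw [map_sum]
        exact Finset.sum_congr rfl fun i _ => LinearMap.lTensor_tmul _ _ _ _
      rw [map_mul, map_sum, hk]
      congr 1
      · exact Finset.sum_congr rfl fun i _ => by
          rw [Algebra.TensorProduct.map_tmul]
          exact congrArg (· ⊗ₜ[A] π (Pi.single i 1)) (MvPolynomial.aeval_X _ _)
      · simp
    have hd : Algebra.TensorProduct.map φ (AlgHom.id A C) (e₀ * e₀ - e₀) = 0 := by
      rw [map_sub, map_mul, hφ, he'.eq, sub_self]
    obtain ⟨ψ, hψ⟩ := huniv B φ hd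
    refine ⟨ψ, ?_⟩
    rw [← hφ, ← hψ, ← AlgHom.comp_apply, ← Algebra.TensorProduct.map_comp, AlgHom.id_comp]

end Algebra

section Geometry

variable {X Y : Scheme.{u}} {f : X ⟶ Y} {A C : Type u} [CommRing A] [CommRing C] [Algebra A C]
  (iY : Y ≅ Spec (.of A)) (jS : X ⟶ Spec (.of C))
  (hjS : jS ≫ Spec.map (CommRingCat.ofHom (algebraMap A C)) = f ≫ iY.hom)

include hjS

theorem exists_lift {Y' : Scheme.{u}} (b : Y' ⟶ Y) {B : Type u} [CommRing B] [Algebra A B]
    (i : Y' ≅ Spec (.of B)) (hi : i.hom ≫ Spec.map (CommRingCat.ofHom (algebraMap A B)) = b ≫ iY.hom) :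
    ∃ K : pullback f b ⟶ Spec (.of (B ⊗[A] C)),
      K ≫ Spec.map (CommRingCat.ofHom (Algebra.TensorProduct.includeRight : C →ₐ[A] B ⊗[A] C).toRingHom) =
          pullback.fst f b ≫ jS ∧
      K ≫ Spec.map (CommRingCat.ofHom (algebraMap B (B ⊗[A] C))) = pullback.snd f b ≫ i.hom ∧
      IsPullback (pullback.fst f b) K jS (Spec.map (CommRingCat.ofHom
        (Algebra.TensorProduct.includeRight : C →ₐ[A] B ⊗[A] C).toRingHom)) := by
  have hP : IsPullback
      (Spec.map (CommRingCat.ofHom (Algebra.TensorProduct.includeRight : C →ₐ[A] B ⊗[A] C).toRingHom))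
      (Spec.map (CommRingCat.ofHom (algebraMap B (B ⊗[A] C))))
      (Spec.map (CommRingCat.ofHom (algebraMap A C))) (Spec.map (CommRingCat.ofHom (algebraMap A B))) := by
    have := isPullback_SpecMap_of_isPushout _ _ _ _ (CommRingCat.isPushout_tensorProduct A B C)
    exact this.flip
  have hw : (pullback.fst f b ≫ jS) ≫ Spec.map (CommRingCat.ofHom (algebraMap A C)) =
      (pullback.snd f b ≫ i.hom) ≫ Spec.map (CommRingCat.ofHom (algebraMap A B)) := by
    rw [Category.assoc, Category.assoc, hjS, hi, pullback.condition_assoc]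
  refine ⟨hP.lift _ _ hw, hP.lift_fst _ _ _, hP.lift_snd _ _ _, ?_⟩
  refine IsPullback.of_bot ?_ (hP.lift_fst _ _ hw).symm hP
  rw [hP.lift_snd, hjS]
  refine (IsPullback.of_hasPullback f b).of_iso (Iso.refl _) (Iso.refl _) i iY ?_ ?_ ?_ ?_
  · simp
  · simp
  · simp
  · exact hi.symm

end Geometry

theorem exists_universal_finite_open {X Y : Scheme.{u}} (f : X ⟶ Y) [IsAffine X] [IsAffine Y]
    [LocallyQuasiFinite f] [LocallyOfFinitePresentation f] :
    ∃ (Yu : Scheme.{u}) (a : Yu ⟶ Y) (Uu : (pullback f a).Opens), LocallyOfFinitePresentation a ∧ QuasiCompact a ∧ QuasiSeparated a ∧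
      IsFinite (Uu.ι ≫ pullback.snd f a) ∧
      ∀ (Y' : Scheme.{u}) (b : Y' ⟶ Y) (U' : (pullback f b).Opens), IsAffine Y' → IsFinite (U'.ι ≫ pullback.snd f b) →
        ∃ (c : Y' ⟶ Yu) (hc : c ≫ a = b),
          (pullback.map f b f a (𝟙 X) c (𝟙 Y) ((Category.comp_id f).trans (Category.id_comp f).symm) ((Category.comp_id b).trans hc.symm)) ⁻¹ᵁ Uu = U' := by
  obtain ⟨T, j, π, _, _, _, _, hjπ⟩ := H8Props.FiniteFactor.exists_openImmersion_finite_fp f
  have : IsAffine T := isAffine_of_isAffineHom π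
  let iY := Y.isoSpec
  let A := Γ(Y, ⊤)
  let C := Γ(T, ⊤)
  algebraize [π.appTop.hom]
  have hπS : T.isoSpec.hom ≫ Spec.map (CommRingCat.ofHom (algebraMap A C)) = π ≫ iY.hom :=
    Scheme.isoSpec_hom_naturality π
  have hfin : Module.Finite A C :=
    RingHom.finite_algebraMap.mp (((HasAffineProperty.iff_of_isAffine (P := @IsFinite)).mp ‹IsFinite π›).2)
  have hfp : Algebra.FinitePresentation A C :=
    RingHom.finitePresentation_algebraMap.mp
      ((HasRingHomProperty.iff_of_isAffine (P := @LocallyOfFinitePresentation)).mp inferInstance)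
  have : Module.FinitePresentation A C := .of_finite_of_finitePresentation A C
  let jS : X ⟶ Spec (.of C) := j ≫ T.isoSpec.hom
  have hjS : jS ≫ Spec.map (CommRingCat.ofHom (algebraMap A C)) = f ≫ iY.hom := by
    rw [Category.assoc, hπS, ← Category.assoc, hjπ]
  obtain ⟨t, ht⟩ := PrimeSpectrum.isCompact_isOpen_iff.mp
    ⟨(isCompact_range jS.continuous : IsCompact (Set.range jS)), jS.isOpenEmbedding.isOpen_range⟩
  let h : ↥t → C := fun k => k.1
  obtain ⟨R, _, _, _, e, he, hemem, huniv⟩ := exists_versal_idempotent (A := A) h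
  let a : Spec (.of R) ⟶ Y := Spec.map (CommRingCat.ofHom (algebraMap A R)) ≫ iY.inv
  obtain ⟨Ku, hKu1, hKu2, hKuP⟩ := exists_lift iY jS hjS a (Iso.refl (Spec (.of R))) (by simp [a])
  -- where basic opens of elements of the ideal spanned by `h` live
  have hsub : ∀ {B : Type u} [CommRing B] [Algebra A B] (z : B ⊗[A] C),
      z ∈ Ideal.span (Set.range fun k => (1 : B) ⊗ₜ[A] h k) → ∀ Q : PrimeSpectrum (B ⊗[A] C),
        z ∉ Q.asIdeal → PrimeSpectrum.comap
          (Algebra.TensorProduct.includeRight : C →ₐ[A] B ⊗[A] C).toRingHom Q ∈ Set.range jS := by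
    intro B _ _ z hz Q hQ
    refine ht.le fun hc => hQ (Ideal.span_le.mpr ?_ hz)
    rintro _ ⟨k, rfl⟩
    exact hc k.2
  refine ⟨Spec (.of R), a, Ku ⁻¹ᵁ PrimeSpectrum.basicOpen e, ?_, inferInstance, inferInstance, ?_, ?_⟩
  · have : LocallyOfFinitePresentation (Spec.map (CommRingCat.ofHom (algebraMap A R))) :=
      HasRingHomProperty.Spec_iff.mpr (RingHom.finitePresentation_algebraMap.mpr ‹_›)
    infer_instance
  · have : IsOpenImmersion Ku := MorphismProperty.of_isPullback hKuP inferInstance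
    let D : (Spec (.of (R ⊗[A] C))).Opens := PrimeSpectrum.basicOpen e
    have hD : D ≤ Ku.opensRange := by
      intro Q hQ
      obtain ⟨x, hx⟩ := hsub e hemem Q hQ
      obtain ⟨w, -, hw⟩ := Scheme.exists_preimage_of_isPullback hKuP x Q hx
      exact ⟨w, hw⟩
    have hDc : IsClosedImmersion D.ι := .of_isPreimmersion _ (by
      rw [Scheme.Opens.range_ι]
      exact (PrimeSpectrum.isClopen_iff.mpr ⟨e, he, rfl⟩).1)
    have : IsIso (Ku ∣_ D) := by
      have : Surjective (Ku ∣_ D) := ⟨by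
        rintro ⟨Q, hQ⟩
        obtain ⟨w, hw⟩ := hD hQ
        refine ⟨⟨w, show Ku w ∈ D from hw ▸ hQ⟩, Subtype.ext ?_⟩
        rw [morphismRestrict_base_coe]
        exact hw⟩
      haveI : Epi (Ku ∣_ D).base := (TopCat.epi_iff_surjective _).mpr (Ku ∣_ D).surjective
      exact IsOpenImmersion.isIso _
    have : IsFinite (Spec.map (CommRingCat.ofHom (algebraMap R (R ⊗[A] C)))) :=
      (IsFinite.SpecMap_iff _).mpr (RingHom.finite_algebraMap.mpr inferInstance)
    have hcomp : (Ku ⁻¹ᵁ D).ι ≫ pullback.snd f a =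
        (Ku ∣_ D) ≫ D.ι ≫ Spec.map (CommRingCat.ofHom (algebraMap R (R ⊗[A] C))) := by
      rw [← Category.assoc, morphismRestrict_ι, Category.assoc, hKu2]
      simp
    show IsFinite ((Ku ⁻¹ᵁ D).ι ≫ pullback.snd f a)
    rw [hcomp]
    infer_instance
  · intro Y' b U' _ hU'
    algebraize [b.appTop.hom]
    let B := Γ(Y', ⊤)
    have hi : Y'.isoSpec.hom ≫ Spec.map (CommRingCat.ofHom (algebraMap A B)) = b ≫ iY.hom :=
      Scheme.isoSpec_hom_naturality b
    obtain ⟨K, hK1, hK2, hKP⟩ := exists_lift iY jS hjS b Y'.isoSpec hi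
    have : IsOpenImmersion K := MorphismProperty.of_isPullback hKP inferInstance
    have hcl : IsClopen (((K ''ᵁ U' : (Spec (.of (B ⊗[A] C))).Opens)).carrier : Set (PrimeSpectrum (B ⊗[A] C))) := by
      refine ⟨?_, (K ''ᵁ U').2⟩
      have h1 : IsFinite ((U'.ι ≫ K) ≫ Spec.map (CommRingCat.ofHom (algebraMap B (B ⊗[A] C)))) := by
        rw [Category.assoc, hK2, ← Category.assoc]
        infer_instance
      have : IsFinite (U'.ι ≫ K) := .of_comp _ (Spec.map (CommRingCat.ofHom (algebraMap B (B ⊗[A] C))))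
      have h2 := (U'.ι ≫ K).isClosedMap.isClosed_range
      simp only [Scheme.Hom.comp_base, TopCat.coe_comp, Set.range_comp, Scheme.Opens.range_ι] at h2
      exact h2
    obtain ⟨e', he', heq⟩ := PrimeSpectrum.exists_idempotent_basicOpen_eq_of_isClopen hcl
    have hmem : e' ∈ Ideal.span (Set.range fun k => (1 : B) ⊗ₜ[A] h k) := by
      have hrad : e' ∈ (Ideal.span (Set.range fun k => (1 : B) ⊗ₜ[A] h k)).radical := by
        rw [Ideal.radical_eq_sInf, Submodule.mem_sInf]
        rintro J ⟨hJ, hJp⟩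
        by_contra hne
        obtain ⟨w, -, hw⟩ := (heq.ge (show (⟨J, hJp⟩ : PrimeSpectrum (B ⊗[A] C)) ∈
          (PrimeSpectrum.basicOpen e' : Set _) from hne) :)
        have hQ : jS (pullback.fst f b w) = PrimeSpectrum.comap
            (Algebra.TensorProduct.includeRight : C →ₐ[A] B ⊗[A] C).toRingHom ⟨J, hJp⟩ := by
          rw [← Scheme.Hom.comp_apply, ← hK1, Scheme.Hom.comp_apply]
          exact congrArg (Spec.map (CommRingCat.ofHom
            (Algebra.TensorProduct.includeRight : C →ₐ[A] B ⊗[A] C).toRingHom)) hw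
        have hmem' : PrimeSpectrum.comap (Algebra.TensorProduct.includeRight : C →ₐ[A] B ⊗[A] C).toRingHom
            ⟨J, hJp⟩ ∈ (PrimeSpectrum.zeroLocus (t : Set C))ᶜ := ht ▸ ⟨_, hQ⟩
        rw [Set.mem_compl_iff, PrimeSpectrum.mem_zeroLocus] at hmem'
        exact hmem' fun c hc => hJ (Ideal.subset_span ⟨⟨c, hc⟩, rfl⟩)
      obtain ⟨m, hm⟩ := hrad
      rcases m with _ | m
      · simpa using Ideal.mul_mem_left _ e' hm
      · rwa [he'.pow_succ_eq] at hm
    obtain ⟨ψ, hψ⟩ := huniv B e' he' hmem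
    let c : Y' ⟶ Spec (.of R) := Y'.isoSpec.hom ≫ Spec.map (CommRingCat.ofHom ψ.toRingHom)
    have hc : c ≫ a = b := by
      rw [← cancel_mono iY.hom]
      simp only [c, a, Category.assoc, Iso.inv_hom_id, Category.comp_id]
      rw [← Spec.map_comp, ← CommRingCat.ofHom_comp]
      have hcomp' : ψ.toRingHom.comp (algebraMap A R) = algebraMap A B := ψ.comp_algebraMap
      rw [hcomp', hi]
    refine ⟨c, hc, ?_⟩
    let m := pullback.map f b f a (𝟙 X) c (𝟙 Y) ((Category.comp_id f).trans (Category.id_comp f).symm)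
      ((Category.comp_id b).trans hc.symm)
    let θ : R ⊗[A] C →ₐ[A] B ⊗[A] C := Algebra.TensorProduct.map ψ (AlgHom.id A C)
    have hm : m ≫ Ku = K ≫ Spec.map (CommRingCat.ofHom θ.toRingHom) := by
      have hPu : IsPullback
          (Spec.map (CommRingCat.ofHom (Algebra.TensorProduct.includeRight : C →ₐ[A] R ⊗[A] C).toRingHom))
          (Spec.map (CommRingCat.ofHom (algebraMap R (R ⊗[A] C))))
          (Spec.map (CommRingCat.ofHom (algebraMap A C))) (Spec.map (CommRingCat.ofHom (algebraMap A R))) :=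
        (isPullback_SpecMap_of_isPushout _ _ _ _ (CommRingCat.isPushout_tensorProduct A R C)).flip
      apply hPu.hom_ext
      · rw [Category.assoc, hKu1, Category.assoc, ← Spec.map_comp, ← CommRingCat.ofHom_comp]
        have h1 : θ.toRingHom.comp (Algebra.TensorProduct.includeRight : C →ₐ[A] R ⊗[A] C).toRingHom =
            (Algebra.TensorProduct.includeRight : C →ₐ[A] B ⊗[A] C).toRingHom :=
          RingHom.ext fun x => by simp [θ]
        rw [h1, hK1]
        simp only [m]
        rw [pullback.lift_fst_assoc, Category.comp_id]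
      · rw [Category.assoc, hKu2, Category.assoc, ← Spec.map_comp, ← CommRingCat.ofHom_comp]
        have h1 : θ.toRingHom.comp (algebraMap R (R ⊗[A] C)) = (algebraMap B (B ⊗[A] C)).comp ψ.toRingHom :=
          RingHom.ext fun x => by simp [θ, Algebra.TensorProduct.algebraMap_apply]
        rw [h1, CommRingCat.ofHom_comp, Spec.map_comp, reassoc_of% hK2]
        simp only [m, c, Iso.refl_hom, Category.comp_id]
        rw [pullback.lift_snd]
    show m ⁻¹ᵁ (Ku ⁻¹ᵁ PrimeSpectrum.basicOpen e) = U'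
    rw [← Scheme.Hom.comp_preimage, hm, Scheme.Hom.comp_preimage]
    have hθ : Spec.map (CommRingCat.ofHom θ.toRingHom) ⁻¹ᵁ PrimeSpectrum.basicOpen e = K ''ᵁ U' := by
      apply TopologicalSpace.Opens.ext
      show _ = (K ''ᵁ U').carrier
      rw [heq]
      ext (Q : PrimeSpectrum (B ⊗[A] C))
      show θ.toRingHom e ∉ Q.asIdeal ↔ _
      rw [show θ.toRingHom e = e' from hψ]
      rfl
    rw [hθ, Scheme.Hom.preimage_image_eq]

end Groth.Agent.H7Flat.UniversalFiniteOpen
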