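import Mathlib.AlgebraicGeometry.Morphisms.FormallyUnramified
import Mathlib.AlgebraicGeometry.Morphisms.Etale
import Mathlib.AlgebraicGeometry.PullbackCarrier
import Mathlib.AlgebraicGeometry.ResidueField

/-!
# Equalisers into unramified schemes are open
-/

set_option autoImplicit false
set_option backward.isDefEq.respectTransparency false

universe u

open CategoryTheory Limits AlgebraicGeometry TopologicalSpace

namespace Groth.Agent.H7Flat

variable {X Y S : Scheme.{u}} (p : Y ⟶ S) [FormallyUnramified p] [LocallyOfFiniteType p] (f g : X ⟶ Y)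

theorem exists_opens_eq (hfg : f ≫ p = g ≫ p) (x : X)
    (h : X.fromSpecResidueField x ≫ f = X.fromSpecResidueField x ≫ g) :
    ∃ U : X.Opens, x ∈ U ∧ U.ι ≫ f = U.ι ≫ g := by
  let d := pullback.lift f g hfg
  let U : X.Opens := d ⁻¹ᵁ (pullback.diagonal p).opensRange
  have hd : X.fromSpecResidueField x ≫ d = (X.fromSpecResidueField x ≫ f) ≫ pullback.diagonal p := by
    apply pullback.hom_ext <;> simp [d, h]
  refine ⟨U, ?_, ?_⟩
  · show d x ∈ Set.range (pullback.diagonal p)
    obtain ⟨z⟩ : Nonempty (Spec (X.residueField x)) := inferInstance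
    refine ⟨(X.fromSpecResidueField x ≫ f) z, ?_⟩
    have h1 := congr($hd z)
    simp only [Scheme.Hom.comp_apply] at h1 ⊢
    rw [← h1, Scheme.fromSpecResidueField_apply]
  · let l := IsOpenImmersion.lift (pullback.diagonal p) (U.ι ≫ d) (by
      rintro _ ⟨z, rfl⟩
      exact z.2)
    have hl := IsOpenImmersion.lift_fac (pullback.diagonal p) (U.ι ≫ d) (by
      rintro _ ⟨z, rfl⟩
      exact z.2)
    have h1 : (l ≫ pullback.diagonal p) ≫ pullback.fst p p = (U.ι ≫ d) ≫ pullback.fst p p := congrArg (· ≫ pullback.fst p p) hl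
    have h2 : (l ≫ pullback.diagonal p) ≫ pullback.snd p p = (U.ι ≫ d) ≫ pullback.snd p p := congrArg (· ≫ pullback.snd p p) hl
    simp only [Category.assoc, pullback.diagonal_fst, pullback.diagonal_snd, Category.comp_id, d, pullback.lift_fst, pullback.lift_snd] at h1 h2
    exact h1.symm.trans h2

theorem fromSpecResidueField_comp_eq (x : X) (h1 : f x = g x)
    (h2 : f.residueFieldMap x = (Y.residueFieldCongr h1).hom ≫ g.residueFieldMap x) :
    X.fromSpecResidueField x ≫ f = X.fromSpecResidueField x ≫ g := by
  rw [← Scheme.Hom.SpecMap_residueFieldMap_fromSpecResidueField f x,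
    ← Scheme.Hom.SpecMap_residueFieldMap_fromSpecResidueField g x, h2, Spec.map_comp, Category.assoc,
    Scheme.residueFieldCongr_fromSpecResidueField]

end Groth.Agent.H7Flat
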