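import Groth.Agent.H7Flat.WeakAssEtale
import Groth.Agent.H9Hens.PtBase
import Groth.Agent.H9Hens.LocalHens
import Groth.Agent.H9Hens.StrictHens

/-!
Weakly associated primes and henselization.
-/

namespace Groth.Agent.H7Flat.WeakAssHensel

open TensorProduct IsLocalRing Groth.Agent.H02CA Groth.Agent.H9Hens

universe u

theorem exists_smul_eq_zero {S H : Type u} [CommRing S] [CommRing H] [Algebra S H]
    [Module.Flat S H] [IsLocalRing H] (N : Type u) [AddCommGroup N] [Module S N] (v : N)
    (h : (1 : H) ⊗ₜ[S] v = 0) :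
    ∃ y : S, algebraMap S H y ∉ maximalIdeal H ∧ y • v = 0 := by
  by_contra hcon
  push Not at hcon
  let J := annEl S v
  let g : S ⧸ J →ₗ[S] N := Submodule.liftQ J (LinearMap.toSpanSingleton S N v)
    fun a ha => mem_annEl.mp ha
  have hg : Function.Injective g := by
    rw [← LinearMap.ker_eq_bot]
    exact Submodule.ker_liftQ_eq_bot _ _ _ fun a ha => mem_annEl.mpr ha
  have h0 : ((1 : H) ⊗ₜ[S] Ideal.Quotient.mk J 1 : H ⊗[S] (S ⧸ J)) = 0 := by
    apply Module.Flat.lTensor_preserves_injective_linearMap (M := H) g hg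
    rw [map_zero, LinearMap.lTensor_tmul, show g (Ideal.Quotient.mk J 1) = v from one_smul S v]
    exact h
  have h1 := congrArg (TensorProduct.tensorQuotEquivQuotSMul H J) h0
  rw [TensorProduct.tensorQuotEquivQuotSMul_tmul_mk, map_zero, one_smul,
    Submodule.Quotient.mk_eq_zero] at h1
  have hJ : J.map (algebraMap S H) ≤ maximalIdeal H := by
    refine Ideal.map_le_iff_le_comap.mpr fun y hy => ?_
    by_contra hy'
    exact hcon y hy' (mem_annEl.mp hy)
  rw [Ideal.smul_top_eq_map, Submodule.restrictScalars_mem] at h1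
  exact (Ideal.IsPrime.ne_top inferInstance) ((Ideal.eq_top_iff_one _).mpr (hJ h1))

theorem maximalIdeal_mem_weakAss_iff {A : Type u} [CommRing A] [IsLocalRing A] {k : Type u}
    [Field k] [Algebra A k] {H : Type u} [CommRing H] [IsLocalRing H] [Algebra A H]
    [IsLocalHom (algebraMap A H)] {π : H →ₐ[A] k} (hH : IsPtColim π) (M : Type u) [AddCommGroup M]
    [Module A M] :
    maximalIdeal H ∈ FlatCA.weakAss H (H ⊗[A] M) ↔ maximalIdeal A ∈ FlatCA.weakAss A M := by
  classical
  have hflat : Module.Flat A H := hH.flat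
  have hlm : (maximalIdeal H).comap (algebraMap A H) = maximalIdeal A :=
    ((IsLocalRing.local_hom_TFAE (algebraMap A H)).out 0 4).mp ‹IsLocalHom (algebraMap A H)›
  constructor
  · intro hz
    obtain ⟨-, z, hz1, hz2⟩ := mem_weakAss.mp hz
    obtain ⟨t, ht⟩ := TensorProduct.exists_finset z
    obtain ⟨S, _, _, _, φ, y, hy⟩ := hH.exists_rep_finset t (fun i => i.1)
    let : Algebra S H := φ.toRingHom.toAlgebra
    have : IsScalarTower A S H := IsScalarTower.of_algebraMap_eq fun a => (φ.commutes a).symm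
    have : Module.Flat S H := IsPtColim.flat_of_etale hH S
    let w : S ⊗[A] M := ∑ i ∈ t, y i ⊗ₜ[A] i.2
    let e := AlgebraTensorModule.cancelBaseChange A S H H M
    have hw : e ((1 : H) ⊗ₜ[S] w) = z := by
      rw [ht, tmul_sum, map_sum]
      refine Finset.sum_congr rfl fun i hi => ?_
      rw [AlgebraTensorModule.cancelBaseChange_tmul]
      congr 1
      rw [Algebra.smul_def, mul_one]
      exact hy i hi
    have hew : ∀ s : S, e ((1 : H) ⊗ₜ[S] (s • w)) = algebraMap S H s • z := fun s => by
      rw [tmul_smul, ← hw, ← map_smul, algebraMap_smul]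
    let q : Ideal S := (maximalIdeal H).comap (algebraMap S H)
    have hqp : q.comap (algebraMap A S) = maximalIdeal A := by
      rw [Ideal.comap_comap, ← IsScalarTower.algebraMap_eq, hlm]
    have : q.LiesOver (maximalIdeal A) := ⟨hqp.symm⟩
    have hq : q ∈ FlatCA.weakAss S (S ⊗[A] M) := by
      refine mem_weakAss.mpr ⟨inferInstance, w, fun s hs => hz1 (mem_annEl.mpr ?_), fun s hs => ?_⟩
      · rw [← hew, mem_annEl.mp hs, tmul_zero, map_zero]
      · obtain ⟨n, c, hc, hcz⟩ := hz2 (algebraMap S H s) hs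
        have hcu : IsUnit c := notMem_maximalIdeal.mp hc
        rw [mul_smul, hcu.smul_eq_zero, ← map_pow, ← hew, map_eq_zero_iff e e.injective] at hcz
        obtain ⟨y', hy', hy0⟩ := exists_smul_eq_zero _ _ hcz
        exact ⟨n, y', hy', by rw [mul_smul]; exact hy0⟩
    exact (WeakAssEtale.mem_weakAss_etale_iff M (maximalIdeal A) q).mp hq
  · intro hx
    obtain ⟨-, x, hx1, hx2⟩ := mem_weakAss.mp hx
    have hx0 : x ≠ 0 := fun h => (Ideal.IsPrime.ne_top inferInstance)
      ((Ideal.eq_top_iff_one (maximalIdeal A)).mpr (hx1 (mem_annEl.mpr (by rw [h, smul_zero]))))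
    have hz0 : (1 : H) ⊗ₜ[A] x ≠ 0 := by
      intro h0
      obtain ⟨y, hy, hyx⟩ := exists_smul_eq_zero M x h0
      have hyu : IsUnit y := by
        rw [← notMem_maximalIdeal, ← hlm]
        exact hy
      exact hx0 (hyu.smul_eq_zero.mp hyx)
    have hrad : maximalIdeal H ≤ (annEl H ((1 : H) ⊗ₜ[A] x)).radical := by
      intro h hh
      obtain ⟨c, hc, hch⟩ := IsPtColim.exists_mul_mem_map hH (maximalIdeal H) hh
      rw [hlm] at hch
      have hle : (maximalIdeal A).map (algebraMap A H) ≤ (annEl H ((1 : H) ⊗ₜ[A] x)).radical := by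
        refine Ideal.map_le_iff_le_comap.mpr fun a ha => ?_
        obtain ⟨n, y, hy, hyx⟩ := hx2 a ha
        rw [mul_smul, (notMem_maximalIdeal.mp hy).smul_eq_zero] at hyx
        refine ⟨n, mem_annEl.mpr ?_⟩
        rw [← map_pow, algebraMap_smul, ← tmul_smul, hyx, tmul_zero]
      exact (Ideal.unit_mul_mem_iff_mem _ (notMem_maximalIdeal.mp hc)).mp (hle hch)
    refine ⟨(1 : H) ⊗ₜ[A] x, ⟨⟨inferInstance, le_maximalIdeal (annEl_ne_top hz0)⟩, ?_⟩⟩
    rintro q ⟨hq, hle⟩ -
    exact hrad.trans ((hq.radical_le_iff).mpr hle)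

theorem maximalIdeal_mem_weakAss_localizedModule_iff {A : Type u} [CommRing A] (M : Type u)
    [AddCommGroup M] [Module A M] (p : Ideal A) [p.IsPrime] :
    maximalIdeal (Localization.AtPrime p) ∈
        FlatCA.weakAss (Localization.AtPrime p) (LocalizedModule p.primeCompl M) ↔
      p ∈ FlatCA.weakAss A M := by
  have hd : Disjoint (p.primeCompl : Set A) (p : Set A) :=
    Set.disjoint_left.mpr fun _ h h' => h h'
  rw [← mem_weakAss_localizedModule_iff (M := M) p.primeCompl hd,
    annEl_localization p.primeCompl (Localization.AtPrime p)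
      (M := LocalizedModule p.primeCompl M)]
  constructor
  · exact fun h => ⟨_, h, Localization.AtPrime.under_maximalIdeal⟩
  · rintro ⟨P, hP, e⟩
    have : P = maximalIdeal (Localization.AtPrime p) := by
      rw [← IsLocalization.map_under p.primeCompl _ P,
        ← IsLocalization.map_under p.primeCompl _ (maximalIdeal (Localization.AtPrime p)),
        Localization.AtPrime.under_maximalIdeal]
      exact congrArg _ e
    rwa [← this]

end Groth.Agent.H7Flat.WeakAssHensel
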