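import Mathlib.RingTheory.Ideal.Pure
import Mathlib.RingTheory.Etale.Weakly
import Mathlib.RingTheory.Unramified.Field
import Mathlib.RingTheory.RingHom.Flat

/-! Flatness of the diagonal forces formal unramifiedness. -/

namespace Groth.Agent.H7Flat

open TensorProduct

theorem formallyUnramified_of_flat_lmul {R S : Type*} [CommRing R] [CommRing S] [Algebra R S]
    (h : (Algebra.TensorProduct.lmul' R (S := S)).toRingHom.Flat) :
    Algebra.FormallyUnramified R S := by
  constructor
  change Subsingleton (KaehlerDifferential.ideal R S).Cotangent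
  rw [Ideal.cotangent_subsingleton_iff]
  let φ := Algebra.TensorProduct.lmul' R (S := S)
  letI := φ.toRingHom.toAlgebra
  have hf : Module.Flat (S ⊗[R] S) S := h
  let I := KaehlerDifferential.ideal R S
  have hs : Function.Surjective φ := fun x ↦ ⟨x ⊗ₜ 1, by simp [φ]⟩
  let e : ((S ⊗[R] S) ⧸ I) ≃ₗ[S ⊗[R] S] S :=
    (Ideal.quotientKerAlgEquivOfSurjective
      (f := Algebra.ofId (S ⊗[R] S) S) hs).toLinearEquiv
  have : I.Pure := Module.Flat.of_linearEquiv e
  exact Ideal.isIdempotentElem_of_pure I

end Groth.Agent.H7Flat
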