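import Mathlib
import Groth.Agent.H8Props.Reduced

/-! Weakly etale morphisms are characterised by their stalk maps. -/

set_option backward.isDefEq.respectTransparency false
set_option linter.style.haveILetI false

universe u

open CategoryTheory CategoryTheory.Limits AlgebraicGeometry TensorProduct

namespace Groth.Agent.H7Flat.WEStalk

variable {X Y : Scheme.{u}}

theorem isIso_map_of_mono {A B C : Scheme.{u}} (ψ : A ⟶ B) (b : B ⟶ C) [Mono b] :
    IsIso (pullback.map ψ ψ (ψ ≫ b) (ψ ≫ b) (𝟙 A) (𝟙 A) b (by simp) (by simp)) := by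
  let inv : pullback (ψ ≫ b) (ψ ≫ b) ⟶ pullback ψ ψ :=
    pullback.lift (pullback.fst _ _) (pullback.snd _ _)
      (by rw [← cancel_mono b, Category.assoc, Category.assoc]; exact pullback.condition)
  refine ⟨inv, ?_, ?_⟩ <;> apply pullback.hom_ext <;> simp [inv]

theorem flat_diagonal_comp_mono {A B C : Scheme.{u}} (ψ : A ⟶ B) (b : B ⟶ C) [Mono b] :
    Flat (pullback.diagonal (ψ ≫ b)) ↔ Flat (pullback.diagonal ψ) := by
  haveI := isIso_map_of_mono ψ b
  have h : pullback.diagonal (ψ ≫ b) = pullback.diagonal ψ ≫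
      pullback.map ψ ψ (ψ ≫ b) (ψ ≫ b) (𝟙 A) (𝟙 A) b (by simp) (by simp) := by
    apply pullback.hom_ext <;> simp
  rw [h]
  exact MorphismProperty.cancel_right_of_respectsIso @Flat _ _

variable (f : X ⟶ Y)

/-- The map from the self product of the spectrum of a local ring to the self product. -/
noncomputable abbrev stalkPairMap (x : X) :
    pullback (X.fromSpecStalk x ≫ f) (X.fromSpecStalk x ≫ f) ⟶ pullback f f :=
  pullback.map _ _ _ _ (X.fromSpecStalk x) (X.fromSpecStalk x) (𝟙 Y) (by simp) (by simp)

theorem diagonal_stalkPairMap (x : X) :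
    pullback.diagonal (X.fromSpecStalk x ≫ f) ≫ stalkPairMap f x =
      X.fromSpecStalk x ≫ pullback.diagonal f := by
  apply pullback.hom_ext <;> simp

theorem mono_stalkPairMap (x : X) : Mono (stalkPairMap f x) := by
  refine ⟨fun u v huv => pullback.hom_ext ?_ ?_⟩
  · rw [← cancel_mono (X.fromSpecStalk x)]
    simpa using congrArg (fun w => w ≫ pullback.fst f f) huv
  · rw [← cancel_mono (X.fromSpecStalk x)]
    simpa using congrArg (fun w => w ≫ pullback.snd f f) huv

theorem flat_stalkPairMap (x : X) : Flat (stalkPairMap f x) :=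
  MorphismProperty.pullbackMap (P := @Flat) (H8Props.flat_fromSpecStalk X x)
    (H8Props.flat_fromSpecStalk X x) rfl rfl

theorem flat_diagonal_iff_forall_stalk :
    Flat (pullback.diagonal f) ↔ ∀ x, Flat (pullback.diagonal (X.fromSpecStalk x ≫ f)) := by
  constructor
  · intro _ x
    haveI := mono_stalkPairMap f x
    haveI := H8Props.flat_fromSpecStalk X x
    have hsq : IsPullback (𝟙 _) (pullback.diagonal (X.fromSpecStalk x ≫ f))
        (X.fromSpecStalk x ≫ pullback.diagonal f) (stalkPairMap f x) :=
      IsPullback.of_isLimit' ⟨by rw [Category.id_comp, diagonal_stalkPairMap]⟩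
        (PullbackCone.IsLimit.mk _ (fun s => s.fst) (fun s => Category.comp_id _)
          (fun s => by
            rw [← cancel_mono (stalkPairMap f x), Category.assoc, diagonal_stalkPairMap]
            exact s.condition)
          (fun s m hm _ => by simpa using hm))
    exact MorphismProperty.of_isPullback hsq inferInstance
  · intro h
    rw [Flat.iff_flat_stalkMap]
    intro x
    haveI := h x
    haveI := flat_stalkPairMap f x
    have h1 : Flat (X.fromSpecStalk x ≫ pullback.diagonal f) := by
      rw [← diagonal_stalkPairMap]; infer_instance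
    let c : Spec (X.presheaf.stalk x) := IsLocalRing.closedPoint _
    have h2 := Flat.stalkMap (X.fromSpecStalk x ≫ pullback.diagonal f) c
    rw [Scheme.Hom.stalkMap_comp] at h2
    haveI : IsIso ((X.fromSpecStalk x).stalkMap c) :=
      (ConcreteCategory.isIso_iff_bijective _).mpr (H8Props.bijective_stalkMap_of_flat _ _
        (haveI := H8Props.flat_fromSpecStalk X x; Flat.stalkMap _ _))
    have h3 := (RingHom.Flat.respectsIso.cancel_right_isIso _ ((X.fromSpecStalk x).stalkMap c)).mp h2
    have key : ∀ w, w = x → ((pullback.diagonal f).stalkMap w).hom.Flat →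
        ((pullback.diagonal f).stalkMap x).hom.Flat := by
      rintro w rfl hw; exact hw
    exact key _ Scheme.fromSpecStalk_closedPoint h3

theorem flat_diagonal_stalk_iff (x : X) :
    Flat (pullback.diagonal (X.fromSpecStalk x ≫ f)) ↔
      (letI := (f.stalkMap x).hom.toAlgebra
       (Algebra.TensorProduct.lmul' (S := ↑(X.presheaf.stalk x)) (↑(Y.presheaf.stalk (f x)))).toRingHom.Flat) := by
  letI := (f.stalkMap x).hom.toAlgebra
  have h : X.fromSpecStalk x ≫ f =
      Spec.map (CommRingCat.ofHom (algebraMap (Y.presheaf.stalk (f x)) (X.presheaf.stalk x))) ≫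
        Y.fromSpecStalk (f x) := (Scheme.SpecMap_stalkMap_fromSpecStalk f).symm
  have hcongr : ∀ {A B : Scheme.{u}} (p q : A ⟶ B), p = q →
      (Flat (pullback.diagonal p) ↔ Flat (pullback.diagonal q)) := by rintro _ _ p _ rfl; exact Iff.rfl
  rw [hcongr _ _ h, flat_diagonal_comp_mono, diagonal_SpecMap,
    MorphismProperty.cancel_right_of_respectsIso @Flat, HasRingHomProperty.Spec_iff (P := @Flat)]
  rfl

theorem weaklyEtale_iff :
    WeaklyEtale f ↔ ∀ x : X, (f.stalkMap x).hom.Flat ∧
      (letI := (f.stalkMap x).hom.toAlgebra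
       (Algebra.TensorProduct.lmul' (S := ↑(X.presheaf.stalk x)) (↑(Y.presheaf.stalk (f x)))).toRingHom.Flat) := by
  constructor
  · intro h x
    exact ⟨Flat.stalkMap f x, (flat_diagonal_stalk_iff f x).mp
      ((flat_diagonal_iff_forall_stalk f).mp inferInstance x)⟩
  · intro h
    exact ⟨(Flat.iff_flat_stalkMap f).mpr fun x => (h x).1,
      (flat_diagonal_iff_forall_stalk f).mpr fun x => (flat_diagonal_stalk_iff f x).mpr (h x).2⟩

end Groth.Agent.H7Flat.WEStalk
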